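import Groth.Agent.H1CAlg.Associated
import Groth.Agent.H4Depth.Regular
import Mathlib.RingTheory.DiscreteValuationRing.TFAE
import Mathlib.RingTheory.LocalProperties.Reduced
import Mathlib.RingTheory.Ideal.Height
import Mathlib.RingTheory.Ideal.MinimalPrime.Noetherian
import Mathlib.LinearAlgebra.Charpoly.Basic

/-!
Serre's criteria for reduced and for normal Noetherian rings.
-/

set_option autoImplicit false
universe u

open LocCoh IsLocalRing
open scoped Pointwise

namespace Groth.Agent.H1CAlg

variable {R : Type u} [CommRing R] [IsNoetherianRing R]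

theorem annihilator_self_minimalPrimes : (Module.annihilator R R).minimalPrimes = minimalPrimes R := by
  rw [show Module.annihilator R R = ⊥ from (Module.annihilator_eq_bot.mpr inferInstance)]

theorem hasSk_one_self_iff : HasSk 1 R R ↔ ∀ p ∈ associatedPrimes R R, p ∈ minimalPrimes R := by
  rw [hasSk_one_iff, annihilator_self_minimalPrimes]

omit [IsNoetherianRing R] in
theorem isField_localization_of_minimalPrimes [IsReduced R] {p : Ideal R} [p.IsPrime] (hp : p ∈ minimalPrimes R) :
    IsField (Localization.AtPrime p) := by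
  haveI : Ring.KrullDimLE 0 (Localization.AtPrime p) := by
    rw [Ring.krullDimLE_iff, IsLocalization.AtPrime.ringKrullDim_eq_height p, Ideal.height_eq_zero_iff.mpr hp]
    rfl
  exact Ring.KrullDimLE.isField_of_isReduced

theorem isReduced_iff_R0_S1 : IsReduced R ↔ HasRk 0 R ∧ HasSk 1 R R := by
  constructor
  · intro hR
    refine ⟨fun p hp hh => ?_, hasSk_one_self_iff.mpr fun p hp => ?_⟩
    · have hmin : p ∈ minimalPrimes R := Ideal.height_eq_zero_iff.mp (le_antisymm (by exact_mod_cast hh) bot_le)
      letI := (isField_localization_of_minimalPrimes hmin).toField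
      refine IsRegularLocalRing.of_spanFinrank_maximalIdeal_le _ ?_
      rw [maximalIdeal_eq_bot, Submodule.spanFinrank_bot]
      exact_mod_cast ringKrullDim_nonneg_of_nontrivial
    · haveI := hp.isPrime
      obtain ⟨-, x, hx⟩ := isAssociatedPrime_iff.mp hp
      have hx0 : x ≠ 0 := fun h0 => hp.isPrime.ne_top (by
        rw [hx, h0]
        exact Ideal.eq_top_of_isUnit_mem _ (by simp [Submodule.mem_colon_singleton]) isUnit_one)
      obtain ⟨P, hP, hxP⟩ : ∃ P ∈ minimalPrimes R, x ∉ P := by
        by_contra hall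
        push Not at hall
        refine hx0 (IsReduced.eq_zero x ?_)
        have : x ∈ sInf (minimalPrimes R) := Ideal.mem_sInf.mpr fun {P} hP => hall P hP
        rwa [Ideal.sInf_minimalPrimes] at this
      have hle : p ≤ P := fun a ha => (hP.1.1.mem_or_mem (x := a) (y := x) (by
        rw [hx, Submodule.mem_colon_singleton, Submodule.mem_bot] at ha
        rw [show a * x = 0 from ha]
        exact zero_mem _)).resolve_right hxP
      have : P = p := le_antisymm (hP.2 ⟨hp.isPrime, bot_le⟩ hle) hle
      rwa [← this]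
  · rintro ⟨h0, h1⟩
    refine ⟨fun x hx => ?_⟩
    by_contra hx0
    haveI : Nontrivial (Submodule.span R {x}) :=
      ⟨⟨⟨x, Submodule.mem_span_singleton_self x⟩, 0, fun h => hx0 (congrArg Subtype.val h)⟩⟩
    obtain ⟨p, hp⟩ := associatedPrimes.nonempty R (Submodule.span R {x})
    haveI := hp.isPrime
    have hpR : p ∈ associatedPrimes R R :=
      associatedPrimes.subset_of_injective (f := (Submodule.span R {x}).subtype) Subtype.val_injective hp
    haveI := h0 p (le_of_eq (Ideal.height_eq_zero_iff.mpr (hasSk_one_self_iff.mp h1 p hpR)))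
    haveI := H4Depth.isDomain_of_isRegularLocalRing (Localization.AtPrime p)
    have hx' : algebraMap R (Localization.AtPrime p) x = 0 := (hx.map _).eq_zero
    obtain ⟨s, hs⟩ := (IsLocalization.map_eq_zero_iff p.primeCompl _ x).mp hx'
    have : (s : R) ∈ Module.annihilator R (Submodule.span R {x}) := by
      rw [Module.mem_annihilator]
      rintro ⟨y, hy⟩
      obtain ⟨t, rfl⟩ := Submodule.mem_span_singleton.mp hy
      refine Subtype.ext ?_
      show (s : R) * (t * x) = 0
      rw [mul_left_comm, hs, mul_zero]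
    exact s.2 (hp.annihilator_le (by rwa [Submodule.annihilator_top]))

/-- A principal maximal ideal bounds the dimension by one. -/
theorem ringKrullDim_le_one_of_isPrincipal [IsLocalRing R] (h : (maximalIdeal R).IsPrincipal) :
    ringKrullDim R ≤ 1 := by
  refine (ringKrullDim_le_spanFinrank_maximalIdeal R).trans ?_
  obtain ⟨a, ha⟩ := h
  rw [ha]
  exact_mod_cast (Submodule.spanFinrank_span_le_ncard_of_finite (Set.finite_singleton a)).trans (Set.ncard_singleton a).le

theorem depth_ge_two_of_isIntegrallyClosed [IsLocalRing R] [IsDomain R] [IsIntegrallyClosed R]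
    (hdim : 2 ≤ ringKrullDim R) : 2 ≤ depth R R := by
  have hnf : maximalIdeal R ≠ ⊥ := fun h0 => by
    have : ringKrullDim R ≤ 1 := ringKrullDim_le_one_of_isPrincipal ⟨0, by rw [h0]; simp⟩
    have := hdim.trans this
    norm_cast at this
  obtain ⟨x, hxm, hx0⟩ := Submodule.exists_mem_ne_zero_of_ne_bot hnf
  have hreg : IsSMulRegular R x := fun a b hab => mul_left_cancel₀ hx0 hab
  rw [depth, ← H4Depth.idealDepth_quotSMulTop_add_one hxm hreg]
  suffices 1 ≤ idealDepth (maximalIdeal R) (QuotSMulTop x R) by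
    calc (2 : ℕ∞) = 1 + 1 := by norm_num
      _ ≤ _ := by gcongr
  by_contra hlt
  rw [not_le, ENat.lt_one_iff_eq_zero] at hlt
  haveI : Nontrivial (QuotSMulTop x R) := by
    refine Submodule.Quotient.nontrivial_iff.mpr fun htop => ?_
    obtain ⟨c, -, hc⟩ : (1 : R) ∈ x • (⊤ : Submodule R R) := by rw [htop]; trivial
    exact hxm ((IsUnit.of_mul_eq_one c hc))
  obtain ⟨q, hq, hle⟩ := (H4Depth.idealDepth_eq_zero_iff_exists_associatedPrime
    H4Depth.maximalIdeal_smul_top_ne_top).mp hlt
  obtain ⟨-, ybar, hy⟩ := isAssociatedPrime_iff.mp hq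
  obtain ⟨y, rfl⟩ := Submodule.Quotient.mk_surjective _ ybar
  have hyx : ∀ t ∈ maximalIdeal R, ∃ c, x * c = y * t := fun t ht => by
    have := hle ht
    rw [hy, Submodule.mem_colon_singleton, Submodule.mem_bot, ← Submodule.Quotient.mk_smul,
      Submodule.Quotient.mk_eq_zero] at this
    obtain ⟨c, -, hc⟩ := this
    exact ⟨c, hc.trans (mul_comm t y)⟩
  choose φ hφ using hyx
  have hy0 : Submodule.Quotient.mk y ≠ (0 : QuotSMulTop x R) := fun h0 => hq.isPrime.ne_top (by
    rw [hy, h0]
    exact Ideal.eq_top_of_isUnit_mem _ (by simp [Submodule.mem_colon_singleton]) isUnit_one)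
  by_cases hall : ∀ (t) (ht : t ∈ maximalIdeal R), φ t ht ∈ maximalIdeal R
  · -- then `y / x` is integral
    let Φ : Module.End R (maximalIdeal R) :=
      { toFun := fun t => ⟨φ t t.2, hall t t.2⟩
        map_add' := fun s t => Subtype.ext (mul_left_cancel₀ hx0 (by
          simp only [Submodule.coe_add, mul_add, hφ]))
        map_smul' := fun r t => Subtype.ext (mul_left_cancel₀ hx0 (by
          simp only [RingHom.id_apply, Submodule.coe_smul, smul_eq_mul, hφ]
          rw [mul_left_comm x, hφ]
          ring)) }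
    obtain ⟨P, hmonic, hP⟩ := LinearMap.exists_monic_and_aeval_eq_zero R Φ
    let K := FractionRing R
    let z : K := algebraMap R K y / algebraMap R K x
    have hxK : algebraMap R K x ≠ 0 := by simpa using hx0
    have hΦ : ∀ (i : ℕ) (t : maximalIdeal R),
        algebraMap R K (((Φ ^ i) t : maximalIdeal R) : R) = z ^ i * algebraMap R K t := by
      intro i
      induction i with
      | zero => intro t; simp
      | succ i ih =>
        intro t
        rw [pow_succ', Module.End.mul_apply]
        have h1 := congrArg (algebraMap R K) (hφ (((Φ ^ i) t : maximalIdeal R) : R) ((Φ ^ i) t).2)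
        rw [map_mul, map_mul, ih] at h1
        show algebraMap R K (φ _ _) = _
        apply mul_left_cancel₀ hxK
        rw [h1, ← show algebraMap R K x * z = algebraMap R K y from mul_div_cancel₀ _ hxK]
        ring
    have hz : IsIntegral R z := by
      refine ⟨P, hmonic, ?_⟩
      have h0 : algebraMap R K (((Polynomial.aeval Φ P) ⟨x, hxm⟩ : maximalIdeal R) : R) =
          (P.aeval z) * algebraMap R K x := by
        rw [Polynomial.aeval_eq_sum_range, Polynomial.aeval_eq_sum_range, LinearMap.sum_apply, Finset.sum_mul]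
        simp only [Submodule.coe_sum, map_sum, LinearMap.smul_apply, Submodule.coe_smul, smul_eq_mul, map_mul, hΦ,
          Algebra.smul_def, Module.End.mul_apply, Module.algebraMap_end_apply, mul_assoc]
      rw [hP] at h0
      simp only [LinearMap.zero_apply, Submodule.coe_zero, map_zero] at h0
      rw [← Polynomial.aeval_def]
      exact (mul_eq_zero.mp h0.symm).resolve_right hxK
    obtain ⟨c, hc⟩ := IsIntegrallyClosed.isIntegral_iff.mp hz
    refine hy0 ((Submodule.Quotient.mk_eq_zero _).mpr ⟨c, trivial, ?_⟩)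
    show x * c = y
    apply IsFractionRing.injective R K
    rw [map_mul, hc]
    exact mul_div_cancel₀ _ hxK
  · -- then the maximal ideal is principal
    push Not at hall
    obtain ⟨a, ha, hu⟩ := hall
    rw [mem_maximalIdeal, mem_nonunits_iff, not_not] at hu
    obtain ⟨w, hw⟩ := hu
    have hprinc : (maximalIdeal R).IsPrincipal := by
      refine ⟨a, le_antisymm (fun t ht => ?_) ((Submodule.span_singleton_le_iff_mem _ _).mpr ha)⟩
      refine Submodule.mem_span_singleton.mpr ⟨(↑w⁻¹ : R) * φ t ht, mul_left_cancel₀ hx0 ?_⟩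
      rw [smul_eq_mul]
      have h1 : x * φ a ha = y * a := hφ a ha
      have h2 : x * φ t ht = y * t := hφ t ht
      rw [← hw] at h1
      calc x * ((↑w⁻¹ : R) * φ t ht * a) = (↑w⁻¹ : R) * a * (x * φ t ht) := by ring
        _ = (↑w⁻¹ : R) * t * (y * a) := by rw [h2]; ring
        _ = x * t := by rw [← h1]; linear_combination (x * t) * w.inv_mul
    have := hdim.trans (ringKrullDim_le_one_of_isPrincipal hprinc)
    norm_cast at this

theorem isRegularLocalRing_of_isIntegrallyClosed [IsLocalRing R] [IsDomain R] [IsIntegrallyClosed R]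
    (hdim : ringKrullDim R ≤ 1) : IsRegularLocalRing R := by
  by_cases h : IsField R
  · refine IsRegularLocalRing.of_spanFinrank_maximalIdeal_le _ ?_
    letI := h.toField
    rw [maximalIdeal_eq_bot, Submodule.spanFinrank_bot]
    exact_mod_cast ringKrullDim_nonneg_of_nontrivial
  have h4 : IsIntegrallyClosed R ∧ ∀ P : Ideal R, P ≠ ⊥ → P.IsPrime → P = maximalIdeal R := by
    refine ⟨inferInstance, fun P hP hPp => ?_⟩
    haveI : Ring.KrullDimLE 1 R := Ring.krullDimLE_iff.mpr (by exact_mod_cast hdim)
    exact eq_maximalIdeal (Ideal.IsPrime.isMaximal_of_ne_bot hPp hP)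
  have hp : (maximalIdeal R).IsPrincipal :=
    ((tfae_of_isNoetherianRing_of_isLocalRing_of_isDomain R).out 3 4).mp h4
  refine IsRegularLocalRing.of_spanFinrank_maximalIdeal_le _ ?_
  obtain ⟨a, ha⟩ := hp
  have hne : ringKrullDim R ≠ 0 := fun h0 => by
    haveI : Ring.KrullDimLE 0 R := Ring.krullDimLE_iff.mpr (by exact_mod_cast h0.le)
    exact h Ring.KrullDimLE.isField_of_isReduced
  have h1 : 1 ≤ ringKrullDim R := (WithBot.one_le_iff_pos _).mpr (lt_of_le_of_ne ringKrullDim_nonneg_of_nontrivial hne.symm)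
  rw [ha]
  exact le_trans (by exact_mod_cast (Submodule.spanFinrank_span_le_ncard_of_finite (Set.finite_singleton a)).trans (Set.ncard_singleton a).le) h1

theorem normal_of_regular_dim_le_one (A : Type u) [CommRing A] [IsRegularLocalRing A] (hdim : ringKrullDim A ≤ 1) :
    IsDomain A ∧ IsIntegrallyClosed A := by
  haveI := H4Depth.isDomain_of_isRegularLocalRing A
  refine ⟨inferInstance, ?_⟩
  have hp : (maximalIdeal A).IsPrincipal := by
    rw [← IsRegularLocalRing.spanFinrank_maximalIdeal] at hdim
    obtain ⟨g, hg⟩ := H4Depth.exists_fun_fin_span_eq (I := maximalIdeal A)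
    generalize (maximalIdeal A).spanFinrank = n at g hg hdim
    norm_cast at hdim
    interval_cases n
    · exact ⟨0, by rw [← hg]; simp [Set.range_eq_empty]⟩
    · exact ⟨g 0, by rw [← hg, Ideal.submodule_span_eq, Set.range_unique]; rfl⟩
  have h4 : IsIntegrallyClosed A ∧ ∀ P : Ideal A, P ≠ ⊥ → P.IsPrime → P = maximalIdeal A :=
    ((tfae_of_isNoetherianRing_of_isLocalRing_of_isDomain A).out 4 3).mp hp
  exact h4.1

/-- Under `(S2)` divisibility by a nonzerodivisor can be checked in height at most one. -/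
theorem exists_dvd_of_height_le_one (hS : HasSk 2 R R) (p : Ideal R) [p.IsPrime] (a b : R)
    (hb : ∀ q ∈ associatedPrimes R R, q ≤ p → b ∉ q)
    (h : ∀ (q : Ideal R) [q.IsPrime], q ≤ p → q.height ≤ 1 → ∃ s ∉ q, b ∣ s * a) :
    ∃ s ∉ p, b ∣ s * a := by
  by_contra hcon
  push Not at hcon
  let abar : R ⧸ Ideal.span {b} := Ideal.Quotient.mk _ a
  have hann : ∀ r, r ∈ Module.annihilator R (Submodule.span R {abar}) → b ∣ r * a := fun r hr => by
    have := congrArg Subtype.val (Module.mem_annihilator.mp hr ⟨abar, Submodule.mem_span_singleton_self _⟩)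
    exact Ideal.mem_span_singleton.mp (Ideal.Quotient.eq_zero_iff_mem.mp this)
  have hann' : ∀ r, b ∣ r * a → r ∈ Module.annihilator R (Submodule.span R {abar}) := fun r hr => by
    rw [Module.mem_annihilator]
    rintro ⟨y, hy⟩
    obtain ⟨t, rfl⟩ := Submodule.mem_span_singleton.mp hy
    refine Subtype.ext ?_
    show r • t • abar = 0
    rw [smul_comm, show r • abar = 0 from Ideal.Quotient.eq_zero_iff_mem.mpr (Ideal.mem_span_singleton.mpr hr),
      smul_zero]
  have hle : Module.annihilator R (Submodule.span R {abar}) ≤ p := fun r hr => by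
    by_contra hrp
    exact hcon r hrp (hann r hr)
  obtain ⟨q, hqmin, hqp⟩ := Ideal.exists_minimalPrimes_le hle
  haveI := hqmin.1.1
  obtain ⟨-, w, hw⟩ := isAssociatedPrime_iff.mp
    (Module.associatedPrimes.minimalPrimes_annihilator_subset_associatedPrimes R _ hqmin)
  obtain ⟨c, hc⟩ := Submodule.mem_span_singleton.mp w.2
  have hq : ∀ r, r ∈ q ↔ b ∣ r * (c * a) := fun r => by
    rw [hw, Submodule.mem_colon_singleton, Submodule.mem_bot, Subtype.ext_iff, Submodule.coe_smul, ← hc,
      ← Ideal.mem_span_singleton, ← Ideal.Quotient.eq_zero_iff_mem]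
    rfl
  let A := Localization.AtPrime q
  let ι := algebraMap R A
  have hnotin : ∀ d, ι (c * a) ≠ ι b * d := by
    intro d hd
    obtain ⟨d, s, rfl⟩ := IsLocalization.exists_mk'_eq q.primeCompl d
    rw [IsLocalization.mul_mk'_eq_mk'_of_mul, IsLocalization.eq_mk'_iff_mul_eq, ← map_mul] at hd
    obtain ⟨t, ht⟩ := (IsLocalization.eq_iff_exists q.primeCompl A).mp hd
    refine (t * s).2 ((hq _).mpr ⟨(t : R) * d, ?_⟩)
    show (t : R) * s * (c * a) = b * (t * d)
    linear_combination ht
  have hbreg : IsSMulRegular A (ι b) := by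
    rw [isSMulRegular_iff_right_eq_zero_of_smul]
    intro d hd
    obtain ⟨d, s, rfl⟩ := IsLocalization.exists_mk'_eq q.primeCompl d
    rw [smul_eq_mul, IsLocalization.mul_mk'_eq_mk'_of_mul, IsLocalization.mk'_eq_zero_iff] at hd
    obtain ⟨t, ht⟩ := hd
    rw [IsLocalization.mk'_eq_zero_iff]
    by_contra hne
    push Not at hne
    haveI : Nontrivial (Submodule.span R {(t : R) * d}) :=
      ⟨⟨⟨_, Submodule.mem_span_singleton_self _⟩, 0, fun h0 => hne t (congrArg Subtype.val h0)⟩⟩
    have hle' : Module.annihilator R (Submodule.span R {(t : R) * d}) ≤ q := fun r hr => by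
      by_contra hrq
      refine hne (⟨r, hrq⟩ * t) ?_
      have := congrArg Subtype.val (Module.mem_annihilator.mp hr ⟨_, Submodule.mem_span_singleton_self _⟩)
      show r * t * d = 0
      rw [mul_assoc]
      exact this
    obtain ⟨q', hq'min, hq'q⟩ := Ideal.exists_minimalPrimes_le hle'
    refine hb q' (associatedPrimes.subset_of_injective (f := (Submodule.span R {(t : R) * d}).subtype)
      Subtype.val_injective
      (Module.associatedPrimes.minimalPrimes_annihilator_subset_associatedPrimes R _ hq'min)) (hq'q.trans hqp)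
      (hq'min.1.2 (Module.mem_annihilator.mpr ?_))
    rintro ⟨y, hy⟩
    obtain ⟨r, rfl⟩ := Submodule.mem_span_singleton.mp hy
    refine Subtype.ext ?_
    show b * (r * (t * d)) = 0
    linear_combination r * ht
  have hbm : ι b ∈ maximalIdeal A := (IsLocalization.AtPrime.to_map_mem_maximal_iff A q b).mpr
    ((hq b).mpr (dvd_mul_right _ _))
  have hdepth : depth A A ≤ 1 := by
    rw [depth, ← H4Depth.idealDepth_quotSMulTop_add_one hbm hbreg]
    haveI : Nontrivial (QuotSMulTop (ι b) A) := by
      refine Submodule.Quotient.nontrivial_iff.mpr fun htop => ?_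
      obtain ⟨d, -, hd⟩ : ι (c * a) ∈ ι b • (⊤ : Submodule A A) := by rw [htop]; trivial
      exact hnotin d hd.symm
    have : idealDepth (maximalIdeal A) (QuotSMulTop (ι b) A) = 0 := by
      rw [H4Depth.idealDepth_eq_zero_iff H4Depth.maximalIdeal_smul_top_ne_top]
      intro x hx hxreg
      obtain ⟨r, s, rfl⟩ := IsLocalization.exists_mk'_eq q.primeCompl x
      have hr := (IsLocalization.AtPrime.mk'_mem_maximal_iff A q r s).mp hx
      have h0 : IsLocalization.mk' A r s • (Submodule.Quotient.mk (ι (c * a)) : QuotSMulTop (ι b) A) =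
          IsLocalization.mk' A r s • (0 : QuotSMulTop (ι b) A) := by
        rw [smul_zero, ← Submodule.Quotient.mk_smul, Submodule.Quotient.mk_eq_zero]
        obtain ⟨d, hd⟩ := (hq r).mp hr
        refine ⟨IsLocalization.mk' A d s, trivial, ?_⟩
        show ι b * IsLocalization.mk' A d s = IsLocalization.mk' A r s * ι (c * a)
        rw [IsLocalization.mul_mk'_eq_mk'_of_mul, mul_comm (IsLocalization.mk' A r s), IsLocalization.mul_mk'_eq_mk'_of_mul]
        congr 1
        linear_combination -hd
      obtain ⟨d, -, hd⟩ := (Submodule.Quotient.mk_eq_zero _).mp (hxreg h0)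
      exact hnotin d hd.symm
    rw [this, zero_add]
  have hsk := hS q
  obtain ⟨e1⟩ := H4Depth.exists_localizedModule_self_equiv (R := R) q
  rw [H4Depth.depth_congr e1, Module.supportDim_eq_of_equiv e1, Module.supportDim_self_eq_ringKrullDim,
    IsLocalization.AtPrime.ringKrullDim_eq_height q] at hsk
  have hheight : q.height ≤ 1 := by
    by_contra hh
    rw [not_le] at hh
    have h2 : (2 : ℕ∞) ≤ q.height := Order.add_one_le_of_lt hh
    rcases min_le_iff.mp hsk with h3 | h3
    · have h4 : (2 : ℕ∞) ≤ depth A A := WithBot.coe_le_coe.mp h3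
      exact absurd (h4.trans hdepth) (by norm_num)
    · exact absurd ((WithBot.coe_le_coe.mp h3).trans hdepth) (not_le.mpr hh)
  obtain ⟨s, hsq, hs⟩ := h q hqp hheight
  refine hsq ((hq s).mpr ?_)
  rw [mul_left_comm]
  exact hs.mul_left c

/-- Serre's criterion, one direction. -/
theorem isDomain_and_isIntegrallyClosed_of_R1_S2 (hR : HasRk 1 R) (hS : HasSk 2 R R) (p : Ideal R) [p.IsPrime] :
    IsDomain (Localization.AtPrime p) ∧ IsIntegrallyClosed (Localization.AtPrime p) := by
  haveI : IsReduced R := isReduced_iff_R0_S1.mpr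
    ⟨fun q hq hh => hR q (hh.trans (by norm_num)), H4Depth.hasSk_mono (by norm_num) hS⟩
  have hmin : ∀ q ∈ associatedPrimes R R, q ∈ minimalPrimes R :=
    hasSk_one_self_iff.mp (H4Depth.hasSk_mono (by norm_num) hS)
  let A := Localization.AtPrime p
  let ι := algebraMap R A
  have hAq : ∀ (q : Ideal R) [q.IsPrime], q.height ≤ 1 →
      IsDomain (Localization.AtPrime q) ∧ IsIntegrallyClosed (Localization.AtPrime q) := fun q _ hh => by
    haveI := hR q hh
    refine normal_of_regular_dim_le_one _ ?_
    rw [IsLocalization.AtPrime.ringKrullDim_eq_height q]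
    exact_mod_cast hh
  have hdom : IsDomain A := by
    suffices huniq : ∀ P ∈ minimalPrimes R, ∀ P' ∈ minimalPrimes R, P ≤ p → P' ≤ p → P = P' by
      obtain ⟨P, hP, hPp⟩ := Ideal.exists_minimalPrimes_le (I := (⊥ : Ideal R)) (J := p) bot_le
      haveI := hP.1.1
      refine @NoZeroDivisors.to_isDomain A _ _ ⟨fun {x y} hxy => ?_⟩
      obtain ⟨x, s, rfl⟩ := IsLocalization.exists_mk'_eq p.primeCompl x
      obtain ⟨y, t, rfl⟩ := IsLocalization.exists_mk'_eq p.primeCompl y
      rw [← IsLocalization.mk'_mul, IsLocalization.mk'_eq_zero_iff] at hxy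
      obtain ⟨w, hw⟩ := hxy
      have hzero : ∀ z ∈ P, ι z = 0 := by
        intro z hz
        haveI : IsReduced A := inferInstance
        refine IsReduced.eq_zero _ (mem_nilradical.mp ?_)
        rw [nilradical_eq_sInf, Ideal.mem_sInf]
        intro Q hQ
        have hQ' : Q.IsPrime := hQ
        obtain ⟨P', hP', hP'Q⟩ := Ideal.exists_minimalPrimes_le (I := (⊥ : Ideal R)) (J := Q.comap ι) bot_le
        have hQp : Q.comap ι ≤ p := by
          intro v hv
          by_contra hvp
          exact hQ'.ne_top (Ideal.eq_top_of_isUnit_mem _ hv (IsLocalization.map_units A (⟨v, hvp⟩ : p.primeCompl)))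
        exact hP'Q ((huniq P hP P' hP' hPp (hP'Q.trans hQp)) ▸ hz)
      rcases hP.1.1.mem_or_mem (show (w : R) * x * y ∈ P by rw [mul_assoc, hw]; exact zero_mem _) with h | h
      · rcases hP.1.1.mem_or_mem h with h | h
        · exact absurd (hPp h) w.2
        · exact Or.inl ((IsLocalization.map_units A s).mul_left_eq_zero.mp
            ((IsLocalization.mk'_spec A x s).trans (hzero x h)))
      · exact Or.inr ((IsLocalization.map_units A t).mul_left_eq_zero.mp
          ((IsLocalization.mk'_spec A y t).trans (hzero y h)))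
    intro P hP P' hP' hPp hP'p
    by_contra hne
    classical
    let F : Finset (Ideal R) :=
      (minimalPrimes.finite_of_isNoetherianRing R).toFinset.filter fun Q => Q ≤ p ∧ Q ≠ P
    have hF : ∀ Q ∈ F, Q ∈ minimalPrimes R ∧ Q ≤ p ∧ Q ≠ P := fun Q hQ => by
      obtain ⟨h1, h2⟩ := Finset.mem_filter.mp hQ
      exact ⟨(Set.Finite.mem_toFinset _).mp h1, h2⟩
    haveI := hP.1.1
    obtain ⟨a, haP, ha⟩ : ∃ a ∈ P, ∀ Q ∈ F, a ∉ Q := by
      by_contra hall
      push Not at hall
      obtain ⟨Q, hQ, hPQ⟩ := (Ideal.subset_union_prime (f := id) P P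
        (fun Q hQ _ _ => (hF Q hQ).1.1.1)).mp (fun a haP => by
          obtain ⟨Q, hQ, haQ⟩ := hall a haP
          exact Set.mem_biUnion (Finset.mem_coe.mpr hQ) haQ)
      exact (hF Q hQ).2.2 (le_antisymm ((hF Q hQ).1.2 ⟨hP.1.1, bot_le⟩ hPQ) hPQ)
    obtain ⟨b, hb, hbP⟩ : ∃ b, b ∈ F.inf id ∧ b ∉ P := by
      refine SetLike.not_le_iff_exists.mp fun hle => ?_
      obtain ⟨Q, hQ, hQP⟩ := (Ideal.IsPrime.inf_le' hP.1.1).mp hle
      exact (hF Q hQ).2.2 (le_antisymm hQP (hP.2 ⟨(hF Q hQ).1.1.1, bot_le⟩ hQP))
    have hbQ : ∀ Q ∈ F, b ∈ Q := fun Q hQ => (Finset.inf_le (f := id) hQ : F.inf id ≤ Q) hb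
    have hbreg : ∀ q ∈ associatedPrimes R R, q ≤ p → a + b ∉ q := by
      intro q hq hqp hab
      by_cases hqP : q = P
      · subst hqP
        exact hbP (by simpa using sub_mem hab haP)
      · have hqF : q ∈ F := Finset.mem_filter.mpr ⟨(Set.Finite.mem_toFinset _).mpr (hmin q hq), hqp, hqP⟩
        exact ha q hqF (by simpa using sub_mem hab (hbQ q hqF))
    have hab0 : ∀ (q : Ideal R) [q.IsPrime], q ≤ p → a * b ∈ q := by
      intro q _ hqp
      obtain ⟨Q, hQ, hQq⟩ := Ideal.exists_minimalPrimes_le (I := (⊥ : Ideal R)) (J := q) bot_le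
      by_cases hQP : Q = P
      · exact hQq (hQP ▸ Ideal.mul_mem_right _ _ haP)
      · exact hQq (Ideal.mul_mem_left _ _ (hbQ Q
          (Finset.mem_filter.mpr ⟨(Set.Finite.mem_toFinset _).mpr hQ, hQq.trans hqp, hQP⟩)))
    obtain ⟨s, hsp, hs⟩ := exists_dvd_of_height_le_one hS p a (a + b) hbreg fun q _ hqp hh => by
      haveI := (hAq q hh).1
      have h0 : algebraMap R (Localization.AtPrime q) (a * b) = 0 := by
        refine IsReduced.eq_zero _ (mem_nilradical.mp ?_)
        rw [nilradical_eq_sInf, Ideal.mem_sInf]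
        intro Q hQ
        have hQ' : Q.IsPrime := hQ
        refine (hab0 _ (le_trans ?_ hqp) : a * b ∈ Q.comap (algebraMap R (Localization.AtPrime q)))
        intro v hv
        by_contra hvq
        exact hQ'.ne_top (Ideal.eq_top_of_isUnit_mem _ hv (IsLocalization.map_units _ (⟨v, hvq⟩ : q.primeCompl)))
      rw [map_mul, mul_eq_zero] at h0
      rcases h0 with h0 | h0 <;> obtain ⟨t, ht⟩ := (IsLocalization.map_eq_zero_iff q.primeCompl _ _).mp h0
      · exact ⟨t, t.2, by rw [ht]; exact dvd_zero _⟩
      · exact ⟨t, t.2, ⟨t, by rw [add_mul, mul_comm b, ht, add_zero, mul_comm]⟩⟩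
    obtain ⟨c, hc⟩ := hs
    have hP'F : P' ∈ F := Finset.mem_filter.mpr ⟨(Set.Finite.mem_toFinset _).mpr hP', hP'p, Ne.symm hne⟩
    have hcP : c ∈ P := by
      have h1 : (a + b) * c ∈ P := hc ▸ Ideal.mul_mem_left _ _ haP
      exact (hP.1.1.mem_or_mem h1).resolve_left fun h => hbP (by simpa using sub_mem h haP)
    have hsc : s - c ∈ P' := by
      haveI := hP'.1.1
      refine (hP'.1.1.mem_or_mem (x := a) (y := s - c) ?_).resolve_left (ha P' hP'F)
      have : a * (s - c) = b * c := by linear_combination hc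
      rw [this]
      exact Ideal.mul_mem_right _ _ (hbQ P' hP'F)
    apply hsp
    have := p.add_mem (hP'p hsc) (hPp hcP)
    rwa [sub_add_cancel] at this
  refine ⟨hdom, ?_⟩
  haveI := hdom
  rw [isIntegrallyClosed_iff (FractionRing A)]
  intro z hz
  obtain ⟨a', b', hb', rfl⟩ := IsFractionRing.div_surjective A z
  obtain ⟨a, sa, rfl⟩ := IsLocalization.exists_mk'_eq p.primeCompl a'
  obtain ⟨b, sb, rfl⟩ := IsLocalization.exists_mk'_eq p.primeCompl b'
  have hb0 : ι b ≠ 0 := fun h0 => nonZeroDivisors.ne_zero hb' (by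
    rw [IsLocalization.mk'_eq_mul_mk'_one b sb, h0, zero_mul])
  obtain ⟨s, hsp, d, hd⟩ := exists_dvd_of_height_le_one hS p (a * sb) (b * sa) (fun q hq hqp hbq => by
    haveI := hq.isPrime
    rcases hq.isPrime.mem_or_mem hbq with h | h
    · obtain ⟨-, w, hw⟩ := isAssociatedPrime_iff.mp hq
      rw [hw, Submodule.mem_colon_singleton, Submodule.mem_bot, smul_eq_mul] at h
      have h1 : ι b * ι w = 0 := by rw [← map_mul, h, map_zero]
      obtain ⟨t, ht⟩ := (IsLocalization.map_eq_zero_iff p.primeCompl A w).mp ((mul_eq_zero.mp h1).resolve_left hb0)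
      refine t.2 (hqp ?_)
      rw [hw, Submodule.mem_colon_singleton, Submodule.mem_bot]
      exact ht
    · exact sa.2 (hqp h)) fun q _ hqp hh => by
    haveI := (hAq q hh).1
    haveI := (hAq q hh).2
    let B := Localization.AtPrime q
    let ψ : A →+* B := IsLocalization.lift (M := p.primeCompl) (g := algebraMap R B) fun y =>
      IsLocalization.map_units B (⟨y.1, fun h => y.2 (hqp h)⟩ : q.primeCompl)
    have hψι : ∀ r, ψ (ι r) = algebraMap R B r := fun r => IsLocalization.lift_eq _ r
    have hψinj : Function.Injective ψ := by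
      rw [injective_iff_map_eq_zero]
      intro x hx
      obtain ⟨x, t, rfl⟩ := IsLocalization.exists_mk'_eq p.primeCompl x
      have h0 : algebraMap R B x = 0 := by
        rw [← hψι, ← IsLocalization.mk'_spec A x t, map_mul, hx, zero_mul]
      obtain ⟨v, hv⟩ := (IsLocalization.map_eq_zero_iff q.primeCompl B x).mp h0
      have h1 : ι v * ι x = 0 := by rw [← map_mul, hv, map_zero]
      rcases mul_eq_zero.mp h1 with h2 | h2
      · obtain ⟨w, hw⟩ := (IsLocalization.map_eq_zero_iff p.primeCompl A _).mp h2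
        exfalso
        refine v.2 ((‹q.IsPrime›.mem_or_mem (hw.symm ▸ q.zero_mem)).resolve_left fun h => w.2 (hqp h))
      · rw [IsLocalization.mk'_eq_mul_mk'_one, h2, zero_mul]
    letI : Algebra A B := ψ.toAlgebra
    haveI : FaithfulSMul A B := (faithfulSMul_iff_algebraMap_injective A B).mpr hψinj
    let K := FractionRing B
    let Ψ : FractionRing A →+* K :=
      IsFractionRing.lift (g := (algebraMap B K).comp ψ) ((IsFractionRing.injective B K).comp hψinj)
    have hΨ : ∀ x, Ψ (algebraMap A _ x) = algebraMap B K (ψ x) := fun x => IsFractionRing.lift_algebraMap _ x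
    have hint : IsIntegral B
        (Ψ (algebraMap A (FractionRing A) (IsLocalization.mk' A a sa) /
          algebraMap A (FractionRing A) (IsLocalization.mk' A b sb))) := by
      obtain ⟨P, hPm, hP⟩ := hz
      refine ⟨P.map ψ, hPm.map _, ?_⟩
      rw [Polynomial.eval₂_map]
      have h2 := congrArg Ψ hP
      rw [map_zero, Polynomial.hom_eval₂] at h2
      rw [← h2]
      congr 1
      ext x
      exact (hΨ x).symm
    obtain ⟨c, hc⟩ := IsIntegrallyClosed.isIntegral_iff.mp hint
    rw [map_div₀, hΨ, hΨ] at hc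
    have hbK : algebraMap B K (ψ (IsLocalization.mk' A b sb)) ≠ 0 := fun h0 =>
      nonZeroDivisors.ne_zero hb' (hψinj ((IsFractionRing.injective B K (h0.trans (map_zero _).symm)).trans (map_zero ψ).symm))
    rw [eq_div_iff hbK, ← map_mul] at hc
    have hc' := IsFractionRing.injective B K hc
    obtain ⟨c, t, rfl⟩ := IsLocalization.exists_mk'_eq q.primeCompl c
    have h3 : algebraMap R B c * algebraMap R B (b * sa) = algebraMap R B (t * (a * sb)) := by
      have e1 : ψ (IsLocalization.mk' A b sb) * algebraMap R B sb = algebraMap R B b := by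
        rw [← hψι, ← map_mul, IsLocalization.mk'_spec, hψι]
      have e2 : ψ (IsLocalization.mk' A a sa) * algebraMap R B sa = algebraMap R B a := by
        rw [← hψι, ← map_mul, IsLocalization.mk'_spec, hψι]
      rw [map_mul, map_mul, map_mul, ← IsLocalization.mk'_spec B c t, ← e1, ← e2, ← hc']
      ring
    rw [← map_mul] at h3
    obtain ⟨v, hv⟩ := (IsLocalization.eq_iff_exists q.primeCompl B).mp h3
    refine ⟨(v * t : q.primeCompl), (v * t).2, ⟨(v : R) * c, ?_⟩⟩
    show (v : R) * t * (a * sb) = b * sa * (v * c)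
    linear_combination -hv
  refine ⟨IsLocalization.mk' A d (⟨s, hsp⟩ : p.primeCompl), ?_⟩
  have hbA : algebraMap A (FractionRing A) (IsLocalization.mk' A b sb) ≠ 0 :=
    (map_ne_zero_iff _ (IsFractionRing.injective A _)).mpr (nonZeroDivisors.ne_zero hb')
  rw [eq_div_iff hbA, ← map_mul, ← IsLocalization.mk'_mul]
  congr 1
  rw [IsLocalization.mk'_eq_iff_eq]
  congr 1
  push_cast
  linear_combination -hd

/-- **Serre's criterion for normality.** -/
theorem normal_iff_R1_S2 :
    (∀ (p : Ideal R) [p.IsPrime], IsDomain (Localization.AtPrime p) ∧ IsIntegrallyClosed (Localization.AtPrime p)) ↔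
      (HasRk 1 R ∧ HasSk 2 R R) := by
  refine ⟨fun h => ⟨fun p _ hh => ?_, fun p _ => ?_⟩, fun h p _ => isDomain_and_isIntegrallyClosed_of_R1_S2 h.1 h.2 p⟩
  · haveI := (h p).1
    haveI := (h p).2
    refine isRegularLocalRing_of_isIntegrallyClosed ?_
    rw [IsLocalization.AtPrime.ringKrullDim_eq_height p]
    exact_mod_cast hh
  · haveI := (h p).1
    haveI := (h p).2
    obtain ⟨e⟩ := H4Depth.exists_localizedModule_self_equiv (R := R) p
    rw [H4Depth.depth_congr e, Module.supportDim_eq_of_equiv e, Module.supportDim_self_eq_ringKrullDim]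
    by_cases h2 : 2 ≤ ringKrullDim (Localization.AtPrime p)
    · exact (min_le_left _ _).trans (WithBot.coe_le_coe.mpr (depth_ge_two_of_isIntegrallyClosed h2))
    · have hle : ringKrullDim (Localization.AtPrime p) ≤ 1 := by
        rw [IsLocalization.AtPrime.ringKrullDim_eq_height p] at h2 ⊢
        refine WithBot.coe_le_coe.mpr (not_lt.mp fun hlt => h2 ?_)
        refine WithBot.coe_le_coe.mpr ?_
        exact le_trans (le_of_eq (by norm_num)) (Order.add_one_le_of_lt hlt)
      haveI := isRegularLocalRing_of_isIntegrallyClosed hle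
      rw [H4Depth.depth_self_eq_ringKrullDim_of_regular]
      exact min_le_right _ _

end Groth.Agent.H1CAlg
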