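import Groth.Agent.H1CAlg.ReflexiveDomain
import Groth.Agent.H1CAlg.Serre
import Mathlib.LinearAlgebra.FreeModule.PID
import Mathlib.FieldTheory.Minpoly.IsIntegrallyClosed
import Mathlib.RingTheory.Polynomial.ScaleRoots
import Mathlib.RingTheory.LocalProperties.IntegrallyClosed

/-!
Reflexive modules over Noetherian (normal) domains.
-/

set_option autoImplicit false
universe u

open LocCoh

namespace Groth.Agent.H1CAlg

variable {R : Type u} [CommRing R] [IsDomain R] [IsNoetherianRing R]
  {M : Type u} [AddCommGroup M] [Module R M] [Module.Finite R M]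

theorem two_le_depth_of_isReflexive [Module.IsReflexive R M] (p : Ideal R) [p.IsPrime]
    (h : 2 ≤ depth (Localization.AtPrime p) (Localization.AtPrime p)) :
    2 ≤ depth (Localization.AtPrime p) (LocalizedModule p.primeCompl M) := by
  obtain ⟨k, m₀, f₀, g₀, hf₀, -⟩ := H4Depth.exists_dual_presentation (R := R) M
  haveI : Module.Finite R (Module.Dual R M) := Module.Finite.of_injective f₀ hf₀
  obtain ⟨n, m, f, g, hf, hfg⟩ := H4Depth.exists_dual_presentation (R := R) (Module.Dual R M)
  let f' := f ∘ₗ (Module.evalEquiv R M).toLinearMap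
  have hfg' : Function.Exact f' g := fun y =>
    (hfg y).trans ⟨fun ⟨x, hx⟩ => ⟨(Module.evalEquiv R M).symm x, by
      show f (Module.evalEquiv R M ((Module.evalEquiv R M).symm x)) = y
      rw [LinearEquiv.apply_symm_apply, hx]⟩,
      fun ⟨x, hx⟩ => ⟨Module.evalEquiv R M x, hx⟩⟩
  have hpi : ∀ i : ℕ, 2 ≤ depth (Localization.AtPrime p) (LocalizedModule p.primeCompl (Fin i → R)) := fun i => by
    obtain ⟨e⟩ := H4Depth.exists_localizedModule_pi_equiv (R := R) p i
    obtain ⟨e1⟩ := H4Depth.exists_localizedModule_self_equiv (R := R) p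
    rw [H4Depth.depth_congr (e.trans (LinearEquiv.piCongrRight fun _ => e1))]
    exact h.trans (idealDepth_le_idealDepth_pi _ i)
  exact H4Depth.two_le_idealDepth_of_exact _
    (LocalizedModule.map_injective p.primeCompl f' (hf.comp (Module.evalEquiv R M).injective))
    (g := LocalizedModule.map p.primeCompl g) (LocalizedModule.map_exact p.primeCompl f' g hfg') (hpi n)
    (le_trans (by norm_num) (hpi m))

theorem hasSk_two_of_isReflexive [Module.IsReflexive R M] (h : HasSk 2 R R) : HasSk 2 R M := by
  obtain ⟨k, m₀, f₀, g₀, hf₀, -⟩ := H4Depth.exists_dual_presentation (R := R) M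
  haveI : Module.Finite R (Module.Dual R M) := Module.Finite.of_injective f₀ hf₀
  exact H4Depth.hasSk_of_bijective (Module.bijective_dual_eval R M) (hasSk_two_hom (Module.Dual R M) h)

theorem isReflexive_localizedModule_bot (M : Type u) [AddCommGroup M] [Module R M] [Module.Finite R M]
    (p : Ideal R) [p.IsPrime] (hp : p = ⊥) :
    Module.IsReflexive (Localization.AtPrime p) (LocalizedModule p.primeCompl M) := by
  have hf : IsField (Localization.AtPrime p) :=
    isField_localization_of_minimalPrimes (by rw [hp, IsDomain.minimalPrimes_eq_singleton_bot]; rfl)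
  letI := hf.toField
  infer_instance

theorem isReflexive_iff_localization_or_depth :
    Module.IsReflexive R M ↔ ∀ (p : Ideal R) [p.IsPrime],
      Module.IsReflexive (Localization.AtPrime p) (LocalizedModule p.primeCompl M) ∨
        2 ≤ depth (Localization.AtPrime p) (LocalizedModule p.primeCompl M) := by
  refine ⟨fun _ p _ => Or.inl (isReflexive_localizedModule M p.primeCompl), fun h => ⟨?_⟩⟩
  refine bijective_of_depth_two _ fun p _ => ?_
  by_cases hp : p = ⊥
  · exact Or.inl ((isReflexive_localizedModule_iff M p.primeCompl).mp (isReflexive_localizedModule_bot M p hp))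
  rcases h p with h1 | h1
  · exact Or.inl ((isReflexive_localizedModule_iff M p.primeCompl).mp h1)
  · refine Or.inr ⟨h1, fun hass => hp ?_⟩
    rw [eq_bot_iff]
    intro r hr
    by_contra hr0
    obtain ⟨-, x, hx⟩ := isAssociatedPrime_iff.mp hass
    have hr' := hr
    rw [hx, Submodule.mem_colon_singleton, Submodule.mem_bot] at hr'
    have hx0 : x = 0 := LinearMap.ext fun φ => by
      have := LinearMap.congr_fun hr' φ
      rw [LinearMap.smul_apply, LinearMap.zero_apply, smul_eq_mul] at this
      exact (mul_eq_zero.mp this).resolve_left fun h0 => hr0 (by simp [h0])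
    apply hass.isPrime.ne_top
    rw [hx, hx0]
    exact Ideal.eq_top_of_isUnit_mem _ (by simp [Submodule.mem_colon_singleton]) isUnit_one

theorem isTorsionFree_iff_associatedPrimes [Nontrivial M] :
    Module.IsTorsionFree R M ↔ associatedPrimes R M = {⊥} := by
  constructor
  · intro h
    have hsub : ∀ p ∈ associatedPrimes R M, p = ⊥ := by
      intro p hp
      obtain ⟨-, x, hx⟩ := isAssociatedPrime_iff.mp hp
      rw [eq_bot_iff]
      intro r hr
      have hr' := hr
      rw [hx, Submodule.mem_colon_singleton, Submodule.mem_bot, smul_eq_zero] at hr'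
      refine hr'.resolve_right fun hx0 => hp.isPrime.ne_top ?_
      rw [hx, hx0]
      exact Ideal.eq_top_of_isUnit_mem _ (by simp [Submodule.mem_colon_singleton]) isUnit_one
    obtain ⟨p, hp⟩ := associatedPrimes.nonempty R M
    exact Set.eq_singleton_iff_unique_mem.mpr ⟨hsub p hp ▸ hp, hsub⟩
  · intro h
    refine ⟨fun r hr => ?_⟩
    by_contra hreg
    have : r ∈ ⋃ p ∈ associatedPrimes R M, (p : Set R) := by
      rw [biUnion_associatedPrimes_eq_compl_regular]
      exact hreg
    rw [h] at this
    simp only [Set.mem_singleton_iff, Set.iUnion_iUnion_eq_left, SetLike.mem_coe, Submodule.mem_bot] at this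
    exact hr.ne_zero this

theorem annihilator_eq_bot_of_isTorsionFree [Nontrivial M] [Module.IsTorsionFree R M] :
    Module.annihilator R M = ⊥ := by
  obtain ⟨x, hx⟩ := exists_ne (0 : M)
  rw [eq_bot_iff]
  exact fun r hr => (smul_eq_zero.mp (Module.mem_annihilator.mp hr x)).resolve_right hx

theorem isTorsionFree_iff_S1 [Nontrivial M] :
    Module.IsTorsionFree R M ↔
      (⟨⊥, Ideal.isPrime_bot⟩ : PrimeSpectrum R) ∈ Module.support R M ∧ HasSk 1 R M := by
  constructor
  · intro h
    refine ⟨?_, hasSk_one_iff.mpr fun p hp => ?_⟩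
    · rw [Module.mem_support_iff_of_finite, annihilator_eq_bot_of_isTorsionFree]
    · rw [annihilator_eq_bot_of_isTorsionFree]
      rw [isTorsionFree_iff_associatedPrimes.mp h, Set.mem_singleton_iff] at hp
      rw [hp]
      exact ⟨⟨Ideal.isPrime_bot, le_rfl⟩, fun q _ _ => bot_le⟩
  · rintro ⟨h0, h1⟩
    rw [isTorsionFree_iff_associatedPrimes]
    have hann : Module.annihilator R M = ⊥ := le_bot_iff.mp (Module.mem_support_iff_of_finite.mp h0)
    obtain ⟨p, hp⟩ := associatedPrimes.nonempty R M
    have hsub : ∀ q ∈ associatedPrimes R M, q = ⊥ := fun q hq => by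
      have h2 := hasSk_one_iff.mp h1 q hq
      rw [hann] at h2
      exact le_bot_iff.mp (h2.2 ⟨Ideal.isPrime_bot, le_rfl⟩ bot_le)
    exact Set.eq_singleton_iff_unique_mem.mpr ⟨hsub p hp ▸ hp, hsub⟩

theorem isReflexive_localizedModule_of_height_le_one [IsIntegrallyClosed R] [Module.IsTorsionFree R M]
    (p : Ideal R) [p.IsPrime] (hp : p.height ≤ 1) :
    Module.IsReflexive (Localization.AtPrime p) (LocalizedModule p.primeCompl M) := by
  haveI : IsDomain (Localization.AtPrime p) := inferInstance
  haveI : IsIntegrallyClosed (Localization.AtPrime p) :=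
    isIntegrallyClosed_of_isLocalization _ p.primeCompl p.primeCompl_le_nonZeroDivisors
  have hdim : ringKrullDim (Localization.AtPrime p) ≤ 1 := by
    rw [IsLocalization.AtPrime.ringKrullDim_eq_height p]
    exact_mod_cast hp
  haveI := isRegularLocalRing_of_isIntegrallyClosed hdim
  haveI : IsPrincipalIdealRing (Localization.AtPrime p) := by
    obtain ⟨g, hg⟩ := H4Depth.exists_fun_fin_span_eq (I := IsLocalRing.maximalIdeal (Localization.AtPrime p))
    have hprinc : (IsLocalRing.maximalIdeal (Localization.AtPrime p)).IsPrincipal := by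
      rw [← IsRegularLocalRing.spanFinrank_maximalIdeal] at hdim
      generalize (IsLocalRing.maximalIdeal (Localization.AtPrime p)).spanFinrank = n at g hg hdim
      norm_cast at hdim
      interval_cases n
      · exact ⟨0, by rw [← hg]; simp [Set.range_eq_empty]⟩
      · exact ⟨g 0, by rw [← hg, Ideal.submodule_span_eq, Set.range_unique]; rfl⟩
    exact ((tfae_of_isNoetherianRing_of_isLocalRing_of_isDomain (Localization.AtPrime p)).out 4 0).mp hprinc
  obtain ⟨k, r, a, b, hr, hab⟩ := exists_free_approx (R := R) M
  have ha : Function.Injective a := (injective_iff_map_eq_zero a).mpr fun x hx => by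
    have h2 := hab x
    rw [hx, map_zero] at h2
    exact (smul_eq_zero.mp h2.symm).resolve_left hr
  obtain ⟨e⟩ := H4Depth.exists_localizedModule_pi_equiv (R := R) p k
  obtain ⟨e1⟩ := H4Depth.exists_localizedModule_self_equiv (R := R) p
  haveI : Module.IsTorsionFree (Localization.AtPrime p) (LocalizedModule p.primeCompl M) :=
    Function.Injective.moduleIsTorsionFree
      ((e.trans (LinearEquiv.piCongrRight fun _ => e1)).toLinearMap ∘ₗ LocalizedModule.map p.primeCompl a)
      ((e.trans (LinearEquiv.piCongrRight fun _ => e1)).injective.comp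
        (LocalizedModule.map_injective p.primeCompl a ha)) (map_smul _)
  infer_instance

theorem isReflexive_iff_torsionFree_S2 [IsIntegrallyClosed R] :
    Module.IsReflexive R M ↔ Module.IsTorsionFree R M ∧ HasSk 2 R M := by
  have hnormal : ∀ (p : Ideal R) [p.IsPrime],
      IsDomain (Localization.AtPrime p) ∧ IsIntegrallyClosed (Localization.AtPrime p) := fun p _ =>
    ⟨inferInstance, isIntegrallyClosed_of_isLocalization _ p.primeCompl p.primeCompl_le_nonZeroDivisors⟩
  constructor
  · intro h
    exact ⟨inferInstance, hasSk_two_of_isReflexive (normal_iff_R1_S2.mp hnormal).2⟩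
  · rintro ⟨htf, hS⟩
    refine isReflexive_iff_localization_or_depth.mpr fun p _ => ?_
    by_cases hp : p.height ≤ 1
    · exact Or.inl (isReflexive_localizedModule_of_height_le_one p hp)
    refine Or.inr ?_
    rcases subsingleton_or_nontrivial M with hM | hM
    · rw [depth, H4Depth.idealDepth_eq_top (Subsingleton.elim _ _)]
      exact le_top
    have hsupp : Module.support R R ⊆ Module.support R M := fun q _ => by
      rw [Module.mem_support_iff_of_finite, annihilator_eq_bot_of_isTorsionFree]
      exact bot_le
    obtain ⟨e1⟩ := H4Depth.exists_localizedModule_self_equiv (R := R) p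
    have hd := H4Depth.supportDim_mono (H4Depth.support_localizedModule_subset p.primeCompl hsupp)
    rw [Module.supportDim_eq_of_equiv e1, Module.supportDim_self_eq_ringKrullDim,
      IsLocalization.AtPrime.ringKrullDim_eq_height p] at hd
    have h2 : (2 : ℕ∞) ≤ p.height := le_trans (le_of_eq (by norm_num)) (Order.add_one_le_of_lt (not_le.mp hp))
    rcases min_le_iff.mp (hS p) with h3 | h3
    · exact WithBot.coe_le_coe.mp h3
    · exact h2.trans (WithBot.coe_le_coe.mp (hd.trans h3))

/-- An element of the fraction field lies in `R` if it does at height one primes. -/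
theorem mem_range_of_height_le_one [IsIntegrallyClosed R] {K : Type u} [Field K] [Algebra R K] [IsFractionRing R K]
    (x : K) (hx : ∀ (q : Ideal R) [q.IsPrime], q.height = 1 → ∃ s ∉ q, ∃ d, algebraMap R K s * x = algebraMap R K d) :
    x ∈ Set.range (algebraMap R K) := by
  obtain ⟨a, b, hb, rfl⟩ := IsFractionRing.div_surjective R x
  have hb0 : b ≠ 0 := nonZeroDivisors.ne_zero hb
  have hbK : algebraMap R K b ≠ 0 := (map_ne_zero_iff _ (IsFractionRing.injective R K)).mpr hb0
  have hS : HasSk 2 R R := (normal_iff_R1_S2.mp fun p _ =>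
    ⟨inferInstance, isIntegrallyClosed_of_isLocalization _ p.primeCompl p.primeCompl_le_nonZeroDivisors⟩).2
  let I : Ideal R := (Ideal.span {b}).colon (Ideal.span {a} : Ideal R)
  have hI : ∀ s, b ∣ s * a → s ∈ I := fun s hs => by
    rw [Submodule.mem_colon]
    intro y hy
    obtain ⟨t, rfl⟩ := Ideal.mem_span_singleton'.mp hy
    exact Ideal.mem_span_singleton.mpr (by rw [smul_eq_mul, mul_left_comm]; exact hs.mul_left t)
  have htop : I = ⊤ := by
    by_contra hne
    obtain ⟨m, hm, hIm⟩ := Ideal.exists_le_maximal I hne
    obtain ⟨s, hsm, hs⟩ := exists_dvd_of_height_le_one hS m a b (fun q hq _ hbq => by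
      obtain ⟨-, w, hw⟩ := isAssociatedPrime_iff.mp hq
      rw [hw, Submodule.mem_colon_singleton, Submodule.mem_bot, smul_eq_mul] at hbq
      refine hq.isPrime.ne_top ?_
      rw [hw, (mul_eq_zero.mp hbq).resolve_left hb0]
      exact Ideal.eq_top_of_isUnit_mem _ (by simp [Submodule.mem_colon_singleton]) isUnit_one) fun q _ _ hh => by
      rcases hh.lt_or_eq with h0 | h1
      · have hq0 : q = ⊥ := Ideal.height_eq_zero_iff_eq_bot.mp (ENat.lt_one_iff_eq_zero.mp h0)
        exact ⟨b, by simp [hq0, hb0], dvd_mul_right _ _⟩
      · obtain ⟨s, hs, d, hd⟩ := hx q h1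
        refine ⟨s, hs, ⟨d, IsFractionRing.injective R K ?_⟩⟩
        rw [mul_div_assoc', div_eq_iff hbK] at hd
        rw [map_mul, map_mul, hd, mul_comm]
    exact hsm (hIm (hI s hs))
  obtain ⟨c, hc⟩ : b ∣ a := by
    have h1 : (1 : R) ∈ I := by rw [htop]; trivial
    rw [Submodule.mem_colon] at h1
    exact Ideal.mem_span_singleton.mp (by simpa using h1 a (Ideal.mem_span_singleton_self a))
  refine ⟨c, ?_⟩
  rw [hc, map_mul, mul_div_cancel_left₀ _ hbK]

/-- The integral closure of a normal domain in a finite extension is reflexive. -/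
theorem isReflexive_integralClosure (A K L : Type u) [CommRing A] [IsDomain A] [IsNoetherianRing A]
    [IsIntegrallyClosed A] [Field K] [Algebra A K] [IsFractionRing A K] [Field L] [Algebra K L]
    [Algebra A L] [IsScalarTower A K L] [Module.Finite A ↥(integralClosure A L)] :
    Module.IsReflexive A ↥(integralClosure A L) := by
  have hinjL : Function.Injective (algebraMap A L) := by
    rw [IsScalarTower.algebraMap_eq A K L]
    exact (algebraMap K L).injective.comp (IsFractionRing.injective A K)
  haveI : Module.IsTorsionFree A ↥(integralClosure A L) := by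
    refine ⟨fun r hr x y hxy => Subtype.ext ?_⟩
    have := congrArg Subtype.val hxy
    simp only [SetLike.val_smul, Algebra.smul_def] at this
    exact mul_left_cancel₀ ((map_ne_zero_iff _ hinjL).mpr hr.ne_zero) this
  refine ⟨injective_eval_of_isTorsionFree _, fun ξ => ?_⟩
  obtain ⟨k, r, a, b, hr, hab⟩ := exists_free_approx (R := A) ↥(integralClosure A L)
  obtain ⟨v, hv⟩ := (Module.bijective_dual_eval A (Fin k → A)).2 (a.dualMap.dualMap ξ)
  have hbv : Module.Dual.eval A _ (b v) = r • ξ := by
    refine LinearMap.ext fun φ => ?_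
    have h1 := LinearMap.congr_fun hv (φ ∘ₗ b)
    simp only [Module.Dual.eval_apply, LinearMap.comp_apply, LinearMap.dualMap_apply] at h1
    rw [Module.Dual.eval_apply, h1, LinearMap.smul_apply, ← map_smul]
    congr 1
    ext x
    simp [hab]
  have hrL : algebraMap A L r ≠ 0 := (map_ne_zero_iff _ hinjL).mpr hr
  let z : L := (b v : L) / algebraMap A L r
  have hint : IsIntegral A z := by
    have hzK : IsIntegral K z := by
      rw [show z = (b v : L) * algebraMap K L ((algebraMap A K r)⁻¹) by
        simp [z, div_eq_mul_inv, ← IsScalarTower.algebraMap_apply A K L]]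
      exact (IsIntegral.tower_top (b v).2).mul isIntegral_algebraMap
    have hcoef : ∀ i, (minpoly K z).coeff i ∈ Set.range (algebraMap A K) := by
      intro i
      refine mem_range_of_height_le_one _ fun q _ hq => ?_
      have hbij := (isReflexive_localizedModule_iff ↥(integralClosure A L) q.primeCompl).mp
        (isReflexive_localizedModule_of_height_le_one q hq.le)
      obtain ⟨w, hw⟩ := hbij.2 (LocalizedModule.mk ξ 1)
      induction w using LocalizedModule.induction_on with
      | _ w s =>
        rw [LocalizedModule.map_mk] at hw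
        obtain ⟨t, ht⟩ := LocalizedModule.mk_eq.mp hw
        simp only [one_smul, Submonoid.smul_def, smul_smul] at ht
        -- `(t s) z = t w`
        have h3 : ((t : A) * s) • b v = r • (t : A) • w := by
          apply injective_eval_of_isTorsionFree (R := A)
          rw [map_smul, map_smul, map_smul, hbv, ht, smul_comm]
        let c : K := algebraMap A K ((t : A) * s)
        have hc0 : c ≠ 0 := (map_ne_zero_iff _ (IsFractionRing.injective A K)).mpr
          fun h0 => (t * s).2 (by simp [h0])
        let y : ↥(integralClosure A L) := (t : A) • w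
        have hzy : algebraMap K L c * z = (y : L) := by
          have := congrArg (integralClosure A L).val h3
          simp only [map_smul, Algebra.smul_def (R := A) (A := L)] at this
          show algebraMap K L c * z = (integralClosure A L).val ((t : A) • w)
          simp only [c, z, map_smul, Algebra.smul_def (R := A) (A := L), ← IsScalarTower.algebraMap_apply]
          rw [mul_div_assoc']
          rw [show (algebraMap A L) ((t : A) * s) * (b v : L) = algebraMap A L r * (algebraMap A L t * (integralClosure A L).val w) from this]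
          exact mul_div_cancel_left₀ _ hrL
        have hy : minpoly K (y : L) = (minpoly A (y : L)).map (algebraMap A K) :=
          minpoly.isIntegrallyClosed_eq_field_fractions' K y.2
        let P := Polynomial.scaleRoots (minpoly K (y : L)) c⁻¹
        have hPz : Polynomial.aeval z P = 0 := by
          have h7 : algebraMap K L c⁻¹ * (y : L) = z := by
            rw [← hzy, ← mul_assoc, ← map_mul, inv_mul_cancel₀ hc0, map_one, one_mul]
          have := Polynomial.scaleRoots_aeval_eq_zero (r := c⁻¹) (minpoly.aeval K (y : L))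
          rwa [h7] at this
        have hdeg : (minpoly K (y : L)).natDegree ≤ (minpoly K z).natDegree := by
          have h4 := Polynomial.scaleRoots_aeval_eq_zero (r := c) (minpoly.aeval K z)
          rw [hzy] at h4
          refine le_trans (Polynomial.natDegree_le_of_dvd (minpoly.dvd K _ h4) ?_) (Polynomial.natDegree_scaleRoots _ _).le
          exact Polynomial.scaleRoots_ne_zero (minpoly.ne_zero hzK) c
        have hP : minpoly K z = P := (Polynomial.eq_of_monic_of_dvd_of_natDegree_le (minpoly.monic hzK)
          ((Polynomial.monic_scaleRoots_iff _).mpr (minpoly.monic (IsIntegral.tower_top y.2))) (minpoly.dvd K _ hPz)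
          ((Polynomial.natDegree_scaleRoots _ _).le.trans hdeg)).symm
        let n := (minpoly K (y : L)).natDegree - i
        refine ⟨((t : A) * s) ^ n, fun h => (t * s).2 (‹q.IsPrime›.mem_of_pow_mem n h), (minpoly A (y : L)).coeff i, ?_⟩
        rw [hP, Polynomial.coeff_scaleRoots, hy, Polynomial.coeff_map, map_pow, ← hy]
        show c ^ n * (_ * c⁻¹ ^ n) = _
        rw [inv_pow, mul_left_comm, mul_inv_cancel₀ (pow_ne_zero _ hc0), mul_one]
    choose co hco using hcoef
    obtain ⟨Q, hQ, hdegQ, hQm⟩ := Polynomial.lifts_and_degree_eq_and_monic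
      ((Polynomial.lifts_iff_coeff_lifts _).mpr fun i => ⟨co i, hco i⟩) (minpoly.monic hzK)
    refine ⟨Q, hQm, ?_⟩
    have := minpoly.aeval K z
    rw [← hQ, Polynomial.aeval_map_algebraMap] at this
    exact this
  refine ⟨⟨z, hint⟩, ?_⟩
  refine LinearMap.ext fun φ => mul_left_cancel₀ hr ?_
  have h5 : r • (⟨z, hint⟩ : ↥(integralClosure A L)) = b v := Subtype.ext (by
    show r • z = (b v : L)
    rw [Algebra.smul_def]
    exact mul_div_cancel₀ _ hrL)
  have h6 := LinearMap.congr_fun hbv φ
  rw [Module.Dual.eval_apply, ← h5, map_smul, LinearMap.smul_apply, smul_eq_mul, smul_eq_mul] at h6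
  rw [Module.Dual.eval_apply, h6]

end Groth.Agent.H1CAlg
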