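import Groth.Agent.H1CAlg.DepthHom
import Groth.Agent.H4Depth.CM
import Mathlib.RingTheory.Ideal.AssociatedPrime.Localization
import Mathlib.RingTheory.KrullDimension.Zero

/-!
Associated primes and depth of localizations; the condition (S1).
-/

set_option autoImplicit false
universe u

open LocCoh IsLocalRing
open scoped Pointwise

namespace Groth.Agent.H1CAlg

section
variable {R : Type u} [CommRing R] [IsNoetherianRing R] {M : Type u} [AddCommGroup M] [Module R M]

theorem maximalIdeal_mem_associatedPrimes_localization_iff (p : Ideal R) [p.IsPrime] :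
    maximalIdeal (Localization.AtPrime p) ∈
      associatedPrimes (Localization.AtPrime p) (LocalizedModule p.primeCompl M) ↔ p ∈ associatedPrimes R M := by
  have h := Module.associatedPrimes.preimage_comap_associatedPrimes_eq_associatedPrimes_of_isLocalizedModule (R := R) (M := M)
    p.primeCompl (Localization.AtPrime p) (LocalizedModule.mkLinearMap p.primeCompl M)
  rw [← h, Set.mem_preimage]
  have : (maximalIdeal (Localization.AtPrime p)).comap (algebraMap R (Localization.AtPrime p)) = p :=
    Localization.AtPrime.under_maximalIdeal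
  rw [this]

theorem depth_localization_eq_zero_iff [Module.Finite R M] (p : Ideal R) [p.IsPrime]
    [Nontrivial (LocalizedModule p.primeCompl M)] :
    depth (Localization.AtPrime p) (LocalizedModule p.primeCompl M) = 0 ↔ p ∈ associatedPrimes R M := by
  rw [depth, H4Depth.idealDepth_eq_zero_iff_exists_associatedPrime H4Depth.maximalIdeal_smul_top_ne_top,
    ← maximalIdeal_mem_associatedPrimes_localization_iff (M := M) p]
  refine ⟨fun ⟨q, hq, hle⟩ => ?_, fun h => ⟨_, h, le_rfl⟩⟩
  rwa [le_antisymm hle (le_maximalIdeal hq.isPrime.ne_top)]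

variable [Module.Finite R M]

theorem mem_minimalPrimes_annihilator_iff {p : Ideal R} [p.IsPrime] :
    p ∈ (Module.annihilator R M).minimalPrimes ↔ (⟨p, ‹_›⟩ : PrimeSpectrum R) ∈ Module.support R M ∧
      ∀ q : PrimeSpectrum R, q ∈ Module.support R M → q.asIdeal ≤ p → q.asIdeal = p := by
  simp only [Module.mem_support_iff_of_finite]
  constructor
  · intro h
    exact ⟨h.1.2, fun q hq hqp => le_antisymm hqp (h.2 ⟨q.2, hq⟩ hqp)⟩
  · rintro ⟨h1, h2⟩
    exact ⟨⟨‹_›, h1⟩, fun q hq hqp => (h2 ⟨q, hq.1⟩ hq.2 hqp).ge⟩

theorem supportDim_localization_le_zero_iff {p : Ideal R} [p.IsPrime]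
    (hp : (⟨p, ‹_›⟩ : PrimeSpectrum R) ∈ Module.support R M) :
    Module.supportDim (Localization.AtPrime p) (LocalizedModule p.primeCompl M) ≤ 0 ↔
      p ∈ (Module.annihilator R M).minimalPrimes := by
  rw [mem_minimalPrimes_annihilator_iff, Module.supportDim, ← not_lt, Order.krullDim_pos_iff]
  push Not
  simp only [hp, true_and]
  constructor
  · intro h q hq hqp
    by_contra hne
    let o := IsLocalization.AtPrime.primeSpectrumOrderIso (Localization.AtPrime p) p
    let Q : PrimeSpectrum (Localization.AtPrime p) := o.symm ⟨q, hqp⟩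
    let Q' : PrimeSpectrum (Localization.AtPrime p) := o.symm ⟨⟨p, ‹_›⟩, show p ≤ p from le_rfl⟩
    have hmem : ∀ {P : PrimeSpectrum (Localization.AtPrime p)},
        (o P).1 ∈ Module.support R M → P ∈ Module.support _ (LocalizedModule p.primeCompl M) := fun {P} hP =>
      (H4Depth.mem_support_localizedModule_iff p.primeCompl _ (LocalizedModule.mkLinearMap _ M) P).mpr hP
    refine h ⟨Q, hmem (by simpa [Q] using hq)⟩ ⟨Q', hmem (by simpa [Q'] using hp)⟩ ?_
    show Q < Q'
    exact o.symm.lt_iff_lt.mpr (lt_of_le_of_ne hqp fun he => hne (congrArg (fun z => z.1.asIdeal) he))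
  · intro h a b hab
    let o := IsLocalization.AtPrime.primeSpectrumOrderIso (Localization.AtPrime p) p
    have hlt : (o a.1).1 < (o b.1).1 := o.lt_iff_lt.mpr hab
    have hmem := (H4Depth.mem_support_localizedModule_iff p.primeCompl _ (LocalizedModule.mkLinearMap _ M) a.1).mp a.2
    have heq := h _ hmem (o a.1).2
    exact absurd (o b.1).2 (fun hle => (lt_of_lt_of_le (show (o a.1).1.asIdeal < (o b.1).1.asIdeal from hlt) hle).ne heq)

theorem nontrivial_localizedModule {p : Ideal R} [p.IsPrime]
    (hp : (⟨p, ‹_›⟩ : PrimeSpectrum R) ∈ Module.support R M) : Nontrivial (LocalizedModule p.primeCompl M) :=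
  Module.mem_support_iff.mp hp

/-- `(S1)` says that there are no embedded primes. -/
theorem hasSk_one_iff :
    HasSk 1 R M ↔ ∀ p ∈ associatedPrimes R M, p ∈ (Module.annihilator R M).minimalPrimes := by
  constructor
  · intro h p hp
    haveI := hp.isPrime
    have hs : (⟨p, hp.isPrime⟩ : PrimeSpectrum R) ∈ Module.support R M :=
      H4Depth.mem_support_of_mem_associatedPrimes hp
    haveI := nontrivial_localizedModule hs
    have h1 := h p
    rw [(depth_localization_eq_zero_iff p).mpr hp] at h1
    rcases min_le_iff.mp h1 with h1 | h1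
    · norm_cast at h1
    · exact (supportDim_localization_le_zero_iff hs).mp h1
  · intro h p hp
    refine H4Depth.min_one_le_of p fun hd => ?_
    have hs : (⟨p, hp⟩ : PrimeSpectrum R) ∈ Module.support R M := by
      rw [Module.mem_support_iff]
      by_contra hn
      rw [not_nontrivial_iff_subsingleton] at hn
      rw [Module.supportDim_eq_bot_of_subsingleton] at hd
      simp at hd
    haveI := nontrivial_localizedModule hs
    refine Order.one_le_iff_pos.mpr (pos_iff_ne_zero.mpr fun h0 => ?_)
    exact absurd ((supportDim_localization_le_zero_iff hs).mpr (h p ((depth_localization_eq_zero_iff p).mp h0)))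
      (not_le.mpr (lt_of_lt_of_le zero_lt_one hd))

end

variable {R : Type u} [CommRing R] [IsNoetherianRing R]

/-- A map is bijective if at each prime it is so, or depth conditions hold. -/
theorem bijective_of_depth_two {M N : Type u} [AddCommGroup M] [Module R M] [Module.Finite R M]
    [AddCommGroup N] [Module R N] (φ : M →ₗ[R] N)
    (h : ∀ (p : Ideal R) [p.IsPrime],
      Function.Bijective (LocalizedModule.map p.primeCompl φ) ∨
        (2 ≤ depth (Localization.AtPrime p) (LocalizedModule p.primeCompl M) ∧ p ∉ associatedPrimes R N)) :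
    Function.Bijective φ := by
  have hinj : Function.Injective φ := by
    rw [← LinearMap.ker_eq_bot]
    by_contra hne
    haveI : Nontrivial (LinearMap.ker φ) := Submodule.nontrivial_iff_ne_bot.mpr hne
    obtain ⟨p, hp⟩ := associatedPrimes.nonempty R (LinearMap.ker φ)
    haveI := hp.isPrime
    rcases h p with hb | ⟨hd, -⟩
    · obtain ⟨-, x, hx⟩ := isAssociatedPrime_iff.mp hp
      have : LocalizedModule.mk (x : M) (1 : p.primeCompl) = 0 := by
        apply hb.1
        rw [LocalizedModule.map_mk, LinearMap.mem_ker.mp x.2, LocalizedModule.zero_mk, map_zero]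
      obtain ⟨s, hs⟩ := LocalizedModule.mk_eq.mp (this.trans (LocalizedModule.zero_mk 1).symm)
      refine s.2 ?_
      show (s : R) ∈ p
      refine hx.ge ?_
      rw [Submodule.mem_colon_singleton, Submodule.mem_bot]
      exact Subtype.ext (by simpa [Submonoid.smul_def] using hs)
    · have hpM : p ∈ associatedPrimes R M :=
        associatedPrimes.subset_of_injective (f := (LinearMap.ker φ).subtype) Subtype.val_injective hp
      haveI := nontrivial_localizedModule (H4Depth.mem_support_of_mem_associatedPrimes hpM)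
      rw [(depth_localization_eq_zero_iff p).mpr hpM] at hd
      simp at hd
  refine ⟨hinj, ?_⟩
  rw [← LinearMap.range_eq_top]
  by_contra hne
  haveI : Nontrivial (N ⧸ LinearMap.range φ) := Submodule.Quotient.nontrivial_iff.mpr hne
  obtain ⟨p, hp⟩ := associatedPrimes.nonempty R (N ⧸ LinearMap.range φ)
  haveI := hp.isPrime
  obtain ⟨-, c, hc⟩ := isAssociatedPrime_iff.mp hp
  obtain ⟨n, rfl⟩ := Submodule.mkQ_surjective _ c
  simp only [Submodule.mkQ_apply] at hc
  have hcolon : ∀ r : R, r ∈ p ↔ r • n ∈ LinearMap.range φ := fun r => by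
    rw [hc, Submodule.mem_colon_singleton, Submodule.mem_bot, ← Submodule.Quotient.mk_smul,
      Submodule.Quotient.mk_eq_zero]
  let ψ := LocalizedModule.map p.primeCompl φ
  let n' := LocalizedModule.mkLinearMap p.primeCompl N n
  have hn' : ∀ a, ψ a ≠ n' := by
    intro a ha
    induction a using LocalizedModule.induction_on with
    | _ m s =>
      simp only [ψ, n', LocalizedModule.map_mk, LocalizedModule.mkLinearMap_apply] at ha
      obtain ⟨t, ht⟩ := LocalizedModule.mk_eq.mp ha
      simp only [one_smul, Submonoid.smul_def, smul_smul] at ht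
      have hmem : ((t : R) * (s : R)) • n ∈ LinearMap.range φ := ⟨(t : R) • m, by rw [map_smul, ht]⟩
      exact (t * s).2 ((hcolon _).mpr hmem)
  rcases h p with hb | ⟨hd, hpN⟩
  · obtain ⟨a, ha⟩ := hb.2 n'
    exact hn' a ha
  let S := Localization.AtPrime p
  let Mp := LocalizedModule p.primeCompl M
  let Np := LocalizedModule p.primeCompl N
  have hψ : Function.Injective ψ := LocalizedModule.map_injective p.primeCompl φ hinj
  have hpre : ∀ z ∈ maximalIdeal S, ∃ a : Mp, ψ a = z • n' := by
    intro z hz
    obtain ⟨r, s, rfl⟩ := IsLocalization.exists_mk'_eq p.primeCompl z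
    obtain ⟨m, hm⟩ := (hcolon r).mp ((IsLocalization.AtPrime.mk'_mem_maximal_iff S p r s).mp hz)
    refine ⟨IsLocalization.mk' S 1 s • LocalizedModule.mkLinearMap p.primeCompl M m, ?_⟩
    rw [map_smul]
    simp only [ψ, n', LocalizedModule.mkLinearMap_apply, LocalizedModule.map_mk, hm, ← LocalizedModule.smul'_mk]
    rw [← algebraMap_smul S r, smul_smul, IsLocalization.mk'_eq_mul_mk'_one r s, mul_comm]
  have hMnt : maximalIdeal S • (⊤ : Submodule S Mp) ≠ ⊤ := by
    intro htop
    have hzero : Subsingleton Mp := by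
      by_contra hnt
      rw [not_subsingleton_iff_nontrivial] at hnt
      exact H4Depth.maximalIdeal_smul_top_ne_top htop
    obtain ⟨a, ha⟩ := hpre 0 (zero_mem _)
    -- with `M_p = 0`, the element `n'` is killed by the maximal ideal
    apply hpN
    rw [← maximalIdeal_mem_associatedPrimes_localization_iff (M := N) p]
    refine isAssociatedPrime_iff.mpr ⟨inferInstance, n', le_antisymm (fun z hz => ?_) (fun z hz => ?_)⟩
    · obtain ⟨b, hb⟩ := hpre z hz
      rw [Submodule.mem_colon_singleton, Submodule.mem_bot, ← hb, Subsingleton.elim b 0, map_zero]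
    · rw [mem_maximalIdeal, mem_nonunits_iff]
      intro hu
      rw [Submodule.mem_colon_singleton, Submodule.mem_bot, hu.smul_eq_zero] at hz
      exact hn' 0 (by rw [map_zero, hz])
  obtain ⟨rs, hlen, hmem, hreg⟩ := (H4Depth.le_idealDepth_iff_exists hMnt (n := 2)).mp hd
  obtain ⟨x, y, rfl⟩ : ∃ x y, rs = [x, y] := by
    match rs, hlen with
    | [x, y], _ => exact ⟨x, y, rfl⟩
  rw [RingTheory.Sequence.isWeaklyRegular_cons_iff, RingTheory.Sequence.isWeaklyRegular_cons_iff] at hreg
  obtain ⟨hx, hy, -⟩ := hreg
  obtain ⟨a, ha⟩ := hpre x (hmem x (by simp))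
  obtain ⟨b, hb⟩ := hpre y (hmem y (by simp))
  have hab : y • a = x • b := hψ (by rw [map_smul, map_smul, ha, hb, smul_comm])
  obtain ⟨a', -, ha'⟩ : a ∈ x • (⊤ : Submodule S Mp) := by
    rw [← Submodule.Quotient.mk_eq_zero]
    apply hy
    show y • Submodule.Quotient.mk a = y • (0 : QuotSMulTop x Mp)
    rw [smul_zero, ← Submodule.Quotient.mk_smul, hab, Submodule.Quotient.mk_eq_zero]
    exact Submodule.smul_mem_pointwise_smul _ _ ⊤ trivial
  apply hpN
  rw [← maximalIdeal_mem_associatedPrimes_localization_iff (M := N) p]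
  refine isAssociatedPrime_iff.mpr ⟨inferInstance, n' - ψ a', le_antisymm (fun z hz => ?_) (fun z hz => ?_)⟩
  · obtain ⟨c, hc'⟩ := hpre z hz
    rw [Submodule.mem_colon_singleton, Submodule.mem_bot]
    have h0 : z • (n' - ψ a') = ψ (c - z • a') := by rw [map_sub, map_smul, smul_sub, hc']
    have hxa : x • ψ a' = ψ a := by rw [← map_smul]; exact congrArg ψ ha'
    have hxc : x • (c - z • a') = 0 := hψ (by
      rw [map_smul, ← h0, map_zero, smul_comm, smul_sub, hxa, ha, sub_self, smul_zero])
    have : c - z • a' = 0 := hx (by simpa using hxc)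
    rw [h0, this, map_zero]
  · rw [mem_maximalIdeal, mem_nonunits_iff]
    intro hu
    rw [Submodule.mem_colon_singleton, Submodule.mem_bot, hu.smul_eq_zero, sub_eq_zero] at hz
    exact hn' a' hz.symm

end Groth.Agent.H1CAlg
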