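import Groth.Agent.H1CAlg.Reflexive
import Mathlib.LinearAlgebra.LinearIndependent.Lemmas
import Mathlib.LinearAlgebra.Dual.Lemmas
import Mathlib.Algebra.Module.Torsion.Basic

/-!
Finite torsion-free and reflexive modules over Noetherian domains.
-/

set_option autoImplicit false
universe u

namespace Groth.Agent.H1CAlg

variable {R : Type u} [CommRing R] [IsDomain R]

/-- A finite torsion-free module over a domain is, up to a nonzero scalar, a retract of a free one. -/
theorem exists_free_approx (Q : Type u) [AddCommGroup Q] [Module R Q] [Module.Finite R Q] [Module.IsTorsionFree R Q] :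
    ∃ (k : ℕ) (r : R) (a : Q →ₗ[R] (Fin k → R)) (b : (Fin k → R) →ₗ[R] Q), r ≠ 0 ∧ ∀ x, b (a x) = r • x := by
  classical
  obtain ⟨n, p, hp⟩ := Module.Finite.exists_fin' R Q
  let g : Fin n → Q := fun i => p (Pi.single i 1)
  obtain ⟨s, hs, hmax⟩ := exists_maximal_linearIndepOn R g
  choose c hc hc' using hmax
  let r : R := ∏ i, if h : i ∈ s then 1 else c i h
  have hr : r ≠ 0 := Finset.prod_ne_zero_iff.mpr fun i _ => by
    split_ifs with h
    · exact one_ne_zero
    · exact hc i h
  have hmem : ∀ x, r • x ∈ Submodule.span R (g '' s) := by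
    intro x
    obtain ⟨v, rfl⟩ := hp x
    rw [pi_eq_sum_univ' v, map_sum, Finset.smul_sum]
    refine Submodule.sum_mem _ fun i _ => ?_
    rw [map_smul, smul_comm]
    refine Submodule.smul_mem _ _ ?_
    by_cases h : i ∈ s
    · exact Submodule.smul_mem _ _ (Submodule.subset_span ⟨i, h, rfl⟩)
    · show r • g i ∈ _
      simp only [r, ← Finset.prod_erase_mul _ _ (Finset.mem_univ i), dif_neg h, mul_smul]
      exact Submodule.smul_mem _ _ (hc' i h)
  haveI : Fintype s := Fintype.ofFinite _
  let e : Fin (Fintype.card s) ≃ s := (Fintype.equivFin s).symm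
  let v : Fin (Fintype.card s) → Q := fun i => g (e i)
  have hli : LinearIndependent R v := hs.linearIndependent.comp _ e.injective
  have hspan : Submodule.span R (Set.range v) = Submodule.span R (g '' s) := by
    congr 1
    ext x
    constructor
    · rintro ⟨i, rfl⟩; exact ⟨_, (e i).2, rfl⟩
    · rintro ⟨i, hi, rfl⟩; exact ⟨e.symm ⟨i, hi⟩, by simp [v]⟩
  let b : (Fin (Fintype.card s) → R) →ₗ[R] Q := Fintype.linearCombination R v
  have hb : Function.Injective b := hli.fintypeLinearCombination_injective
  have hrange : ∀ x, r • x ∈ LinearMap.range b := fun x => by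
    rw [Fintype.range_linearCombination, hspan]
    exact hmem x
  let a : Q →ₗ[R] (Fin (Fintype.card s) → R) :=
    (LinearEquiv.ofInjective b hb).symm.toLinearMap ∘ₗ (r • LinearMap.id : Q →ₗ[R] Q).codRestrict _ hrange
  refine ⟨_, r, a, b, hr, fun x => ?_⟩
  have := (LinearEquiv.ofInjective b hb).apply_symm_apply ((r • LinearMap.id : Q →ₗ[R] Q).codRestrict _ hrange x)
  exact congrArg Subtype.val this

theorem injective_eval_of_isTorsionFree (Q : Type u) [AddCommGroup Q] [Module R Q] [Module.Finite R Q]
    [Module.IsTorsionFree R Q] : Function.Injective (Module.Dual.eval R Q) := by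
  obtain ⟨k, r, a, b, hr, hab⟩ := exists_free_approx (R := R) Q
  rw [injective_iff_map_eq_zero]
  intro x hx
  have : a x = 0 := funext fun i => LinearMap.congr_fun hx ((LinearMap.proj i : (Fin k → R) →ₗ[R] R) ∘ₗ a)
  have h2 := hab x
  rw [this, map_zero] at h2
  exact (smul_eq_zero.mp h2.symm).resolve_left hr

variable {M M' M'' : Type u} [AddCommGroup M] [Module R M]
  [AddCommGroup M'] [Module R M'] [Module.Finite R M'] [AddCommGroup M''] [Module R M''] [Module.Finite R M'']

/-- The kernel of a map from a reflexive module to a torsion-free one is reflexive. -/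
theorem isReflexive_of_exact (f : M →ₗ[R] M') (g : M' →ₗ[R] M'') (hf : Function.Injective f)
    (hfg : Function.Exact f g) [Module.IsReflexive R M'] [Module.IsTorsionFree R M''] : Module.IsReflexive R M := by
  have hinj : Function.Injective (Module.Dual.eval R M) := by
    rw [injective_iff_map_eq_zero]
    intro x hx
    apply hf
    rw [map_zero]
    apply (Module.bijective_dual_eval R M').1
    rw [map_zero]
    exact LinearMap.ext fun φ => LinearMap.congr_fun hx (φ ∘ₗ f)
  refine ⟨hinj, fun ξ => ?_⟩
  obtain ⟨y, hy⟩ := (Module.bijective_dual_eval R M').2 (f.dualMap.dualMap ξ)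
  have hgy : g y = 0 := by
    apply injective_eval_of_isTorsionFree (R := R) M''
    rw [map_zero]
    refine LinearMap.ext fun φ => ?_
    have := LinearMap.congr_fun hy (φ ∘ₗ g)
    simp only [Module.Dual.eval_apply, LinearMap.comp_apply, LinearMap.dualMap_apply] at this
    rw [Module.Dual.eval_apply, this, LinearMap.zero_apply]
    have h0 : f.dualMap (φ ∘ₗ g) = 0 := LinearMap.ext fun z => by simp [hfg.apply_apply_eq_zero]
    rw [h0, map_zero]
  obtain ⟨m, rfl⟩ := (hfg y).mp hgy
  refine ⟨m, LinearMap.ext fun φ => ?_⟩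
  -- up to a nonzero scalar `φ` extends to `M'`
  haveI : Module.IsTorsionFree R (LinearMap.range g) :=
    Function.Injective.moduleIsTorsionFree _ Subtype.val_injective fun _ _ => rfl
  haveI : Module.Finite R (LinearMap.range g) := Module.Finite.range g
  obtain ⟨k, r, a, b, hr, hab⟩ := exists_free_approx (R := R) (LinearMap.range g)
  choose w hw using fun i : Fin k => g.surjective_rangeRestrict (b (Pi.single i 1))
  let σ : (Fin k → R) →ₗ[R] M' := Fintype.linearCombination R w
  have hσ : g.rangeRestrict ∘ₗ σ = b := LinearMap.pi_ext' fun i => LinearMap.ext_ring (by show g.rangeRestrict (σ (Pi.single i 1)) = b (Pi.single i 1); simp [σ, ← hw])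
  let τ : M' →ₗ[R] M' := r • LinearMap.id - σ ∘ₗ a ∘ₗ g.rangeRestrict
  have hτ : ∀ z, τ z ∈ LinearMap.range f := fun z => by
    refine (hfg _).mp ?_
    have h1 : g.rangeRestrict (τ z) = 0 := by
      simp only [τ, LinearMap.sub_apply, LinearMap.smul_apply, LinearMap.id_apply, LinearMap.comp_apply, map_sub,
        map_smul]
      rw [← LinearMap.comp_apply (f := g.rangeRestrict), hσ, hab, sub_self]
    exact congrArg Subtype.val h1
  let ρ : M' →ₗ[R] M := (LinearEquiv.ofInjective f hf).symm.toLinearMap ∘ₗ τ.codRestrict _ hτ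
  have hρ : ∀ x, ρ (f x) = r • x := fun x => by
    apply (LinearEquiv.ofInjective f hf).injective
    simp only [ρ, LinearMap.comp_apply, LinearEquiv.coe_coe, LinearEquiv.apply_symm_apply]
    refine Subtype.ext ?_
    have hgf : g.rangeRestrict (f x) = 0 := Subtype.ext (hfg.apply_apply_eq_zero x)
    simp [τ, hgf]
  have h1 : f.dualMap (φ ∘ₗ ρ) = r • φ := LinearMap.ext fun x => by simp [hρ]
  have h2 := LinearMap.congr_fun hy (φ ∘ₗ ρ)
  simp only [Module.Dual.eval_apply, LinearMap.comp_apply, LinearMap.dualMap_apply, hρ, map_smul] at h2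
  rw [h1, map_smul, smul_eq_mul, smul_eq_mul] at h2
  rw [Module.Dual.eval_apply]
  exact mul_left_cancel₀ hr h2

omit [IsDomain R] in
theorem isReflexive_pi_fin (N : Type u) [AddCommGroup N] [Module R N] [Module.IsReflexive R N] :
    ∀ n : ℕ, Module.IsReflexive R (Fin n → N)
  | 0 => inferInstance
  | n + 1 => by
    haveI := isReflexive_pi_fin N n
    exact Module.equiv (Fin.consLinearEquiv R fun _ : Fin (n + 1) => N)

theorem isReflexive_hom [IsNoetherianRing R] (M N : Type u) [AddCommGroup M] [Module R M] [Module.Finite R M]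
    [AddCommGroup N] [Module R N] [Module.Finite R N] [Module.IsReflexive R N] :
    Module.IsReflexive R (M →ₗ[R] N) := by
  obtain ⟨n, m, f, g, hf, hfg⟩ := exists_hom_presentation (R := R) (N := N) M
  haveI := isReflexive_pi_fin (R := R) N n
  haveI := isReflexive_pi_fin (R := R) N (m + 1)
  exact isReflexive_of_exact f g hf hfg

theorem isReflexive_iff_exists_torsionFree_coker [IsNoetherianRing R] (M : Type u) [AddCommGroup M] [Module R M]
    [Module.Finite R M] :
    Module.IsReflexive R M ↔ ∃ (n : ℕ) (f : M →ₗ[R] (Fin n → R)), Function.Injective f ∧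
      Module.IsTorsionFree R ((Fin n → R) ⧸ LinearMap.range f) := by
  constructor
  · intro h
    obtain ⟨k, m₀, f₀, g₀, hf₀, -⟩ := H4Depth.exists_dual_presentation (R := R) M
    haveI : Module.Finite R (Module.Dual R M) := Module.Finite.of_injective f₀ hf₀
    obtain ⟨n, m, f, g, hf, hfg⟩ := H4Depth.exists_dual_presentation (R := R) (Module.Dual R M)
    let f' := f ∘ₗ (Module.evalEquiv R M).toLinearMap
    refine ⟨n, f', hf.comp (Module.evalEquiv R M).injective, ?_⟩
    have hker : LinearMap.range f' = LinearMap.ker g := by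
      rw [LinearMap.range_comp, LinearEquiv.range, Submodule.map_top, LinearMap.exact_iff.mp hfg]
    refine Function.Injective.moduleIsTorsionFree (R := R)
      ((LinearMap.range f').liftQ g hker.le) ?_ (map_smul _)
    exact LinearMap.ker_eq_bot.mp (Submodule.ker_liftQ_eq_bot _ _ _ hker.ge)
  · rintro ⟨n, f, hf, htf⟩
    exact isReflexive_of_exact f _ hf (LinearMap.exact_map_mkQ_range f)

end Groth.Agent.H1CAlg
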