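import Mathlib.CategoryTheory.Monoidal.Tor
import Mathlib.RingTheory.Flat.CategoryTheory
import Mathlib.Algebra.Category.ModuleCat.Monoidal.Basic
import Mathlib.Algebra.Category.ModuleCat.Projective
import Mathlib.Algebra.Category.ModuleCat.Abelian
import Mathlib.Algebra.Homology.ExactSequence

/-! Mathlib's `Tor` vanishes on flat modules. -/

set_option autoImplicit false
universe u
open CategoryTheory Limits MonoidalCategory

namespace Groth.Agent.H1CAlg

variable {R : Type u} [CommRing R]

theorem isZero_Tor_of_flat (M : ModuleCat.{u} R) [Module.Flat R M] (N : ModuleCat.{u} R) (i : ℕ) :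
    IsZero (((Tor (ModuleCat.{u} R) (i + 1)).obj M).obj N) := by
  let P := projectiveResolution N
  refine IsZero.of_iso ?_ (P.isoLeftDerivedObj ((tensoringLeft (ModuleCat.{u} R)).obj M) (i + 1))
  refine (HomologicalComplex.exactAt_iff_isZero_homology _ _).mp ?_
  rw [HomologicalComplex.exactAt_iff' _ (i + 2) (i + 1) i (by simp) (by simp)]
  exact Module.Flat.lTensor_shortComplex_exact M _
    ((P.complex.exactAt_iff' (i + 2) (i + 1) i (by simp) (by simp)).mp (P.complex_exactAt_succ i))

end Groth.Agent.H1CAlg
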