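import Mathlib.RingTheory.Length
import Mathlib.RingTheory.SimpleModule.Basic
import Mathlib.RingTheory.Localization.AtPrime.Basic
import Mathlib.Algebra.Module.LocalizedModule.Exact

/-! Localizations of simple modules. -/

set_option autoImplicit false
universe u

namespace Groth.Agent.H1CAlg

/-- If a maximal ideal `m'` kills `Q ≃ simple`, then the length of `Q_m` is `1` if `m = m'` and `0` otherwise. -/
theorem length_localized_simple {R : Type u} [CommRing R] (m : Ideal R) [m.IsMaximal] (Q : Type u) [AddCommGroup Q]
    [Module R Q] [IsSimpleModule R Q] (m' : Ideal R) (hm' : m'.IsMaximal)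
    (hkill : ∀ r ∈ m', ∀ y : Q, r • y = 0) [Decidable (m' = m)] :
    Module.length (Localization.AtPrime m) (LocalizedModule m.primeCompl Q) = if m' = m then 1 else 0 := by
  classical
  split_ifs with hmm
  · have hinv : ∀ t : m.primeCompl, ∃ u : R, ∀ y : Q, (u * t) • y = y := by
      intro t
      obtain ⟨u, i, hi, hui⟩ := hm'.exists_inv (hmm ▸ t.2 : (t : R) ∉ m')
      refine ⟨u, fun y => ?_⟩
      conv_rhs => rw [← one_smul R y, ← hui, add_smul, hkill i hi y, add_zero]
    have hbij : Function.Bijective (LocalizedModule.mkLinearMap m.primeCompl Q) := by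
      refine ⟨(injective_iff_map_eq_zero _).mpr fun y hy => ?_, fun z => ?_⟩
      · obtain ⟨t, ht⟩ := (IsLocalizedModule.eq_zero_iff m.primeCompl _).mp hy
        obtain ⟨u, hu⟩ := hinv t
        rw [← hu y, mul_smul, ← Submonoid.smul_def, ht, smul_zero]
      · induction z using LocalizedModule.induction_on with
        | h y t =>
          obtain ⟨u, hu⟩ := hinv t
          refine ⟨u • y, ?_⟩
          rw [LocalizedModule.mkLinearMap_apply, LocalizedModule.mk_eq]
          exact ⟨1, by rw [one_smul, one_smul, one_smul, Submonoid.smul_def, smul_smul, mul_comm, hu]⟩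
    let eR := LinearEquiv.ofBijective _ hbij
    haveI := IsSimpleModule.nontrivial R Q
    haveI : Nontrivial (LocalizedModule m.primeCompl Q) := eR.symm.toEquiv.nontrivial
    refine le_antisymm ?_ (Order.one_le_iff_pos.mpr Module.length_pos)
    calc Module.length (Localization.AtPrime m) (LocalizedModule m.primeCompl Q)
        = Module.length (Localization.AtPrime m)
            (⊤ : Submodule (Localization.AtPrime m) (LocalizedModule m.primeCompl Q)) := Submodule.topEquiv.length_eq.symm
      _ ≤ Module.length R ((⊤ : Submodule (Localization.AtPrime m) (LocalizedModule m.primeCompl Q)).restrictScalars R) :=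
          Submodule.length_le_length_restrictScalars R _
      _ = Module.length R Q := by
          rw [Submodule.restrictScalars_top]
          exact (Submodule.topEquiv.trans eR.symm).length_eq
      _ = 1 := Module.length_eq_one R Q
  · rw [Module.length_eq_zero_iff, LocalizedModule.subsingleton_iff]
    intro y
    obtain ⟨r, hr, hr'⟩ := Set.not_subset.mp
      (fun hle : (m' : Set R) ⊆ m => hmm (hm'.eq_of_le Ideal.IsPrime.ne_top' hle))
    exact ⟨r, hr', hkill r hr y⟩

end Groth.Agent.H1CAlg
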