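import Groth.Agent.H02CA.FieldJapanese
import Groth.Agent.H02CA.N2
import Mathlib.RingTheory.Polynomial.IsIntegral

/-!
# Polynomial rings over Japanese domains
-/

set_option autoImplicit false
set_option linter.style.haveILetI false

universe u

open Polynomial

namespace Groth.Agent.H1CAlg

/-- A polynomial with `Q`-th roots of all coefficients becomes a `Q`-th power after `X ↦ X ^ Q`. -/
theorem exists_pow_eq_expand_poly {R R' : Type u} [CommRing R] [CommRing R'] (f : R →+* R') (q N : ℕ) [ExpChar R' q]
    (p : Polynomial R) (h : ∀ e, ∃ r : R', r ^ q ^ N = f (p.coeff e)) :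
    ∃ z : Polynomial R', z ^ q ^ N = expand R' (q ^ N) (p.map f) := by
  classical
  haveI : ExpChar (Polynomial R') q := expChar_of_injective_ringHom Polynomial.C_injective q
  choose r hr using h
  refine ⟨∑ e ∈ p.support, monomial e (r e), ?_⟩
  rw [sum_pow_char_pow]
  conv_rhs => rw [p.as_sum_support, Polynomial.map_sum, map_sum]
  refine Finset.sum_congr rfl fun e _ => ?_
  rw [monomial_pow, hr e, map_monomial, expand_monomial]

set_option maxHeartbeats 1000000 in
set_option synthInstance.maxHeartbeats 100000 in
theorem finite_integralClosure_polynomial_of_roots {R : Type u} [CommRing R] [IsDomain R] [IsNoetherianRing R]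
    (k' : Type u) [Field k'] [Algebra R k'] [Algebra (FractionRing R) k'] [IsScalarTower R (FractionRing R) k']
    [FiniteDimensional (FractionRing R) k'] [Module.Finite R (integralClosure R k')]
    {L : Type u} [Field L] [Algebra (Polynomial R) L] [Algebra (FractionRing (Polynomial R)) L]
    [IsScalarTower (Polynomial R) (FractionRing (Polynomial R)) L] {ι : Type} [Finite ι]
    (b : Module.Basis ι (FractionRing (Polynomial R)) L) (q N : ℕ) [ExpChar k' q]
    (hN : ∀ i, IsSeparable (FractionRing (Polynomial R)) (b i ^ q ^ N))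
    (hroot : ∀ i n, ∃ (pn pd : Polynomial R), pd ≠ 0 ∧
      (minpoly (FractionRing (Polynomial R)) (b i ^ q ^ N)).coeff n * algebraMap _ _ pd = algebraMap _ _ pn ∧
      (∀ e, ∃ r : k', r ^ q ^ N = algebraMap R k' (pn.coeff e)) ∧
      (∀ e, ∃ r : k', r ^ q ^ N = algebraMap R k' (pd.coeff e))) :
    Module.Finite (Polynomial R) (integralClosure (Polynomial R) L) := by
  classical
  let R' := integralClosure R k'
  let P := Polynomial R
  let K := FractionRing P
  have hQ : 0 < q ^ N := pow_pos (expChar_pos k' q) N
  haveI : IsIntegrallyClosed R' := integralClosure.isIntegrallyClosedOfFiniteExtension (FractionRing R)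
  haveI : IsNoetherianRing R' := IsNoetherianRing.of_finite R R'
  haveI : ExpChar R' q := RingHom.expChar (algebraMap R' k') Subtype.val_injective q
  have hroots : ∀ p : P, (∀ e, ∃ r : k', r ^ q ^ N = algebraMap R k' (p.coeff e)) →
      ∃ z : Polynomial R', z ^ q ^ N = expand R' (q ^ N) (p.map (algebraMap R R')) := fun p hp =>
    exists_pow_eq_expand_poly _ q N p fun e => by
      obtain ⟨r, hr⟩ := hp e
      exact ⟨⟨r, IsIntegral.of_pow hQ (hr ▸ isIntegral_algebraMap)⟩, Subtype.ext hr⟩
  let P' := Polynomial R'
  let φ : P →+* P' :=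
    (expand R' (q ^ N) : P' →ₐ[R'] P').toRingHom.comp (Polynomial.mapRingHom (algebraMap R R'))
  have hinjR : Function.Injective (algebraMap R R') := fun u v huv => by
    have h : algebraMap R k' u = algebraMap R k' v := congrArg Subtype.val huv
    rw [IsScalarTower.algebraMap_apply R (FractionRing R) k', IsScalarTower.algebraMap_apply R (FractionRing R) k'] at h
    exact IsFractionRing.injective R (FractionRing R) ((algebraMap (FractionRing R) k').injective h)
  have hφ : Function.Injective φ := (Polynomial.expand_injective hQ).comp (Polynomial.map_injective _ hinjR)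
  letI : Algebra P P' := φ.toAlgebra
  haveI : IsScalarTower R P P' := IsScalarTower.of_algebraMap_eq fun a => by
    change C (algebraMap R R' a) = expand R' (q ^ N) ((C a).map (algebraMap R R'))
    rw [map_C, expand_C]
  haveI : Algebra.FiniteType R P' := Algebra.FiniteType.trans (S := R') inferInstance inferInstance
  haveI : Algebra.FiniteType P P' := Algebra.FiniteType.of_restrictScalars_finiteType R P P'
  haveI : Algebra.IsIntegral P P' := by
    refine ⟨fun p => ?_⟩
    induction p using Polynomial.induction_on' with
    | add p p' hp hp' => exact hp.add hp'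
    | monomial n a =>
      rw [← C_mul_X_pow_eq_monomial]
      refine IsIntegral.mul ?_ ((IsIntegral.of_pow hQ ?_).pow n)
      · exact ((Algebra.IsIntegral.isIntegral (R := R) a).map (IsScalarTower.toAlgHom R R' P')).tower_top
      · rw [show (X : P') ^ q ^ N = algebraMap P P' X by
          change _ = expand R' (q ^ N) (Polynomial.map (algebraMap R R') X)
          rw [map_X, expand_X]]
        exact isIntegral_algebraMap
  haveI : Module.Finite P P' := Algebra.IsIntegral.finite
  let F := FractionRing P'
  have hPF : Function.Injective (algebraMap P F) := by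
    rw [IsScalarTower.algebraMap_eq P P' F]
    exact (IsFractionRing.injective P' F).comp hφ
  letI : Algebra K F :=
    (IsFractionRing.lift (A := P) (K := K) (g := algebraMap P F) hPF).toAlgebra
  haveI : IsScalarTower P K F := IsScalarTower.of_algebraMap_eq fun p => by
    rw [RingHom.algebraMap_toAlgebra (IsFractionRing.lift (A := P) (K := K) (g := algebraMap P F) hPF),
      IsFractionRing.lift_algebraMap]
  haveI : ExpChar F q := expChar_of_injective_ringHom
    (f := (algebraMap P' F).comp C) ((IsFractionRing.injective P' F).comp C_injective) q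
  refine H02CA.finite_integralClosure_of_roots (P' := P') (F := F) b q N hN fun i n => ?_
  obtain ⟨pn, pd, hpd, heq, hn, hd⟩ := hroot i n
  obtain ⟨zn, hzn⟩ := hroots pn hn
  obtain ⟨zd, hzd⟩ := hroots pd hd
  have hd0 : algebraMap P F pd ≠ 0 := (map_ne_zero_iff _ hPF).mpr hpd
  refine ⟨algebraMap P' F zn / algebraMap P' F zd, ?_⟩
  have hφ' : ∀ p, algebraMap P' F (φ p) = algebraMap P F p := fun p =>
    (IsScalarTower.algebraMap_apply P P' F p).symm
  have hφe : ∀ p : P, expand R' (q ^ N) (p.map (algebraMap R R')) = φ p := fun _ => rfl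
  rw [div_pow, ← map_pow, ← map_pow, hzn, hzd, hφe, hφe, hφ', hφ', eq_comm, eq_div_iff hd0]
  have h1 := congrArg (algebraMap K F) heq
  rw [map_mul, ← IsScalarTower.algebraMap_apply, ← IsScalarTower.algebraMap_apply] at h1
  exact h1

theorem polynomial_isN1 {R : Type u} [CommRing R] [IsDomain R] [IsNoetherianRing R] (h : CAlg.IsN1 R) :
    CAlg.IsN1 (Polynomial R) := by
  haveI : Module.Finite R (integralClosure R (FractionRing R)) := h
  let q := ringExpChar (FractionRing R)
  let K := FractionRing (Polynomial R)
  refine finite_integralClosure_polynomial_of_roots (FractionRing R) (L := K)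
    (Module.Basis.singleton Unit K) q 0 (fun i => ?_) fun i n => ?_
  · simpa using isSeparable_algebraMap (F := K) (K := K) (1 : K)
  · obtain ⟨⟨pn, pd⟩, hp⟩ := IsLocalization.surj (nonZeroDivisors (Polynomial R))
      ((minpoly K (Module.Basis.singleton Unit K i ^ q ^ 0)).coeff n)
    exact ⟨pn, pd, nonZeroDivisors.ne_zero pd.2, hp, fun e => ⟨_, by rw [pow_zero, pow_one]⟩,
      fun e => ⟨_, by rw [pow_zero, pow_one]⟩⟩

theorem polynomial_isN2 {R : Type u} [CommRing R] [IsDomain R] [IsNoetherianRing R] (h : CAlg.IsN2 R) :
    CAlg.IsN2 (Polynomial R) := by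
  classical
  intro L _ _ _ _ hfin
  let P := Polynomial R
  let K := FractionRing P
  haveI : FiniteDimensional K L := hfin
  let k := FractionRing R
  let q := ringExpChar k
  haveI : ExpChar R q := RingHom.expChar (algebraMap R k) (IsFractionRing.injective R k) q
  haveI : ExpChar K q := expChar_of_injective_ringHom
    (f := ((algebraMap P K).comp Polynomial.C))
    ((IsFractionRing.injective P K).comp Polynomial.C_injective) q
  let b := Module.finBasis K L
  have hex : ∀ i, ∃ m, IsSeparable K (b i ^ q ^ m) := fun i => by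
    obtain ⟨g, hg, m, hm⟩ := Irreducible.hasSeparableContraction q
      (minpoly.irreducible (IsIntegral.of_finite K (b i)))
    refine ⟨m, hg.of_dvd (minpoly.dvd K _ ?_)⟩
    rw [← Polynomial.expand_aeval, hm, minpoly.aeval]
  choose m hm using hex
  let N := Finset.univ.sup m
  have hN : ∀ i, IsSeparable K (b i ^ q ^ N) := fun i => by
    have hle : m i ≤ N := Finset.le_sup (Finset.mem_univ i)
    rw [← Nat.add_sub_cancel' hle, pow_add, pow_mul]
    exact mem_separableClosure_iff.mp (pow_mem (mem_separableClosure_iff.mpr (hm i)) _)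
  have hQ : 0 < q ^ N := pow_pos (expChar_pos k q) N
  choose nd hnd using fun c : K => IsLocalization.surj (nonZeroDivisors P) c
  let cs : Finset K := Finset.univ.biUnion fun i => (minpoly K (b i ^ q ^ N)).coeffs
  let T : Finset R := cs.biUnion fun c =>
    ((nd c).1.support.image fun e => (nd c).1.coeff e) ∪ ((nd c).2.1.support.image fun e => (nd c).2.1.coeff e)
  choose r hr using fun t : R =>
    IsAlgClosed.exists_pow_nat_eq (algebraMap R (AlgebraicClosure k) t) hQ
  let k' : IntermediateField k (AlgebraicClosure k) := IntermediateField.adjoin k ↑(T.image r)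
  haveI : Module.Finite k k' :=
    IntermediateField.finiteDimensional_adjoin fun x _ => Algebra.IsIntegral.isIntegral x
  haveI : ExpChar k' q := expChar_of_injective_ringHom (algebraMap k k').injective q
  haveI : Module.Finite R (integralClosure R k') := h k' inferInstance
  have hroot : ∀ t ∈ T, ∃ x : k', x ^ q ^ N = algebraMap R k' t := fun t ht =>
    ⟨⟨r t, IntermediateField.subset_adjoin k _
      (Finset.mem_coe.mpr (Finset.mem_image_of_mem r ht))⟩, Subtype.ext (hr t)⟩
  refine finite_integralClosure_polynomial_of_roots k' b q N hN fun i n => ?_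
  by_cases hn : (minpoly K (b i ^ q ^ N)).coeff n = 0
  · refine ⟨0, 1, one_ne_zero, by rw [hn, zero_mul, map_zero], fun e => ⟨0, by simp [zero_pow hQ.ne']⟩, fun e => ?_⟩
    rcases eq_or_ne e 0 with rfl | he
    · exact ⟨1, by simp⟩
    · exact ⟨0, by simp [Polynomial.coeff_one, he, zero_pow hQ.ne']⟩
  have hc : (minpoly K (b i ^ q ^ N)).coeff n ∈ cs := Finset.mem_biUnion.mpr
    ⟨i, Finset.mem_univ i, Polynomial.coeff_mem_coeffs hn⟩
  refine ⟨_, _, nonZeroDivisors.ne_zero (nd _).2.2, hnd _, fun e => ?_, fun e => ?_⟩
  · by_cases he : (nd ((minpoly K (b i ^ q ^ N)).coeff n)).1.coeff e = 0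
    · exact ⟨0, by rw [he, map_zero, zero_pow hQ.ne']⟩
    · exact hroot _ (Finset.mem_biUnion.mpr ⟨_, hc, Finset.mem_union_left _
        (Finset.mem_image.mpr ⟨e, Polynomial.mem_support_iff.mpr he, rfl⟩)⟩)
  · by_cases he : (nd ((minpoly K (b i ^ q ^ N)).coeff n)).2.1.coeff e = 0
    · exact ⟨0, by rw [he, map_zero, zero_pow hQ.ne']⟩
    · exact hroot _ (Finset.mem_biUnion.mpr ⟨_, hc, Finset.mem_union_right _
        (Finset.mem_image.mpr ⟨e, Polynomial.mem_support_iff.mpr he, rfl⟩)⟩)

end Groth.Agent.H1CAlg
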