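import Groth.Agent.H05EGA4.NorLocus
import Groth.Agent.H05EGA4.FiniteNormalization
import Groth.Agent.H02CA.N2
import Mathlib.RingTheory.LocalProperties.IntegrallyClosed

/-!
# N-1 domains: localisation statements
-/

set_option autoImplicit false

universe u

namespace Groth.Agent.H1CAlg

variable {R : Type u} [CommRing R] [IsDomain R]

/-- A finite integral closure of a localisation gives a finite localised integral closure. -/
theorem finite_localized_integralClosure (M : Submonoid R) (hM : M ≤ nonZeroDivisors R) (S : Type u) [CommRing S]
    [Algebra R S] [IsLocalization M S] (K : Type u) [Field K] [Algebra R K] [Algebra S K] [IsScalarTower R S K]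
    (h : Module.Finite S (integralClosure S K)) :
    Module.Finite (Localization M) (LocalizedModule M (integralClosure R K)) := by
  let C := integralClosure R K
  let C' := integralClosure S K
  let ι : C →ₗ[R] C' :=
    { toFun := fun x => ⟨x.1, x.2.tower_top⟩
      map_add' := fun _ _ => rfl
      map_smul' := fun _ _ => rfl }
  haveI : IsLocalizedModule M ι := by
    refine ⟨fun t => ?_, fun y => ?_, fun {x y} hxy => ⟨1, by
      rw [one_smul, one_smul]
      exact Subtype.ext (congrArg (fun z : C' => (z : K)) hxy)⟩⟩
    · rw [Module.End.isUnit_iff]
      obtain ⟨v, hv⟩ := IsLocalization.map_units S t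
      have hv' : ∀ y : C', (t : R) • y = (v : S) • y := fun y => by rw [hv, algebraMap_smul]
      refine ⟨fun a b hab => ?_, fun a => ⟨(↑v⁻¹ : S) • a, ?_⟩⟩
      · have h2 := congrArg (fun z => (↑v⁻¹ : S) • z) ((hv' a).symm.trans (hab.trans (hv' b)))
        simpa [smul_smul] using h2
      · show (t : R) • ((↑v⁻¹ : S) • a) = a
        rw [hv', smul_smul, Units.mul_inv, one_smul]
    · obtain ⟨t, ht⟩ := IsIntegral.exists_multiple_integral_of_isLocalization M (y : K) y.2
      exact ⟨⟨⟨_, ht⟩, t⟩, rfl⟩
  -- transport along `Localization M ≅ S`
  let e : Localization M ≃ₐ[R] S := IsLocalization.algEquiv M _ _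
  letI : Algebra (Localization M) S := e.toRingEquiv.toRingHom.toAlgebra
  letI : Module (Localization M) C' := Module.compHom C' (algebraMap (Localization M) S)
  haveI : IsScalarTower (Localization M) S C' := ⟨fun a b c => by
    show (algebraMap (Localization M) S a * b) • c = algebraMap (Localization M) S a • (b • c)
    rw [mul_smul]⟩
  haveI : Module.Finite (Localization M) S := Module.Finite.of_surjective (Algebra.linearMap _ S) e.surjective
  haveI := h
  haveI : Module.Finite (Localization M) C' := Module.Finite.trans S C'
  haveI : IsScalarTower R (Localization M) C' := ⟨fun r a y => by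
    show algebraMap (Localization M) S (r • a) • y = r • (algebraMap (Localization M) S a • y)
    rw [show algebraMap (Localization M) S (r • a) = r • algebraMap (Localization M) S a from map_smul e r a,
      smul_assoc]⟩
  exact Module.Finite.equiv (LinearEquiv.extendScalarsOfIsLocalization M (Localization M)
    (IsLocalizedModule.iso M ι).symm)

/-- Normality at all primes avoiding `c` makes `R[1/c]` normal. -/
theorem isIntegrallyClosed_away {c : R} (hc : c ≠ 0)
    (h : ∀ (Q : Ideal R) [Q.IsPrime], c ∉ Q → IsIntegrallyClosed (Localization.AtPrime Q)) :
    IsIntegrallyClosed (Localization.Away c) := by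
  haveI : IsDomain (Localization.Away c) :=
    IsLocalization.isDomain_localization (powers_le_nonZeroDivisors_of_noZeroDivisors hc)
  refine IsIntegrallyClosed.of_localization_maximal fun P _ hP => ?_
  let Q := P.comap (algebraMap R (Localization.Away c))
  haveI : IsIntegrallyClosed (Localization.AtPrime Q) := h Q fun hcQ =>
    hP.ne_top (Ideal.eq_top_of_isUnit_mem P hcQ (IsLocalization.Away.algebraMap_isUnit c))
  haveI : IsLocalization.AtPrime (Localization.AtPrime P) Q :=
    IsLocalization.isLocalization_isLocalization_atPrime_isLocalization (Submonoid.powers c) _ P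
  exact IsIntegrallyClosed.of_equiv (IsLocalization.algEquiv Q.primeCompl (Localization.AtPrime Q) _).toRingEquiv

/-- `R[1/f]` normal makes every localisation at a prime avoiding `f` normal. -/
theorem isIntegrallyClosed_atPrime_of_away {f : R} (hf : f ≠ 0) (hn : IsIntegrallyClosed (Localization.Away f))
    (Q : Ideal R) [Q.IsPrime] (hQ : f ∉ Q) : IsIntegrallyClosed (Localization.AtPrime Q) := by
  haveI := hn
  haveI : IsDomain (Localization.Away f) :=
    IsLocalization.isDomain_localization (powers_le_nonZeroDivisors_of_noZeroDivisors hf)
  have hle : Submonoid.powers f ≤ Q.primeCompl := Submonoid.powers_le.mpr hQ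
  letI := IsLocalization.localizationAlgebraOfSubmonoidLe (Localization.Away f) (Localization.AtPrime Q) _ _ hle
  haveI := IsLocalization.localization_isScalarTower_of_submonoid_le (Localization.Away f) (Localization.AtPrime Q) _ _ hle
  haveI := IsLocalization.isLocalization_of_submonoid_le (Localization.Away f) (Localization.AtPrime Q) _ _ hle
  exact isIntegrallyClosed_of_isLocalization (Localization.AtPrime Q) (Q.primeCompl.map (algebraMap R (Localization.Away f)))
    (by
      rintro _ ⟨y, hy, rfl⟩
      exact mem_nonZeroDivisors_of_ne_zero fun h0 => hy (by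
        have : y = 0 := IsLocalization.injective (Localization.Away f) (powers_le_nonZeroDivisors_of_noZeroDivisors hf)
          (h0.trans (map_zero _).symm)
        rw [this]; exact zero_mem Q))

end Groth.Agent.H1CAlg
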