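import Groth.Agent.S2321
import Groth.Agent.H05EGA4.CompleteNormalization
import Groth.Agent.H05EGA4.Regular2
import Groth.Agent.H02CA.N2
import Mathlib.RingTheory.Artinian.Ring
import Mathlib.RingTheory.Finiteness.Descent
import Mathlib.RingTheory.Ideal.MinimalPrime.Localization
import Mathlib.RingTheory.Ideal.AssociatedPrime.Finiteness
import Mathlib.RingTheory.AdicCompletion.LocalRing

/-!
# Finiteness of normalisation from reducedness of the completion
-/

set_option autoImplicit false

universe u

open TensorProduct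

namespace Groth.Agent.H1CAlg

/-- The total ring of fractions of a reduced Noetherian ring is Artinian. -/
theorem isArtinianRing_totalFractions (B R : Type u) [CommRing B] [IsNoetherianRing B] [IsReduced B] [CommRing R]
    [Algebra B R] [IsFractionRing B R] : IsArtinianRing R := by
  haveI : IsNoetherianRing R := IsLocalization.isNoetherianRing (nonZeroDivisors B) R inferInstance
  haveI : IsReduced R := isReduced_localizationPreserves (nonZeroDivisors B) R inferInstance
  haveI : Ring.KrullDimLE 0 R := by
    refine Ring.krullDimLE_zero_iff.mpr fun P hP => ?_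
    obtain ⟨M, hM, hPM⟩ := Ideal.exists_le_maximal P hP.ne_top
    suffices ∀ Q : Ideal R, Q.IsPrime → Q ∈ minimalPrimes R by
      rwa [le_antisymm hPM ((this M hM.isPrime).2 ⟨hP, bot_le⟩ hPM)]
    intro Q hQ
    obtain ⟨S, hS⟩ : ∃ S : Finset (Ideal R), (S : Set (Ideal R)) = minimalPrimes R :=
      ⟨(minimalPrimes.finite_of_isNoetherianRing R).toFinset, by simp⟩
    have hcover : (Q : Set R) ⊆ ⋃ i ∈ (S : Set (Ideal R)), (i : Set R) := by
      intro x hx
      obtain ⟨⟨b, s⟩, hb⟩ := IsLocalization.surj (nonZeroDivisors B) x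
      have hbQ : algebraMap B R b ∈ Q := hb ▸ Q.mul_mem_right _ hx
      have hbz : b ∉ nonZeroDivisors B := fun h => hQ.ne_top
        (Ideal.eq_top_of_isUnit_mem Q hbQ (IsLocalization.map_units R ⟨b, h⟩))
      obtain ⟨c, hcb, hc⟩ : ∃ c, b * c = 0 ∧ c ≠ 0 := by
        by_contra hcon
        push_neg at hcon
        exact hbz (mem_nonZeroDivisors_iff_left.mpr fun z hz => hcon z hz |> fun h => h)
      have hc' : algebraMap B R c ≠ 0 := (map_ne_zero_iff _ (IsFractionRing.injective B R)).mpr hc
      obtain ⟨P₀, hP₀, hcP⟩ : ∃ P₀ ∈ minimalPrimes R, algebraMap B R c ∉ P₀ := by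
        by_contra hcon
        push_neg at hcon
        have : algebraMap B R c ∈ sInf (minimalPrimes R) := Ideal.mem_sInf.mpr fun {I} hI => hcon I hI
        rw [minimalPrimes, Ideal.sInf_minimalPrimes] at this
        exact hc' ((nilradical_eq_zero R).le (by simpa [nilradical] using this))
      haveI := hP₀.1.1
      refine Set.mem_biUnion (hS ▸ hP₀) (?_ : x ∈ (P₀ : Set R))
      have h0 : x * algebraMap B R s * algebraMap B R c = 0 := by rw [hb, ← map_mul, hcb, map_zero]
      have hs : algebraMap B R s ∉ P₀ := fun h => (inferInstance : P₀.IsPrime).ne_top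
        (Ideal.eq_top_of_isUnit_mem P₀ h (IsLocalization.map_units R s))
      have h1 : x * algebraMap B R s * algebraMap B R c ∈ P₀ := h0 ▸ zero_mem P₀
      exact (((inferInstance : P₀.IsPrime).mem_or_mem h1).resolve_right hcP |> fun h =>
        ((inferInstance : P₀.IsPrime).mem_or_mem h).resolve_right hs)
    obtain ⟨P₀, hP₀, hQP⟩ := (Ideal.subset_union_prime (f := fun i : Ideal R => i) ⊥ ⊥ (fun i hi _ _ =>
      (show i ∈ minimalPrimes R from hS ▸ (Finset.mem_coe.mpr hi)).1.1)).mp hcover
    have hP₀' : P₀ ∈ minimalPrimes R := hS ▸ Finset.mem_coe.mpr hP₀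
    rwa [le_antisymm hQP (hP₀'.2 ⟨hQ, bot_le⟩ hQP)]
  exact IsNoetherianRing.isArtinianRing_of_krullDimLE_zero

variable {A K' R : Type u} [CommRing A] [IsDomain A] [IsLocalRing A] [IsNoetherianRing A]
  [CommRing R] [Algebra (AdicCompletion (IsLocalRing.maximalIdeal A) A) R]
  [IsFractionRing (AdicCompletion (IsLocalRing.maximalIdeal A) A) R] [Algebra A R]
  [IsScalarTower A (AdicCompletion (IsLocalRing.maximalIdeal A) A) R]
  [Field K'] [Algebra A K'] [Algebra (FractionRing A) K'] [IsScalarTower A (FractionRing A) K']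
  [FiniteDimensional (FractionRing A) K']

theorem finite_integralClosure_of_isReduced_tensor
    (hred : IsReduced (AdicCompletion (IsLocalRing.maximalIdeal A) A)) (h : IsReduced (R ⊗[A] K')) :
    Module.Finite A (integralClosure A K') := by
  classical
  let Ah := AdicCompletion (IsLocalRing.maximalIdeal A) A
  haveI := hred
  haveI : IsNoetherianRing Ah := H05EGA4.isNoetherianRing_adicCompletion A _
  haveI : Module.FaithfullyFlat A Ah :=
    ((Groth.Agent.S2321.result A (IsLocalRing.maximalIdeal A)).out 0 1).mp (IsLocalRing.maximalIdeal_le_jacobson _)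
  haveI : IsArtinianRing R := isArtinianRing_totalFractions Ah R
  have hunit : ∀ s : A, s ≠ 0 → IsUnit (algebraMap A R s) := by
    intro s hs
    rw [IsScalarTower.algebraMap_apply A Ah R]
    refine IsLocalization.map_units R (⟨algebraMap A Ah s, ?_⟩ : nonZeroDivisors Ah)
    have hinj : Function.Injective ((LinearMap.lsmul A A s).lTensor Ah) :=
      Module.Flat.lTensor_preserves_injective_linearMap _ fun a b hab => mul_left_cancel₀ hs hab
    refine mem_nonZeroDivisors_iff_left.mpr fun z hz => ?_
    have h1 : z ⊗ₜ[A] (1 : A) = (0 : Ah ⊗[A] A) := hinj (by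
      rw [map_zero, LinearMap.lTensor_tmul, LinearMap.lsmul_apply, ← TensorProduct.smul_tmul,
        Algebra.smul_def, hz, TensorProduct.zero_tmul])
    simpa using congrArg (TensorProduct.rid A Ah) h1
  let T := R ⊗[A] K'
  haveI : IsReduced T := h
  let b := Module.finBasis (FractionRing A) K'
  haveI : Module.Finite R T := by
    refine ⟨⟨Finset.univ.image fun i => (1 : R) ⊗ₜ[A] b i, eq_top_iff.mpr fun z _ => ?_⟩⟩
    induction z using TensorProduct.induction_on with
    | zero => exact zero_mem _
    | add x y hx hy => exact add_mem (hx trivial) (hy trivial)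
    | tmul r x =>
      obtain ⟨⟨s, hs⟩, hsc⟩ := IsLocalization.exist_integer_multiples (nonZeroDivisors A) Finset.univ (fun i => b.repr x i)
      choose a ha using fun i => hsc i (Finset.mem_univ i)
      obtain ⟨v, hv⟩ := hunit s (nonZeroDivisors.ne_zero hs)
      have hx : s • x = ∑ i, a i • b i := by
        conv_lhs => rw [← b.sum_repr x, Finset.smul_sum]
        exact Finset.sum_congr rfl fun i _ => by rw [← smul_assoc, ← ha i, algebraMap_smul]
      have h1 : r ⊗ₜ[A] x = (r * ↑v⁻¹) ⊗ₜ[A] (s • x) := by
        rw [← TensorProduct.smul_tmul, Algebra.smul_def, ← hv, mul_comm (v : R), mul_assoc, Units.inv_mul, mul_one]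
      rw [h1, hx, TensorProduct.tmul_sum]
      refine Submodule.sum_mem _ fun i _ => ?_
      rw [← TensorProduct.smul_tmul,
        show ((a i • (r * ↑v⁻¹)) ⊗ₜ[A] b i : R ⊗[A] K') = (a i • (r * ↑v⁻¹)) • ((1 : R) ⊗ₜ[A] b i) by
          rw [TensorProduct.smul_tmul', smul_eq_mul, mul_one]]
      exact Submodule.smul_mem _ _ (Submodule.subset_span (Finset.mem_coe.mpr (Finset.mem_image_of_mem _ (Finset.mem_univ i))))
  haveI : IsArtinianRing T := isArtinian_of_tower R (inferInstanceAs (IsArtinian R T))
  -- the integral closure of `Â` in `T` is finite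
  have hfield : ∀ n : PrimeSpectrum T, Module.Finite Ah (integralClosure Ah (T ⧸ n.asIdeal)) := by
    intro n
    haveI : n.asIdeal.IsMaximal := IsArtinianRing.isMaximal_of_isPrime n.asIdeal
    let m := n.asIdeal.comap (algebraMap R T)
    haveI : m.IsPrime := Ideal.IsPrime.comap _
    haveI : m.IsMaximal := IsArtinianRing.isMaximal_of_isPrime m
    haveI : n.asIdeal.LiesOver m := ⟨rfl⟩
    let q := m.comap (algebraMap Ah R)
    haveI : m.LiesOver q := ⟨rfl⟩
    let D := Ah ⧸ q
    letI : Field (R ⧸ m) := Ideal.Quotient.field m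
    letI : Field (T ⧸ n.asIdeal) := Ideal.Quotient.field n.asIdeal
    haveI : IsFractionRing D (R ⧸ m) := by
      haveI : FaithfulSMul D (R ⧸ m) := (faithfulSMul_iff_algebraMap_injective _ _).mpr (by
        rw [injective_iff_map_eq_zero]
        intro x hx
        obtain ⟨x, rfl⟩ := Ideal.Quotient.mk_surjective x
        have hx' : Ideal.Quotient.mk m (algebraMap Ah R x) = 0 := hx
        rw [Ideal.Quotient.eq_zero_iff_mem] at hx' ⊢
        exact hx')
      refine IsFractionRing.of_field D (R ⧸ m) fun z => ?_
      obtain ⟨z, rfl⟩ := Ideal.Quotient.mk_surjective z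
      obtain ⟨⟨x, s⟩, hx⟩ := IsLocalization.surj (nonZeroDivisors Ah) z
      refine ⟨Ideal.Quotient.mk q x, Ideal.Quotient.mk q s, ?_⟩
      show Ideal.Quotient.mk m z = Ideal.Quotient.mk m (algebraMap Ah R x) / Ideal.Quotient.mk m (algebraMap Ah R s)
      rw [← hx, map_mul, mul_div_cancel_right₀]
      exact ((IsLocalization.map_units R s).map (Ideal.Quotient.mk m)).ne_zero
    letI : Algebra D (T ⧸ n.asIdeal) := ((algebraMap (R ⧸ m) (T ⧸ n.asIdeal)).comp (algebraMap D (R ⧸ m))).toAlgebra
    haveI : IsScalarTower D (R ⧸ m) (T ⧸ n.asIdeal) := IsScalarTower.of_algebraMap_eq fun _ => rfl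
    haveI : Module.Finite R (T ⧸ n.asIdeal) :=
      Module.Finite.of_surjective (Ideal.Quotient.mkₐ R n.asIdeal).toLinearMap Ideal.Quotient.mk_surjective
    haveI : FiniteDimensional (R ⧸ m) (T ⧸ n.asIdeal) := Module.Finite.of_restrictScalars_finite R _ _
    haveI hD : Module.Finite D (integralClosure D (T ⧸ n.asIdeal)) :=
      H02CA.finite_integralClosure_of_isN2 ((H05EGA4.isNagata_of_isAdicComplete Ah).2 q) (R ⧸ m) (T ⧸ n.asIdeal)
    haveI : IsScalarTower Ah D (T ⧸ n.asIdeal) := IsScalarTower.of_algebraMap_eq fun x => by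
      show _ = algebraMap (R ⧸ m) (T ⧸ n.asIdeal) (Ideal.Quotient.mk m (algebraMap Ah R x))
      rw [IsScalarTower.algebraMap_apply Ah R (T ⧸ n.asIdeal), IsScalarTower.algebraMap_apply R (R ⧸ m) (T ⧸ n.asIdeal)]
      rfl
    haveI : Module.Finite Ah D := Module.Finite.of_surjective (Ideal.Quotient.mkₐ Ah q).toLinearMap Ideal.Quotient.mk_surjective
    haveI : Module.Finite Ah (integralClosure D (T ⧸ n.asIdeal)) := Module.Finite.trans D _
    let j : integralClosure Ah (T ⧸ n.asIdeal) →ₗ[Ah] integralClosure D (T ⧸ n.asIdeal) :=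
      { toFun := fun x => ⟨x.1, x.2.tower_top⟩, map_add' := fun _ _ => rfl, map_smul' := fun _ _ => rfl }
    exact Module.Finite.of_injective j fun x y hxy => Subtype.ext (congrArg Subtype.val hxy : (j x : T ⧸ n.asIdeal) = j y)
  haveI : Finite (PrimeSpectrum T) := inferInstance
  haveI hC' : Module.Finite Ah (integralClosure Ah T) := by
    haveI := hfield
    let j : integralClosure Ah T →ₗ[Ah] ((n : PrimeSpectrum T) → integralClosure Ah (T ⧸ n.asIdeal)) :=
      LinearMap.pi fun n => (((Ideal.Quotient.mkₐ Ah n.asIdeal).comp (integralClosure Ah T).val).codRestrict _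
        fun x => x.2.map (Ideal.Quotient.mkₐ Ah n.asIdeal)).toLinearMap
    refine Module.Finite.of_injective j ((injective_iff_map_eq_zero j).mpr fun x hx => ?_)
    have hmem : (x : T) ∈ nilradical T := by
      rw [nilradical_eq_sInf, Ideal.mem_sInf]
      intro I hI
      exact Ideal.Quotient.eq_zero_iff_mem.mp (congrArg Subtype.val (congrFun hx ⟨I, hI⟩))
    rw [nilradical_eq_zero T] at hmem
    exact Subtype.ext hmem
  -- compare with `Â ⊗ C`
  let C := integralClosure A K'
  haveI : Module.Flat A (FractionRing A) := IsLocalization.flat _ (nonZeroDivisors A)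
  haveI : Module.Flat A K' := Module.Flat.trans A (FractionRing A) K'
  let φ : Ah ⊗[A] C →ₐ[Ah] T := Algebra.TensorProduct.map (Algebra.ofId Ah R) C.val
  have hφ : ∀ z, IsIntegral Ah (φ z) := fun z => by
    haveI : Algebra.IsIntegral A C := ⟨fun x => (isIntegral_algHom_iff C.val Subtype.val_injective).mp x.2⟩
    have : IsIntegral Ah z := by
      induction z using TensorProduct.induction_on with
      | zero => exact isIntegral_zero
      | tmul a x =>
        have h1 : IsIntegral Ah ((1 : Ah) ⊗ₜ[A] x) :=
          ((Algebra.IsIntegral.isIntegral (R := A) x).map (Algebra.TensorProduct.includeRight (R := A) (A := Ah) (B := C))).tower_top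
        simpa [TensorProduct.smul_tmul'] using h1.smul a
      | add x y hx hy => exact hx.add hy
    exact this.map φ
  have hinj : Function.Injective φ := by
    have h1 : Function.Injective ((C.val.toLinearMap).lTensor Ah) :=
      Module.Flat.lTensor_preserves_injective_linearMap _ Subtype.val_injective
    have h2 : Function.Injective ((IsScalarTower.toAlgHom A Ah R).toLinearMap.rTensor K') :=
      Module.Flat.rTensor_preserves_injective_linearMap _ (IsFractionRing.injective Ah R)
    have : (φ : Ah ⊗[A] C → T) = (IsScalarTower.toAlgHom A Ah R).toLinearMap.rTensor K' ∘ (C.val.toLinearMap).lTensor Ah := by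
      funext z
      induction z using TensorProduct.induction_on with
      | zero => simp
      | tmul a x => rfl
      | add x y hx hy => simp only [Function.comp_apply, map_add] at hx hy ⊢; rw [hx, hy]
    rw [this]
    exact h2.comp h1
  haveI : Module.Finite Ah (Ah ⊗[A] C) :=
    Module.Finite.of_injective (φ.codRestrict (integralClosure Ah T) hφ).toLinearMap
      fun x y hxy => hinj (congrArg Subtype.val hxy)
  exact Module.Finite.of_finite_tensorProduct_of_faithfullyFlat Ah

end Groth.Agent.H1CAlg
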