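import Groth.Agent.H1CAlg.NagataBirational
import Groth.Agent.H1CAlg.PolynomialN2
import Groth.Agent.S0571
import Groth.Agent.S2072
import Groth.Agent.S9392
import Mathlib.Algebra.MvPolynomial.Equiv
import Mathlib.RingTheory.AlgebraicIndependent.Basic

/-!
# Algebras of finite type over Nagata rings are Nagata
-/

set_option autoImplicit false

universe u

open IsLocalRing Polynomial

namespace Groth.Agent.H1CAlg

section birational

variable {R S : Type u} [CommRing R] [IsDomain R] [IsIntegrallyClosed R] [CommRing S] [IsDomain S] [Algebra R S]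

omit [IsIntegrallyClosed R] in
theorem isLocalization_away_birational (hinj : Function.Injective (algebraMap R S)) {x : S}
    (hgen : Algebra.adjoin R {x} = ⊤) {a b : R}
    (hxb : x * algebraMap R S b = algebraMap R S a) (hb : b ≠ 0) :
    IsLocalization.Away b (Localization.Away (algebraMap R S b)) := by
  let Sb := Localization.Away (algebraMap R S b)
  have hle : Submonoid.powers (algebraMap R S b) ≤ nonZeroDivisors S :=
    powers_le_nonZeroDivisors_of_noZeroDivisors ((map_ne_zero_iff _ hinj).mpr hb)
  exact
  { map_units := by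
      rintro ⟨_, k, rfl⟩
      show IsUnit (algebraMap R Sb (b ^ k))
      rw [IsScalarTower.algebraMap_apply R S Sb, map_pow, map_pow]
      exact (IsLocalization.Away.algebraMap_isUnit (algebraMap R S b)).pow k
    surj := fun z => by
      obtain ⟨⟨s, ⟨_, k, rfl⟩⟩, hs⟩ := IsLocalization.surj (Submonoid.powers (algebraMap R S b)) z
      obtain ⟨N, c, hc⟩ := exists_clearing_pow hgen hxb s
      refine ⟨⟨c, ⟨b ^ (k + N), k + N, rfl⟩⟩, ?_⟩
      show z * algebraMap R Sb (b ^ (k + N)) = algebraMap R Sb c
      rw [IsScalarTower.algebraMap_apply R S Sb, IsScalarTower.algebraMap_apply R S Sb, map_pow, ← hc, pow_add,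
        map_mul, map_mul, ← mul_assoc]
      exact congrArg (· * _) hs
    exists_of_eq := fun {u v} huv => by
      refine ⟨1, ?_⟩
      rw [IsScalarTower.algebraMap_apply R S Sb, IsScalarTower.algebraMap_apply R S Sb] at huv
      rw [hinj (IsLocalization.injective Sb hle huv)] }

/-- A birational monogenic extension of a normal Nagata domain is N-1. -/
theorem isN1_birational (hR : CAlg.IsNagata R) (hinj : Function.Injective (algebraMap R S)) (x : S)
    (hgen : Algebra.adjoin R {x} = ⊤) (a b : R) (hb : b ≠ 0) (hxb : x * algebraMap R S b = algebraMap R S a) :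
    CAlg.IsN1 S := by
  classical
  haveI := hR.1
  haveI : Algebra.FiniteType R S := ⟨⟨{x}, by simpa using hgen⟩⟩
  haveI : IsNoetherianRing S := Algebra.FiniteType.isNoetherianRing R S
  refine (Groth.Agent.S0571.result S).mpr ⟨⟨algebraMap R S b, (map_ne_zero_iff _ hinj).mpr hb, ?_⟩, ?_⟩
  · haveI := isLocalization_away_birational hinj hgen hxb hb
    exact isIntegrallyClosed_of_isLocalization _ (Submonoid.powers b) (powers_le_nonZeroDivisors_of_noZeroDivisors hb)
  intro M hM
  let p := M.comap (algebraMap R S)
  haveI : p.IsPrime := Ideal.IsPrime.comap _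
  let T := Algebra.algebraMapSubmonoid S p.primeCompl
  let Rp := Localization.AtPrime p
  let Sp := Localization T
  have hT : T ≤ nonZeroDivisors S := by
    rintro _ ⟨c, hc, rfl⟩
    exact mem_nonZeroDivisors_of_ne_zero fun h => hc (by
      rw [(map_eq_zero_iff _ hinj).mp h]; exact zero_mem _)
  have hdisj : Disjoint (T : Set S) (M : Set S) := by
    rw [Set.disjoint_left]
    rintro _ ⟨c, hc, rfl⟩ hcM
    exact hc hcM
  haveI : IsDomain Sp := IsLocalization.isDomain_of_le_nonZeroDivisors _ hT
  haveI : IsIntegrallyClosed Rp := isIntegrallyClosed_of_isLocalization _ p.primeCompl p.primeCompl_le_nonZeroDivisors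
  have hRp : CAlg.IsNagata Rp := H8Props.NagataAffine.isNagata_of_isLocalization p.primeCompl Rp hR
  have hinjp : Function.Injective (algebraMap Rp Sp) := by
    rw [injective_iff_map_eq_zero]
    intro z hz
    obtain ⟨⟨c, m⟩, hc⟩ := IsLocalization.surj p.primeCompl z
    have h1 : algebraMap R Sp c = 0 := by
      rw [IsScalarTower.algebraMap_apply R Rp Sp, ← hc, map_mul, hz, zero_mul]
    rw [IsScalarTower.algebraMap_apply R S Sp, map_eq_zero_iff _ (IsLocalization.injective Sp hT), map_eq_zero_iff _ hinj] at h1
    rw [h1, map_zero] at hc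
    exact (IsLocalization.map_units Rp m).mul_left_eq_zero.mp hc
  have hgenp : Algebra.adjoin Rp {algebraMap S Sp x} = ⊤ := by
    refine eq_top_iff.mpr ?_
    rintro z -
    have hall : ∀ s : S, algebraMap S Sp s ∈ Algebra.adjoin Rp {algebraMap S Sp x} := by
      intro s
      have hsm : s ∈ Algebra.adjoin R {x} := hgen ▸ trivial
      induction hsm using Algebra.adjoin_induction with
      | mem y hy => rw [Set.mem_singleton_iff] at hy; rw [hy]; exact Algebra.subset_adjoin rfl
      | algebraMap r =>
        rw [← IsScalarTower.algebraMap_apply R S Sp, IsScalarTower.algebraMap_apply R Rp Sp]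
        exact Subalgebra.algebraMap_mem _ _
      | add u v _ _ hu hv => rw [map_add]; exact add_mem hu hv
      | mul u v _ _ hu hv => rw [map_mul]; exact mul_mem hu hv
    obtain ⟨⟨s, ⟨_, c, hc, rfl⟩⟩, hs⟩ := IsLocalization.surj T z
    have hs' := hall s
    obtain ⟨w, hw⟩ := IsLocalization.map_units Rp (⟨c, hc⟩ : p.primeCompl)
    have hz : z = algebraMap Rp Sp (↑w⁻¹ : Rp) * algebraMap S Sp s := by
      rw [← hs]
      show z = algebraMap Rp Sp (↑w⁻¹ : Rp) * (z * algebraMap S Sp (algebraMap R S c))
      rw [← IsScalarTower.algebraMap_apply R S Sp, IsScalarTower.algebraMap_apply R Rp Sp, ← hw, mul_left_comm,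
        ← map_mul, Units.inv_mul, map_one, mul_one]
    rw [hz]
    exact mul_mem (Subalgebra.algebraMap_mem _ _) hs'
  let M' := M.map (algebraMap S Sp)
  haveI hM'p : M'.IsPrime := IsLocalization.isPrime_of_isPrime_disjoint T Sp M inferInstance hdisj
  have hcomap : M'.comap (algebraMap S Sp) = M := IsLocalization.under_map_of_isPrime_disjoint T Sp inferInstance hdisj
  haveI : M'.IsMaximal := by
    obtain ⟨Q, hQ, hle⟩ := Ideal.exists_le_maximal M' hM'p.ne_top
    have h1 : Q.comap (algebraMap S Sp) = M :=
      (hM.eq_of_le (Ideal.comap_ne_top _ hQ.ne_top) (hcomap.ge.trans (Ideal.comap_mono hle))).symm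
    rwa [show M' = Q by rw [← IsLocalization.map_under T Sp Q]; exact (congrArg (Ideal.map _) h1).symm]
  have hM' : M'.comap (algebraMap Rp Sp) = maximalIdeal Rp := by
    rw [← IsLocalization.map_under p.primeCompl Rp (M'.comap (algebraMap Rp Sp))]
    show Ideal.map (algebraMap R Rp) ((M'.comap (algebraMap Rp Sp)).comap (algebraMap R Rp)) = _
    rw [Ideal.comap_comap, ← IsScalarTower.algebraMap_eq, IsScalarTower.algebraMap_eq R S Sp, ← Ideal.comap_comap, hcomap]
    exact Localization.AtPrime.map_eq_maximalIdeal
  have hxbp : algebraMap S Sp x * algebraMap Rp Sp (algebraMap R Rp b) = algebraMap Rp Sp (algebraMap R Rp a) := by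
    rw [← IsScalarTower.algebraMap_apply R Rp Sp, ← IsScalarTower.algebraMap_apply R Rp Sp,
      IsScalarTower.algebraMap_apply R S Sp, IsScalarTower.algebraMap_apply R S Sp, ← map_mul, hxb]
  have hred := isReduced_completion_birational hRp hinjp _ hgenp _ _
    ((map_ne_zero_iff _ (IsLocalization.injective Rp p.primeCompl_le_nonZeroDivisors)).mpr hb) hxbp M' hM'
  have hloc : IsLocalization M.primeCompl (Localization.AtPrime M') := by
    have := IsLocalization.isLocalization_isLocalization_atPrime_isLocalization T (Localization.AtPrime M') M'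
    have heq : M.primeCompl = (M'.comap (algebraMap S Sp)).primeCompl :=
      Submonoid.ext fun z => not_congr (by rw [hcomap])
    rwa [heq]
  haveI : IsNoetherianRing Sp := IsLocalization.isNoetherianRing T Sp inferInstance
  haveI : IsNoetherianRing (Localization.AtPrime M) := IsLocalization.isNoetherianRing M.primeCompl _ inferInstance
  haveI : IsNoetherianRing (Localization.AtPrime M') := IsLocalization.isNoetherianRing M'.primeCompl _ inferInstance
  haveI := isReduced_completion_of_ringEquiv
    (@IsLocalization.algEquiv S _ M.primeCompl (Localization.AtPrime M') _ _ hloc (Localization.AtPrime M) _ _ _).toRingEquiv hred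
  exact Groth.Agent.S2072.result (R := Localization.AtPrime M)

end birational

theorem isN2_of_ringEquiv {A B : Type u} [CommRing A] [IsDomain A] [CommRing B] [IsDomain B] (e : A ≃+* B)
    (h : CAlg.IsN2 A) : CAlg.IsN2 B :=
  letI := e.toRingHom.toAlgebra
  haveI := H8Props.NagataAffine.isLocalization_bot_of_bijective (R := A) (S := B) e.bijective
  Groth.Agent.S9392.result A ⊥ B h

/-- A monogenic domain over a Nagata domain is Japanese. -/
theorem isN2_monogenic {D T : Type u} [CommRing D] [IsDomain D] [CommRing T] [IsDomain T] [Algebra D T]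
    (hD : CAlg.IsNagata D) (hinj : Function.Injective (algebraMap D T)) (y : T)
    (hgen : Algebra.adjoin D {y} = ⊤) : CAlg.IsN2 T := by
  classical
  haveI := hD.1
  have hD2 : CAlg.IsN2 D := isN2_of_finite_isNagata (R := D) hD
  have hsurj : Function.Surjective (aeval y : D[X] →ₐ[D] T) := by
    rw [← AlgHom.range_eq_top, ← Algebra.adjoin_singleton_eq_range_aeval, hgen]
  by_cases halg : Transcendental D y
  · exact isN2_of_ringEquiv (RingEquiv.ofBijective (aeval y : D[X] →ₐ[D] T).toRingHom
      ⟨transcendental_iff_injective.mp halg, hsurj⟩) (polynomial_isN2 hD2)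
  rw [Transcendental, not_not] at halg
  intro L _ _ _ _ hfin
  haveI : FiniteDimensional (FractionRing T) L := hfin
  have hTL : Function.Injective (algebraMap T L) := by
    rw [IsScalarTower.algebraMap_eq T (FractionRing T) L]
    exact (algebraMap (FractionRing T) L).injective.comp (IsFractionRing.injective T (FractionRing T))
  letI : Algebra D L := ((algebraMap T L).comp (algebraMap D T)).toAlgebra
  haveI : IsScalarTower D T L := IsScalarTower.of_algebraMap_eq fun _ => rfl
  have hDL : Function.Injective (algebraMap D L) := hTL.comp hinj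
  let k := FractionRing D
  letI : Algebra k L := (IsFractionRing.lift hDL).toAlgebra
  haveI : IsScalarTower D k L := IsScalarTower.of_algebraMap_eq fun z => (IsFractionRing.lift_algebraMap hDL z).symm
  let yL := algebraMap T L y
  have hyint : IsIntegral k yL := by
    have h1 : IsAlgebraic D yL := halg.algebraMap
    exact ((IsFractionRing.isAlgebraic_iff D k L).mp h1).isIntegral
  haveI : FiniteDimensional k L := by
    let W : Subalgebra k L := Algebra.adjoin k {yL}
    have hWfg : (Subalgebra.toSubmodule W).FG :=
      fg_adjoin_of_finite (Set.finite_singleton yL) fun z hz => by rw [Set.mem_singleton_iff] at hz; exact hz ▸ hyint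
    haveI : Module.Finite k W := Module.Finite.iff_fg.mpr hWfg
    have hTW : ∀ s : T, algebraMap T L s ∈ W := fun s => by
      have hs : s ∈ Algebra.adjoin D {y} := hgen ▸ trivial
      induction hs using Algebra.adjoin_induction with
      | mem z hz => rw [Set.mem_singleton_iff] at hz; rw [hz]; exact Algebra.subset_adjoin rfl
      | algebraMap r =>
        rw [← IsScalarTower.algebraMap_apply D T L, IsScalarTower.algebraMap_apply D k L]
        exact W.algebraMap_mem _
      | add u v _ _ hu hv => rw [map_add]; exact add_mem hu hv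
      | mul u v _ _ hu hv => rw [map_mul]; exact mul_mem hu hv
    have hFW : ∀ f : FractionRing T, algebraMap (FractionRing T) L f ∈ W := fun f => by
      obtain ⟨s, t, -, rfl⟩ := IsFractionRing.div_surjective (A := T) f
      rw [map_div₀, ← IsScalarTower.algebraMap_apply, ← IsScalarTower.algebraMap_apply, div_eq_mul_inv]
      refine mul_mem (hTW s) (W.inv_mem_of_algebraic (x := ⟨_, hTW t⟩) ?_)
      exact ((IsIntegral.of_finite k (⟨_, hTW t⟩ : W)).map W.val).isAlgebraic
    let b := Module.finBasis (FractionRing T) L
    refine ⟨(?_ : (⊤ : Submodule k L).FG)⟩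
    have htop : (⊤ : Submodule k L) = Subalgebra.toSubmodule W * Submodule.span k (Set.range b) := by
      refine le_antisymm (fun z _ => ?_) le_top
      rw [← b.sum_repr z]
      refine Submodule.sum_mem _ fun i _ => ?_
      rw [Algebra.smul_def]
      exact Submodule.mul_mem_mul (hFW _) (Submodule.subset_span ⟨i, rfl⟩)
    rw [htop]
    exact hWfg.mul (Submodule.fg_span (Set.finite_range b))
  let D' := integralClosure D L
  haveI : Module.Finite D D' := H02CA.finite_integralClosure_of_isN2 hD2 k L
  haveI : IsIntegrallyClosed D' := integralClosure.isIntegrallyClosedOfFiniteExtension k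
  haveI : IsFractionRing D' L := integralClosure.isFractionRing_of_finite_extension k L
  have hD' : CAlg.IsNagata D' := isNagata_of_finite (R := D) hD
  haveI := hD'.1
  let T' : Subalgebra D' L := Algebra.adjoin D' {yL}
  have hTT' : ∀ s : T, algebraMap T L s ∈ T' := fun s => by
    have hs : s ∈ Algebra.adjoin D {y} := hgen ▸ trivial
    induction hs using Algebra.adjoin_induction with
    | mem z hz => rw [Set.mem_singleton_iff] at hz; rw [hz]; exact Algebra.subset_adjoin rfl
    | algebraMap r =>
      rw [← IsScalarTower.algebraMap_apply D T L, IsScalarTower.algebraMap_apply D D' L]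
      exact T'.algebraMap_mem _
    | add u v _ _ hu hv => rw [map_add]; exact add_mem hu hv
    | mul u v _ _ hu hv => rw [map_mul]; exact mul_mem hu hv
  letI : Algebra T T' := ((algebraMap T L).codRestrict T'.toSubring hTT').toAlgebra
  haveI : IsScalarTower T T' L := IsScalarTower.of_algebraMap_eq fun _ => rfl
  haveI : IsScalarTower D T T' := IsScalarTower.of_algebraMap_eq fun _ => rfl
  haveI : Algebra.FiniteType D' T' := ⟨(Subalgebra.fg_top _).mpr (Subalgebra.fg_def.mpr ⟨{yL}, Set.finite_singleton _, rfl⟩)⟩
  haveI : Algebra.FiniteType D T' := Algebra.FiniteType.trans (S := D') inferInstance inferInstance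
  haveI : Algebra.FiniteType T T' := Algebra.FiniteType.of_restrictScalars_finiteType D T T'
  haveI : Algebra.IsIntegral T T' := ⟨fun z => by
    have h1 : IsIntegral T (z : L) := by
      obtain ⟨z, hz⟩ := z
      induction hz using Algebra.adjoin_induction with
      | mem w hw => cases hw; exact isIntegral_algebraMap
      | algebraMap c => exact IsIntegral.tower_top (R := D) c.2
      | add u v _ _ hu hv => exact hu.add hv
      | mul u v _ _ hu hv => exact hu.mul hv
    exact (isIntegral_algHom_iff (IsScalarTower.toAlgHom T T' L) Subtype.val_injective).mp h1⟩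
  haveI : Module.Finite T T' := Algebra.IsIntegral.finite
  obtain ⟨a, b, hb, hab⟩ := IsFractionRing.div_surjective (A := D') yL
  have hb0 : b ≠ 0 := nonZeroDivisors.ne_zero hb
  have hgen' : Algebra.adjoin D' {(⟨yL, Algebra.subset_adjoin rfl⟩ : T')} = ⊤ := by
    refine eq_top_iff.mpr ?_
    rintro ⟨z, hz⟩ -
    induction hz using Algebra.adjoin_induction with
    | mem w hw => cases hw; exact Algebra.subset_adjoin rfl
    | algebraMap c => exact Subalgebra.algebraMap_mem _ c
    | add u v _ _ hu hv => exact add_mem hu hv
    | mul u v _ _ hu hv => exact mul_mem hu hv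
  have hN1 : CAlg.IsN1 T' := isN1_birational hD' (fun u v huv =>
    IsFractionRing.injective D' L (congrArg (fun w : T' => (w : L)) huv)) _ hgen' a b hb0 (Subtype.ext (by
      show yL * algebraMap D' L b = algebraMap D' L a
      rw [← hab, div_mul_cancel₀]
      exact (map_ne_zero_iff _ (IsFractionRing.injective D' L)).mpr hb0))
  haveI : IsFractionRing T' L := by
    haveI : FaithfulSMul T' L := (faithfulSMul_iff_algebraMap_injective _ _).mpr Subtype.val_injective
    refine IsFractionRing.of_field T' L fun z => ?_
    obtain ⟨u, v, -, rfl⟩ := IsFractionRing.div_surjective (A := D') z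
    exact ⟨algebraMap D' T' u, algebraMap D' T' v, rfl⟩
  haveI := H02CA.finite_integralClosure_of_isN1 hN1 L
  let j : integralClosure T' L →ₗ[T] integralClosure T L :=
    { toFun := fun z => ⟨z.1, isIntegral_trans (R := T) (A := T') z.1 z.2⟩
      map_add' := fun _ _ => rfl
      map_smul' := fun _ _ => Subtype.ext (by simp) }
  haveI : Module.Finite T (integralClosure T' L) := Module.Finite.trans T' _
  exact Module.Finite.of_surjective j fun z => ⟨⟨z.1, IsIntegral.tower_top (R := T) z.2⟩, rfl⟩

/-- Polynomial rings over Nagata rings are Nagata. -/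
theorem isNagata_polynomial {R : Type u} [CommRing R] (hR : CAlg.IsNagata R) : CAlg.IsNagata R[X] := by
  haveI := hR.1
  refine ⟨inferInstance, fun q hq => ?_⟩
  let p := q.comap (C : R →+* R[X])
  haveI : p.IsPrime := Ideal.IsPrime.comap _
  let g : R ⧸ p →+* R[X] ⧸ q := Ideal.quotientMap q C le_rfl
  letI : Algebra (R ⧸ p) (R[X] ⧸ q) := g.toAlgebra
  have hg : Function.Injective g := Ideal.quotientMap_injective' le_rfl
  refine isN2_monogenic (D := R ⧸ p) (isNagata_of_finite (R := R) hR) hg (Ideal.Quotient.mk q X) ?_
  refine eq_top_iff.mpr ?_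
  rintro z -
  obtain ⟨f, rfl⟩ := Ideal.Quotient.mk_surjective z
  induction f using Polynomial.induction_on' with
  | add u v hu hv => rw [map_add]; exact add_mem hu hv
  | monomial n c =>
    rw [← C_mul_X_pow_eq_monomial, map_mul, map_pow]
    have hc : Ideal.Quotient.mk q (C c) = algebraMap (R ⧸ p) (R[X] ⧸ q) (Ideal.Quotient.mk p c) :=
      (Ideal.quotientMap_mk (H := le_rfl)).symm
    rw [hc]
    refine mul_mem ?_ ?_
    · exact Subalgebra.algebraMap_mem _ _
    · refine pow_mem ?_ n
      exact Algebra.subset_adjoin rfl

/-- Algebras of finite type over Nagata rings are Nagata. -/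
theorem isNagata_of_finiteType {R S : Type u} [CommRing R] [CommRing S] [Algebra R S] [Algebra.FiniteType R S]
    (hR : CAlg.IsNagata R) : CAlg.IsNagata S := by
  have hmv : ∀ n : ℕ, CAlg.IsNagata (MvPolynomial (Fin n) R) := by
    intro n
    induction n with
    | zero => exact H8Props.NagataAffine.isNagata_of_ringEquiv (MvPolynomial.isEmptyRingEquiv R (Fin 0)).symm hR
    | succ n ih =>
      exact H8Props.NagataAffine.isNagata_of_ringEquiv (MvPolynomial.finSuccEquiv R n).toRingEquiv.symm
        (isNagata_polynomial ih)
  obtain ⟨n, f, hf⟩ := Algebra.FiniteType.iff_quotient_mvPolynomial''.mp ‹Algebra.FiniteType R S›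
  letI : Algebra (MvPolynomial (Fin n) R) S := f.toRingHom.toAlgebra
  haveI : Module.Finite (MvPolynomial (Fin n) R) S := Module.Finite.of_surjective (Algebra.linearMap _ S) hf
  exact isNagata_of_finite (hmv n)

end Groth.Agent.H1CAlg
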