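import Mathlib.FieldTheory.FinTrdeg
import Mathlib.RingTheory.AlgebraicIndependent.AlgebraicClosure
import Mathlib.FieldTheory.IntermediateField.Adjoin.Algebra
import Mathlib.FieldTheory.IntermediateField.Adjoin.Basic
import Mathlib.RingTheory.AlgebraicIndependent.TranscendenceBasis
import Mathlib.FieldTheory.AlgebraicClosure

/-!
# The algebraic closure of a field in a finitely generated extension is finite
-/

set_option autoImplicit false

universe u v

namespace Groth.Agent.H1CAlg

theorem finiteDimensional_algebraicClosure (k : Type u) [Field k] (L : Type v) [Field L] [Algebra k L]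
    [Algebra.EssFiniteType k L] : FiniteDimensional k (algebraicClosure k L) := by
  classical
  let E := algebraicClosure k L
  obtain ⟨s, hs⟩ := exists_finset_isTranscendenceBasis k L
  let x : s → L := (↑)
  let F := IntermediateField.adjoin k (Set.range x)
  haveI : Algebra.EssFiniteType F L := .of_comp k F L
  haveI : Algebra.IsAlgebraic F L := hs.isAlgebraic_field
  haveI : Module.Finite F L := Algebra.finite_of_essFiniteType_of_isAlgebraic
  have hxE : AlgebraicIndependent E x := AlgebraicIndependent.algebraicClosure hs.1
  have key : ∀ t : Finset E, LinearIndependent k (fun i : t => (i : E)) → t.card ≤ Module.finrank F L := by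
    intro t ht
    suffices h : LinearIndependent F (fun i : t => ((i : E) : L)) by
      simpa using h.fintype_card_le_finrank
    rw [Fintype.linearIndependent_iff]
    intro f hf
    choose p q hpq using fun i : t => (IntermediateField.mem_adjoin_range_iff k x (f i : L)).mp (f i).2
    by_contra hne
    push Not at hne
    obtain ⟨i₀, hi₀⟩ := hne
    let N := Finset.univ.filter fun i => f i ≠ 0
    have hq : ∀ i ∈ N, MvPolynomial.aeval x (q i) ≠ 0 := fun i hi h0 => (Finset.mem_filter.mp hi).2 (Subtype.ext (by
      rw [hpq i, h0, div_zero]; rfl))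
    let D : MvPolynomial s k := ∏ i ∈ N, q i
    have hD : MvPolynomial.aeval x D ≠ 0 := by
      rw [map_prod]; exact Finset.prod_ne_zero_iff.mpr hq
    let p' : t → MvPolynomial s k := fun i => if f i ≠ 0 then p i * ∏ j ∈ N.erase i, q j else 0
    have hp' : ∀ i, MvPolynomial.aeval x (p' i) = (f i : L) * MvPolynomial.aeval x D := by
      intro i
      by_cases hi : f i = 0
      · simp [p', hi]
      · have hiN : i ∈ N := Finset.mem_filter.mpr ⟨Finset.mem_univ _, hi⟩
        simp only [p', ne_eq, hi, not_false_eq_true, if_true, map_mul, D]
        rw [← Finset.mul_prod_erase N q hiN, map_mul, hpq i, ← mul_assoc, div_mul_cancel₀ _ (hq i hiN)]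
    let Q : MvPolynomial s E := ∑ i : t, MvPolynomial.C (i : E) * MvPolynomial.map (algebraMap k E) (p' i)
    have hQ : Q = 0 := by
      refine hxE (?_ : MvPolynomial.aeval x Q = MvPolynomial.aeval x (0 : MvPolynomial s E))
      rw [map_zero, map_sum]
      have hsum : ∑ i : t, ((i : E) : L) * ((f i : L) * MvPolynomial.aeval x D) = 0 := by
        have h0 : ∑ i : t, (f i : L) * ((i : E) : L) = 0 := by
          simpa [Algebra.smul_def] using hf
        rw [show (0 : L) = (∑ i : t, (f i : L) * ((i : E) : L)) * MvPolynomial.aeval x D by rw [h0, zero_mul],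
          Finset.sum_mul]
        exact Finset.sum_congr rfl fun i _ => by ring
      rw [← hsum]
      refine Finset.sum_congr rfl fun i _ => ?_
      rw [map_mul, MvPolynomial.aeval_C, MvPolynomial.aeval_map_algebraMap, hp' i]
      rfl
    have hp0 : ∀ i, p' i = 0 := by
      intro i
      refine MvPolynomial.ext _ _ fun e => ?_
      rw [MvPolynomial.coeff_zero]
      refine Fintype.linearIndependent_iff.mp ht (fun j => (p' j).coeff e) ?_ i
      have h1 := congrArg (fun P => MvPolynomial.coeff e P) hQ
      simp only [Q, MvPolynomial.coeff_sum, MvPolynomial.coeff_C_mul, MvPolynomial.coeff_map, MvPolynomial.coeff_zero] at h1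
      rw [← h1]
      exact Finset.sum_congr rfl fun j _ => by rw [Algebra.smul_def, mul_comm]
    have h2 := hp' i₀
    rw [hp0 i₀, map_zero] at h2
    exact hi₀ (Subtype.ext ((mul_eq_zero.mp h2.symm).resolve_right hD))
  have hrank : Module.rank k E ≤ Module.finrank F L := rank_le key
  exact Module.rank_lt_aleph0_iff.mp (hrank.trans_lt Cardinal.natCast_lt_aleph0)

end Groth.Agent.H1CAlg
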