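import Groth.Agent.H8Props.FieldDimFormula
import Mathlib.Algebra.Category.Ring.Constructions
import Mathlib.RingTheory.Jacobson.Ring

/-! Local dimension of the spectrum of a finite type algebra over a field. -/

set_option autoImplicit false
universe u

open AlgebraicGeometry CategoryTheory
open scoped TensorProduct

namespace Groth.Agent.H1CAlg

open H8Props.FieldDim

variable {k S : Type u} [Field k] [CommRing S] [Algebra k S] [Algebra.FiniteType k S]

theorem locallyOfFiniteType_spec (k S : Type u) [Field k] [CommRing S] [Algebra k S] [h : Algebra.FiniteType k S] :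
    LocallyOfFiniteType (Spec.map (CommRingCat.ofHom (algebraMap k S))) := by
  rw [HasRingHomProperty.Spec_iff (P := @LocallyOfFiniteType)]
  exact RingHom.finiteType_algebraMap.mpr h

include k

theorem localDim_spec_eq_iSup (p : PrimeSpectrum S) :
    FlatMor.localDim (PrimeSpectrum S) p = ⨆ q : {q : PrimeSpectrum S // q ≤ p}, ringKrullDim (S ⧸ q.1.asIdeal) := by
  let f := Spec.map (CommRingCat.ofHom (algebraMap k S))
  haveI := locallyOfFiniteType_spec k S
  have hd : ∀ q : PrimeSpectrum S, cdim (X := Spec (CommRingCat.of S)) q = ringKrullDim (S ⧸ q.asIdeal) :=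
    fun q => cdim_eq_chart f (A := S) (𝟙 _) q
  refine (localDim_eq f p).trans (le_antisymm (iSup_le fun η => ?_) (iSup_le fun q => ?_))
  · rw [hd]
    exact le_iSup_of_le ⟨η.1, (PrimeSpectrum.le_iff_specializes η.1 p).mpr η.2⟩ le_rfl
  · exact le_iSup_of_le ⟨q.1, (PrimeSpectrum.le_iff_specializes q.1 p).mp q.2⟩ (hd q.1).ge

theorem localDim_spec_eq_height_add (p : PrimeSpectrum S) :
    FlatMor.localDim (PrimeSpectrum S) p = (p.asIdeal.height : WithBot ℕ∞) + ringKrullDim (S ⧸ p.asIdeal) :=
  (localDim_spec_eq_iSup (k := k) p).trans (height_add_dim_quotient_eq_iSup (k := k) S p).symm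

theorem dim_quotient_eq_trdeg (p : Ideal S) [p.IsPrime] (r : ℕ) (hr : Algebra.trdeg k p.ResidueField = r) :
    ringKrullDim (S ⧸ p) = (r : WithBot ℕ∞) := by
  haveI : Algebra.FiniteType k (S ⧸ p) := Algebra.FiniteType.trans (R := k) (S := S) inferInstance inferInstance
  obtain ⟨s, hs, hs'⟩ := exists_dim_trdeg k (S ⧸ p)
  haveI : FaithfulSMul (S ⧸ p) p.ResidueField := (faithfulSMul_iff_algebraMap_injective _ _).mpr
    (IsFractionRing.injective (S ⧸ p) p.ResidueField)
  have h1 := trdeg_add_eq k (S ⧸ p) (A := p.ResidueField)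
  haveI : Algebra.IsAlgebraic (S ⧸ p) p.ResidueField := IsLocalization.isAlgebraic p.ResidueField (nonZeroDivisors _)
  rw [trdeg_eq_zero (R := S ⧸ p), add_zero, hs', hr] at h1
  rw [hs]
  exact_mod_cast h1

theorem localDim_spec_eq_iInf (p : Ideal S) [p.IsPrime] :
    FlatMor.localDim (PrimeSpectrum S) ⟨p, inferInstance⟩ =
      ⨅ m : {m : Ideal S // m.IsMaximal ∧ p ≤ m}, ringKrullDim (Localization.AtPrime (hp := m.2.1.isPrime') m.1) := by
  classical
  haveI : IsNoetherianRing S := Algebra.FiniteType.isNoetherianRing k S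
  haveI : IsJacobsonRing S := isJacobsonRing_of_finiteType (A := k)
  let pp : PrimeSpectrum S := ⟨p, inferInstance⟩
  have hdim : ∀ m : {m : Ideal S // m.IsMaximal ∧ p ≤ m},
      ringKrullDim (Localization.AtPrime (hp := m.2.1.isPrime') m.1) =
        FlatMor.localDim (PrimeSpectrum S) ⟨m.1, m.2.1.isPrime'⟩ := fun m => by
    haveI := m.2.1
    rw [localDim_spec_eq_height_add (k := k) ⟨m.1, m.2.1.isPrime'⟩,
      IsLocalization.AtPrime.ringKrullDim_eq_height m.1]
    letI := Ideal.Quotient.field m.1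
    show _ = (m.1.height : WithBot ℕ∞) + ringKrullDim (S ⧸ m.1)
    rw [ringKrullDim_eq_zero_of_field (S ⧸ m.1), add_zero]
  refine le_antisymm (le_iInf fun m => ?_) ?_
  · rw [hdim, localDim_spec_eq_iSup (k := k), localDim_spec_eq_iSup (k := k)]
    exact iSup_le fun q => le_iSup_of_le ⟨q.1, q.2.trans m.2.2⟩ le_rfl
  · let bad : Finset (Ideal S) :=
      (minimalPrimes.finite_of_isNoetherianRing S).toFinset.filter fun q => ¬ q ≤ p
    obtain ⟨a, haI, hap⟩ : ∃ a ∈ bad.inf id, a ∉ p := by
      refine SetLike.not_le_iff_exists.mp fun h => ?_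
      obtain ⟨q, hq, hqp⟩ := Ideal.IsPrime.inf_le' ‹p.IsPrime› |>.mp h
      exact (Finset.mem_filter.mp hq).2 hqp
    obtain ⟨m, ⟨hpm, hm⟩, ham⟩ : ∃ m : Ideal S, (p ≤ m ∧ m.IsMaximal) ∧ a ∉ m := by
      by_contra hne
      push Not at hne
      refine hap ?_
      rw [← IsJacobsonRing.out' (R := S) p (Ideal.IsPrime.isRadical ‹_›), Ideal.jacobson, Ideal.mem_sInf]
      exact fun {m} hm => hne m hm
    refine iInf_le_of_le ⟨m, hm, hpm⟩ ?_
    rw [hdim, localDim_spec_eq_iSup (k := k), localDim_spec_eq_iSup (k := k)]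
    refine iSup_le fun q => ?_
    obtain ⟨q₀, hq₀, hle⟩ := Ideal.exists_minimalPrimes_le (show (⊥ : Ideal S) ≤ q.1.asIdeal from bot_le)
    haveI := hq₀.1.1
    have hq₀p : q₀ ≤ p := by
      by_contra hnot
      have hmem : q₀ ∈ bad := Finset.mem_filter.mpr ⟨(minimalPrimes.finite_of_isNoetherianRing S).mem_toFinset.mpr hq₀, hnot⟩
      exact ham (q.2 (hle ((Finset.inf_le (f := (id : Ideal S → Ideal S)) hmem) haI)))
    refine le_trans ?_ (le_iSup_of_le ⟨⟨q₀, hq₀.1.1⟩, hq₀p⟩ le_rfl)
    exact ringKrullDim_le_of_surjective (Ideal.Quotient.factor hle) (Ideal.Quotient.factor_surjective hle)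

theorem localDim_spec_baseChange (K : Type u) [Field K] [Algebra k K] (Q : PrimeSpectrum (K ⊗[k] S)) :
    FlatMor.localDim (PrimeSpectrum (K ⊗[k] S)) Q =
      FlatMor.localDim (PrimeSpectrum S)
        (PrimeSpectrum.comap (Algebra.TensorProduct.includeRight.toRingHom : S →+* K ⊗[k] S) Q) := by
  haveI := locallyOfFiniteType_spec k S
  let g := Spec.map (CommRingCat.ofHom (Algebra.TensorProduct.includeRight.toRingHom : S →+* K ⊗[k] S))
  let f' := Spec.map (CommRingCat.ofHom (algebraMap K (K ⊗[k] S)))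
  have hc : IsPullback g f' (Spec.map (CommRingCat.ofHom (algebraMap k S)))
      (Spec.map (CommRingCat.ofHom (algebraMap k K))) := by
    refine (isPullback_SpecMap_of_isPushout _ _ _ _ ?_).flip
    exact CommRingCat.isPushout_tensorProduct k K S
  exact localDim_baseChange (Spec.map (CommRingCat.ofHom (algebraMap k S))) g f' hc Q

end Groth.Agent.H1CAlg
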