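import Groth.Agent.H1CAlg.InjModMaxBC
import Groth.Agent.H06EGA11.Model
import Mathlib

/-!
# Injectivity modulo the maximal ideal for essentially finitely presented local algebras (EGA IV 11.3.7)

`S` is a local `R`-algebra which is a localization of a finitely presented one. Finitely presented
`S`-modules and maps between them come from a Noetherian model, to which
`InjModMax.ker_killed_and_flat` applies.
-/

set_option autoImplicit false
set_option linter.style.haveILetI false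

universe u

open TensorProduct LinearMap IsLocalRing
open Groth.Agent.H06EGA11

namespace Groth.Agent.H1CAlg.InjModMax

attribute [local instance] Algebra.TensorProduct.rightAlgebra

section Model

variable {R₀ P₀ M₀ N₀ : Type u} [CommRing R₀] [IsNoetherianRing R₀] [CommRing P₀] [Algebra R₀ P₀]
  [Algebra.FiniteType R₀ P₀]
  [AddCommGroup M₀] [Module R₀ M₀] [Module P₀ M₀] [IsScalarTower R₀ P₀ M₀] [Module.Finite P₀ M₀]
  [AddCommGroup N₀] [Module R₀ N₀] [Module P₀ N₀] [IsScalarTower R₀ P₀ N₀] [Module.Finite P₀ N₀]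
  {R : Type u} [CommRing R] [IsLocalRing R] [Algebra R₀ R] (u₀ : M₀ →ₗ[P₀] N₀)

/-- The criterion for a base change, at a stage where the target is flat. -/
theorem atStage (R' : Type u) [CommRing R'] [Algebra R₀ R'] [Algebra.FiniteType R₀ R'] [Algebra R' R]
    [IsScalarTower R₀ R' R] (Q : Ideal (P₀ ⊗[R₀] R)) [Q.IsPrime]
    (hQ : Q.comap (algebraMap R (P₀ ⊗[R₀] R)) = maximalIdeal R)
    [Module.Flat R' (LocalizedModule
      (Q.comap (mapBC P₀ (IsScalarTower.toAlgHom R₀ R' R)).toRingHom).primeCompl (BC R₀ P₀ N₀ R'))]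
    (hinj : ∀ x : BC R₀ P₀ M₀ R,
      u₀.baseChange (P₀ ⊗[R₀] R) x ∈ maximalIdeal R • (⊤ : Submodule R (BC R₀ P₀ N₀ R)) →
      ∃ T ∉ Q, T • x ∈ maximalIdeal R • (⊤ : Submodule R (BC R₀ P₀ M₀ R))) :
    (∀ x, u₀.baseChange (P₀ ⊗[R₀] R) x = 0 → ∃ T ∉ Q, T • x = 0) ∧
      Module.Flat R (LocalizedModule Q.primeCompl
        (BC R₀ P₀ N₀ R ⧸ LinearMap.range (u₀.baseChange (P₀ ⊗[R₀] R)))) := by
  haveI : IsNoetherianRing R' := Algebra.FiniteType.isNoetherianRing R₀ R'
  haveI : IsNoetherianRing P₀ := Algebra.FiniteType.isNoetherianRing R₀ P₀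
  haveI : IsNoetherianRing (P₀ ⊗[R₀] R') := Algebra.FiniteType.isNoetherianRing P₀ _
  letI : Algebra R' (P₀ ⊗[R₀] R) :=
    ((algebraMap R (P₀ ⊗[R₀] R)).comp (algebraMap R' R)).toAlgebra
  haveI : IsScalarTower R' R (P₀ ⊗[R₀] R) := IsScalarTower.of_algebraMap_eq fun _ => rfl
  let φ₀ := mapBC P₀ (IsScalarTower.toAlgHom R₀ R' R)
  let φ : P₀ ⊗[R₀] R' →ₐ[R'] P₀ ⊗[R₀] R :=
    { φ₀.toRingHom with
      commutes' := fun r => by
        show φ₀ ((1 : P₀) ⊗ₜ r) = (1 : P₀) ⊗ₜ algebraMap R' R r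
        rfl }
  haveI : IsScalarTower R₀ R' (P₀ ⊗[R₀] R) := IsScalarTower.of_algebraMap_eq fun r => by
    show _ = algebraMap R (P₀ ⊗[R₀] R) (algebraMap R' R (algebraMap R₀ R' r))
    rw [← IsScalarTower.algebraMap_apply R₀ R' R, ← IsScalarTower.algebraMap_apply R₀ R (P₀ ⊗[R₀] R)]
  haveI : SMulCommClass P₀ R' (P₀ ⊗[R₀] R) := ⟨fun a b x => by
    simp only [Algebra.smul_def]; ring⟩
  let mk : ∀ (X : Type u) [AddCommGroup X] [Module R₀ X] [Module P₀ X] [IsScalarTower R₀ P₀ X],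
      BC R₀ P₀ X R' →ₗ[R'] BC R₀ P₀ X R := fun X _ _ _ _ =>
    { toFun := φ₀.toLinearMap.rTensor X
      map_add' := map_add _
      map_smul' := fun r x => by
        induction x using TensorProduct.induction_on with
        | zero => simp
        | tmul p m =>
          show φ₀.toLinearMap (r • p) ⊗ₜ[P₀] m = (r • φ₀ p) ⊗ₜ[P₀] m
          congr 1
          show φ₀ (r • p) = r • φ₀ p
          rw [Algebra.smul_def, map_mul, Algebra.smul_def]
          rfl
        | add a b ha hb => simp only [smul_add, map_add, ha, hb] }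
  have hmk : ∀ (X : Type u) [AddCommGroup X] [Module R₀ X] [Module P₀ X] [IsScalarTower R₀ P₀ X]
      (p : P₀ ⊗[R₀] R') (m : X), mk X (p ⊗ₜ m) = φ₀ p ⊗ₜ m := fun X _ _ _ _ p m => rfl
  have hbc : ∀ (X : Type u) [AddCommGroup X] [Module R₀ X] [Module P₀ X] [IsScalarTower R₀ P₀ X],
      IsBaseChange R (mk X) := fun X _ _ _ _ => by
    refine IsBaseChange.of_comp (isBaseChange_toBC (R₀ := R₀) (B₀ := P₀) (M₀ := X) R') ?_
    have : ((mk X).restrictScalars R₀) ∘ₗ toBC R₀ P₀ X R' = toBC R₀ P₀ X R :=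
      LinearMap.ext fun m => by
        show mk X (1 ⊗ₜ m) = 1 ⊗ₜ m
        rw [hmk, map_one]
    rw [this]
    exact isBaseChange_toBC R
  have hsm : ∀ (X : Type u) [AddCommGroup X] [Module R₀ X] [Module P₀ X] [IsScalarTower R₀ P₀ X]
      (b : P₀ ⊗[R₀] R') (z : BC R₀ P₀ X R'), mk X (b • z) = φ b • mk X z := fun X _ _ _ _ b z => by
    induction z using TensorProduct.induction_on with
    | zero => simp
    | tmul p m =>
      rw [TensorProduct.smul_tmul', hmk, hmk, smul_eq_mul, map_mul, TensorProduct.smul_tmul']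
      rfl
    | add a c ha hc => simp only [smul_add, map_add, ha, hc]
  have hspan : Submodule.span R (Set.range φ) = ⊤ := top_unique fun x _ => by
    induction x with
    | zero => exact zero_mem _
    | tmul b r =>
      have h1 : (b ⊗ₜ[R₀] r : P₀ ⊗[R₀] R) = r • φ (b ⊗ₜ 1) := by
        show _ = r • φ₀ (b ⊗ₜ 1)
        show _ = r • (b ⊗ₜ[R₀] algebraMap R' R 1)
        rw [map_one, Algebra.smul_def]
        show _ = ((1 : P₀) ⊗ₜ[R₀] r) * (b ⊗ₜ[R₀] (1 : R))
        rw [Algebra.TensorProduct.tmul_mul_tmul, one_mul, mul_one]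
      rw [h1]
      exact Submodule.smul_mem _ _ (Submodule.subset_span ⟨_, rfl⟩)
    | add a c ha hc => exact add_mem (ha trivial) (hc trivial)
  haveI : (Q.comap φ).IsPrime := Ideal.IsPrime.comap _
  haveI : Module.Flat R' (LocalizedModule (Q.comap φ).primeCompl (BC R₀ P₀ N₀ R')) :=
    ‹Module.Flat R' _›
  refine ker_killed_and_flat φ (hbc M₀) (hbc N₀) (hsm M₀) (hsm N₀) (u₀.baseChange (P₀ ⊗[R₀] R'))
    (u₀.baseChange (P₀ ⊗[R₀] R)) (fun z => ?_) Q hQ hspan hinj
  induction z using TensorProduct.induction_on with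
  | zero => simp
  | tmul p m => rw [hmk, LinearMap.baseChange_tmul, LinearMap.baseChange_tmul, hmk]
  | add a b ha hb => simp only [map_add, ha, hb]

/-- The criterion for a base change of a Noetherian model. -/
theorem criterion (Q : Ideal (P₀ ⊗[R₀] R)) [Q.IsPrime]
    (hQ : Q.comap (algebraMap R (P₀ ⊗[R₀] R)) = maximalIdeal R)
    [Module.Flat R (LocalizedModule Q.primeCompl (BC R₀ P₀ N₀ R))]
    (hinj : ∀ x : BC R₀ P₀ M₀ R,
      u₀.baseChange (P₀ ⊗[R₀] R) x ∈ maximalIdeal R • (⊤ : Submodule R (BC R₀ P₀ N₀ R)) →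
      ∃ T ∉ Q, T • x ∈ maximalIdeal R • (⊤ : Submodule R (BC R₀ P₀ M₀ R))) :
    (∀ x, u₀.baseChange (P₀ ⊗[R₀] R) x = 0 → ∃ T ∉ Q, T • x = 0) ∧
      Module.Flat R (LocalizedModule Q.primeCompl
        (BC R₀ P₀ N₀ R ⧸ LinearMap.range (u₀.baseChange (P₀ ⊗[R₀] R)))) := by
  obtain ⟨R₁, hR₁, H⟩ := exists_stage_flat_at (R₀ := R₀) (B₀ := P₀) (M₀ := N₀) Q
  haveI : Algebra.FiniteType R₀ R₁ := R₁.fg_iff_finiteType.1 hR₁
  haveI : Module.Flat R₁ (LocalizedModule
      (Q.comap (mapBC P₀ (IsScalarTower.toAlgHom R₀ R₁ R)).toRingHom).primeCompl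
      (BC R₀ P₀ N₀ R₁)) := H R₁ le_rfl hR₁
  exact atStage u₀ R₁ Q hQ hinj

end Model

section Pres

variable {P S : Type u} [CommRing P] [CommRing S] [IsLocalRing S] [Algebra P S]
  {M : Type u} [AddCommGroup M] [Module S M] [Module P M] [IsScalarTower P S M]

local notation "QQ" => Ideal.comap (algebraMap P S) (IsLocalRing.maximalIdeal S)

omit [IsLocalRing S] in
theorem isUnit_of_not_mem [IsLocalRing S] {T : P} (hT : T ∉ QQ) : IsUnit (algebraMap P S T) := by
  by_contra h
  exact hT ((mem_maximalIdeal _).2 h)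

/-- Common denominators. -/
theorem exists_denom (hS : ∀ s : S, ∃ T ∉ QQ, ∃ p, s * algebraMap P S T = algebraMap P S p)
    {ι : Type*} [Fintype ι] (s : ι → S) :
    ∃ T ∉ QQ, ∃ p : ι → P, ∀ i, s i * algebraMap P S T = algebraMap P S (p i) := by
  classical
  choose T hT p hp using fun i => hS (s i)
  refine ⟨∏ i, T i, prod_mem (S := (QQ).primeCompl) fun i _ => hT i,
    fun i => p i * ∏ j ∈ Finset.univ.erase i, T j, fun i => ?_⟩
  rw [← Finset.mul_prod_erase _ T (Finset.mem_univ i), map_mul, map_mul, ← mul_assoc, hp]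

/-- Every element is a linear combination of generators, up to a denominator. -/
theorem exists_rep (hS : ∀ s : S, ∃ T ∉ QQ, ∃ p, s * algebraMap P S T = algebraMap P S p)
    {k : ℕ} (v : Fin k → M) (hv : Submodule.span S (Set.range v) = ⊤) (x : M) :
    ∃ T ∉ QQ, ∃ z : Fin k → P, T • x = ∑ j, z j • v j := by
  obtain ⟨s, rfl⟩ := (Submodule.mem_span_range_iff_exists_fun S).1 (hv.symm ▸ Submodule.mem_top (x := x))
  obtain ⟨T, hT, z, hz⟩ := exists_denom hS s
  refine ⟨T, hT, z, ?_⟩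
  rw [Finset.smul_sum]
  refine Finset.sum_congr rfl fun j _ => ?_
  rw [← algebraMap_smul S T (s j • v j), smul_smul, mul_comm, hz, algebraMap_smul]

/-- Relations between generators, up to denominators. -/
theorem exists_rel (hS : ∀ s : S, ∃ T ∉ QQ, ∃ p, s * algebraMap P S T = algebraMap P S p)
    (G : Finset P) (hG : ∀ g ∈ G, algebraMap P S g = 0)
    (hK : ∀ y, algebraMap P S y = 0 → ∃ T ∉ QQ, T * y ∈ Ideal.span (G : Set P))
    [Module.FinitePresentation S M] {k : ℕ} (v : Fin k → M)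
    (hv : Submodule.span S (Set.range v) = ⊤) :
    ∃ (m : ℕ) (d : Fin m → Fin k → P), (∀ i, ∑ j, d i j • v j = 0) ∧
      ∀ x : Fin k → P, ∑ j, x j • v j = 0 → ∃ T ∉ QQ, T • x ∈ Submodule.span P (Set.range d) := by
  classical
  let LS := Fintype.linearCombination S v
  obtain ⟨F, hF⟩ := Module.FinitePresentation.fg_ker LS (by
    rw [← LinearMap.range_eq_top, Fintype.range_linearCombination, hv])
  choose Tr hTr pr hpr using fun r : Fin k → S => exists_denom hS r
  let D : Finset (Fin k → P) := F.image pr ∪ (G ×ˢ Finset.univ).image fun e => Pi.single e.2 e.1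
  obtain ⟨m, d, hd⟩ := Submodule.fg_iff_exists_fin_generating_family.1
    (Submodule.fg_span D.finite_toSet : (Submodule.span P (D : Set (Fin k → P))).FG)
  have hz : ∀ x : Fin k → P, ∑ j, x j • v j = LS (fun j => algebraMap P S (x j)) := fun x => by
    rw [Fintype.linearCombination_apply]
    exact Finset.sum_congr rfl fun j _ => (algebraMap_smul S _ _).symm
  have hD : Submodule.span P (D : Set (Fin k → P)) ≤ LinearMap.ker (Fintype.linearCombination P v) := by
    rw [Submodule.span_le]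
    intro x hx
    show Fintype.linearCombination P v x = 0
    rw [Fintype.linearCombination_apply, hz]
    rcases Finset.mem_union.1 hx with hx | hx
    · obtain ⟨r, hr, rfl⟩ := Finset.mem_image.1 hx
      have hr0 : LS r = 0 := LinearMap.mem_ker.1 (hF ▸ Submodule.subset_span hr)
      rw [show (fun j => algebraMap P S (pr r j)) = algebraMap P S (Tr r) • r from funext fun j => by
        rw [← hpr, Pi.smul_apply, smul_eq_mul, mul_comm], map_smul, hr0, smul_zero]
    · obtain ⟨⟨g, j⟩, hg, rfl⟩ := Finset.mem_image.1 hx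
      rw [show (fun i => algebraMap P S ((Pi.single j g : Fin k → P) i)) = 0 from funext fun i => by
        rcases eq_or_ne i j with rfl | h
        · rw [Pi.single_eq_same, hG g (Finset.mem_product.1 hg).1]; rfl
        · rw [Pi.single_eq_of_ne h, map_zero]; rfl, map_zero]
  refine ⟨m, d, fun i => ?_, fun x hx => ?_⟩
  · have : d i ∈ Submodule.span P (D : Set (Fin k → P)) := hd ▸ Submodule.subset_span ⟨i, rfl⟩
    have h := LinearMap.mem_ker.1 (hD this)
    rwa [Fintype.linearCombination_apply] at h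
  · rw [hd]
    have key : ∀ z ∈ Submodule.span S (F : Set (Fin k → S)), ∃ T ∉ QQ,
        ∃ w ∈ Submodule.span P (D : Set (Fin k → P)), ∀ j, algebraMap P S (w j) = algebraMap P S T * z j := by
      intro z hz
      induction hz using Submodule.span_induction with
      | mem r hr =>
        refine ⟨Tr r, hTr r, pr r, Submodule.subset_span (Finset.mem_union_left _
          (Finset.mem_image_of_mem _ hr)), fun j => ?_⟩
        rw [← hpr, mul_comm]
      | zero => exact ⟨1, (QQ).primeCompl.one_mem, 0, zero_mem _, fun j => by simp⟩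
      | add a b _ _ ha hb =>
        obtain ⟨T, hT, w, hw, hwe⟩ := ha
        obtain ⟨T', hT', w', hw', hwe'⟩ := hb
        refine ⟨T * T', (QQ).primeCompl.mul_mem hT hT', T' • w + T • w',
          add_mem (Submodule.smul_mem _ _ hw) (Submodule.smul_mem _ _ hw'), fun j => ?_⟩
        simp only [Pi.add_apply, Pi.smul_apply, smul_eq_mul, map_add, map_mul, hwe, hwe']
        ring
      | smul s a _ ha =>
        obtain ⟨T, hT, w, hw, hwe⟩ := ha
        obtain ⟨T', hT', p, hp⟩ := hS s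
        refine ⟨T * T', (QQ).primeCompl.mul_mem hT hT', p • w, Submodule.smul_mem _ _ hw, fun j => ?_⟩
        simp only [Pi.smul_apply, smul_eq_mul, map_mul, hwe, ← hp]
        ring
    have hxF : (fun j => algebraMap P S (x j)) ∈ Submodule.span S (F : Set (Fin k → S)) := by
      rw [hF, LinearMap.mem_ker, ← hz, hx]
    obtain ⟨T, hT, w, hw, hwe⟩ := key _ hxF
    choose T' hT' hT'G using fun j => hK (T * x j - w j) (by rw [map_sub, map_mul, hwe, sub_self])
    refine ⟨(∏ j, T' j) * T, (QQ).primeCompl.mul_mem (prod_mem fun j _ => hT' j) hT, ?_⟩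
    have e : ((∏ j, T' j) * T) • x = (∏ j, T' j) • w +
        ∑ j, (∏ i ∈ Finset.univ.erase j, T' i) • Pi.single j (T' j * (T * x j - w j)) := by
      have h2 : ∀ j, (∏ i ∈ Finset.univ.erase j, T' i) • (Pi.single j (T' j * (T * x j - w j)) : Fin k → P)
          = Pi.single j ((∏ i, T' i) * (T * x j - w j)) := fun j => by
        rw [← Pi.single_smul, smul_eq_mul, ← mul_assoc, mul_comm _ (T' j),
          Finset.mul_prod_erase _ T' (Finset.mem_univ j)]
      simp only [h2, Finset.univ_sum_single]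
      funext j
      simp only [Pi.add_apply, Pi.smul_apply, smul_eq_mul]
      ring
    rw [e]
    refine add_mem (Submodule.smul_mem _ _ hw) (Submodule.sum_mem _ fun j _ => Submodule.smul_mem _ _ ?_)
    have : ∀ y ∈ Ideal.span (G : Set P), (Pi.single j y : Fin k → P) ∈ Submodule.span P (D : Set (Fin k → P)) := by
      intro y hy
      induction hy using Submodule.span_induction with
      | mem g hg =>
        exact Submodule.subset_span (Finset.mem_union_right _ (Finset.mem_image.2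
          ⟨(g, j), Finset.mem_product.2 ⟨hg, Finset.mem_univ j⟩, rfl⟩))
      | zero => simp
      | add a b _ _ ha hb => rw [Pi.single_add]; exact add_mem ha hb
      | smul c a _ ha => rw [Pi.single_smul]; exact Submodule.smul_mem _ _ ha
    exact this _ (hT'G j)

/-- A `P`-linear map with units outside the prime, surjective and injective up to denominators is
a localization. -/
theorem isLocalizedModule_of_denom {X : Type u} [AddCommGroup X] [Module P X] (w : X →ₗ[P] M)
    (hsurj : ∀ y : M, ∃ T ∉ QQ, ∃ z, T • y = w z)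
    (hker : ∀ z, w z = 0 → ∃ T ∉ QQ, T • z = 0) : IsLocalizedModule (QQ).primeCompl w := by
  refine ⟨fun T => ?_, fun y => ?_, fun {a b} h => ?_⟩
  · rw [Module.End.isUnit_iff]
    obtain ⟨e, he⟩ := isUnit_of_not_mem T.2
    refine ⟨fun a b hab => ?_, fun y => ⟨(e⁻¹ : Sˣ) • y, ?_⟩⟩
    · have : e • a = e • b := by
        show (e : S) • a = (e : S) • b
        rw [he, algebraMap_smul, algebraMap_smul]; exact hab
      exact smul_left_cancel e this
    · show (T : P) • ((e⁻¹ : Sˣ) • y) = y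
      rw [← algebraMap_smul S (T : P), ← he]
      exact smul_inv_smul e y
  · obtain ⟨T, hT, z, hz⟩ := hsurj y
    exact ⟨(z, ⟨T, hT⟩), hz⟩
  · obtain ⟨T, hT, hz⟩ := hker (a - b) (by rw [map_sub, h, sub_self])
    exact ⟨⟨T, hT⟩, sub_eq_zero.1 (by rw [← smul_sub]; exact hz)⟩

omit [IsLocalRing S] [Module S M] [IsScalarTower P S M] in
/-- The comparison map from the base change of a presented model. -/
theorem exists_bcMap {P₀ : Type u} [CommRing P₀] [Algebra P₀ P] (Q : Ideal P) [Q.IsPrime]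
    {k m : ℕ} (c : Fin m → Fin k → P₀) (v : Fin k → M)
    (hzero : ∀ i, ∑ j, algebraMap P₀ P (c i j) • v j = 0)
    (hrep : ∀ x : M, ∃ T ∉ Q, ∃ z : Fin k → P, T • x = ∑ j, z j • v j)
    (hrel : ∀ x : Fin k → P, ∑ j, x j • v j = 0 →
      ∃ T ∉ Q, T • x ∈ Submodule.span P (Set.range fun i j => algebraMap P₀ P (c i j))) :
    ∃ w : P ⊗[P₀] ((Fin k → P₀) ⧸ Submodule.span P₀ (Set.range c)) →ₗ[P] M,
      (∀ j, w (1 ⊗ₜ Submodule.Quotient.mk (Pi.single j 1)) = v j) ∧
      (∀ z, w z = 0 → ∃ T ∉ Q, T • z = 0) ∧ ∀ x : M, ∃ T ∉ Q, ∃ z, T • x = w z := by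
  classical
  letI : Module P₀ M := Module.compHom M (algebraMap P₀ P)
  haveI : IsScalarTower P₀ P M := IsScalarTower.of_algebraMap_smul fun _ _ => rfl
  let M₀ := (Fin k → P₀) ⧸ Submodule.span P₀ (Set.range c)
  let l : M₀ →ₗ[P₀] M :=
    (Submodule.span P₀ (Set.range c)).liftQ (Fintype.linearCombination P₀ v) (Submodule.span_le.2 (by
      rintro _ ⟨i, rfl⟩
      show Fintype.linearCombination P₀ v (c i) = 0
      rw [Fintype.linearCombination_apply, ← hzero i]
      exact Finset.sum_congr rfl fun j _ => (algebraMap_smul P (c i j) (v j)).symm))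
  let w := l.liftBaseChange P
  let e (j : Fin k) : P ⊗[P₀] M₀ := 1 ⊗ₜ Submodule.Quotient.mk (Pi.single j 1)
  let q := Fintype.linearCombination P e
  have hwe : ∀ j, w (e j) = v j := fun j => by
    show l.liftBaseChange P (1 ⊗ₜ Submodule.Quotient.mk (Pi.single j 1)) = v j
    rw [LinearMap.liftBaseChange_tmul, one_smul]
    show Fintype.linearCombination P₀ v (Pi.single j 1) = v j
    rw [Fintype.linearCombination_apply_single, one_smul]
  have hq : ∀ (x : Fin k → P₀), q (fun j => algebraMap P₀ P (x j)) = 1 ⊗ₜ Submodule.Quotient.mk x := by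
    intro x
    have hx : (Submodule.Quotient.mk x : M₀) = ∑ j, x j • Submodule.Quotient.mk (Pi.single j 1) := by
      conv_lhs => rw [pi_eq_sum_univ' x]
      rw [← Submodule.mkQ_apply, map_sum]
      exact Finset.sum_congr rfl fun j _ => map_smul _ _ _
    rw [Fintype.linearCombination_apply, hx, TensorProduct.tmul_sum]
    exact Finset.sum_congr rfl fun j _ => by rw [algebraMap_smul, TensorProduct.tmul_smul]
  have hqs : Function.Surjective q := by
    intro z
    induction z with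
    | zero => exact ⟨0, map_zero q⟩
    | tmul s x =>
      obtain ⟨x, rfl⟩ := Submodule.Quotient.mk_surjective _ x
      refine ⟨s • fun j => algebraMap P₀ P (x j), ?_⟩
      rw [map_smul, hq, TensorProduct.smul_tmul', smul_eq_mul, mul_one]
    | add a b ha hb =>
      obtain ⟨x, rfl⟩ := ha
      obtain ⟨y, rfl⟩ := hb
      exact ⟨x + y, map_add q x y⟩
  have hwq : ∀ x, w (q x) = ∑ j, x j • v j := fun x => by
    simp only [q, Fintype.linearCombination_apply, map_sum, map_smul, hwe]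
  refine ⟨w, hwe, fun z hz => ?_, fun x => ?_⟩
  · obtain ⟨x, rfl⟩ := hqs z
    rw [hwq] at hz
    obtain ⟨T, hT, hTx⟩ := hrel x hz
    refine ⟨T, hT, ?_⟩
    rw [← map_smul]
    refine LinearMap.mem_ker.1 (Submodule.span_le.2 ?_ hTx)
    rintro _ ⟨i, rfl⟩
    show q (fun j => algebraMap P₀ P (c i j)) = 0
    rw [hq, (Submodule.Quotient.mk_eq_zero _).2 (Submodule.subset_span (Set.mem_range_self i)),
      TensorProduct.tmul_zero]
  · obtain ⟨T, hT, z, hz⟩ := hrep x
    exact ⟨T, hT, q z, hz.trans (hwq z).symm⟩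

end Pres

/-- The criterion for modules which are localizations of a base change of a Noetherian model. -/
theorem of_model {R₀ P₀ M₀ N₀ R S M N : Type u} [CommRing R₀] [IsNoetherianRing R₀] [CommRing P₀]
    [Algebra R₀ P₀] [Algebra.FiniteType R₀ P₀]
    [AddCommGroup M₀] [Module R₀ M₀] [Module P₀ M₀] [IsScalarTower R₀ P₀ M₀] [Module.Finite P₀ M₀]
    [AddCommGroup N₀] [Module R₀ N₀] [Module P₀ N₀] [IsScalarTower R₀ P₀ N₀] [Module.Finite P₀ N₀]
    [CommRing R] [IsLocalRing R] [Algebra R₀ R] [CommRing S] [IsLocalRing S] [Algebra R S]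
    [Algebra (P₀ ⊗[R₀] R) S]
    [AddCommGroup M] [Module S M] [Module R M] [IsScalarTower R S M]
    [Module (P₀ ⊗[R₀] R) M] [IsScalarTower (P₀ ⊗[R₀] R) S M] [IsScalarTower R (P₀ ⊗[R₀] R) M]
    [AddCommGroup N] [Module S N] [Module R N] [IsScalarTower R S N] [Module.Flat R N]
    [Module (P₀ ⊗[R₀] R) N] [IsScalarTower (P₀ ⊗[R₀] R) S N] [IsScalarTower R (P₀ ⊗[R₀] R) N]
    (Q : Ideal (P₀ ⊗[R₀] R)) [Q.IsPrime]
    (hQS : Q = (maximalIdeal S).comap (algebraMap (P₀ ⊗[R₀] R) S))
    (hQ' : Q.comap (algebraMap R (P₀ ⊗[R₀] R)) = maximalIdeal R)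
    (u₀ : M₀ →ₗ[P₀] N₀) (u : M →ₗ[S] N)
    (hu : ∀ x : M, u x ∈ (maximalIdeal R).map (algebraMap R S) • (⊤ : Submodule S N) →
      x ∈ (maximalIdeal R).map (algebraMap R S) • (⊤ : Submodule S M))
    (wM : (P₀ ⊗[R₀] R) ⊗[P₀] M₀ →ₗ[P₀ ⊗[R₀] R] M)
    (hwMker : ∀ z, wM z = 0 → ∃ T ∉ Q, T • z = 0) (hwMsurj : ∀ x, ∃ T ∉ Q, ∃ z, T • x = wM z)
    (wN : (P₀ ⊗[R₀] R) ⊗[P₀] N₀ →ₗ[P₀ ⊗[R₀] R] N)
    (hwNker : ∀ z, wN z = 0 → ∃ T ∉ Q, T • z = 0) (hwNsurj : ∀ x, ∃ T ∉ Q, ∃ z, T • x = wN z)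
    (hcomp' : ∀ z, wN (u₀.baseChange (P₀ ⊗[R₀] R) z) = u (wM z)) :
    Function.Injective u ∧ Module.Flat R (N ⧸ LinearMap.range u) := by
  classical
  subst hQS
  set Q := (maximalIdeal S).comap (algebraMap (P₀ ⊗[R₀] R) S) with hQdef
  let U := u₀.baseChange (P₀ ⊗[R₀] R)
  let uP : M →ₗ[P₀ ⊗[R₀] R] N := u.restrictScalars (P₀ ⊗[R₀] R)
  have hcomp : ∀ z, wN (U z) = uP (wM z) := hcomp'
  haveI hlocN : IsLocalizedModule Q.primeCompl wN :=
    isLocalizedModule_of_denom (S := S) wN hwNsurj hwNker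
  haveI : Module.Flat R (LocalizedModule Q.primeCompl (BC R₀ P₀ N₀ R)) :=
    Module.Flat.of_linearEquiv ((IsLocalizedModule.iso Q.primeCompl wN).restrictScalars R)
  -- the residue hypothesis
  have hmS : ∀ {X : Type u} [AddCommGroup X] [Module S X] [Module R X] [IsScalarTower R S X] (x : X),
      x ∈ maximalIdeal R • (⊤ : Submodule R X) ↔
        x ∈ (maximalIdeal R).map (algebraMap R S) • (⊤ : Submodule S X) := fun x => by
    rw [← Submodule.restrictScalars_top R S, ← Ideal.smul_restrictScalars, Submodule.restrictScalars_mem]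
  have hpush : ∀ z ∈ maximalIdeal R • (⊤ : Submodule R (BC R₀ P₀ N₀ R)),
      wN z ∈ maximalIdeal R • (⊤ : Submodule R N) := fun z hz => by
    refine Submodule.smul_induction_on hz (fun r hr x _ => ?_) fun a b ha hb => ?_
    · rw [LinearMap.map_smul_of_tower]
      exact Submodule.smul_mem_smul hr Submodule.mem_top
    · rw [map_add]; exact add_mem ha hb
  have hclosed : ∀ (T : (P₀ ⊗[R₀] R)) (z : BC R₀ P₀ M₀ R), z ∈ maximalIdeal R • (⊤ : Submodule R _) →
      T • z ∈ maximalIdeal R • (⊤ : Submodule R _) := fun T z hz => by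
    refine Submodule.smul_induction_on hz (fun r hr x _ => ?_) fun a b ha hb => ?_
    · rw [smul_comm]
      exact Submodule.smul_mem_smul hr Submodule.mem_top
    · rw [smul_add]; exact add_mem ha hb
  have hback : ∀ x ∈ maximalIdeal R • (⊤ : Submodule R M), ∃ T ∉ Q,
      ∃ z ∈ maximalIdeal R • (⊤ : Submodule R (BC R₀ P₀ M₀ R)), T • x = wM z := fun x hx => by
    refine Submodule.smul_induction_on hx (fun r hr x _ => ?_) ?_
    · obtain ⟨T, hT, z, hz⟩ := hwMsurj x
      exact ⟨T, hT, r • z, Submodule.smul_mem_smul hr Submodule.mem_top,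
        by rw [smul_comm, hz, LinearMap.map_smul_of_tower]⟩
    · rintro a b ⟨T, hT, z, hz, hze⟩ ⟨T', hT', z', hz', hze'⟩
      refine ⟨T * T', Q.primeCompl.mul_mem hT hT', T' • z + T • z',
        add_mem (hclosed _ _ hz) (hclosed _ _ hz'), ?_⟩
      rw [map_add, map_smul, map_smul, ← hze, ← hze', smul_add, smul_smul, smul_smul, mul_comm T']
  have hinj : ∀ z : BC R₀ P₀ M₀ R, U z ∈ maximalIdeal R • (⊤ : Submodule R (BC R₀ P₀ N₀ R)) →
      ∃ T ∉ Q, T • z ∈ maximalIdeal R • (⊤ : Submodule R (BC R₀ P₀ M₀ R)) := fun z hz => by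
    have h1 : wM z ∈ maximalIdeal R • (⊤ : Submodule R M) := by
      refine (hmS _).2 (hu _ ((hmS _).1 ?_))
      show uP (wM z) ∈ _
      rw [← hcomp]; exact hpush _ hz
    obtain ⟨T, hT, z', hz', he⟩ := hback _ h1
    obtain ⟨T', hT', hT'z⟩ := hwMker (T • z - z') (by rw [map_sub, map_smul, he, sub_self])
    refine ⟨T' * T, Q.primeCompl.mul_mem hT' hT, ?_⟩
    rw [smul_sub, sub_eq_zero, smul_smul] at hT'z
    exact hT'z ▸ hclosed _ _ hz'
  obtain ⟨hker, hflat⟩ := criterion u₀ Q hQ' hinj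
  refine ⟨(injective_iff_map_eq_zero u).2 fun x hx => ?_, ?_⟩
  · obtain ⟨T, hT, z, hz⟩ := hwMsurj x
    have h1 : wN (U z) = 0 := by
      rw [hcomp, ← hz, map_smul]
      show T • u x = 0
      rw [hx, smul_zero]
    obtain ⟨T', hT', h2⟩ := hwNker _ h1
    obtain ⟨T'', hT'', h3⟩ := hker (T' • z) (by rw [map_smul]; exact h2)
    have h4 : (T'' * T' * T) • x = 0 := by
      rw [mul_smul, hz, ← map_smul, mul_smul, h3, map_zero]
    have hun : IsUnit (algebraMap (P₀ ⊗[R₀] R) S (T'' * T' * T)) :=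
      isUnit_of_not_mem (Q.primeCompl.mul_mem (Q.primeCompl.mul_mem hT'' hT') hT)
    rw [← algebraMap_smul S] at h4
    exact hun.smul_eq_zero.1 h4
  · let C := N ⧸ LinearMap.range u
    let w0 : BC R₀ P₀ N₀ R →ₗ[(P₀ ⊗[R₀] R)] C := ((LinearMap.range u).mkQ.restrictScalars (P₀ ⊗[R₀] R)) ∘ₗ wN
    let w : (BC R₀ P₀ N₀ R ⧸ LinearMap.range U) →ₗ[(P₀ ⊗[R₀] R)] C :=
      (LinearMap.range U).liftQ w0 (by
        rintro _ ⟨z, rfl⟩
        show (Submodule.Quotient.mk (wN (U z)) : C) = 0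
        rw [hcomp, Submodule.Quotient.mk_eq_zero]
        exact ⟨wM z, rfl⟩)
    haveI : IsLocalizedModule Q.primeCompl w := by
      refine isLocalizedModule_of_denom (S := S) w (fun y => ?_) fun z hz => ?_
      · obtain ⟨y, rfl⟩ := Submodule.Quotient.mk_surjective _ y
        obtain ⟨T, hT, z, hz⟩ := hwNsurj y
        exact ⟨T, hT, Submodule.Quotient.mk z, by rw [← Submodule.Quotient.mk_smul, hz]; rfl⟩
      · obtain ⟨z, rfl⟩ := Submodule.Quotient.mk_surjective _ z
        obtain ⟨x, hx⟩ := (Submodule.Quotient.mk_eq_zero _).1 (hz : (Submodule.Quotient.mk (wN z) : C) = 0)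
        obtain ⟨T, hT, z', hz'⟩ := hwMsurj x
        obtain ⟨T', hT', hT'z⟩ := hwNker (T • z - U z') (by
          rw [map_sub, map_smul, hcomp, ← hz', map_smul, ← hx, sub_eq_zero]; rfl)
        refine ⟨T' * T, Q.primeCompl.mul_mem hT' hT, ?_⟩
        rw [← Submodule.Quotient.mk_smul, Submodule.Quotient.mk_eq_zero, mul_smul]
        rw [smul_sub, sub_eq_zero] at hT'z
        rw [hT'z, ← map_smul]
        exact ⟨_, rfl⟩
    exact Module.Flat.of_linearEquiv ((IsLocalizedModule.iso Q.primeCompl w).restrictScalars R).symm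



/-- The model of a map is compatible with the map. -/
theorem comp_eq {P₀ P M N : Type u} [CommRing P₀] [CommRing P] [Algebra P₀ P] [AddCommGroup M]
    [Module P M] [AddCommGroup N] [Module P N] {kM kN mM mN : ℕ} (a₀ : Fin mM → Fin kM → P₀)
    (d₀ : Fin mN → Fin kN → P₀) (y₀ : Fin kM → Fin kN → P₀)
    (u₀ : ((Fin kM → P₀) ⧸ Submodule.span P₀ (Set.range a₀)) →ₗ[P₀]
      ((Fin kN → P₀) ⧸ Submodule.span P₀ (Set.range d₀)))
    (hu₀ : ∀ j, u₀ (Submodule.Quotient.mk (Pi.single j 1)) = Submodule.Quotient.mk (y₀ j))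
    (vM : Fin kM → M) (vN : Fin kN → N) (u : M →ₗ[P] N)
    (wM : P ⊗[P₀] ((Fin kM → P₀) ⧸ Submodule.span P₀ (Set.range a₀)) →ₗ[P] M)
    (hwM : ∀ j, wM (1 ⊗ₜ Submodule.Quotient.mk (Pi.single j 1)) = vM j)
    (wN : P ⊗[P₀] ((Fin kN → P₀) ⧸ Submodule.span P₀ (Set.range d₀)) →ₗ[P] N)
    (hwN : ∀ j, wN (1 ⊗ₜ Submodule.Quotient.mk (Pi.single j 1)) = vN j)
    (huv : ∀ j, u (vM j) = ∑ l, algebraMap P₀ P (y₀ j l) • vN l) (z) :
    wN (u₀.baseChange P z) = u (wM z) := by
  classical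
  letI : Module P₀ N := Module.compHom N (algebraMap P₀ P)
  haveI : IsScalarTower P₀ P N := IsScalarTower.of_algebraMap_smul fun _ _ => rfl
  suffices h : wN ∘ₗ u₀.baseChange P = u ∘ₗ wM from LinearMap.congr_fun h z
  refine TensorProduct.AlgebraTensorModule.ext fun p x => ?_
  obtain ⟨x, rfl⟩ := Submodule.Quotient.mk_surjective _ x
  have hp : (p ⊗ₜ[P₀] (Submodule.Quotient.mk x : (Fin kM → P₀) ⧸ Submodule.span P₀ (Set.range a₀))) =
      ∑ j, (p * algebraMap P₀ P (x j)) •
        ((1 : P) ⊗ₜ[P₀] (Submodule.Quotient.mk (Pi.single j 1) :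
          (Fin kM → P₀) ⧸ Submodule.span P₀ (Set.range a₀))) := by
    conv_lhs => rw [pi_eq_sum_univ' x, ← Submodule.mkQ_apply, map_sum, TensorProduct.tmul_sum]
    exact Finset.sum_congr rfl fun j _ => by
      rw [map_smul, Submodule.mkQ_apply, mul_smul, algebraMap_smul, ← TensorProduct.tmul_smul,
        TensorProduct.smul_tmul', smul_eq_mul, mul_one]
  rw [hp]
  simp only [LinearMap.comp_apply, map_sum, map_smul]
  refine Finset.sum_congr rfl fun j _ => ?_
  congr 1
  rw [hwM, LinearMap.baseChange_tmul, hu₀, huv]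
  conv_lhs => rw [pi_eq_sum_univ' (y₀ j), ← Submodule.mkQ_apply, map_sum, TensorProduct.tmul_sum, map_sum]
  refine Finset.sum_congr rfl fun l _ => ?_
  rw [map_smul, Submodule.mkQ_apply, TensorProduct.tmul_smul,
    ← algebraMap_smul P (y₀ j l) ((1 : P) ⊗ₜ[P₀] _), map_smul, hwN]

/-- Matrices presenting a map of finitely presented modules, up to denominators. -/
theorem exists_pres {P S M N : Type u} [CommRing P] [CommRing S] [IsLocalRing S] [Algebra P S]
    [AddCommGroup M] [Module S M] [Module P M] [IsScalarTower P S M] [Module.FinitePresentation S M]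
    [AddCommGroup N] [Module S N] [Module P N] [IsScalarTower P S N] [Module.FinitePresentation S N]
    (Q : Ideal P) [Q.IsPrime] (hQ : Q = (maximalIdeal S).comap (algebraMap P S))
    (hS : ∀ s : S, ∃ T ∉ Q, ∃ p, s * algebraMap P S T = algebraMap P S p)
    (G : Finset P) (hG0 : ∀ g ∈ G, algebraMap P S g = 0)
    (hK : ∀ y, algebraMap P S y = 0 → ∃ T ∉ Q, T * y ∈ Ideal.span (G : Set P))
    (u : M →ₗ[S] N) :
    ∃ (kM kN mM mN : ℕ) (vM : Fin kM → M) (vN : Fin kN → N) (a : Fin mM → Fin kM → P)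
      (d : Fin mN → Fin kN → P) (y : Fin kM → Fin kN → P) (c : Fin mM → Fin mN → P),
      Submodule.span S (Set.range vM) = ⊤ ∧ Submodule.span S (Set.range vN) = ⊤ ∧
      (∀ j, u (vM j) = ∑ l, y j l • vN l) ∧
      (∀ i, ∑ j, a i j • vM j = 0) ∧ (∀ i, ∑ j, d i j • vN j = 0) ∧
      (∀ x : Fin kM → P, ∑ j, x j • vM j = 0 → ∃ T ∉ Q, T • x ∈ Submodule.span P (Set.range a)) ∧
      (∀ x : Fin kN → P, ∑ j, x j • vN j = 0 → ∃ T ∉ Q, T • x ∈ Submodule.span P (Set.range d)) ∧
      ∀ i l, ∑ j, a i j * y j l = ∑ e, c i e * d e l := by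
  classical
  subst hQ
  set Q := (maximalIdeal S).comap (algebraMap P S) with hQ
  -- generators and relations
  obtain ⟨kN, vN, hvN⟩ := Submodule.fg_iff_exists_fin_generating_family.1
    (Module.Finite.fg_top (R := S) (M := N))
  obtain ⟨kM, vM₀, hvM₀⟩ := Submodule.fg_iff_exists_fin_generating_family.1
    (Module.Finite.fg_top (R := S) (M := M))
  choose sM hsM using fun j => (Submodule.mem_span_range_iff_exists_fun S).1
    (hvN.symm ▸ Submodule.mem_top (x := u (vM₀ j)))
  obtain ⟨Tu, hTu, yf, hyf⟩ := exists_denom (P := P) hS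
    (fun e : Fin kM × Fin kN => sM e.1 e.2)
  let vM : Fin kM → M := fun j => Tu • vM₀ j
  let y : Fin kM → Fin kN → P := fun j l => yf (j, l)
  have huv : ∀ j, u (vM j) = ∑ l, y j l • vN l := fun j => by
    show u (Tu • vM₀ j) = _
    rw [← algebraMap_smul S Tu (vM₀ j), LinearMap.map_smul, ← hsM, Finset.smul_sum]
    refine Finset.sum_congr rfl fun l _ => ?_
    rw [smul_smul, mul_comm]
    show (sM (j, l).1 (j, l).2 * algebraMap _ S Tu) • vN l = _
    rw [hyf, algebraMap_smul]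
  have hvM : Submodule.span S (Set.range vM) = ⊤ := by
    obtain ⟨e, he⟩ := isUnit_of_not_mem (S := S) hTu
    rw [eq_top_iff, ← hvM₀, Submodule.span_le]
    rintro _ ⟨j, rfl⟩
    have : vM₀ j = ((e⁻¹ : Sˣ) : S) • vM j := by
      show _ = ((e⁻¹ : Sˣ) : S) • Tu • vM₀ j
      rw [← algebraMap_smul S Tu (vM₀ j), smul_smul, ← he, Units.inv_mul, one_smul]
    rw [this]
    exact Submodule.smul_mem _ _ (Submodule.subset_span ⟨j, rfl⟩)
  obtain ⟨mN, d, hd0, hdrel⟩ := exists_rel hS G hG0 hK vN hvN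
  obtain ⟨mM, a', ha0', harel'⟩ := exists_rel hS G hG0 hK vM hvM
  have hga : ∀ i, ∃ T ∉ Q, ∃ c : Fin mN → P, ∀ l,
      T * ∑ j, a' i j * y j l = ∑ e, c e * d e l := by
    intro i
    obtain ⟨T, hT, hTx⟩ := hdrel (fun l => ∑ j, a' i j * y j l) (by
      have h1 : ∑ l, (∑ j, a' i j * y j l) • vN l = ∑ j, a' i j • u (vM j) := by
        simp only [huv, Finset.sum_smul, mul_smul, Finset.smul_sum]
        exact Finset.sum_comm
      rw [h1]
      refine Eq.trans (Finset.sum_congr rfl fun j _ => ?_)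
        ((map_sum u (fun j => a' i j • vM j) Finset.univ).symm.trans (by rw [ha0', map_zero]))
      rw [← algebraMap_smul S (a' i j), ← algebraMap_smul S (a' i j) (vM j), LinearMap.map_smul])
    obtain ⟨c, hc⟩ := (Submodule.mem_span_range_iff_exists_fun _).1 hTx
    refine ⟨T, hT, c, fun l => ?_⟩
    have h2 := congrFun hc l
    simp only [Finset.sum_apply, Pi.smul_apply, smul_eq_mul] at h2
    exact h2.symm
  choose Ta hTa c hc using hga
  let a : Fin mM → Fin kM → P := fun i j => Ta i * a' i j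
  have ha0 : ∀ i, ∑ j, a i j • vM j = 0 := fun i => by
    simp only [a, mul_smul, ← Finset.smul_sum, ha0', smul_zero]
  have harel : ∀ x : Fin kM → P, ∑ j, x j • vM j = 0 →
      ∃ T ∉ Q, T • x ∈ Submodule.span P (Set.range a) := by
    intro x hx
    obtain ⟨T, hT, hTx⟩ := harel' x hx
    obtain ⟨b, hb⟩ := (Submodule.mem_span_range_iff_exists_fun _).1 hTx
    refine ⟨(∏ i, Ta i) * T, Q.primeCompl.mul_mem (prod_mem fun i _ => hTa i) hT, ?_⟩
    refine (Submodule.mem_span_range_iff_exists_fun _).2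
      ⟨fun i => (∏ i' ∈ Finset.univ.erase i, Ta i') * b i, ?_⟩
    rw [mul_smul, ← hb, Finset.smul_sum]
    refine Finset.sum_congr rfl fun i _ => funext fun j => ?_
    simp only [a, Pi.smul_apply, smul_eq_mul]
    rw [← Finset.mul_prod_erase _ Ta (Finset.mem_univ i)]
    ring
  have hga' : ∀ i l, ∑ j, a i j * y j l = ∑ e, c i e * d e l := fun i l => by
    rw [← hc, Finset.mul_sum]
    exact Finset.sum_congr rfl fun j _ => mul_assoc _ _ _
  exact ⟨kM, kN, mM, mN, vM, vN, a, d, y, c, hvM, hvN, huv, ha0, hd0, harel, hdrel, hga'⟩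

/-- The criterion from matrices with coefficients in a Noetherian subring. -/
theorem of_data {R₀ P₀ P R S M N : Type u} [CommRing R₀] [IsNoetherianRing R₀] [CommRing P₀]
    [Algebra R₀ P₀] [Algebra.FiniteType R₀ P₀] [CommRing P] [CommRing R] [IsLocalRing R] [Algebra R₀ R]
    [CommRing S] [IsLocalRing S] [Algebra R S] [IsLocalHom (algebraMap R S)]
    [AddCommGroup M] [Module S M] [Module R M] [IsScalarTower R S M]
    [AddCommGroup N] [Module S N] [Module R N] [IsScalarTower R S N] [Module.Flat R N]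
    [Algebra P S] [Module P M] [IsScalarTower P S M] [Module P N] [IsScalarTower P S N]
    (σ : (P₀ ⊗[R₀] R) ≃+* P) (J : P₀ →+* P) (hJ : Function.Injective J)
    (hσP : ∀ p : P₀, σ (algebraMap P₀ (P₀ ⊗[R₀] R) p) = J p)
    (hσR : ∀ r : R, algebraMap P S (σ (algebraMap R (P₀ ⊗[R₀] R) r)) = algebraMap R S r)
    (Q : Ideal P) [Q.IsPrime] (hQ : Q = (maximalIdeal S).comap (algebraMap P S))
    {kM kN mM mN : ℕ} (vM : Fin kM → M) (vN : Fin kN → N)
    {a : Fin mM → Fin kM → P} {d : Fin mN → Fin kN → P} {y : Fin kM → Fin kN → P}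
    {c : Fin mM → Fin mN → P}
    (a₀ : Fin mM → Fin kM → P₀) (ha₀ : ∀ i j, J (a₀ i j) = a i j)
    (d₀ : Fin mN → Fin kN → P₀) (hd₀ : ∀ i j, J (d₀ i j) = d i j)
    (y₀ : Fin kM → Fin kN → P₀) (hy₀ : ∀ i j, J (y₀ i j) = y i j)
    (c₀ : Fin mM → Fin mN → P₀) (hc₀ : ∀ i j, J (c₀ i j) = c i j)
    (hS : ∀ s : S, ∃ T ∉ Q, ∃ p, s * algebraMap P S T = algebraMap P S p)
    (hvM : Submodule.span S (Set.range vM) = ⊤) (hvN : Submodule.span S (Set.range vN) = ⊤)
    (u : M →ₗ[S] N) (huv : ∀ j, u (vM j) = ∑ l, y j l • vN l)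
    (ha0 : ∀ i, ∑ j, a i j • vM j = 0) (hd0 : ∀ i, ∑ j, d i j • vN j = 0)
    (harel : ∀ x : Fin kM → P, ∑ j, x j • vM j = 0 → ∃ T ∉ Q, T • x ∈ Submodule.span P (Set.range a))
    (hdrel : ∀ x : Fin kN → P, ∑ j, x j • vN j = 0 → ∃ T ∉ Q, T • x ∈ Submodule.span P (Set.range d))
    (hga' : ∀ i l, ∑ j, a i j * y j l = ∑ e, c i e * d e l)
    (hu : ∀ x : M, u x ∈ (maximalIdeal R).map (algebraMap R S) • (⊤ : Submodule S N) →
      x ∈ (maximalIdeal R).map (algebraMap R S) • (⊤ : Submodule S M)) :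
    Function.Injective u ∧ Module.Flat R (N ⧸ LinearMap.range u) := by
  classical
  subst hQ
  set Q := (maximalIdeal S).comap (algebraMap P S) with hQdef
  let ρ := algebraMap P S
  let P' := P₀ ⊗[R₀] R
  letI : Algebra P' S := (ρ.comp σ.toRingHom).toAlgebra
  letI : Module P' M := Module.compHom M (ρ.comp σ.toRingHom)
  letI : Module P' N := Module.compHom N (ρ.comp σ.toRingHom)
  haveI : IsScalarTower P' S M := IsScalarTower.of_algebraMap_smul fun _ _ => rfl
  haveI : IsScalarTower P' S N := IsScalarTower.of_algebraMap_smul fun _ _ => rfl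
  have hsmM : ∀ (p : P') (x : M), p • x = σ p • x := fun p x => algebraMap_smul S (σ p) x
  have hsmN : ∀ (p : P') (x : N), p • x = σ p • x := fun p x => algebraMap_smul S (σ p) x
  have hρR : ∀ r : R, algebraMap P' S (algebraMap R P' r) = algebraMap R S r := fun r => by
    show ρ (σ (algebraMap R P' r)) = _
    rw [hσR]
  haveI : IsScalarTower R P' M := IsScalarTower.of_algebraMap_smul fun r x => by
    rw [← algebraMap_smul S (algebraMap R P' r) x, hρR, algebraMap_smul]
  haveI : IsScalarTower R P' N := IsScalarTower.of_algebraMap_smul fun r x => by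
    rw [← algebraMap_smul S (algebraMap R P' r) x, hρR, algebraMap_smul]
  let Q' := (maximalIdeal S).comap (algebraMap P' S)
  haveI : Q'.IsPrime := Ideal.IsPrime.comap _
  have hQ' : Q'.comap (algebraMap R P') = maximalIdeal R := by
    rw [← IsLocalRing.maximalIdeal_comap (algebraMap R S)]
    ext r
    show algebraMap P' S (algebraMap R P' r) ∈ maximalIdeal S ↔ algebraMap R S r ∈ maximalIdeal S
    rw [hρR]
  have htrans : ∀ {k m : ℕ} (c₁ : Fin m → Fin k → P₀) (c₂ : Fin m → Fin k → P),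
      (∀ i j, J (c₁ i j) = c₂ i j) →
      ∀ (x : Fin k → P') (T : P), T ∉ Q →
      T • (fun j => σ (x j)) ∈ Submodule.span (P) (Set.range c₂) →
      ∃ T' ∉ Q', T' • x ∈ Submodule.span P' (Set.range fun i j => algebraMap P₀ P' (c₁ i j)) := by
    intro k m c₁ c₂ hc₁₂ x T hT hTx
    obtain ⟨b, hb⟩ := (Submodule.mem_span_range_iff_exists_fun _).1 hTx
    refine ⟨σ.symm T, fun h => hT ?_, (Submodule.mem_span_range_iff_exists_fun _).2
      ⟨fun i => σ.symm (b i), funext fun j => σ.injective ?_⟩⟩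
    · have h' : ρ (σ (σ.symm T)) ∈ maximalIdeal S := h
      rwa [σ.apply_symm_apply] at h'
    · have hbj := congrFun hb j
      simp only [Finset.sum_apply, Pi.smul_apply, smul_eq_mul] at hbj
      simp only [Finset.sum_apply, Pi.smul_apply, smul_eq_mul, map_sum, map_mul, σ.apply_symm_apply]
      refine (Finset.sum_congr rfl fun i _ => ?_).trans hbj
      rw [← hc₁₂]
      exact congrArg _ (hσP _)
  have hrepM : ∀ x : M, ∃ T ∉ Q', ∃ z : Fin kM → P', T • x = ∑ j, z j • vM j := fun x => by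
    obtain ⟨T, hT, z, hz⟩ := exists_rep hS vM hvM x
    refine ⟨σ.symm T, fun h => hT ?_, fun j => σ.symm (z j), ?_⟩
    · have h' : ρ (σ (σ.symm T)) ∈ maximalIdeal S := h
      rwa [σ.apply_symm_apply] at h'
    · simp only [hsmM, σ.apply_symm_apply, hz]
  have hrepN : ∀ x : N, ∃ T ∉ Q', ∃ z : Fin kN → P', T • x = ∑ j, z j • vN j := fun x => by
    obtain ⟨T, hT, z, hz⟩ := exists_rep hS vN hvN x
    refine ⟨σ.symm T, fun h => hT ?_, fun j => σ.symm (z j), ?_⟩
    · have h' : ρ (σ (σ.symm T)) ∈ maximalIdeal S := h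
      rwa [σ.apply_symm_apply] at h'
    · simp only [hsmN, σ.apply_symm_apply, hz]
  have hzM : ∀ i, ∑ j, algebraMap P₀ P' (a₀ i j) • vM j = 0 := fun i => by
    refine Eq.trans (Finset.sum_congr rfl fun j _ => ?_) (ha0 i)
    rw [← ha₀, ← hσP]
    exact hsmM _ _
  have hzN : ∀ i, ∑ j, algebraMap P₀ P' (d₀ i j) • vN j = 0 := fun i => by
    refine Eq.trans (Finset.sum_congr rfl fun j _ => ?_) (hd0 i)
    rw [← hd₀, ← hσP]
    exact hsmN _ _
  obtain ⟨wM, hwM, hwMker, hwMsurj⟩ := exists_bcMap (M := M) (P₀ := P₀) (P := P') Q' a₀ vM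
    hzM hrepM (fun x hx => by
      obtain ⟨T, hT, hTx⟩ := harel (fun j => σ (x j))
        ((Finset.sum_congr rfl fun j _ => (hsmM (x j) (vM j)).symm).trans hx)
      exact htrans a₀ a ha₀ x T hT hTx)
  obtain ⟨wN, hwN, hwNker, hwNsurj⟩ := exists_bcMap (M := N) (P₀ := P₀) (P := P') Q' d₀ vN
    hzN hrepN (fun x hx => by
      obtain ⟨T, hT, hTx⟩ := hdrel (fun j => σ (x j))
        ((Finset.sum_congr rfl fun j _ => (hsmN (x j) (vN j)).symm).trans hx)
      exact htrans d₀ d hd₀ x T hT hTx)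
  -- the model of `u`
  let M₀ := (Fin kM → P₀) ⧸ Submodule.span P₀ (Set.range a₀)
  let N₀ := (Fin kN → P₀) ⧸ Submodule.span P₀ (Set.range d₀)
  let g₀ : (Fin kM → P₀) →ₗ[P₀] N₀ :=
    (Submodule.span P₀ (Set.range d₀)).mkQ ∘ₗ Fintype.linearCombination P₀ y₀
  let u₀ : M₀ →ₗ[P₀] N₀ := (Submodule.span P₀ (Set.range a₀)).liftQ g₀ (Submodule.span_le.2 (by
    rintro _ ⟨i, rfl⟩
    show (Submodule.Quotient.mk (Fintype.linearCombination P₀ y₀ (a₀ i)) : N₀) = 0
    rw [Submodule.Quotient.mk_eq_zero]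
    refine (Submodule.mem_span_range_iff_exists_fun _).2 ⟨c₀ i, funext fun l => hJ ?_⟩
    simp only [Fintype.linearCombination_apply, Finset.sum_apply, Pi.smul_apply, smul_eq_mul,
      map_sum, map_mul, hc₀, hd₀, ha₀, hy₀, hga']))
  refine of_model (R₀ := R₀) (P₀ := P₀) Q' rfl hQ' u₀ u hu wM hwMker hwMsurj wN hwNker hwNsurj ?_
  exact comp_eq a₀ d₀ y₀ u₀
    (fun j => congrArg Submodule.Quotient.mk
      ((Fintype.linearCombination_apply_single P₀ y₀ j 1).trans (one_smul _ _)))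
    vM vN (u.restrictScalars P') wM hwM wN hwN fun j => (huv j).trans
      (Finset.sum_congr rfl fun l _ => by rw [← hy₀, ← hσP]; exact (hsmN _ _).symm)


/-- EGA IV 11.3.7 for essentially finitely presented local algebras. -/
theorem injective_and_flat_coker {R S₀ S M N : Type u} [CommRing R] [IsLocalRing R] [CommRing S₀]
    [Algebra R S₀] [Algebra.FinitePresentation R S₀] [CommRing S] [IsLocalRing S] [Algebra R S]
    [Algebra S₀ S] [IsScalarTower R S₀ S] [IsLocalHom (algebraMap R S)]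
    (Mon : Submonoid S₀) [IsLocalization Mon S]
    [AddCommGroup M] [Module S M] [Module R M] [IsScalarTower R S M] [Module.FinitePresentation S M]
    [AddCommGroup N] [Module S N] [Module R N] [IsScalarTower R S N] [Module.FinitePresentation S N]
    [Module.Flat R N] (u : M →ₗ[S] N)
    (hu : ∀ x : M, u x ∈ (maximalIdeal R).map (algebraMap R S) • (⊤ : Submodule S N) →
      x ∈ (maximalIdeal R).map (algebraMap R S) • (⊤ : Submodule S M)) :
    Function.Injective u ∧ Module.Flat R (N ⧸ LinearMap.range u) := by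
  classical
  obtain ⟨n, π, hπ, ⟨G, hG⟩⟩ := Algebra.FinitePresentation.out (R := R) (A := S₀)
  let ρ : MvPolynomial (Fin n) R →+* S := (algebraMap S₀ S).comp π.toRingHom
  letI : Algebra (MvPolynomial (Fin n) R) S := ρ.toAlgebra
  letI : Module (MvPolynomial (Fin n) R) M := Module.compHom M ρ
  letI : Module (MvPolynomial (Fin n) R) N := Module.compHom N ρ
  haveI : IsScalarTower (MvPolynomial (Fin n) R) S M := IsScalarTower.of_algebraMap_smul fun _ _ => rfl
  haveI : IsScalarTower (MvPolynomial (Fin n) R) S N := IsScalarTower.of_algebraMap_smul fun _ _ => rfl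
  let Q := (maximalIdeal S).comap ρ
  have hMon : ∀ c ∈ Mon, ∀ p, π p = c → p ∉ Q := fun c hc p hp h => by
    have hu' : IsUnit (algebraMap S₀ S c) := IsLocalization.map_units S (⟨c, hc⟩ : Mon)
    exact (mem_maximalIdeal _).1 h (show IsUnit (algebraMap S₀ S (π p)) from hp.symm ▸ hu')
  have hS : ∀ s : S, ∃ T ∉ Q, ∃ p, s * ρ T = ρ p := fun s => by
    obtain ⟨⟨a, c⟩, hac⟩ := IsLocalization.surj Mon s
    obtain ⟨p, rfl⟩ := hπ a
    obtain ⟨T, hT⟩ := hπ c.1
    refine ⟨T, hMon _ c.2 T hT, p, ?_⟩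
    show s * algebraMap S₀ S (π T) = algebraMap S₀ S (π p)
    rw [hT]; exact hac
  have hG0 : ∀ g ∈ G, ρ g = 0 := fun g hg => by
    have : π g = 0 := (hG.le (Ideal.subset_span hg) : g ∈ RingHom.ker π)
    show algebraMap S₀ S (π g) = 0
    rw [this, map_zero]
  have hK : ∀ y, ρ y = 0 → ∃ T ∉ Q, T * y ∈ Ideal.span (G : Set (MvPolynomial (Fin n) R)) := by
    intro y hy
    obtain ⟨c, hc⟩ := (IsLocalization.map_eq_zero_iff Mon S (π y)).1 hy
    obtain ⟨T, hT⟩ := hπ c.1
    refine ⟨T, hMon _ c.2 T hT, hG.ge ?_⟩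
    show π (T * y) = 0
    rw [map_mul, hT, hc]
  obtain ⟨kM, kN, mM, mN, vM, vN, a, d, y, c, hvM, hvN, huv, ha0, hd0, harel, hdrel, hga'⟩ :=
    exists_pres (P := MvPolynomial (Fin n) R) Q rfl hS G hG0 hK u
  -- coefficient ring
  let Tc : Finset R :=
    (Finset.univ.biUnion fun i => Finset.univ.biUnion fun j => (a i j).coeffs) ∪
    (Finset.univ.biUnion fun i => Finset.univ.biUnion fun j => (d i j).coeffs) ∪
    (Finset.univ.biUnion fun i => Finset.univ.biUnion fun j => (y i j).coeffs) ∪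
    (Finset.univ.biUnion fun i => Finset.univ.biUnion fun j => (c i j).coeffs)
  let R₀ := Algebra.adjoin ℤ (Tc : Set R)
  haveI : Algebra.FiniteType ℤ R₀ := R₀.fg_iff_finiteType.1 (Subalgebra.fg_adjoin_finset Tc)
  haveI : IsNoetherianRing R₀ := Algebra.FiniteType.isNoetherianRing ℤ R₀
  have hlift : ∀ p : MvPolynomial (Fin n) R, p.coeffs ⊆ Tc →
      ∃ p₀ : MvPolynomial (Fin n) R₀, MvPolynomial.map (algebraMap R₀ R) p₀ = p := fun p hp =>
    MvPolynomial.mem_range_map_iff_coeffs_subset.2 fun r hr =>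
      ⟨⟨r, Algebra.subset_adjoin (Finset.mem_coe.2 (hp hr))⟩, rfl⟩
  choose a₀ ha₀ using fun i j => hlift (a i j) fun r hr =>
    Finset.mem_union_left _ (Finset.mem_union_left _ (Finset.mem_union_left _ (Finset.mem_biUnion.2
      ⟨i, Finset.mem_univ i, Finset.mem_biUnion.2 ⟨j, Finset.mem_univ j, hr⟩⟩)))
  choose d₀ hd₀ using fun i j => hlift (d i j) fun r hr =>
    Finset.mem_union_left _ (Finset.mem_union_left _ (Finset.mem_union_right _ (Finset.mem_biUnion.2
      ⟨i, Finset.mem_univ i, Finset.mem_biUnion.2 ⟨j, Finset.mem_univ j, hr⟩⟩)))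
  choose y₀ hy₀ using fun i j => hlift (y i j) fun r hr =>
    Finset.mem_union_left _ (Finset.mem_union_right _ (Finset.mem_biUnion.2
      ⟨i, Finset.mem_univ i, Finset.mem_biUnion.2 ⟨j, Finset.mem_univ j, hr⟩⟩))
  choose c₀ hc₀ using fun i j => hlift (c i j) fun r hr =>
    Finset.mem_union_right _ (Finset.mem_biUnion.2
      ⟨i, Finset.mem_univ i, Finset.mem_biUnion.2 ⟨j, Finset.mem_univ j, hr⟩⟩)
  exact of_data (R₀ := R₀) (P₀ := MvPolynomial (Fin n) R₀) (sigma R₀ R n)
    (MvPolynomial.map (algebraMap R₀ R)) (MvPolynomial.map_injective _ Subtype.val_injective)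
    (fun p => sigma_algebraMap' n p)
    (fun r => by
      rw [show sigma R₀ R n (algebraMap R (MvPolynomial (Fin n) R₀ ⊗[R₀] R) r) =
        algebraMap R (MvPolynomial (Fin n) R) r from sigma_algebraMap n r]
      show algebraMap S₀ S (π (algebraMap R _ r)) = _
      rw [π.commutes, ← IsScalarTower.algebraMap_apply])
    Q rfl vM vN a₀ ha₀ d₀ hd₀ y₀ hy₀ c₀ hc₀ hS hvM hvN u huv ha0 hd0 harel hdrel hga' hu

end Groth.Agent.H1CAlg.InjModMax
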