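import Groth.Agent.H1CAlg.FibreFlatCover
import Groth.Agent.S2107
import Groth.Agent.H7Flat.FibreCriterion

/-!
# The fibre criterion of flatness for essentially finitely presented local algebras (EGA IV 11.3.10)
-/

set_option autoImplicit false
set_option linter.style.haveILetI false
universe u

namespace Groth.Agent.H1CAlg.FibreFlat

open TensorProduct IsLocalRing

/-- For a surjection onto a flat module, the kernel meets `I • F` in `I • ker`. -/
theorem mem_smul_ker {R F M : Type u} [CommRing R] [AddCommGroup F] [Module R F] [AddCommGroup M] [Module R M]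
    [Module.Flat R M] (π : F →ₗ[R] M) (hπ : Function.Surjective π) (I : Ideal R) {z : F}
    (hz : z ∈ I • (⊤ : Submodule R F)) (h0 : π z = 0) : z ∈ I • LinearMap.ker π := by
  let μ : ∀ (X : Type u) [AddCommGroup X] [Module R X], I ⊗[R] X →ₗ[R] X := fun X _ _ =>
    TensorProduct.lift ((LinearMap.lsmul R X).comp I.subtype)
  have hμ : Function.Injective (μ M) := by
    have h : μ M = (TensorProduct.lid R M).toLinearMap ∘ₗ I.subtype.rTensor M := TensorProduct.ext' fun a x => by
      simp [μ]
    rw [h]
    exact (TensorProduct.lid R M).injective.comp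
      (Module.Flat.rTensor_preserves_injective_linearMap (M := M) I.subtype Subtype.val_injective)
  obtain ⟨v, rfl⟩ : ∃ v, μ F v = z := by
    clear h0
    induction hz using Submodule.smul_induction_on' with
    | smul a ha x _ => exact ⟨⟨a, ha⟩ ⊗ₜ x, by simp [μ]⟩
    | add x _ y _ hx hy =>
      obtain ⟨a, rfl⟩ := hx; obtain ⟨b, rfl⟩ := hy; exact ⟨a + b, map_add _ _ _⟩
  have hnat : μ M (π.lTensor I v) = π (μ F v) := by
    clear hz h0
    induction v with
    | zero => simp
    | tmul a x => simp [μ]
    | add a b ha hb => simp only [map_add, ha, hb]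
  have h1 : π.lTensor I v = 0 := hμ (by rw [hnat, h0, map_zero])
  obtain ⟨w, rfl⟩ := (lTensor_exact I (LinearMap.exact_subtype_ker_map π) hπ v).mp h1
  clear hz h0 hnat h1
  induction w with
  | zero => simp
  | tmul a x =>
    have : μ F (a ⊗ₜ (x : F)) = (a : R) • (x : F) := by simp [μ]
    rw [LinearMap.lTensor_tmul]
    rw [Submodule.coe_subtype, this]
    exact Submodule.smul_mem_smul a.2 x.2
  | add a b ha hb => simp only [map_add]; exact add_mem ha hb

variable {R S : Type u} [CommRing R] [CommRing S] [IsLocalRing R] [IsLocalRing S] [Algebra R S]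
  [IsLocalHom (algebraMap R S)]

/-- The kernel of a surjection onto a module with flat fibre stays injective modulo the maximal ideal of `S`. -/
theorem mem_maximalIdeal_smul_ker {F M : Type u} [AddCommGroup F] [Module S F] [Module R F] [IsScalarTower R S F]
    [AddCommGroup M] [Module S M] [Module R M] [IsScalarTower R S M] [Module.Flat R M]
    (hfib : Module.Flat (S ⧸ (maximalIdeal R).map (algebraMap R S))
      (M ⧸ (maximalIdeal R).map (algebraMap R S) • (⊤ : Submodule S M)))
    (π : F →ₗ[S] M) (hπ : Function.Surjective π) {z : F}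
    (hz : z ∈ maximalIdeal S • (⊤ : Submodule S F)) (h0 : π z = 0) :
    z ∈ maximalIdeal S • LinearMap.ker π := by
  let m := maximalIdeal R
  let J := m.map (algebraMap R S)
  have hJ : J ≤ maximalIdeal S := ((IsLocalRing.local_hom_TFAE (algebraMap R S)).out
    (a := IsLocalHom (algebraMap R S)) 0 2).mp ‹_›
  let mF : F →ₗ[S] F ⧸ J • (⊤ : Submodule S F) := (J • (⊤ : Submodule S F)).mkQ
  let mM : M →ₗ[S] M ⧸ J • (⊤ : Submodule S M) := (J • (⊤ : Submodule S M)).mkQ
  let q₀ : F ⧸ J • (⊤ : Submodule S F) →ₗ[S] M ⧸ J • (⊤ : Submodule S M) :=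
    Submodule.mapQ _ _ π (by
      rw [← Submodule.map_le_iff_le_comap, Submodule.map_smul'']
      exact Submodule.smul_mono le_rfl le_top)
  let q : F ⧸ J • (⊤ : Submodule S F) →ₗ[S ⧸ J] M ⧸ J • (⊤ : Submodule S M) :=
    LinearMap.extendScalarsOfSurjective Ideal.Quotient.mk_surjective q₀
  have hq : ∀ x, q (mF x) = mM (π x) := fun x => rfl
  have hqsurj : Function.Surjective q := fun y => by
    obtain ⟨y, rfl⟩ := Submodule.mkQ_surjective _ y
    obtain ⟨x, rfl⟩ := hπ y
    exact ⟨mF x, rfl⟩
  let I₀ : Ideal (S ⧸ J) := (maximalIdeal S).map (Ideal.Quotient.mk J)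
  have hz' : mF z ∈ I₀ • (⊤ : Submodule (S ⧸ J) (F ⧸ J • (⊤ : Submodule S F))) := by
    clear h0
    induction hz using Submodule.smul_induction_on' with
    | smul a ha x _ =>
      rw [map_smul, ← IsScalarTower.algebraMap_smul (S ⧸ J) a (mF x)]
      exact Submodule.smul_mem_smul (Ideal.mem_map_of_mem _ ha) trivial
    | add x _ y _ hx hy => rw [map_add]; exact add_mem hx hy
  have hker : mF z ∈ I₀ • LinearMap.ker q := mem_smul_ker q hqsurj I₀ hz' (by rw [hq, h0, map_zero])
  have hlift : ∀ y ∈ I₀ • LinearMap.ker q, ∃ w ∈ maximalIdeal S • LinearMap.ker π, mF w = y := by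
    intro y hy
    induction hy using Submodule.smul_induction_on' with
    | smul a ha x hx =>
      obtain ⟨b, hb, rfl⟩ := (Ideal.mem_map_iff_of_surjective _ Ideal.Quotient.mk_surjective).mp ha
      obtain ⟨x, rfl⟩ := Submodule.mkQ_surjective _ x
      have hx0 : π x ∈ J • (⊤ : Submodule S M) := (Submodule.Quotient.mk_eq_zero _).mp hx
      rw [← LinearMap.range_eq_top.mpr hπ, ← Submodule.map_top, ← Submodule.map_smul''] at hx0
      obtain ⟨g, hg, hgx⟩ := hx0
      refine ⟨b • (x - g), Submodule.smul_mem_smul hb (by rw [LinearMap.mem_ker, map_sub, hgx, sub_self]), ?_⟩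
      rw [map_smul, map_sub, show mF g = 0 from (Submodule.Quotient.mk_eq_zero _).mpr hg, sub_zero]
      exact (IsScalarTower.algebraMap_smul (S ⧸ J) b _).symm
    | add x _ y _ hx hy =>
      obtain ⟨a, ha, rfl⟩ := hx; obtain ⟨b, hb, rfl⟩ := hy
      exact ⟨a + b, add_mem ha hb, map_add _ _ _⟩
  obtain ⟨w, hw, hwz⟩ := hlift _ hker
  have hmem : z - w ∈ J • (⊤ : Submodule S F) := (Submodule.Quotient.eq _).mp hwz.symm
  have hw0 : π w = 0 := (Submodule.smul_le_right : maximalIdeal S • LinearMap.ker π ≤ LinearMap.ker π) hw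
  have hmemR : z - w ∈ m • (⊤ : Submodule R F) := by
    have := hmem
    rwa [← Submodule.restrictScalars_mem R, Ideal.smul_restrictScalars, Submodule.restrictScalars_top] at this
  have h2 := mem_smul_ker (π.restrictScalars R) hπ m hmemR (by simp [h0, hw0])
  have h3 : ∀ y ∈ m • LinearMap.ker (π.restrictScalars R), y ∈ maximalIdeal S • LinearMap.ker π := by
    intro y hy
    induction hy using Submodule.smul_induction_on' with
    | smul a ha x hx =>
      rw [← IsScalarTower.algebraMap_smul S a x]
      exact Submodule.smul_mem_smul (hJ (Ideal.mem_map_of_mem _ ha)) hx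
    | add x _ y _ hx hy => exact add_mem hx hy
  simpa using add_mem (h3 _ h2) hw

/-- The fibre criterion of flatness, essentially finitely presented case. -/
theorem flat_and_flat {S' M : Type u} [CommRing S'] [IsLocalRing S'] [Algebra S S'] [Algebra R S']
    [IsScalarTower R S S'] [IsLocalHom (algebraMap S S')]
    (hS : CAlgX.IsEssFinitePresentation R S) (hS' : CAlgX.IsEssFinitePresentation R S')
    [AddCommGroup M] [Module S' M] [Module S M] [Module R M] [IsScalarTower S S' M] [IsScalarTower R S' M]
    [IsScalarTower R S M] [Module.FinitePresentation S' M] [Nontrivial M] [Module.Flat R M]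
    (hfib : Module.Flat (S ⧸ (maximalIdeal R).map (algebraMap R S))
      (M ⧸ (maximalIdeal R).map (algebraMap R S) • (⊤ : Submodule S M))) :
    Module.Flat R S ∧ Module.Flat S M := by
  classical
  suffices hfl : Module.Flat S M by
    haveI := hfl
    haveI : Module.FaithfullyFlat S M := H7Flat.faithfullyFlat_of_flat (S' := S')
    exact ⟨H7Flat.flat_of_faithfullyFlat (R := R) (S := S) (M := M), hfl⟩
  obtain ⟨T, _, _, _, _, π, hT, _, hnoe, hπ, hker⟩ := exists_cover hS hS'
  haveI := hnoe
  letI : Algebra T S' := π.toRingHom.toAlgebra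
  haveI : IsScalarTower S T S' := IsScalarTower.of_algebraMap_eq fun s => (π.commutes s).symm
  letI : Module T M := Module.compHom M π.toRingHom
  haveI : IsScalarTower T S' M := IsScalarTower.of_algebraMap_smul fun _ _ => rfl
  haveI : IsScalarTower S T M := IsScalarTower.of_algebraMap_smul fun s m => by
    show π (algebraMap S T s) • m = s • m
    rw [π.commutes, IsScalarTower.algebraMap_smul]
  haveI : Module.FinitePresentation T S' :=
    Module.finitePresentation_of_surjective (Algebra.linearMap T S') hπ hker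
  haveI : Module.FinitePresentation T M := Module.FinitePresentation.trans T M S'
  obtain ⟨b, K, e, hK⟩ := Module.FinitePresentation.exists_fin T M
  let F := Fin b → T
  let ρM : F →ₗ[T] M := e.symm.toLinearMap ∘ₗ K.mkQ
  have hρM : Function.Surjective ρM := e.symm.surjective.comp K.mkQ_surjective
  obtain ⟨a, g, hg⟩ := Submodule.fg_iff_exists_fin_generating_family.mp hK
  let G := Fin a → T
  let ρ : G →ₗ[T] F := Fintype.linearCombination T g
  have hρ : LinearMap.range ρ = LinearMap.ker ρM := by
    rw [Fintype.range_linearCombination, hg, LinearEquiv.ker_comp, Submodule.ker_mkQ]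
  letI : Module R F := Module.compHom F (algebraMap R S)
  haveI : IsScalarTower R S F := IsScalarTower.of_algebraMap_smul fun _ _ => rfl
  let J : Ideal T := (maximalIdeal S).map (algebraMap S T)
  have hmod : ∀ z : F, z ∈ J • (⊤ : Submodule T F) → ρM z = 0 → ∃ x ∈ J • (⊤ : Submodule T G), ρ x = z := by
    intro z hz h0
    have hz' : z ∈ maximalIdeal S • (⊤ : Submodule S F) := by
      rwa [← Submodule.restrictScalars_mem S, Ideal.smul_restrictScalars, Submodule.restrictScalars_top] at hz
    have h := mem_maximalIdeal_smul_ker hfib (ρM.restrictScalars S) hρM hz' h0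
    clear hz hz' h0
    induction h using Submodule.smul_induction_on' with
    | smul c hc x hx =>
      obtain ⟨v, rfl⟩ : x ∈ LinearMap.range ρ := hρ.ge hx
      exact ⟨algebraMap S T c • v, Submodule.smul_mem_smul (Ideal.mem_map_of_mem _ hc) trivial,
        by rw [map_smul, IsScalarTower.algebraMap_smul]⟩
    | add x _ y _ hx hy =>
      obtain ⟨p, hp, rfl⟩ := hx; obtain ⟨p', hp', rfl⟩ := hy
      exact ⟨p + p', add_mem hp hp', map_add _ _ _⟩
  haveI : IsNoetherian T (G ⧸ J • (⊤ : Submodule T G)) := by
    have hN : IsNoetherian (T ⧸ J) (G ⧸ J • (⊤ : Submodule T G)) := isNoetherian_of_isNoetherianRing_of_finite _ _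
    haveI : RingHomSurjective (Ideal.Quotient.mk J) := ⟨Ideal.Quotient.mk_surjective⟩
    let l : (G ⧸ J • (⊤ : Submodule T G)) →ₛₗ[Ideal.Quotient.mk J] (G ⧸ J • (⊤ : Submodule T G)) :=
      { toFun := id
        map_add' := fun _ _ => rfl
        map_smul' := fun c x => (IsScalarTower.algebraMap_smul (T ⧸ J) c x).symm }
    exact (LinearMap.isNoetherian_iff_of_bijective l Function.bijective_id).mpr hN
  obtain ⟨t, hts, htspan⟩ := (Submodule.fg_span_iff_fg_span_finset_subset (R := T)
    ((J • (⊤ : Submodule T G)).mkQ '' (LinearMap.ker ρ : Set G))).mp (IsNoetherian.noetherian _)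
  choose l hl hlx using fun x (hx : x ∈ t) => hts hx
  let L : Submodule T G := Submodule.span T ↑(t.attach.image fun x : {y // y ∈ t} => l x.1 x.2)
  have hLker : L ≤ LinearMap.ker ρ := Submodule.span_le.mpr (fun v hv => by
    obtain ⟨x, -, rfl⟩ := Finset.mem_image.mp hv
    exact hl x x.2)
  have hkerle : LinearMap.ker ρ ≤ L ⊔ J • ⊤ := fun v hv => by
    have hv' : (J • (⊤ : Submodule T G)).mkQ v ∈ Submodule.span T (↑t : Set _) :=
      htspan.le (Submodule.subset_span ⟨v, hv, rfl⟩)
    have hsub : Submodule.span T (↑t : Set _) ≤ L.map (J • (⊤ : Submodule T G)).mkQ := by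
      refine Submodule.span_le.mpr fun x hx => ⟨l x hx, Submodule.subset_span ?_, hlx x hx⟩
      exact Finset.mem_image_of_mem (fun y : {y // y ∈ t} => l y y.2) (Finset.mem_attach t ⟨x, hx⟩)
    have h := hsub hv'
    rw [← Submodule.mem_comap, Submodule.comap_map_eq, Submodule.ker_mkQ] at h
    exact h
  haveI : Module.FinitePresentation T (G ⧸ L) :=
    Module.finitePresentation_of_surjective L.mkQ L.mkQ_surjective (by rw [Submodule.ker_mkQ]; exact ⟨_, rfl⟩)
  let u : G ⧸ L →ₗ[T] F := L.liftQ ρ hLker
  haveI : Module.Flat S F := Module.Flat.trans S T F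
  have h := (Groth.Agent.S2107.result (R := S) hT u (fun x hx => by
    obtain ⟨v, rfl⟩ := L.mkQ_surjective x
    rw [Submodule.mkQ_apply, Submodule.liftQ_apply] at hx
    have h0 : ρM (ρ v) = 0 := hρ.le ⟨v, rfl⟩
    obtain ⟨p, hp, hpv⟩ := hmod _ hx h0
    have hvp : v - p ∈ LinearMap.ker ρ := by rw [LinearMap.mem_ker, map_sub, hpv, sub_self]
    obtain ⟨c, hc, d, hd, hcd⟩ := Submodule.mem_sup.mp (hkerle hvp)
    have hv : v = c + (d + p) := by rw [← add_assoc, hcd, sub_add_cancel]
    rw [hv, map_add, show L.mkQ c = 0 from (Submodule.Quotient.mk_eq_zero _).mpr hc, zero_add]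
    have : (J • (⊤ : Submodule T G)).map L.mkQ ≤ J • (⊤ : Submodule T (G ⧸ L)) := by
      rw [Submodule.map_smul'']; exact Submodule.smul_mono le_rfl le_top
    exact this ⟨_, add_mem hd hp, rfl⟩)).2
  haveI := h
  have hrange : LinearMap.range u = LinearMap.ker ρM := by rw [Submodule.range_liftQ, hρ]
  exact Module.Flat.of_linearEquiv
    (((Submodule.quotEquivOfEq _ _ hrange).trans (ρM.quotKerEquivOfSurjective hρM)).restrictScalars S).symm

end Groth.Agent.H1CAlg.FibreFlat
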