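import Mathlib.RingTheory.Flat.EquationalCriterion
import Mathlib.RingTheory.Flat.Stability
import Mathlib.RingTheory.Flat.Localization
import Mathlib.RingTheory.AdjoinRoot
import Mathlib.RingTheory.AlgebraicIndependent.TranscendenceBasis
import Mathlib.RingTheory.Localization.AtPrime.Basic
import Mathlib.RingTheory.IntegralClosure.Algebra.Basic
import Mathlib.RingTheory.Ideal.GoingUp
import Mathlib.RingTheory.LocalRing.ResidueField.Basic
import Mathlib.RingTheory.Polynomial.Basic
import Mathlib.FieldTheory.IntermediateField.Adjoin.Defs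
import Mathlib.FieldTheory.Minpoly.Field

/-!
Flat local extensions of a local ring with prescribed residue field extension (EGA 0_III 10.3.1).
-/

universe u

open scoped Polynomial
open IsLocalRing

namespace Groth.Agent.H1CAlg.FlatResidueExt

/-! ### The algebraic case -/

section Algebraic

variable {R K : Type u} [CommRing R] [IsLocalRing R] [Field K] [Algebra R K]

/-- A quotient of the polynomial ring on the elements of a subset of `K`, flat and integral over
`R`, whose closed fibre is the subfield generated by the subset. -/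
structure Stage (R K : Type u) [CommRing R] [IsLocalRing R] [Field K] [Algebra R K] where
  L : Set K
  I : Ideal (MvPolynomial L R)
  le : I ≤ RingHom.ker (MvPolynomial.aeval (R := R) (fun x : L => (x : K)))
  flat : Module.Flat R (MvPolynomial L R ⧸ I)
  int : Algebra.IsIntegral R (MvPolynomial L R ⧸ I)
  ker : RingHom.ker (MvPolynomial.aeval (R := R) (fun x : L => (x : K))) ≤
    I ⊔ (maximalIdeal R).map MvPolynomial.C

instance : Preorder (Stage R K) where
  le S T := ∃ h : S.L ⊆ T.L, S.I ≤ T.I.comap (MvPolynomial.rename (R := R) (Set.inclusion h))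
  le_refl S := ⟨subset_rfl, fun p hp => by
    rw [Ideal.mem_comap, show Set.inclusion (subset_rfl : S.L ⊆ S.L) = id from funext fun _ => rfl,
      MvPolynomial.rename_id_apply]
    exact hp⟩
  le_trans S T U := fun ⟨h₁, e₁⟩ ⟨h₂, e₂⟩ => ⟨h₁.trans h₂, fun p hp => by
    have := e₂ (e₁ hp)
    rw [Ideal.mem_comap, MvPolynomial.rename_rename] at this
    exact this⟩

/-- The stage with no generators. -/
noncomputable def Stage.init (hker : RingHom.ker (algebraMap R K) = maximalIdeal R) : Stage R K where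
  L := ∅
  I := ⊥
  le := bot_le
  flat := Module.Flat.of_linearEquiv
    ((AlgEquiv.quotientBot R _).trans (MvPolynomial.isEmptyAlgEquiv R _)).toLinearEquiv
  int := Algebra.IsIntegral.of_surjective
    (((AlgEquiv.quotientBot R _).trans (MvPolynomial.isEmptyAlgEquiv R _)).symm.toAlgHom) (AlgEquiv.surjective _)
  ker p hp := by
    obtain ⟨r, rfl⟩ := MvPolynomial.C_surjective (↥(∅ : Set K)) p
    refine Ideal.mem_sup_right (Ideal.mem_map_of_mem _ ?_)
    rw [← hker, RingHom.mem_ker]
    simpa using hp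

theorem exists_ub (c : Set (Stage R K)) (hc : IsChain (· ≤ ·) c) (hne : c.Nonempty) :
    ∃ U : Stage R K, ∀ S ∈ c, S ≤ U := by
  classical
  let L : Set K := ⋃ S : c, S.1.L
  have hsub : ∀ S : c, S.1.L ⊆ L := fun S => Set.subset_iUnion (fun S : c => S.1.L) S
  let ι : ∀ S : c, MvPolynomial S.1.L R →ₐ[R] MvPolynomial L R := fun S =>
    MvPolynomial.rename (Set.inclusion (hsub S))
  haveI : Nonempty c := hne.to_subtype
  have hdir : Directed (· ≤ ·) (fun S : c => S.1) := hc.directedOn.directed_val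
  have htr : ∀ (S T : c) (h : S.1.L ⊆ T.1.L) (q : MvPolynomial S.1.L R),
      ι T (MvPolynomial.rename (Set.inclusion h) q) = ι S q := fun S T h q => by
    simp only [ι, MvPolynomial.rename_rename]
    rfl
  have hι : ∀ S : c, Function.Injective (ι S) := fun S =>
    MvPolynomial.rename_injective _ (Set.inclusion_injective _)
  -- every polynomial comes from a stage
  have hrange : ∀ p : MvPolynomial L R, ∃ (S : c) (q : _), ι S q = p := by
    intro p
    induction p using MvPolynomial.induction_on with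
    | C a =>
      obtain ⟨S⟩ := ‹Nonempty c›
      exact ⟨S, MvPolynomial.C a, by simp [ι]⟩
    | add p p' hp hp' =>
      obtain ⟨S, q, rfl⟩ := hp
      obtain ⟨S', q', rfl⟩ := hp'
      obtain ⟨T, ⟨h₁, _⟩, ⟨h₂, _⟩⟩ := hdir S S'
      exact ⟨T, MvPolynomial.rename (Set.inclusion h₁) q + MvPolynomial.rename (Set.inclusion h₂) q',
        by rw [map_add, htr, htr]⟩
    | mul_X p x hp =>
      obtain ⟨S, q, rfl⟩ := hp
      obtain ⟨S', hx⟩ := Set.mem_iUnion.mp x.2
      obtain ⟨T, ⟨h₁, _⟩, ⟨h₂, _⟩⟩ := hdir S S'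
      exact ⟨T, MvPolynomial.rename (Set.inclusion h₁) q * MvPolynomial.X ⟨x.1, h₂ hx⟩,
        by rw [map_mul, htr]; simp [ι]⟩
  let I : Ideal (MvPolynomial L R) := ⨆ S : c, S.1.I.map (ι S)
  have hdirI : Directed (· ≤ ·) (fun S : c => S.1.I.map (ι S)) := by
    intro S S'
    obtain ⟨T, ⟨h₁, e₁⟩, ⟨h₂, e₂⟩⟩ := hdir S S'
    refine ⟨T, ?_, ?_⟩
    · refine Ideal.map_le_iff_le_comap.mpr fun q hq => ?_
      rw [Ideal.mem_comap, ← htr S T h₁ q]
      exact Ideal.mem_map_of_mem _ (e₁ hq)
    · refine Ideal.map_le_iff_le_comap.mpr fun q hq => ?_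
      rw [Ideal.mem_comap, ← htr S' T h₂ q]
      exact Ideal.mem_map_of_mem _ (e₂ hq)
  have hmap : ∀ (S : c) (p : MvPolynomial L R), p ∈ S.1.I.map (ι S) →
      ∃ T : c, ∃ q ∈ T.1.I, ι T q = p := by
    intro S p hp
    refine Submodule.span_induction (p := fun p _ => ∃ T : c, ∃ q ∈ T.1.I, ι T q = p)
      ?_ ?_ ?_ ?_ hp
    · rintro _ ⟨q, hq, rfl⟩
      exact ⟨S, q, hq, rfl⟩
    · exact ⟨S, 0, zero_mem _, map_zero _⟩
    · rintro _ _ _ _ ⟨T, q, hq, rfl⟩ ⟨T', q', hq', rfl⟩
      obtain ⟨U, ⟨h₁, e₁⟩, ⟨h₂, e₂⟩⟩ := hdir T T'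
      exact ⟨U, _, add_mem (e₁ hq) (e₂ hq'), by rw [map_add, htr, htr]⟩
    · rintro a _ _ ⟨T, q, hq, rfl⟩
      obtain ⟨S', a', rfl⟩ := hrange a
      obtain ⟨U, ⟨h₁, e₁⟩, ⟨h₂, _⟩⟩ := hdir T S'
      exact ⟨U, _, U.1.I.mul_mem_left (MvPolynomial.rename (Set.inclusion h₂) a') (e₁ hq),
        by rw [map_mul, htr, htr, smul_eq_mul]⟩
  have hI : ∀ p ∈ I, ∃ T : c, ∃ q ∈ T.1.I, ι T q = p := by
    intro p hp
    obtain ⟨S, hS⟩ := (Submodule.mem_iSup_of_directed _ hdirI).mp hp
    exact hmap S p hS
  have hle : ∀ S : c, S.1.I ≤ I.comap (ι S) := fun S =>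
    Ideal.map_le_iff_le_comap.mp (le_iSup (fun S : c => S.1.I.map (ι S)) S)
  let ψ : ∀ S : c, (MvPolynomial S.1.L R ⧸ S.1.I) →ₐ[R] (MvPolynomial L R ⧸ I) := fun S =>
    Ideal.quotientMapₐ I (ι S) (hle S)
  refine ⟨⟨L, I, ?_, ?_, ?_, ?_⟩, fun S hS => ⟨hsub ⟨S, hS⟩, hle ⟨S, hS⟩⟩⟩
  · intro p hp
    obtain ⟨T, q, hq, rfl⟩ := hI p hp
    have := T.1.le hq
    simp only [RingHom.mem_ker, ι, MvPolynomial.aeval_rename] at this ⊢
    exact this
  · refine Module.Flat.of_forall_isTrivialRelation fun {l f x} h => ?_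
    have hx : ∀ i, ∃ (S : c) (q : _), ψ S (Ideal.Quotient.mk _ q) = x i := fun i => by
      obtain ⟨p, hp⟩ := Ideal.Quotient.mk_surjective (x i)
      obtain ⟨S, q, rfl⟩ := hrange p
      exact ⟨S, q, by simpa [ψ] using hp⟩
    choose S q hq using hx
    obtain ⟨T, hT⟩ := hdir.finset_le (Finset.univ.image S)
    have hST : ∀ i, (S i).1 ≤ T.1 := fun i => hT _ (Finset.mem_image_of_mem _ (Finset.mem_univ i))
    choose hh _ using hST
    let q' := fun i => MvPolynomial.rename (Set.inclusion (hh i)) (q i)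
    have hq' : ∀ i, ψ T (Ideal.Quotient.mk _ (q' i)) = x i := fun i => by
      rw [← hq i]
      exact congrArg (Ideal.Quotient.mk I) (htr _ _ _ _)
    have h0 : (∑ i, f i • ι T (q' i)) ∈ I := by
      rw [← Ideal.Quotient.eq_zero_iff_mem, ← h, map_sum]
      exact Finset.sum_congr rfl fun i _ => by rw [← hq' i]; rfl
    obtain ⟨T', w, hw, hweq⟩ := hI _ h0
    obtain ⟨U, ⟨h₁, e₁⟩, ⟨h₂, e₂⟩⟩ := hdir T T'
    let y := fun i => Ideal.Quotient.mk U.1.I (MvPolynomial.rename (Set.inclusion h₁) (q' i))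
    have hy : ∀ i, ψ U (y i) = x i := fun i => by
      rw [← hq' i]
      exact congrArg (Ideal.Quotient.mk I) (htr _ _ _ _)
    have hy0 : ∑ i, f i • y i = 0 := by
      have : (∑ i, f i • MvPolynomial.rename (Set.inclusion h₁) (q' i)) =
          MvPolynomial.rename (Set.inclusion h₂) w := by
        apply hι U
        rw [htr, hweq, map_sum]
        exact Finset.sum_congr rfl fun i _ => by rw [map_smul, htr]
      have h3 : Ideal.Quotient.mk U.1.I (∑ i, f i • MvPolynomial.rename (Set.inclusion h₁) (q' i)) = 0 := by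
        rw [this, Ideal.Quotient.eq_zero_iff_mem]
        exact e₂ hw
      rw [map_sum] at h3
      exact h3
    haveI := U.1.flat
    obtain ⟨k, a, z, hz, ha⟩ := Module.Flat.isTrivialRelation_of_sum_smul_eq_zero hy0
    exact ⟨k, a, fun j => ψ U (z j), fun i => by
      rw [← hy i, hz i, map_sum]; exact Finset.sum_congr rfl fun j _ => map_smul _ _ _, ha⟩
  · refine ⟨fun b => ?_⟩
    obtain ⟨p, rfl⟩ := Ideal.Quotient.mk_surjective b
    obtain ⟨S, q, rfl⟩ := hrange p
    haveI := S.1.int
    exact (Algebra.IsIntegral.isIntegral (Ideal.Quotient.mk S.1.I q)).map (ψ S)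
  · intro p hp
    obtain ⟨S, q, rfl⟩ := hrange p
    have hq : q ∈ RingHom.ker (MvPolynomial.aeval (R := R) (fun x : S.1.L => (x : K))) := by
      simp only [RingHom.mem_ker, ι, MvPolynomial.aeval_rename] at hp ⊢
      exact hp
    obtain ⟨a, ha, b, hb, rfl⟩ := Submodule.mem_sup.mp (S.1.ker hq)
    rw [map_add]
    refine Submodule.add_mem_sup (hle S ha) ?_
    have h := Ideal.mem_map_of_mem (ι S).toRingHom hb
    rw [Ideal.map_map] at h
    have hC : (ι S).toRingHom.comp MvPolynomial.C = MvPolynomial.C := RingHom.ext fun r => by simp [ι]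
    rw [hC] at h
    exact h

theorem exists_lt [Algebra.IsIntegral R K] (S : Stage R K) {x : K} (hx : x ∉ S.L) :
    ∃ T : Stage R K, S ≤ T ∧ x ∈ T.L := by
  classical
  let P := MvPolynomial S.L R
  let Q := P ⧸ S.I
  haveI : Algebra.IsIntegral R Q := S.int
  haveI : Module.Flat R Q := S.flat
  let ev : Q →ₐ[R] K := Ideal.Quotient.liftₐ S.I (MvPolynomial.aeval (fun x : S.L => (x : K)))
    fun a ha => S.le ha
  let J : Ideal Q := RingHom.ker ev
  have hJ : J ≤ (maximalIdeal R).map (algebraMap R Q) := by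
    intro b hb
    obtain ⟨p, rfl⟩ := Ideal.Quotient.mk_surjective b
    obtain ⟨a, ha, c, hc, rfl⟩ := Submodule.mem_sup.mp (S.ker (show p ∈ _ from hb))
    rw [map_add, Ideal.Quotient.eq_zero_iff_mem.mpr ha, zero_add]
    have h := Ideal.mem_map_of_mem (Ideal.Quotient.mk S.I) hc
    rw [Ideal.map_map] at h
    exact h
  haveI hJp : J.IsPrime := RingHom.ker_isPrime _
  haveI : J.IsMaximal := by
    refine Ideal.isMaximal_of_isIntegral_of_isMaximal_comap (R := R) J ?_
    have h : J.comap (algebraMap R Q) = (⊥ : Ideal K).comap (algebraMap R K) := by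
      ext r
      rw [Ideal.mem_comap, Ideal.mem_comap, Ideal.mem_bot, RingHom.mem_ker, AlgHom.commutes]
    rw [h]
    haveI : (⊥ : Ideal K).IsMaximal := Ideal.bot_isMaximal
    exact Ideal.isMaximal_comap_of_isIntegral_of_isMaximal _
  letI : Field (Q ⧸ J) := Ideal.Quotient.field J
  let evF : Q ⧸ J →ₐ[R] K := Ideal.Quotient.liftₐ J ev fun a ha => ha
  letI : Algebra (Q ⧸ J) K := evF.toRingHom.toAlgebra
  haveI : IsScalarTower R (Q ⧸ J) K := IsScalarTower.of_algebraMap_eq fun r => (evF.commutes r).symm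
  have hxint : IsIntegral (Q ⧸ J) x := (Algebra.IsIntegral.isIntegral (R := R) x).tower_top
  let π : Q →+* Q ⧸ J := Ideal.Quotient.mk J
  have hπ : Function.Surjective π := Ideal.Quotient.mk_surjective
  obtain ⟨f, hfmap, -, hf⟩ := Polynomial.lifts_and_natDegree_eq_and_monic
    (f := π) (p := minpoly (Q ⧸ J) x)
    (by rw [Polynomial.mem_lifts]; exact Polynomial.map_surjective _ hπ _) (minpoly.monic hxint)
  haveI : Module.Free Q (AdjoinRoot f) := hf.free_adjoinRoot
  haveI : Module.Finite Q (AdjoinRoot f) := hf.finite_adjoinRoot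
  haveI : Module.Flat R (AdjoinRoot f) := Module.Flat.trans R Q (AdjoinRoot f)
  haveI : Algebra.IsIntegral R (AdjoinRoot f) := Algebra.IsIntegral.trans Q
  have hevπ : ∀ h : Q[X], h.eval₂ ev.toRingHom x = (h.map π).eval₂ (algebraMap (Q ⧸ J) K) x := by
    intro h
    rw [Polynomial.eval₂_map]
    rfl
  have hfx : f.eval₂ ev.toRingHom x = 0 := by
    rw [hevπ, hfmap]
    exact minpoly.aeval (Q ⧸ J) x
  let ev' : AdjoinRoot f →+* K := AdjoinRoot.lift ev.toRingHom x hfx
  have hker' : RingHom.ker ev' ≤ (maximalIdeal R).map (algebraMap R (AdjoinRoot f)) := by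
    intro b hb
    obtain ⟨h, rfl⟩ := AdjoinRoot.mk_surjective b
    rw [RingHom.mem_ker, AdjoinRoot.lift_mk, hevπ] at hb
    obtain ⟨s, hs⟩ := minpoly.dvd (Q ⧸ J) x (p := h.map π) hb
    obtain ⟨s', rfl⟩ := Polynomial.map_surjective _ hπ s
    rw [← hfmap, ← Polynomial.map_mul] at hs
    have hmem : h - f * s' ∈ J.map Polynomial.C := by
      rw [← Ideal.mk_ker (I := J), ← Polynomial.ker_mapRingHom, RingHom.mem_ker, map_sub, sub_eq_zero]
      exact hs
    have h' := Ideal.mem_map_of_mem (AdjoinRoot.mk f) hmem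
    rw [map_sub, map_mul, AdjoinRoot.mk_self, zero_mul, sub_zero, Ideal.map_map] at h'
    have h'' := Ideal.map_mono (f := (AdjoinRoot.mk f).comp Polynomial.C) hJ h'
    rw [Ideal.map_map] at h''
    exact h''
  -- the surjection from polynomials
  let L' : Set K := insert x S.L
  let g : L' → AdjoinRoot f := fun y =>
    if hy : (y : K) ∈ S.L then AdjoinRoot.of f (Ideal.Quotient.mk S.I (MvPolynomial.X ⟨y, hy⟩))
    else AdjoinRoot.root f
  let φ : MvPolynomial L' R →ₐ[R] AdjoinRoot f := MvPolynomial.aeval g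
  have hin : S.L ⊆ L' := Set.subset_insert _ _
  have hφ : ∀ p : P, φ (MvPolynomial.rename (Set.inclusion hin) p) =
      AdjoinRoot.of f (Ideal.Quotient.mk S.I p) := by
    intro p
    have : φ.comp (MvPolynomial.rename (Set.inclusion hin)) =
        ((AdjoinRoot.ofAlgHom R f).comp (Ideal.Quotient.mkₐ R S.I)) := by
      refine MvPolynomial.algHom_ext fun y => ?_
      simp [φ, g, AdjoinRoot.ofAlgHom, y.2]
      rfl
    exact DFunLike.congr_fun this p
  have hφroot : φ (MvPolynomial.X ⟨x, Set.mem_insert _ _⟩) = AdjoinRoot.root f := by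
    simp [φ, g, hx]
  have hφsurj : Function.Surjective φ := by
    intro b
    obtain ⟨h, rfl⟩ := AdjoinRoot.mk_surjective b
    induction h using Polynomial.induction_on' with
    | add p q hp hq =>
      obtain ⟨a, ha⟩ := hp
      obtain ⟨a', ha'⟩ := hq
      exact ⟨a + a', by rw [map_add, map_add, ha, ha']⟩
    | monomial n a =>
      obtain ⟨p, rfl⟩ := Ideal.Quotient.mk_surjective a
      refine ⟨MvPolynomial.rename (Set.inclusion hin) p * MvPolynomial.X ⟨x, Set.mem_insert _ _⟩ ^ n, ?_⟩
      rw [map_mul, map_pow, hφ, hφroot, ← Polynomial.C_mul_X_pow_eq_monomial, map_mul, map_pow,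
        AdjoinRoot.mk_X, AdjoinRoot.mk_C]
  have hev : ∀ p, ev' (φ p) = MvPolynomial.aeval (R := R) (fun y : L' => (y : K)) p := by
    intro p
    have hcomm : ∀ r : R, ev' (algebraMap R (AdjoinRoot f) r) = algebraMap R K r := fun r => by
      rw [IsScalarTower.algebraMap_apply R Q (AdjoinRoot f), AdjoinRoot.algebraMap_eq]
      exact (AdjoinRoot.lift_of hfx).trans (ev.commutes r)
    let ev'' : AdjoinRoot f →ₐ[R] K := { ev' with commutes' := hcomm }
    have : ev''.comp φ = MvPolynomial.aeval (fun y : L' => (y : K)) := by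
      refine MvPolynomial.algHom_ext fun y => ?_
      show ev' (φ (MvPolynomial.X y)) = _
      simp only [φ, MvPolynomial.aeval_X, g]
      split_ifs with hy
      · rw [show ev' = AdjoinRoot.lift ev.toRingHom x hfx from rfl, AdjoinRoot.lift_of]
        exact MvPolynomial.aeval_X (fun x : S.L => (x : K)) ⟨y.1, hy⟩
      · rw [show ev' = AdjoinRoot.lift ev.toRingHom x hfx from rfl, AdjoinRoot.lift_root]
        exact ((Set.mem_insert_iff.mp y.2).resolve_right hy).symm
    exact DFunLike.congr_fun this p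
  refine ⟨⟨L', RingHom.ker φ, ?_, ?_, ?_, ?_⟩, ⟨hin, ?_⟩, Set.mem_insert _ _⟩
  · intro p hp
    rw [RingHom.mem_ker, ← hev, (RingHom.mem_ker).mp hp, map_zero]
  · exact Module.Flat.of_linearEquiv (Ideal.quotientKerAlgEquivOfSurjective hφsurj).toLinearEquiv
  · exact Algebra.IsIntegral.of_surjective
      (Ideal.quotientKerAlgEquivOfSurjective hφsurj).symm.toAlgHom (AlgEquiv.surjective _)
  · intro p hp
    have h1 : φ p ∈ (maximalIdeal R).map (algebraMap R (AdjoinRoot f)) :=
      hker' (by rw [RingHom.mem_ker, hev]; exact hp)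
    have h2 : (maximalIdeal R).map (algebraMap R (AdjoinRoot f)) =
        ((maximalIdeal R).map MvPolynomial.C).map φ.toRingHom := by
      rw [Ideal.map_map]
      exact congrArg₂ Ideal.map (RingHom.ext fun r => (φ.commutes r).symm) rfl
    rw [h2] at h1
    have h3 : p ∈ (((maximalIdeal R).map MvPolynomial.C).map φ.toRingHom).comap φ.toRingHom := h1
    rw [Ideal.comap_map_of_surjective φ.toRingHom hφsurj] at h3
    rw [sup_comm]
    exact h3
  · intro p hp
    rw [Ideal.mem_comap, RingHom.mem_ker, hφ, Ideal.Quotient.eq_zero_iff_mem.mpr hp, map_zero]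

/-- A flat integral local extension with prescribed algebraic residue field. -/
theorem exists_algebraic [Algebra.IsIntegral R K]
    (hker : RingHom.ker (algebraMap R K) = maximalIdeal R) :
    ∃ (R' : Type u) (_ : CommRing R') (_ : IsLocalRing R') (_ : Algebra R R') (ev : R' →ₐ[R] K),
      Module.Flat R R' ∧ Function.Surjective ev ∧
        (maximalIdeal R).map (algebraMap R R') = maximalIdeal R' := by
  classical
  obtain ⟨S, -, hS⟩ := zorn_le_nonempty₀ (Set.univ : Set (Stage R K))
    (fun c _ hc y hy => by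
      obtain ⟨U, hU⟩ := exists_ub c hc ⟨y, hy⟩
      exact ⟨U, Set.mem_univ _, hU⟩) (Stage.init hker) (Set.mem_univ _)
  have hL : ∀ x, x ∈ S.L := by
    intro x
    by_contra hx
    obtain ⟨T, hle, hxT⟩ := exists_lt S hx
    obtain ⟨h, -⟩ := hS.2 (Set.mem_univ T) hle
    exact hx (h hxT)
  let P := MvPolynomial S.L R
  let Q := P ⧸ S.I
  haveI : Algebra.IsIntegral R Q := S.int
  let ev : Q →ₐ[R] K := Ideal.Quotient.liftₐ S.I (MvPolynomial.aeval (fun x : S.L => (x : K)))
    fun a ha => S.le ha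
  have hsurj : Function.Surjective ev := fun x =>
    ⟨Ideal.Quotient.mk _ (MvPolynomial.X ⟨x, hL x⟩), MvPolynomial.aeval_X (fun x : S.L => (x : K)) ⟨x, hL x⟩⟩
  let mQ := (maximalIdeal R).map (algebraMap R Q)
  have hkerQ : RingHom.ker ev = mQ := by
    refine le_antisymm (fun b hb => ?_) ?_
    · obtain ⟨p, rfl⟩ := Ideal.Quotient.mk_surjective b
      obtain ⟨a, ha, c, hc, rfl⟩ := Submodule.mem_sup.mp (S.ker (show p ∈ _ from hb))
      rw [map_add, Ideal.Quotient.eq_zero_iff_mem.mpr ha, zero_add]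
      have h := Ideal.mem_map_of_mem (Ideal.Quotient.mk S.I) hc
      rw [Ideal.map_map] at h
      exact h
    · refine Ideal.map_le_iff_le_comap.mpr fun r hr => ?_
      rw [Ideal.mem_comap, RingHom.mem_ker, AlgHom.commutes, ← RingHom.mem_ker, hker]
      exact hr
  haveI hmax : mQ.IsMaximal := hkerQ ▸ RingHom.ker_isMaximal_of_surjective _ hsurj
  haveI : IsLocalRing Q := by
    refine IsLocalRing.of_unique_max_ideal ⟨mQ, hmax, fun M hM => ?_⟩
    haveI := hM
    have hMc := IsLocalRing.eq_maximalIdeal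
      (Ideal.isMaximal_comap_of_isIntegral_of_isMaximal (R := R) M)
    exact (hmax.eq_of_le hM.ne_top (Ideal.map_le_iff_le_comap.mpr hMc.ge)).symm
  exact ⟨Q, inferInstance, inferInstance, inferInstance, ev, S.flat, hsurj,
    IsLocalRing.eq_maximalIdeal hmax⟩

end Algebraic

/-! ### The general case -/

theorem exists_flat_ext (R K : Type u) [CommRing R] [IsLocalRing R] [Field K]
    [Algebra (ResidueField R) K] :
    ∃ (R' : Type u) (_ : CommRing R') (_ : IsLocalRing R') (_ : Algebra R R') (ev : R' →+* K),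
      Module.Flat R R' ∧ Function.Surjective ev ∧
        (maximalIdeal R).map (algebraMap R R') = maximalIdeal R' ∧
        ∀ r, ev (algebraMap R R' r) = algebraMap (ResidueField R) K (residue R r) := by
  classical
  let k := ResidueField R
  letI : Algebra R K := ((algebraMap k K).comp (residue R)).toAlgebra
  haveI : IsScalarTower R k K := IsScalarTower.of_algebraMap_eq fun _ => rfl
  obtain ⟨s, hs⟩ := exists_isTranscendenceBasis k K
  let v : s → K := Subtype.val
  let P := MvPolynomial s R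
  let θ : P →ₐ[R] K := MvPolynomial.aeval v
  have hθ : θ.toRingHom = (MvPolynomial.aeval v : MvPolynomial s k →ₐ[k] K).toRingHom.comp
      (MvPolynomial.map (residue R)) := by
    refine MvPolynomial.ringHom_ext (fun r => ?_) (fun i => ?_)
    · rw [RingHom.comp_apply, MvPolynomial.map_C]
      exact (MvPolynomial.aeval_C v r).trans (MvPolynomial.aeval_C v (residue R r)).symm
    · rw [RingHom.comp_apply, MvPolynomial.map_X]
      exact (MvPolynomial.aeval_X v i).trans (MvPolynomial.aeval_X (R := k) v i).symm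
  let p : Ideal P := RingHom.ker θ
  have hp : p = (maximalIdeal R).map MvPolynomial.C := by
    show RingHom.ker θ.toRingHom = _
    rw [hθ, RingHom.ker_comp_of_injective _
      (show Function.Injective (MvPolynomial.aeval v : MvPolynomial s k →ₐ[k] K).toRingHom from hs.1),
      MvPolynomial.ker_map, IsLocalRing.ker_residue]
  haveI : p.IsPrime := RingHom.ker_isPrime _
  let R₁ := Localization.AtPrime p
  haveI : Module.Flat P R₁ := IsLocalization.flat R₁ p.primeCompl
  haveI : Module.Flat R R₁ := Module.Flat.trans R P R₁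
  have hunit : ∀ y : p.primeCompl, IsUnit (θ.toRingHom y) := fun y =>
    IsUnit.mk0 _ fun h => y.2 h
  let θ₁ : R₁ →+* K := IsLocalization.lift hunit
  have hθ₁ : ∀ a : P, θ₁ (algebraMap P R₁ a) = θ a := fun a => IsLocalization.lift_eq hunit a
  letI : Algebra R₁ K := θ₁.toAlgebra
  haveI : IsScalarTower R R₁ K := IsScalarTower.of_algebraMap_eq fun r => by
    show _ = θ₁ (algebraMap R R₁ r)
    rw [IsScalarTower.algebraMap_apply R P R₁, hθ₁, AlgHom.commutes]
  have hmax : maximalIdeal R₁ = (maximalIdeal R).map (algebraMap R R₁) := by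
    rw [← Localization.AtPrime.map_eq_maximalIdeal]
    exact (congrArg (Ideal.map (algebraMap P R₁)) hp).trans (Ideal.map_map _ _)
  have hker₁ : RingHom.ker (algebraMap R₁ K) = maximalIdeal R₁ := by
    refine le_antisymm (IsLocalRing.le_maximalIdeal (RingHom.ker_ne_top _)) ?_
    rw [← Localization.AtPrime.map_eq_maximalIdeal, Ideal.map_le_iff_le_comap]
    intro a ha
    rw [Ideal.mem_comap, RingHom.mem_ker]
    exact (hθ₁ a).trans ha
  -- the range of `θ₁` is a subfield over which `K` is algebraic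
  let F₁ : IntermediateField k K :=
    { θ₁.range with
      algebraMap_mem' := fun a => by
        obtain ⟨r, rfl⟩ := residue_surjective a
        exact ⟨algebraMap R R₁ r, (IsScalarTower.algebraMap_apply R R₁ K r).symm⟩
      inv_mem' := fun z => by
        rintro ⟨r, rfl⟩
        by_cases hr : θ₁ r = 0
        · exact ⟨0, by simp [hr]⟩
        · have hu : IsUnit r := by
            by_contra h
            have : r ∈ RingHom.ker (algebraMap R₁ K) := hker₁.symm ▸ (IsLocalRing.mem_maximalIdeal r).mpr h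
            exact hr this
          obtain ⟨u, rfl⟩ := hu
          exact ⟨(u⁻¹ : R₁ˣ), map_units_inv θ₁ u⟩ }
  have hle : Algebra.adjoin k (Set.range v) ≤ F₁.toSubalgebra := by
    refine Algebra.adjoin_le ?_
    rintro _ ⟨i, rfl⟩
    exact ⟨algebraMap P R₁ (MvPolynomial.X i), by rw [hθ₁]; exact MvPolynomial.aeval_X v i⟩
  haveI : Algebra.IsAlgebraic (Algebra.adjoin k (Set.range v)) K := hs.isAlgebraic
  letI : Algebra (Algebra.adjoin k (Set.range v)) F₁ := (Subalgebra.inclusion hle).toRingHom.toAlgebra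
  haveI : IsScalarTower (Algebra.adjoin k (Set.range v)) F₁ K := IsScalarTower.of_algebraMap_eq fun _ => rfl
  haveI : Algebra.IsIntegral R₁ K := by
    refine ⟨fun z => ?_⟩
    have halg : IsAlgebraic F₁ z :=
      (Algebra.IsAlgebraic.isAlgebraic (R := Algebra.adjoin k (Set.range v)) z).extendScalars
        (Subalgebra.inclusion_injective hle)
    have hint : IsIntegral F₁ z := halg.isIntegral
    let g := (minpoly F₁ z).map (algebraMap F₁ K)
    have hlifts : g ∈ Polynomial.lifts θ₁ := by
      rw [Polynomial.lifts_iff_coeff_lifts]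
      intro n
      rw [Polynomial.coeff_map]
      exact ((minpoly F₁ z).coeff n).2
    obtain ⟨G, hG, -, hGm⟩ :=
      Polynomial.lifts_and_natDegree_eq_and_monic hlifts ((minpoly.monic hint).map _)
    refine ⟨G, hGm, ?_⟩
    have h0 : g.eval z = 0 := by
      rw [Polynomial.eval_map, ← Polynomial.aeval_def, minpoly.aeval]
    rw [← hG, Polynomial.eval_map] at h0
    exact h0
  obtain ⟨R', _, _, _, ev, hflat, hsurj, hmax'⟩ := exists_algebraic hker₁
  letI : Algebra R R' := ((algebraMap R₁ R').comp (algebraMap R R₁)).toAlgebra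
  haveI : IsScalarTower R R₁ R' := IsScalarTower.of_algebraMap_eq fun _ => rfl
  refine ⟨R', inferInstance, inferInstance, inferInstance, ev.toRingHom,
    Module.Flat.trans R R₁ R', hsurj, ?_, fun r => ?_⟩
  · rw [← hmax', hmax, Ideal.map_map]
    rfl
  · show ev _ = algebraMap R K r
    rw [IsScalarTower.algebraMap_apply R R₁ R', AlgHom.commutes, ← IsScalarTower.algebraMap_apply]

end Groth.Agent.H1CAlg.FlatResidueExt
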