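import Groth.Agent.H4Depth.Regular
import Mathlib.RingTheory.Smooth.Local
import Mathlib.RingTheory.Ideal.Cotangent
import Mathlib.RingTheory.RegularLocalRing.Defs
import Mathlib.LinearAlgebra.Dimension.Constructions

/-!
# Jacobian rank criterion for smoothness at a point, without separability
-/

set_option autoImplicit false
universe u

open IsLocalRing TensorProduct KaehlerDifferential

namespace Groth.Agent.H1CAlg

/-- The quotient of a regular local ring by elements with independent cotangent images. -/
theorem exists_regular_quotient_of_linearIndependent (R : Type u) [CommRing R] [IsRegularLocalRing R]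
    {m : ℕ} (v : Fin m → maximalIdeal R)
    (hv : LinearIndependent (ResidueField R) fun i ↦ (maximalIdeal R).toCotangent (v i)) :
    ∃ (_ : IsRegularLocalRing (R ⧸ Ideal.span (Set.range fun i ↦ (v i : R)))) (d : ℕ),
      ringKrullDim (R ⧸ Ideal.span (Set.range fun i ↦ (v i : R))) = (d : WithBot ℕ∞) ∧
      ringKrullDim R = ((d + m : ℕ) : WithBot ℕ∞) := by
  classical
  let C := CotangentSpace R
  let W : Submodule (ResidueField R) C := Submodule.span _ (Set.range fun i ↦ (maximalIdeal R).toCotangent (v i))
  let e := Module.finrank (ResidueField R) (C ⧸ W)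
  have b := Module.finBasis (ResidueField R) (C ⧸ W)
  choose w₀ hw₀ using fun j ↦ Submodule.mkQ_surjective W (b j)
  choose w hw using fun j ↦ (maximalIdeal R).toCotangent_surjective (w₀ j)
  let u : Fin (m + e) → maximalIdeal R := Fin.append v w
  have hspan : Submodule.span (ResidueField R) ((maximalIdeal R).toCotangent '' Set.range u) = ⊤ := by
    rw [eq_top_iff]
    intro c _
    have hWle : W ≤ Submodule.span (ResidueField R) ((maximalIdeal R).toCotangent '' Set.range u) :=
      Submodule.span_le.mpr fun _ ⟨i, hi⟩ ↦ hi ▸ Submodule.subset_span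
        ⟨v i, ⟨Fin.castAdd e i, Fin.append_left v w i⟩, rfl⟩
    have hsum : c - ∑ j, b.repr (W.mkQ c) j • w₀ j ∈ W := by
      refine (Submodule.Quotient.mk_eq_zero W).mp ?_
      change W.mkQ (c - ∑ j, b.repr (W.mkQ c) j • w₀ j) = 0
      rw [map_sub, map_sum]
      simp only [map_smul, hw₀, b.sum_repr, sub_self]
    rw [← sub_add_cancel c (∑ j, b.repr (W.mkQ c) j • w₀ j)]
    refine add_mem (hWle hsum) (sum_mem fun j _ ↦ Submodule.smul_mem _ _ (Submodule.subset_span ?_))
    exact ⟨w j, ⟨Fin.natAdd m j, Fin.append_right v w j⟩, hw j⟩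
  rw [CotangentSpace.span_image_eq_top_iff] at hspan
  have hmax : Ideal.span (Set.range fun i ↦ (u i : R)) = maximalIdeal R := by
    have h := congrArg (Submodule.map (maximalIdeal R).subtype) hspan
    rw [Submodule.map_span, Submodule.map_top, Submodule.range_subtype, ← Set.range_comp] at h
    exact h
  have hd : ringKrullDim R = ((m + e : ℕ) : WithBot ℕ∞) := by
    have h1 : Module.finrank (ResidueField R) W = m := by
      rw [finrank_span_eq_card hv, Fintype.card_fin]
    have h2 := Submodule.finrank_quotient_add_finrank W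
    rw [h1] at h2
    rw [← (IsRegularLocalRing.iff_finrank_cotangentSpace R).mp inferInstance, ← h2, add_comm]
  obtain ⟨hreg, hdim⟩ := H4Depth.exists_regular_quotient_of_subset (m + e) hd (fun i ↦ (u i : R)) hmax
    (Finset.univ.image (Fin.castAdd e))
  have hset : (fun i ↦ (u i : R)) '' ↑(Finset.univ.image (Fin.castAdd e) : Finset (Fin (m + e))) =
      Set.range fun i ↦ (v i : R) := by
    rw [Finset.coe_image, Finset.coe_univ, Set.image_univ, ← Set.range_comp]
    congr 1
    funext i
    exact congrArg Subtype.val (Fin.append_left v w i)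
  have hcard : (Finset.univ.image (Fin.castAdd e (n := m))).card = m := by
    rw [Finset.card_image_of_injective _ (Fin.castAdd_injective m e), Finset.card_univ, Fintype.card_fin]
  rw [hcard, show m + e - m = e by omega, hset] at hdim
  rw [hset] at hreg
  exact ⟨hreg, e, hdim, by rw [hd, add_comm]⟩

theorem exists_preimage_basis {K M V : Type*} [Field K] [AddCommGroup M] [Module K M] [AddCommGroup V]
    [Module K V] [Module.Finite K V] (f : M →ₗ[K] V) :
    ∃ w : Fin (Module.finrank K (LinearMap.range f)) → M,
      LinearIndependent K (fun i => f (w i)) ∧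
        ∀ m, f m ∈ Submodule.span K (Set.range fun i => f (w i)) := by
  let b := Module.finBasis K (LinearMap.range f)
  choose w hw using fun i => (b i).2
  have he : (fun i => f (w i)) = (LinearMap.range f).subtype ∘ b := funext hw
  refine ⟨w, ?_, fun m => ?_⟩
  · rw [he]
    exact b.linearIndependent.map' _ (Submodule.ker_subtype _)
  · rw [he, Set.range_comp, Submodule.span_image, b.span_eq, Submodule.map_top, Submodule.range_subtype]
    exact ⟨m, rfl⟩

variable (k Pl O : Type u) [Field k] [CommRing Pl] [CommRing O] [IsLocalRing O]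
  [Algebra k Pl] [Algebra k O] [Algebra Pl O] [IsScalarTower k Pl O]

local notation "κ" => ResidueField O

local notation "θ" => cotangentComplexBaseChange k O Pl (ResidueField O)

/-- The rank of the conormal map at the closed point. -/
noncomputable def conormalRank : ℕ :=
  Module.finrank (ResidueField O) (LinearMap.range (cotangentComplexBaseChange k O Pl (ResidueField O)))

theorem conormalRank_add_finrank [Module.Finite Pl Ω[Pl⁄k]] (hsurj : Function.Surjective (algebraMap Pl O)) :
    conormalRank k Pl O + Module.finrank (ResidueField O) (ResidueField O ⊗[O] Ω[O⁄k]) =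
      Module.finrank (ResidueField O) (ResidueField O ⊗[Pl] Ω[Pl⁄k]) := by
  let e := AlgebraTensorModule.cancelBaseChange Pl O κ κ Ω[Pl⁄k]
  let ρ : κ ⊗[Pl] Ω[Pl⁄k] →ₗ[κ] κ ⊗[O] Ω[O⁄k] :=
    (mapBaseChange k Pl O).baseChange κ ∘ₗ e.symm.toLinearMap
  have hρ : Function.Surjective ρ :=
    (LinearMap.lTensor_surjective κ (mapBaseChange_surjective k Pl O hsurj)).comp e.symm.surjective
  have hker : LinearMap.ker ρ = LinearMap.range θ := by
    refine le_antisymm (fun z hz => ?_) ?_
    · obtain ⟨y, rfl⟩ := e.surjective z
      have hy : (mapBaseChange k Pl O).lTensor κ y = 0 := by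
        simpa [ρ, LinearMap.baseChange_eq_ltensor] using hz
      obtain ⟨w, rfl⟩ := (lTensor_exact (R := O) (M := LinearMap.ker (mapBaseChange k Pl O)) (N := O ⊗[Pl] Ω[Pl⁄k]) (P := Ω[O⁄k]) κ (f := (LinearMap.ker (mapBaseChange k Pl O)).subtype) (g := mapBaseChange k Pl O)
        (LinearMap.exact_subtype_ker_map _)
        (mapBaseChange_surjective k Pl O hsurj) y).mp hy
      clear hz hy
      induction w using TensorProduct.induction_on with
      | zero => simp
      | add x y hx hy => rw [map_add, map_add]; exact add_mem hx hy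
      | tmul a v =>
        obtain ⟨t, ht⟩ := (SetLike.ext_iff.mp (range_kerCotangentToTensor k Pl O hsurj) v.1).mpr v.2
        obtain ⟨x, rfl⟩ := Ideal.toCotangent_surjective _ t
        rw [kerCotangentToTensor_toCotangent] at ht
        refine ⟨a ⊗ₜ x, ?_⟩
        rw [LinearMap.lTensor_tmul, Submodule.subtype_apply, ← ht]
        simp [e, cotangentComplexBaseChange_tmul, TensorProduct.smul_tmul']
    · rintro _ ⟨w, rfl⟩
      rw [LinearMap.mem_ker]
      induction w using TensorProduct.induction_on with
      | zero => simp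
      | add x y hx hy => rw [map_add, map_add, hx, hy, add_zero]
      | tmul a x =>
        have hx : algebraMap Pl O (x : Pl) = 0 := x.2
        simp [ρ, e, cotangentComplexBaseChange_tmul, TensorProduct.smul_tmul', KaehlerDifferential.map_D, hx]
  have h := ρ.finrank_range_add_finrank_ker
  rw [LinearMap.range_eq_top.mpr hρ, finrank_top, hker] at h
  rw [← h, add_comm]
  rfl

set_option maxHeartbeats 700000 in
theorem formallySmooth_iff_conormalRank [IsRegularLocalRing Pl] [Algebra.FormallySmooth k Pl]
    [Module.Free Pl Ω[Pl⁄k]] [Module.Finite Pl Ω[Pl⁄k]] (hsurj : Function.Surjective (algebraMap Pl O)) :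
    Algebra.FormallySmooth k O ↔ ringKrullDim Pl ≤ ringKrullDim O + (conormalRank k Pl O : ℕ) := by
  classical
  rw [Algebra.FormallySmooth.iff_injective_cotangentComplexBaseChange_residueField Pl hsurj
    (IsNoetherian.noetherian _)]
  let J := RingHom.ker (algebraMap Pl O)
  have hκs : Function.Surjective (algebraMap Pl κ) := by
    rw [IsScalarTower.algebraMap_eq Pl O κ, RingHom.coe_comp]
    exact residue_surjective.comp hsurj
  have hkerκ : RingHom.ker (algebraMap Pl κ) = maximalIdeal Pl :=
    eq_maximalIdeal (RingHom.ker_isMaximal_of_surjective _ hκs)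
  have hJm : J ≤ maximalIdeal Pl := by
    rw [← hkerκ, IsScalarTower.algebraMap_eq Pl O κ]
    exact fun x hx => by simp [RingHom.mem_ker.mp hx]
  haveI : Module.Finite Pl J := Module.Finite.iff_fg.mpr (IsNoetherian.noetherian _)
  have hone : ∀ w : κ ⊗[Pl] J, ∃ x : J, (1 : κ) ⊗ₜ[Pl] x = w := TensorProduct.mk_surjective Pl _ κ hκs
  -- a basis of the range coming from elements of `J`
  haveI : Module.Finite κ (κ ⊗[Pl] Ω[Pl⁄k]) := inferInstance
  let c := conormalRank k Pl O
  obtain ⟨w₀, hw₀, hw₀span⟩ := exists_preimage_basis θ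
  choose g hg using fun i => hone (w₀ i)
  have hgspan : ∀ m, θ m ∈ Submodule.span κ (Set.range fun i : Fin c => θ ((1 : κ) ⊗ₜ[Pl] g i)) := by
    simp only [hg]; exact hw₀span
  have hgind : LinearIndependent κ fun i : Fin c => θ ((1 : κ) ⊗ₜ[Pl] g i) := by
    simp only [hg]; exact hw₀
  -- they are independent in the cotangent space
  let v : Fin c → maximalIdeal Pl := fun i => ⟨(g i : Pl), hJm (g i).2⟩
  have hv : LinearIndependent (ResidueField Pl) fun i ↦ (maximalIdeal Pl).toCotangent (v i) := by
    rw [Fintype.linearIndependent_iff]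
    intro a ha i
    choose a' ha' using fun i => residue_surjective (a i)
    have hsum : ((maximalIdeal Pl).toCotangent (∑ i, a' i • v i)) = 0 := by
      rw [map_sum, ← ha]
      refine Finset.sum_congr rfl fun i _ => ?_
      rw [map_smul, ← ha' i, ← IsLocalRing.ResidueField.algebraMap_eq, algebraMap_smul]
    have hmem := (Ideal.toCotangent_eq_zero _ _).mp hsum
    have h0 : ∀ y ∈ maximalIdeal Pl ^ 2, (1 : κ) ⊗ₜ[Pl] D k Pl y = 0 := by
      intro y hy
      rw [pow_two] at hy
      refine Submodule.mul_induction_on hy (fun r hr s hs => ?_) (fun a b ha hb => ?_)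
      · rw [Derivation.leibniz, tmul_add, tmul_smul, tmul_smul, ← algebraMap_smul κ r,
          ← algebraMap_smul κ s, RingHom.mem_ker.mp (hkerκ.ge hr), RingHom.mem_ker.mp (hkerκ.ge hs),
          zero_smul, zero_smul, add_zero]
      · rw [map_add, tmul_add, ha, hb, add_zero]
    have h1 := h0 _ hmem
    have h2 : ∑ i, algebraMap Pl κ (a' i) • θ ((1 : κ) ⊗ₜ[Pl] g i) = 0 := by
      rw [← h1]
      simp only [Submodule.coe_sum, Submodule.coe_smul, map_sum, smul_eq_mul, Derivation.leibniz,
        tmul_sum, tmul_add, Finset.sum_add_distrib]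
      rw [show ∑ j, (1 : κ) ⊗ₜ[Pl] ((v j : Pl) • D k Pl (a' j)) = 0 from Finset.sum_eq_zero fun j _ => by
        rw [tmul_smul, ← algebraMap_smul κ ((v j : Pl)), RingHom.mem_ker.mp (hkerκ.ge (v j).2), zero_smul],
        add_zero]
      refine Finset.sum_congr rfl fun j _ => ?_
      rw [algebraMap_smul, tmul_smul]
      simp [v, cotangentComplexBaseChange_tmul]
    have h3 := (Fintype.linearIndependent_iff.mp hgind) _ h2 i
    rw [← ha' i, residue_eq_zero_iff, ← hkerκ]
    exact h3
  obtain ⟨hreg, d, hd, hdP⟩ := exists_regular_quotient_of_linearIndependent Pl v hv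
  set G := Ideal.span (Set.range fun i ↦ (v i : Pl))
  have hGJ : G ≤ J := Ideal.span_le.mpr (by rintro _ ⟨i, rfl⟩; exact (g i).2)
  let φ : Pl ⧸ G →+* O := Ideal.Quotient.lift G (algebraMap Pl O) fun a ha => hGJ ha
  have hφ : Function.Surjective φ := Ideal.Quotient.lift_surjective_of_surjective _ _ hsurj
  have hspanJ : G = J → Submodule.span κ (Set.range fun i => (1 : κ) ⊗ₜ[Pl] g i) = ⊤ := by
    intro hG
    have htop : Submodule.span Pl (Set.range g) = ⊤ := by
      apply Submodule.map_injective_of_injective (Submodule.injective_subtype (J : Submodule Pl Pl))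
      rw [Submodule.map_span, Submodule.map_top, Submodule.range_subtype, ← Set.range_comp]
      exact hG
    rw [eq_top_iff]
    rintro w -
    obtain ⟨x, rfl⟩ := hone w
    have hx : x ∈ Submodule.span Pl (Set.range g) := by rw [htop]; trivial
    induction hx using Submodule.span_induction with
    | mem y hy => obtain ⟨i, rfl⟩ := hy; exact Submodule.subset_span ⟨i, rfl⟩
    | zero => rw [tmul_zero]; exact zero_mem _
    | add y z _ _ hy hz => rw [tmul_add]; exact add_mem hy hz
    | smul r y _ hy => rw [tmul_smul, ← algebraMap_smul κ r]; exact Submodule.smul_mem _ _ hy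
  constructor
  · intro hinj
    -- injectivity makes the `g i` generate `J`
    have hJG : J ≤ G := by
      have hs : Submodule.span Pl (Set.range g) = ⊤ := by
        have hN : (⊤ : Submodule Pl J) ≤ Submodule.span Pl (Set.range g) ⊔ maximalIdeal Pl • ⊤ := by
          intro x _
          have hx := hgspan ((1 : κ) ⊗ₜ[Pl] x)
          obtain ⟨a, ha⟩ := (Submodule.mem_span_range_iff_exists_fun κ).mp hx
          choose a' ha' using fun i => hκs (a i)
          have h0 : (1 : κ) ⊗ₜ[Pl] (x - ∑ i, a' i • g i) = 0 := by
            apply hinj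
            rw [map_zero, tmul_sub, tmul_sum, map_sub, map_sum, sub_eq_zero, ← ha]
            refine Finset.sum_congr rfl fun i _ => ?_
            rw [tmul_smul, ← algebraMap_smul κ (a' i), map_smul, ha' i]
          have hmem : x - ∑ i, a' i • g i ∈ maximalIdeal Pl • (⊤ : Submodule Pl J) := by
            let e0 : (Pl ⧸ maximalIdeal Pl) ≃ₗ[Pl] κ :=
              ((Ideal.quotientEquivAlgOfEq Pl hkerκ.symm).trans
                (Ideal.quotientKerAlgEquivOfSurjective (f := Algebra.ofId Pl κ) hκs)).toLinearEquiv
            rw [← Submodule.Quotient.mk_eq_zero]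
            apply (TensorProduct.quotTensorEquivQuotSMul J (maximalIdeal Pl)).symm.injective
            rw [map_zero, TensorProduct.quotTensorEquivQuotSMul_symm_mk]
            apply (LinearEquiv.rTensor J e0).injective
            rw [map_zero, LinearEquiv.rTensor_tmul]
            convert h0 using 2
            exact map_one ((Ideal.quotientEquivAlgOfEq Pl hkerκ.symm).trans
                (Ideal.quotientKerAlgEquivOfSurjective (f := Algebra.ofId Pl κ) hκs))
          rw [← add_sub_cancel (∑ i, a' i • g i) x]
          exact Submodule.add_mem_sup (sum_mem fun i _ => Submodule.smul_mem _ _ (Submodule.subset_span ⟨i, rfl⟩)) hmem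
        exact top_le_iff.mp (Submodule.le_of_le_smul_of_le_jacobson_bot Module.Finite.fg_top
          (IsLocalRing.maximalIdeal_le_jacobson _) hN)
      intro x hx
      have hx' : (⟨x, hx⟩ : J) ∈ Submodule.span Pl (Set.range g) := by rw [hs]; trivial
      have := Submodule.mem_map_of_mem (f := (J : Submodule Pl Pl).subtype) hx'
      rw [Submodule.map_span, ← Set.range_comp] at this
      exact this
    have e : (Pl ⧸ G) ≃+* O := RingEquiv.ofBijective φ
      ⟨RingHom.lift_injective_of_ker_le_ideal _ _ hJG, hφ⟩
    rw [← ringKrullDim_eq_of_ringEquiv e, hd, hdP]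
    exact le_of_eq (by push_cast; rfl)
  · intro hle
    haveI := hreg
    haveI : IsDomain (Pl ⧸ G) := H4Depth.isDomain_of_isRegularLocalRing _
    have hφi : Function.Injective φ := by
      rw [injective_iff_map_eq_zero]
      intro x hx
      by_contra hne
      have hx' : x ∈ nonZeroDivisors (Pl ⧸ G) := mem_nonZeroDivisors_iff_ne_zero.mpr hne
      have h1 := ringKrullDim_quotient_succ_le_of_nonZeroDivisor hx'
      have hle' : Ideal.span {x} ≤ RingHom.ker φ := (Ideal.span_singleton_le_iff_mem _).mpr hx
      have h2 : ringKrullDim O ≤ ringKrullDim ((Pl ⧸ G) ⧸ Ideal.span {x}) :=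
        ringKrullDim_le_of_surjective (Ideal.Quotient.lift _ φ fun a ha => hle' ha)
          (Ideal.Quotient.lift_surjective_of_surjective _ _ hφ)
      rw [hdP] at hle
      have h3 : ringKrullDim O + 1 ≤ (d : WithBot ℕ∞) := (add_le_add h2 le_rfl).trans (hd ▸ h1)
      haveI : IsNoetherianRing O := isNoetherianRing_of_surjective _ _ _ hsurj
      obtain ⟨t, ht⟩ : ∃ t : ℕ, ringKrullDim O = (t : WithBot ℕ∞) := by
        rw [← Module.supportDim_self_eq_ringKrullDim]
        exact H4Depth.exists_nat_supportDim_eq
      rw [ht] at h3 hle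
      have h4 : t + 1 ≤ d := by exact_mod_cast h3
      have h5 : d + c ≤ t + c := by exact_mod_cast hle
      omega
    have hG : G = J := le_antisymm hGJ fun x hx => Ideal.Quotient.eq_zero_iff_mem.mp
      (hφi (by rw [map_zero]; exact hx))
    rw [injective_iff_map_eq_zero]
    intro w hw
    have hwmem : w ∈ Submodule.span κ (Set.range fun i => (1 : κ) ⊗ₜ[Pl] g i) := by rw [hspanJ hG]; trivial
    obtain ⟨a, rfl⟩ := (Submodule.mem_span_range_iff_exists_fun κ).mp hwmem
    rw [map_sum] at hw
    simp only [map_smul] at hw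
    have := Fintype.linearIndependent_iff.mp hgind a hw
    simp [this]

end Groth.Agent.H1CAlg
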