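import Groth.Agent.H1CAlg.MittagLeffler
import Mathlib.RingTheory.Flat.EquationalCriterion

/-!
Countably generated Mittag-Leffler modules: a sequence of finitely presented stages and
maps out of the module built along it.
-/

set_option autoImplicit false
universe u

open TensorProduct

namespace Groth.Agent.H1CAlg

variable {R : Type u} [CommRing R] {M : Type u} [AddCommGroup M] [Module R M]

/-- A finitely presented module with a map to `M`. -/
structure Stage (R : Type u) [CommRing R] (M : Type u) [AddCommGroup M] [Module R M] where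
  /-- the module -/
  P : Type u
  [acg : AddCommGroup P]
  [mod : Module R P]
  [fp : Module.FinitePresentation R P]
  /-- the map -/
  h : P →ₗ[R] M

attribute [instance] Stage.acg Stage.mod Stage.fp

theorem exists_seq_of_countablyGenerated (hc : CAlg.IsCountablyGenerated R M) :
    ∃ x : ℕ → M, Submodule.span R (Set.range x) = ⊤ := by
  obtain ⟨s, hs, hs'⟩ := hc
  obtain ⟨x, hx⟩ := (hs.insert 0).exists_eq_range (Set.insert_nonempty _ _)
  exact ⟨x, top_unique (hs'.symm.le.trans (Submodule.span_mono (hx ▸ Set.subset_insert _ _)))⟩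

theorem exists_stage_seq (hML : CAlg.IsMittagLeffler R M) (x : ℕ → M) (p : Stage R M → Prop)
    (hfac : ∀ (Q : Type u) [AddCommGroup Q] [Module R Q] [Module.FinitePresentation R Q] (c : Q →ₗ[R] M),
      ∃ (S : Stage R M) (k : Q →ₗ[R] S.P), p S ∧ S.h ∘ₗ k = c)
    (P₀ : Type u) [AddCommGroup P₀] [Module R P₀] [Module.FinitePresentation R P₀] (f : P₀ →ₗ[R] M) :
    ∃ (S : ℕ → Stage R M) (u : ∀ n, (S n).P →ₗ[R] (S (n + 1)).P) (k₀ : P₀ →ₗ[R] (S 0).P),
      (S 0).h ∘ₗ k₀ = f ∧ (∀ n, p (S n)) ∧ (∀ n, (S (n + 1)).h ∘ₗ u n = (S n).h) ∧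
      (∀ n, x n ∈ LinearMap.range (S (n + 1)).h) ∧
      ∀ n (N : Type u) [AddCommGroup N] [Module R N],
        LinearMap.ker ((S n).h.rTensor N) = LinearMap.ker ((u n).rTensor N) := by
  have step : ∀ (S : Stage R M) (y : M), ∃ (S' : Stage R M) (u : S.P →ₗ[R] S'.P),
      p S' ∧ S'.h ∘ₗ u = S.h ∧ y ∈ LinearMap.range S'.h ∧
      ∀ (N : Type u) [AddCommGroup N] [Module R N],
        LinearMap.ker (S.h.rTensor N) = LinearMap.ker (u.rTensor N) := by
    intro S y
    obtain ⟨Q, _, _, _, g, c, hgc, hker⟩ := exists_fp_ker_eq hML (S.P × R) (S.h.coprod (LinearMap.toSpanSingleton R M y))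
    obtain ⟨S', k, hp, hk⟩ := hfac Q c
    have hh : S'.h ∘ₗ (k ∘ₗ g ∘ₗ LinearMap.inl R S.P R) = S.h := by
      rw [← LinearMap.comp_assoc, hk, ← LinearMap.comp_assoc, ← hgc, LinearMap.coprod_inl]
    refine ⟨S', k ∘ₗ g ∘ₗ LinearMap.inl R S.P R, hp, hh, ⟨k (g (0, 1)), ?_⟩, fun N _ _ => le_antisymm ?_ ?_⟩
    · rw [← LinearMap.comp_apply (f := S'.h), hk, ← LinearMap.comp_apply (f := c), ← hgc]
      simp
    · intro z hz
      rw [← LinearMap.coprod_inl S.h (LinearMap.toSpanSingleton R M y), LinearMap.mem_ker,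
        LinearMap.rTensor_comp, LinearMap.comp_apply] at hz
      have h1 : (LinearMap.inl R S.P R).rTensor N z ∈ LinearMap.ker ((S.h.coprod (LinearMap.toSpanSingleton R M y)).rTensor N) := hz
      rw [hker N, LinearMap.mem_ker] at h1
      rw [LinearMap.mem_ker, LinearMap.rTensor_comp, LinearMap.comp_apply, LinearMap.rTensor_comp,
        LinearMap.comp_apply, h1, map_zero]
    · conv_rhs => rw [← hh]
      rw [LinearMap.rTensor_comp N S'.h]
      exact LinearMap.ker_le_ker_comp _ _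
  obtain ⟨S₀, k₀, hp₀, hk₀⟩ := hfac P₀ f
  choose next u hp hh hr hker using step
  let S : ℕ → Stage R M := fun n => Nat.rec S₀ (fun m T => next T (x m)) n
  exact ⟨S, fun n => u (S n) (x n), k₀, hk₀, fun n => by cases n; exacts [hp₀, hp _ _],
    fun n => hh _ _, fun n => hr _ _, fun n => hker (S n) (x n)⟩

/-- Maps out of `M` built along a stage sequence. -/
theorem exists_desc (x : ℕ → M) (hx : Submodule.span R (Set.range x) = ⊤) (S : ℕ → Stage R M)
    (u : ∀ n, (S n).P →ₗ[R] (S (n + 1)).P) (hu : ∀ n, (S (n + 1)).h ∘ₗ u n = (S n).h)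
    (hr : ∀ n, x n ∈ LinearMap.range (S (n + 1)).h)
    (hker : ∀ n (N : Type u) [AddCommGroup N] [Module R N],
        LinearMap.ker ((S n).h.rTensor N) = LinearMap.ker ((u n).rTensor N))
    {G L : Type u} [AddCommGroup G] [Module R G] [AddCommGroup L] [Module R L]
    (π : G →ₗ[R] L) (l : M →ₗ[R] L) (e : ∀ n, (S n).P →ₗ[R] G) (he : ∀ n, π ∘ₗ e n = l ∘ₗ (S n).h)
    (a₁ : (S 1).P →ₗ[R] G) (ha₁ : π ∘ₗ a₁ = l ∘ₗ (S 1).h) :
    ∃ b : M →ₗ[R] G, π ∘ₗ b = l ∧ b ∘ₗ (S 0).h = a₁ ∘ₗ u 0 := by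
  have hv : ∀ n, ∃ v : (S (n + 2)).P →ₗ[R] (S (n + 1)).P, u n = v ∘ₗ (u (n + 1) ∘ₗ u n) := by
    intro n
    haveI : Module.FinitePresentation R ((S (n + 2)).P ⧸ LinearMap.range (u (n + 1) ∘ₗ u n)) :=
      Module.finitePresentation_of_surjective _ (Submodule.mkQ_surjective _)
        (by rw [Submodule.ker_mkQ, LinearMap.range_eq_map]; exact Module.Finite.fg_top.map _)
    refine exists_factor_of_ker_le _ _ fun N _ _ => ?_
    rw [← hker n N, ← hu n, ← hu (n + 1), LinearMap.comp_assoc, LinearMap.rTensor_comp N (S (n + 1 + 1)).h]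
    exact LinearMap.ker_le_ker_comp _ _
  choose v hv using hv
  let a : ∀ n, {a : (S (n + 1)).P →ₗ[R] G // π ∘ₗ a = l ∘ₗ (S (n + 1)).h} := fun n =>
    Nat.rec ⟨a₁, ha₁⟩ (fun m a => ⟨e (m + 2) + (a.1 - e (m + 2) ∘ₗ u (m + 1)) ∘ₗ v m, by
      rw [LinearMap.comp_add, he, ← LinearMap.comp_assoc, LinearMap.comp_sub, a.2, ← LinearMap.comp_assoc, he,
        LinearMap.comp_assoc, hu, sub_self, LinearMap.zero_comp, add_zero]⟩) n
  have hrec : ∀ m, (a (m + 1)).1 = e (m + 2) + ((a m).1 - e (m + 2) ∘ₗ u (m + 1)) ∘ₗ v m := fun m => rfl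
  let b : ∀ n, (S n).P →ₗ[R] G := fun n => (a n).1 ∘ₗ u n
  have hb : ∀ n, b (n + 1) ∘ₗ u n = b n := fun n => by
    ext z
    have hz : v n (u (n + 1) (u n z)) = u n z := (LinearMap.congr_fun (hv n) z).symm
    simp [b, hrec, hz]
  have hπb : ∀ n, π ∘ₗ b n = l ∘ₗ (S n).h := fun n => by
    simp only [b]
    rw [← LinearMap.comp_assoc, (a n).2, LinearMap.comp_assoc, hu]
  let Γ : ℕ →o Submodule R (M × G) := ⟨fun n => LinearMap.range ((S n).h.prod (b n)),
    monotone_nat_of_le_succ fun n => by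
      rintro _ ⟨z, rfl⟩
      exact ⟨u n z, Prod.ext (LinearMap.congr_fun (hu n) z) (LinearMap.congr_fun (hb n) z)⟩⟩
  let p : ↥(⨆ n, Γ n) →ₗ[R] M := LinearMap.fst R M G ∘ₗ (⨆ n, Γ n).subtype
  have hp : Function.Bijective p := by
    refine ⟨(injective_iff_map_eq_zero _).mpr ?_, LinearMap.range_eq_top.mp (top_unique ?_)⟩
    · rintro ⟨⟨m, g⟩, hmg⟩ h0
      obtain ⟨n, z, hz⟩ := (Submodule.mem_iSup_of_chain Γ _).mp hmg
      simp [p] at h0
      simp only [LinearMap.prod_apply, Function.prod_apply, Prod.mk.injEq] at hz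
      have hu0 : u n z = 0 := by
        have : z ⊗ₜ[R] (1 : R) ∈ LinearMap.ker ((S n).h.rTensor R) := by simp [hz.1, h0]
        rw [hker n R, LinearMap.mem_ker, LinearMap.rTensor_tmul] at this
        simpa using congrArg (TensorProduct.rid R _) this
      have : g = 0 := by rw [← hz.2]; simp [b, hu0]
      exact Subtype.ext (Prod.ext h0 this)
    · rw [← hx, Submodule.span_le]
      rintro _ ⟨n, rfl⟩
      obtain ⟨z, hz⟩ := hr n
      exact ⟨⟨_, le_iSup Γ (n + 1) ⟨z, rfl⟩⟩, hz⟩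
  let β : M →ₗ[R] G := LinearMap.snd R M G ∘ₗ (⨆ n, Γ n).subtype ∘ₗ (LinearEquiv.ofBijective p hp).symm.toLinearMap
  have hβ : ∀ n z, β ((S n).h z) = b n z := by
    intro n z
    have : (LinearEquiv.ofBijective p hp).symm ((S n).h z) = ⟨_, le_iSup Γ n ⟨z, rfl⟩⟩ := by
      rw [LinearEquiv.symm_apply_eq]
      rfl
    simp [β, this]
  refine ⟨β, LinearMap.ext_on_range hx fun n => ?_, LinearMap.ext fun z => hβ 0 z⟩
  obtain ⟨z, hz⟩ := hr n
  rw [← hz, LinearMap.comp_apply, hβ]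
  exact LinearMap.congr_fun (hπb (n + 1)) z

/-- A countably generated flat Mittag-Leffler module is projective. -/
theorem projective_of_countablyGenerated [Module.Flat R M] (hML : CAlg.IsMittagLeffler R M)
    (hc : CAlg.IsCountablyGenerated R M) : Module.Projective R M := by
  obtain ⟨x, hx⟩ := exists_seq_of_countablyGenerated hc
  obtain ⟨S, u, k₀, -, hp, hu, hr, hker⟩ := exists_stage_seq hML x (fun S => Module.Projective R S.P)
    (fun Q _ _ _ c => by
      obtain ⟨n, k, g, hkg⟩ := Module.Flat.exists_factorization_of_isFinitelyPresented c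
      exact ⟨⟨Fin n →₀ R, g⟩, k, inferInstanceAs (Module.Projective R (Fin n →₀ R)), hkg.symm⟩)
    R (0 : R →ₗ[R] M)
  let π : (M →₀ R) →ₗ[R] M := Finsupp.linearCombination R id
  have hπ : Function.Surjective π := Finsupp.linearCombination_id_surjective R M
  choose e he using fun n =>
    haveI := hp n
    Module.projective_lifting_property π (S n).h hπ
  obtain ⟨b, hb, -⟩ := exists_desc x hx S u hu hr hker π LinearMap.id e (fun n => by simpa using he n) (e 1)
    (by simpa using he 1)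
  exact Module.Projective.of_split b π hb

/-- Lemma: maps from finite modules to a countably generated Mittag-Leffler module are fixed by an
endomorphism factoring through a finitely presented module. -/
theorem exists_fp_retract (hML : CAlg.IsMittagLeffler R M) (hc : CAlg.IsCountablyGenerated R M)
    {P : Type u} [AddCommGroup P] [Module R P] [Module.Finite R P] (f : P →ₗ[R] M) :
    ∃ (Q : Type u) (_ : AddCommGroup Q) (_ : Module R Q) (_ : Module.FinitePresentation R Q)
      (b : M →ₗ[R] Q) (c : Q →ₗ[R] M), (c ∘ₗ b) ∘ₗ f = f := by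
  obtain ⟨x, hx⟩ := exists_seq_of_countablyGenerated hc
  obtain ⟨n, π, hπ⟩ := Module.Finite.exists_fin' R P
  obtain ⟨S, u, k₀, hk₀, -, hu, hr, hker⟩ := exists_stage_seq hML x (fun _ => True)
    (fun Q _ _ _ c => ⟨⟨Q, c⟩, LinearMap.id, trivial, LinearMap.comp_id c⟩) (Fin n → R) (f ∘ₗ π)
  obtain ⟨b, -, hb⟩ := exists_desc x hx S u hu hr hker (0 : (S 1).P →ₗ[R] M) 0 (fun _ => 0)
    (fun _ => by simp) LinearMap.id (by simp)
  refine ⟨(S 1).P, inferInstance, inferInstance, inferInstance, b, (S 1).h, (LinearMap.cancel_right hπ).mp ?_⟩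
  rw [LinearMap.comp_assoc, ← hk₀, ← LinearMap.comp_assoc, LinearMap.comp_assoc _ _ (S 1).h, hb,
    LinearMap.id_comp, hu]

end Groth.Agent.H1CAlg
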