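import Groth.Agent.H1CAlg.MittagLeffler
import Mathlib.RingTheory.Finiteness.ModuleFinitePresentation

/-!
Mittag-Leffler modules and tensor products: change of rings, tensor products of dominated maps.
-/

set_option autoImplicit false
universe u
open TensorProduct

namespace Groth.Agent.H1CAlg

theorem ui_of_leftInverse {R : Type u} [CommRing R] {M N : Type u} [AddCommGroup M] [Module R M]
    [AddCommGroup N] [Module R N] (f : M →ₗ[R] N) (g : N →ₗ[R] M) (h : g ∘ₗ f = LinearMap.id) :
    CAlgX.UniversallyInjective R f := fun Q _ _ =>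
  Function.LeftInverse.injective (g := g.rTensor Q) fun x => by
    rw [← LinearMap.comp_apply, ← LinearMap.rTensor_comp, h, LinearMap.rTensor_id, LinearMap.id_apply]

theorem isMittagLeffler_of_algebra {R S : Type u} [CommRing R] [CommRing S] [Algebra R S]
    (M : Type u) [AddCommGroup M] [Module S M] [Module R M] [IsScalarTower R S M]
    (hM : CAlg.IsMittagLeffler S M)
    (hφ : ∀ (ι : Type u) (Q : ι → Type u) [∀ i, AddCommGroup (Q i)] [∀ i, Module R (Q i)],
      Function.Injective (LinearMap.lTensor M (TensorProduct.piRightHom R S S Q))) :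
    CAlg.IsMittagLeffler R M := by
  intro ι Q _ _
  rw [injective_iff_map_eq_zero]
  intro x hx
  let e := TensorProduct.AlgebraTensorModule.cancelBaseChange R S S M (∀ i, Q i)
  have key : ∀ (i : ι) (z : M ⊗[S] (S ⊗[R] (∀ i, Q i))),
      TensorProduct.AlgebraTensorModule.cancelBaseChange R S S M (Q i)
        (TensorProduct.piRightHom S S M (fun i => S ⊗[R] Q i)
          (LinearMap.lTensor M (TensorProduct.piRightHom R S S Q) z) i) =
      TensorProduct.piRightHom R R M Q (e z) i := by
    intro i z
    induction z with
    | zero => simp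
    | add a b ha hb => simp only [map_add, Pi.add_apply, ha, hb]
    | tmul m w =>
      induction w with
      | zero => simp
      | add a b ha hb => simp only [tmul_add, map_add, Pi.add_apply, ha, hb]
      | tmul s q => simp [e]
  obtain ⟨z, rfl⟩ := e.surjective x
  have : z = 0 := by
    apply hφ ι Q
    rw [map_zero]
    apply hM ι
    rw [map_zero]
    funext i
    apply (TensorProduct.AlgebraTensorModule.cancelBaseChange R S S M (Q i)).injective
    rw [key, hx, Pi.zero_apply, Pi.zero_apply, map_zero]
  rw [this, map_zero]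

theorem finitePresentation_tensor {R : Type u} [CommRing R] (A B : Type u) [AddCommGroup A] [Module R A]
    [AddCommGroup B] [Module R B] [Module.FinitePresentation R A] [Module.FinitePresentation R B] :
    Module.FinitePresentation R (A ⊗[R] B) := by
  obtain ⟨n, π, hπ⟩ := Module.Finite.exists_fin' R B
  haveI : Module.Finite R (LinearMap.ker π) := Module.Finite.iff_fg.mpr (Module.FinitePresentation.fg_ker π hπ)
  haveI : Module.FinitePresentation R (A ⊗[R] (Fin n → R)) :=
    Module.FinitePresentation.of_equiv (TensorProduct.piScalarRight R R A (Fin n)).symm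
  refine Module.finitePresentation_of_surjective (π.lTensor A) (LinearMap.lTensor_surjective A hπ) ?_
  rw [LinearMap.exact_iff.mp (lTensor_exact A (LinearMap.exact_subtype_ker_map π) hπ)]
  exact Module.Finite.iff_fg.mp (Module.Finite.range _)

theorem ker_map_rTensor_eq {R : Type u} [CommRing R] {A M M' B N : Type u} [AddCommGroup A] [Module R A]
    [AddCommGroup M] [Module R M] [AddCommGroup M'] [Module R M'] [AddCommGroup B] [Module R B]
    [AddCommGroup N] [Module R N] (f : A →ₗ[R] M) (g : A →ₗ[R] M')
    (h : ∀ (Q : Type u) [AddCommGroup Q] [Module R Q], LinearMap.ker (f.rTensor Q) = LinearMap.ker (g.rTensor Q))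
    (k : B →ₗ[R] N) (Q : Type u) [AddCommGroup Q] [Module R Q] :
    LinearMap.ker ((TensorProduct.map f k).rTensor Q) = LinearMap.ker ((TensorProduct.map g k).rTensor Q) := by
  have key : ∀ {L : Type u} [AddCommGroup L] [Module R L] (l : A →ₗ[R] L),
      (TensorProduct.assoc R L N Q).toLinearMap ∘ₗ (TensorProduct.map l k).rTensor Q =
        l.rTensor (N ⊗[R] Q) ∘ₗ ((k.rTensor Q).lTensor A ∘ₗ (TensorProduct.assoc R A B Q).toLinearMap) := by
    intro L _ _ l
    ext a b q
    simp
  rw [← LinearEquiv.ker_comp (e'' := TensorProduct.assoc R M N Q) ((TensorProduct.map f k).rTensor Q),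
    ← LinearEquiv.ker_comp (e'' := TensorProduct.assoc R M' N Q) ((TensorProduct.map g k).rTensor Q), key, key,
    LinearMap.ker_comp, LinearMap.ker_comp, h]

theorem ker_map_rTensor_eq_right {R : Type u} [CommRing R] {A M B N N' : Type u} [AddCommGroup A] [Module R A]
    [AddCommGroup M] [Module R M] [AddCommGroup B] [Module R B]
    [AddCommGroup N] [Module R N] [AddCommGroup N'] [Module R N'] (f : B →ₗ[R] N) (g : B →ₗ[R] N')
    (h : ∀ (Q : Type u) [AddCommGroup Q] [Module R Q], LinearMap.ker (f.rTensor Q) = LinearMap.ker (g.rTensor Q))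
    (k : A →ₗ[R] M) (Q : Type u) [AddCommGroup Q] [Module R Q] :
    LinearMap.ker ((TensorProduct.map k f).rTensor Q) = LinearMap.ker ((TensorProduct.map k g).rTensor Q) := by
  have key : ∀ {L : Type u} [AddCommGroup L] [Module R L] (l : B →ₗ[R] L),
      ((TensorProduct.comm R M L).toLinearMap).rTensor Q ∘ₗ (TensorProduct.map k l).rTensor Q =
        (TensorProduct.map l k).rTensor Q ∘ₗ ((TensorProduct.comm R A B).toLinearMap).rTensor Q := by
    intro L _ _ l
    ext a b q
    simp
  have hinj : ∀ {L : Type u} [AddCommGroup L] [Module R L],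
      LinearMap.ker (((TensorProduct.comm R M L).toLinearMap).rTensor Q) = ⊥ := fun {L} _ _ =>
    LinearMap.ker_eq_bot.mpr ((TensorProduct.comm R M L).rTensor Q).injective
  rw [← LinearMap.ker_comp_of_ker_eq_bot ((TensorProduct.map k f).rTensor Q) hinj,
    ← LinearMap.ker_comp_of_ker_eq_bot ((TensorProduct.map k g).rTensor Q) hinj, key, key,
    LinearMap.ker_comp, LinearMap.ker_comp, ker_map_rTensor_eq f g h k Q]

end Groth.Agent.H1CAlg
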