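import Mathlib.Algebra.Module.FinitePresentation
import Mathlib.LinearAlgebra.TensorProduct.Pi
import Mathlib.LinearAlgebra.TensorProduct.RightExactness
import Mathlib.LinearAlgebra.TensorProduct.Finiteness
import Mathlib.Algebra.Exact.Basic
import Mathlib.RingTheory.Finiteness.Cardinality

/-! `M ⊗ ∏ Qᵢ → ∏ (M ⊗ Qᵢ)` is surjective iff `M` is finite and bijective iff it is finitely presented. -/

set_option autoImplicit false
universe u

open TensorProduct

namespace Groth.Agent.H1CAlg

variable {R : Type u} [CommRing R] {M N : Type u} [AddCommGroup M] [Module R M]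
  [AddCommGroup N] [Module R N] {ι : Type u} (Q : ι → Type u) [∀ i, AddCommGroup (Q i)] [∀ i, Module R (Q i)]

theorem piRightHom_natural (f : M →ₗ[R] N) (x : M ⊗[R] (∀ i, Q i)) (i : ι) :
    TensorProduct.piRightHom R R N Q (f.rTensor _ x) i = f.rTensor (Q i) (TensorProduct.piRightHom R R M Q x i) := by
  induction x with
  | zero => simp
  | tmul a b => simp
  | add a b ha hb => simp only [map_add, Pi.add_apply, ha, hb]

theorem piRightHom_bijective_fin (n : ℕ) :
    Function.Bijective (TensorProduct.piRightHom R R (Fin n → R) Q) := by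
  classical
  let inv : (∀ i, (Fin n → R) ⊗[R] Q i) → (Fin n → R) ⊗[R] (∀ i, Q i) := fun z =>
    ∑ k, (Pi.single k (1 : R)) ⊗ₜ[R] (fun i => TensorProduct.piScalarRight R R (Q i) (Fin n)
      (TensorProduct.comm R _ _ (z i)) k)
  have hrec : ∀ (X : Type u) [AddCommGroup X] [Module R X] (w : (Fin n → R) ⊗[R] X),
      ∑ k, (Pi.single k (1 : R)) ⊗ₜ[R] TensorProduct.piScalarRight R R X (Fin n) (TensorProduct.comm R _ _ w) k = w := by
    intro X _ _ w
    induction w with
    | zero => simp
    | add a b ha hb => simp only [map_add, Pi.add_apply, tmul_add, Finset.sum_add_distrib, ha, hb]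
    | tmul v x =>
      simp only [TensorProduct.comm_tmul, TensorProduct.piScalarRight_apply, TensorProduct.piScalarRightHom_tmul, tmul_smul, smul_tmul']
      rw [← sum_tmul]
      congr 1
      ext j
      simp [Pi.single_apply]
  constructor
  · intro a b hab
    have hinv : ∀ w, inv (TensorProduct.piRightHom R R (Fin n → R) Q w) = w := by
      intro w
      rw [← hrec _ w]
      simp only [inv]
      refine Finset.sum_congr rfl fun k _ => ?_
      congr 1
      funext i
      rw [hrec _ w]
      induction w with
      | zero => simp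
      | add a b ha hb => simp only [map_add, Pi.add_apply, ha, hb]
      | tmul v x => simp
    rw [← hinv a, ← hinv b, hab]
  · intro z
    refine ⟨inv z, funext fun i => ?_⟩
    simp only [inv, map_sum, Finset.sum_apply, TensorProduct.piRightHom_tmul]
    exact hrec _ (z i)

theorem piRightHom_surjective_of_finite [Module.Finite R M] :
    Function.Surjective (TensorProduct.piRightHom R R M Q) := by
  obtain ⟨n, p, hp⟩ := Module.Finite.exists_fin' R M
  intro z
  choose w hw using fun i => LinearMap.rTensor_surjective (Q i) hp (z i)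
  obtain ⟨v, hv⟩ := (piRightHom_bijective_fin Q n).2 w
  exact ⟨p.rTensor _ v, funext fun i => by rw [piRightHom_natural, hv, hw]⟩

theorem piRightHom_bijective_of_finitePresentation [Module.FinitePresentation R M] :
    Function.Bijective (TensorProduct.piRightHom R R M Q) := by
  refine ⟨?_, piRightHom_surjective_of_finite Q⟩
  obtain ⟨n, K, e, hK⟩ := Module.FinitePresentation.exists_fin R M
  haveI : Module.Finite R K := Module.Finite.iff_fg.mpr hK
  let p : (Fin n → R) →ₗ[R] M := e.symm.toLinearMap ∘ₗ K.mkQ
  have hp : Function.Surjective p := e.symm.surjective.comp K.mkQ_surjective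
  have hex : Function.Exact K.subtype p := LinearMap.exact_iff.mpr (by
    rw [LinearEquiv.ker_comp, Submodule.ker_mkQ, Submodule.range_subtype])
  rw [injective_iff_map_eq_zero]
  intro x hx
  obtain ⟨w, rfl⟩ := LinearMap.rTensor_surjective _ hp x
  have hi : ∀ i, ∃ v, K.subtype.rTensor (Q i) v = TensorProduct.piRightHom R R (Fin n → R) Q w i := fun i => by
    refine (rTensor_exact (Q i) hex hp _).mp ?_
    rw [← piRightHom_natural, hx, Pi.zero_apply]
  choose v hv using hi
  obtain ⟨v', hv'⟩ := piRightHom_surjective_of_finite (M := K) Q v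
  have : w = K.subtype.rTensor _ v' := (piRightHom_bijective_fin Q n).1 (funext fun i => by
    rw [piRightHom_natural, hv', hv])
  rw [this, ← LinearMap.comp_apply, ← LinearMap.rTensor_comp, hex.linearMap_comp_eq_zero,
    LinearMap.rTensor_zero, LinearMap.zero_apply]

theorem finite_of_piRightHom_surjective
    (h : Function.Surjective (TensorProduct.piRightHom R R M (fun _ : M => R))) : Module.Finite R M := by
  obtain ⟨x, hx⟩ := h (fun m => m ⊗ₜ 1)
  obtain ⟨s, rfl⟩ := TensorProduct.exists_finset x
  classical
  refine Module.finite_def.mpr ⟨s.image Prod.fst, eq_top_iff.mpr fun m _ => ?_⟩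
  have := congrArg (TensorProduct.rid R M) (congrFun hx m)
  simp only [map_sum, Finset.sum_apply, TensorProduct.piRightHom_tmul, TensorProduct.rid_tmul, one_smul] at this
  rw [← this]
  refine Submodule.sum_mem _ fun p hp => Submodule.smul_mem _ _ (Submodule.subset_span ?_)
  simp only [Finset.coe_image, Set.mem_image, Finset.mem_coe]
  exact ⟨p, hp, rfl⟩

theorem finitePresentation_of_piRightHom_bijective
    (h : ∀ ι : Type u, Function.Bijective (TensorProduct.piRightHom R R M (fun _ : ι => R))) :
    Module.FinitePresentation R M := by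
  haveI := finite_of_piRightHom_surjective (h M).2
  obtain ⟨n, p, hp⟩ := Module.Finite.exists_fin' R M
  let K := LinearMap.ker p
  refine Module.finitePresentation_of_surjective p hp ?_
  obtain ⟨w, hw⟩ := (piRightHom_bijective_fin (fun _ : K => R) n).2 (fun k => (k : Fin n → R) ⊗ₜ 1)
  have h0 : p.rTensor _ w = 0 := by
    apply (h K).1
    rw [map_zero]
    funext k
    rw [piRightHom_natural, hw, LinearMap.rTensor_tmul, LinearMap.mem_ker.mp k.2, zero_tmul, Pi.zero_apply]
  obtain ⟨v, hv⟩ := (rTensor_exact _ (LinearMap.exact_subtype_ker_map p) hp w).mp h0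
  obtain ⟨s, hs⟩ := TensorProduct.exists_finset v
  classical
  refine ⟨s.image (fun q => (q.1 : Fin n → R)), le_antisymm ?_ fun k hk => ?_⟩
  · rw [Submodule.span_le]
    intro z hz
    simp only [Finset.coe_image, Set.mem_image, Finset.mem_coe] at hz
    obtain ⟨q, -, rfl⟩ := hz
    exact q.1.2
  · have e : k = ∑ q ∈ s, q.2 ⟨k, hk⟩ • (q.1 : Fin n → R) := by
      have := congrArg (TensorProduct.rid R (Fin n → R)) (congrFun hw ⟨k, hk⟩)
      rw [← hv, hs] at this
      simpa [map_sum, Finset.sum_apply] using this.symm
    rw [e]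
    refine Submodule.sum_mem _ fun q hq => Submodule.smul_mem _ _ (Submodule.subset_span ?_)
    simp only [Finset.coe_image, Set.mem_image, Finset.mem_coe]
    exact ⟨q, hq, rfl⟩

end Groth.Agent.H1CAlg
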