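import Groth.Prelude.Def_CAlgX
import Mathlib.Algebra.Module.FinitePresentation
import Mathlib.LinearAlgebra.TensorProduct.RightExactness
import Mathlib.LinearAlgebra.TensorProduct.Finiteness
import Mathlib.LinearAlgebra.TensorProduct.Pi
import Mathlib.LinearAlgebra.TensorProduct.Prod
import Mathlib.RingTheory.TensorProduct.DirectLimitFG

/-!
Universally injective maps and domination of maps (`ker (f ⊗ Q) ≤ ker (g ⊗ Q)` for all `Q`):
reduction to finitely presented `Q`, the equational criterion, and the splitting lemma.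
-/

set_option autoImplicit false
universe u

open TensorProduct

namespace Groth.Agent.H1CAlg

variable {R : Type u} [CommRing R] {M N P Q : Type u} [AddCommGroup M] [Module R M]
  [AddCommGroup N] [Module R N] [AddCommGroup P] [Module R P] [AddCommGroup Q] [Module R Q]

/-- Every element of `M ⊗ Q` comes from `Fin n → R` tensored with `Q`. -/
theorem exists_fin_rTensor_eq (x : M ⊗[R] Q) :
    ∃ (n : ℕ) (h : (Fin n → R) →ₗ[R] M) (y : (Fin n → R) ⊗[R] Q), h.rTensor Q y = x := by
  classical
  induction x with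
  | zero => exact ⟨0, 0, 0, map_zero _⟩
  | tmul m q =>
    exact ⟨1, LinearMap.toSpanSingleton R M m ∘ₗ LinearMap.proj 0, Pi.single 0 1 ⊗ₜ q, by simp⟩
  | add a b ha hb =>
    obtain ⟨n₁, h₁, y₁, rfl⟩ := ha
    obtain ⟨n₂, h₂, y₂, rfl⟩ := hb
    let e : ((Fin n₁ → R) × (Fin n₂ → R)) ≃ₗ[R] (Fin (n₁ + n₂) → R) :=
      (LinearEquiv.sumArrowLequivProdArrow _ _ R R).symm ≪≫ₗ
        LinearEquiv.funCongrLeft R R finSumFinEquiv.symm
    refine ⟨n₁ + n₂, (h₁.coprod h₂) ∘ₗ e.symm.toLinearMap,
      (e.toLinearMap ∘ₗ LinearMap.inl R _ _).rTensor Q y₁ +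
        (e.toLinearMap ∘ₗ LinearMap.inr R _ _).rTensor Q y₂, ?_⟩
    rw [map_add, ← LinearMap.comp_apply, ← LinearMap.comp_apply, ← LinearMap.rTensor_comp,
      ← LinearMap.rTensor_comp]
    congr 3 <;> ext z <;> simp

/-- Every element of `M ⊗ Q` comes from `M` tensored with `Fin n → R`. -/
theorem exists_fin_lTensor_eq (x : M ⊗[R] Q) :
    ∃ (n : ℕ) (h : (Fin n → R) →ₗ[R] Q) (y : M ⊗[R] (Fin n → R)), h.lTensor M y = x := by
  obtain ⟨n, h, y, hy⟩ := exists_fin_rTensor_eq (TensorProduct.comm R M Q x)
  refine ⟨n, h, TensorProduct.comm R _ _ y, ?_⟩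
  apply (TensorProduct.comm R M Q).injective
  rw [← hy]
  clear hy
  induction y with
  | zero => simp
  | tmul a b => simp
  | add a b ha hb => simp only [map_add, ha, hb]

/-- If `x ∈ P ⊗ Q` dies in `M ⊗ Q` under `f : P → M` with `P` finitely presented, then it already
dies under a factorization of `f` through a finitely presented module. -/
theorem exists_fp_factor [Module.FinitePresentation R P] (f : P →ₗ[R] M) (x : P ⊗[R] Q)
    (hx : f.rTensor Q x = 0) :
    ∃ (P' : Type u) (_ : AddCommGroup P') (_ : Module R P') (_ : Module.FinitePresentation R P')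
      (f' : P →ₗ[R] P') (h : P' →ₗ[R] M), f = h ∘ₗ f' ∧ f'.rTensor Q x = 0 := by
  classical
  have hfg : (LinearMap.range f).FG := by
    rw [LinearMap.range_eq_map]; exact Module.Finite.fg_top.map f
  let f₀ : P →ₗ[R] LinearMap.range f := f.rangeRestrict
  have hx' : (LinearMap.range f).subtype.rTensor Q (f₀.rTensor Q x) = 0 := by
    rw [← LinearMap.comp_apply, ← LinearMap.rTensor_comp, show (LinearMap.range f).subtype ∘ₗ f₀ = f from rfl, hx]
  obtain ⟨N', hle, hN', hN'0⟩ := TensorProduct.eq_zero_of_fg_of_subtype_eq_zero hfg hx'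
  obtain ⟨k, e, he⟩ := (Submodule.fg_iff_exists_fin_linearMap R M).mp hN'
  have he' : ∀ y, e y ∈ N' := fun y => he ▸ LinearMap.mem_range_self e y
  let f₁ : P →ₗ[R] N' := Submodule.inclusion hle ∘ₗ f₀
  let π : P × (Fin k → R) →ₗ[R] N' := f₁.coprod (e.codRestrict N' he')
  have hπ : Function.Surjective π := fun z => by
    obtain ⟨y, hy⟩ : (z : M) ∈ LinearMap.range e := by rw [he]; exact z.2
    exact ⟨(0, y), Subtype.ext (by simp [π, hy])⟩
  have h0 : π.rTensor Q ((LinearMap.inl R P (Fin k → R)).rTensor Q x) = 0 := by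
    rw [← LinearMap.comp_apply, ← LinearMap.rTensor_comp, LinearMap.coprod_inl,
      LinearMap.rTensor_comp, LinearMap.comp_apply, hN'0]
  obtain ⟨w, hw⟩ := ((rTensor_exact Q (LinearMap.exact_subtype_ker_map π) hπ) _).mp h0
  obtain ⟨K, hK, ⟨v, rfl⟩⟩ := TensorProduct.exists_of_fg w
  let K' := K.map (LinearMap.ker π).subtype
  have hK' : K'.FG := hK.map _
  have hle' : K' ≤ LinearMap.ker π := Submodule.map_subtype_le _ _
  refine ⟨(P × (Fin k → R)) ⧸ K', inferInstance, inferInstance,
    Module.finitePresentation_of_surjective _ K'.mkQ_surjective (by rwa [Submodule.ker_mkQ]),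
    K'.mkQ ∘ₗ LinearMap.inl R P _, N'.subtype ∘ₗ K'.liftQ π hle', ?_, ?_⟩
  · ext p; simp [π, f₁, f₀]
  · rw [LinearMap.rTensor_comp, LinearMap.comp_apply, ← hw, ← LinearMap.comp_apply, ← LinearMap.comp_apply,
      ← LinearMap.rTensor_comp, ← LinearMap.rTensor_comp]
    rw [show (K'.mkQ ∘ₗ (LinearMap.ker π).subtype) ∘ₗ K.subtype = 0 from LinearMap.ext fun z =>
      (Submodule.Quotient.mk_eq_zero K').mpr (Submodule.mem_map_of_mem z.2)]
    simp

/-- The left-tensor version of `exists_fp_factor`. -/
theorem exists_fp_factor_left [Module.FinitePresentation R P] (f : P →ₗ[R] Q) (x : M ⊗[R] P)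
    (hx : f.lTensor M x = 0) :
    ∃ (P' : Type u) (_ : AddCommGroup P') (_ : Module R P') (_ : Module.FinitePresentation R P')
      (f' : P →ₗ[R] P') (h : P' →ₗ[R] Q), f = h ∘ₗ f' ∧ f'.lTensor M x = 0 := by
  have key : ∀ {A B : Type u} [AddCommGroup A] [Module R A] [AddCommGroup B] [Module R B] (g : A →ₗ[R] B) (z : M ⊗[R] A),
      g.rTensor M (TensorProduct.comm R M A z) = TensorProduct.comm R M B (g.lTensor M z) := by
    intro A B _ _ _ _ g z
    induction z with
    | zero => simp
    | tmul a b => simp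
    | add a b ha hb => simp only [map_add, ha, hb]
  obtain ⟨P', _, _, _, f', h, hf, h0⟩ := exists_fp_factor f (TensorProduct.comm R M P x)
    (by rw [key, hx, map_zero])
  refine ⟨P', inferInstance, inferInstance, inferInstance, f', h, hf, ?_⟩
  apply (TensorProduct.comm R M P').injective
  rw [← key, h0, map_zero]

/-- Domination of `g` by `f` can be tested on finitely presented modules. -/
theorem ker_le_of_finitePresentation {M' : Type u} [AddCommGroup M'] [Module R M']
    (f : M →ₗ[R] N) (g : M →ₗ[R] M')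
    (h : ∀ (Q : Type u) [AddCommGroup Q] [Module R Q], Module.FinitePresentation R Q →
        LinearMap.ker (f.rTensor Q) ≤ LinearMap.ker (g.rTensor Q))
    (Q : Type u) [AddCommGroup Q] [Module R Q] :
    LinearMap.ker (f.rTensor Q) ≤ LinearMap.ker (g.rTensor Q) := by
  intro x hx
  rw [LinearMap.mem_ker] at hx ⊢
  obtain ⟨n, k, y, rfl⟩ := exists_fin_lTensor_eq x
  rw [← LinearMap.comp_apply, LinearMap.rTensor_comp_lTensor, ← LinearMap.lTensor_comp_rTensor,
    LinearMap.comp_apply] at hx ⊢
  obtain ⟨Q', _, _, _, k', c, rfl, h0⟩ := exists_fp_factor_left k (f.rTensor _ y) hx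
  have h1 : f.rTensor Q' (k'.lTensor M y) = 0 := by
    rw [← h0, ← LinearMap.comp_apply, LinearMap.rTensor_comp_lTensor, ← LinearMap.lTensor_comp_rTensor,
      LinearMap.comp_apply]
  have h2 : g.rTensor Q' (k'.lTensor M y) = 0 := h Q' inferInstance h1
  rw [LinearMap.lTensor_comp, LinearMap.comp_apply]
  rw [← LinearMap.comp_apply, LinearMap.rTensor_comp_lTensor, ← LinearMap.lTensor_comp_rTensor,
    LinearMap.comp_apply] at h2
  rw [h2, map_zero]

theorem universallyInjective_iff_ker {f : M →ₗ[R] N} :
    CAlgX.UniversallyInjective R f ↔ ∀ (Q : Type u) [AddCommGroup Q] [Module R Q],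
      LinearMap.ker (f.rTensor Q) ≤ LinearMap.ker ((LinearMap.id : M →ₗ[R] M).rTensor Q) :=
  forall_congr' fun Q => forall_congr' fun _ => forall_congr' fun _ => by
    rw [LinearMap.rTensor_id, LinearMap.ker_id, le_bot_iff, LinearMap.ker_eq_bot]

theorem universallyInjective_of_finitePresentation {f : M →ₗ[R] N}
    (h : ∀ (Q : Type u) [AddCommGroup Q] [Module R Q], Module.FinitePresentation R Q →
        Function.Injective (f.rTensor Q)) : CAlgX.UniversallyInjective R f :=
  universallyInjective_iff_ker.mpr <| ker_le_of_finitePresentation f LinearMap.id fun Q _ _ hQ => by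
    rw [LinearMap.ker_eq_bot.mpr (h Q hQ)]; exact bot_le

theorem injective_of_universallyInjective {f : M →ₗ[R] N} (h : CAlgX.UniversallyInjective R f) :
    Function.Injective f := by
  intro a b hab
  have := h R (a₁ := a ⊗ₜ 1) (a₂ := b ⊗ₜ 1) (by simp [hab])
  simpa using congrArg (TensorProduct.rid R M) this

/-- Equational criterion: a universally injective map reflects solvability of linear systems. -/
theorem exists_solution_of_universallyInjective {f : M →ₗ[R] N} (hf : CAlgX.UniversallyInjective R f)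
    {n m : ℕ} (x : Fin n → M) (y : Fin m → N) (a : Fin n → Fin m → R)
    (h : ∀ i, f (x i) = ∑ j, a i j • y j) : ∃ z : Fin m → M, ∀ i, x i = ∑ j, a i j • z j := by
  classical
  let A : (Fin m → R) →ₗ[R] (Fin n → R) := LinearMap.pi fun i => ∑ j, a i j • LinearMap.proj j
  let q := (LinearMap.range A).mkQ
  let e : Fin n → (Fin n → R) ⧸ LinearMap.range A := fun i => q (Pi.single i 1)
  have hA : ∀ j, A (Pi.single j 1) = ∑ i, a i j • Pi.single i (1 : R) := fun j => by
    ext i; simp [A, Pi.single_apply]
  have h0 : f.rTensor _ (∑ i, x i ⊗ₜ[R] e i) = 0 := by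
    simp only [map_sum, LinearMap.rTensor_tmul, h, sum_tmul, smul_tmul]
    rw [Finset.sum_comm]
    refine Finset.sum_eq_zero fun j _ => ?_
    rw [← tmul_sum]
    have : ∑ i, a i j • e i = q (A (Pi.single j 1)) := by
      rw [hA, map_sum]; simp only [map_smul, e]
    rw [this, show q (A (Pi.single j 1)) = 0 from (Submodule.Quotient.mk_eq_zero _).mpr ⟨_, rfl⟩, tmul_zero]
  have h1 : ∑ i, x i ⊗ₜ[R] e i = 0 := hf _ (h0.trans (map_zero _).symm)
  have h2 : q.lTensor M (∑ i, x i ⊗ₜ[R] Pi.single i (1 : R)) = 0 := by simpa [map_sum, e] using h1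
  obtain ⟨w, hw⟩ := (lTensor_exact M (f := A) (g := q) (LinearMap.exact_iff.mpr (by simp [q]))
    (Submodule.mkQ_surjective _) _).mp h2
  refine ⟨fun j => TensorProduct.piScalarRight R R M (Fin m) w j, fun i => ?_⟩
  have key : ∀ w, TensorProduct.piScalarRight R R M (Fin n) (A.lTensor M w) i =
      ∑ j, a i j • TensorProduct.piScalarRight R R M (Fin m) w j := by
    intro w
    induction w with
    | zero => simp
    | add p q hp hq => simp only [map_add, Pi.add_apply, hp, hq, smul_add, Finset.sum_add_distrib]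
    | tmul p v => simp [A, Finset.sum_smul, mul_smul]
  rw [← key, hw]
  simp [Pi.single_apply, Finset.sum_apply]

theorem universallyInjective_of_equational {f : M →ₗ[R] N}
    (h : ∀ (n m : ℕ) (x : Fin n → M) (y : Fin m → N) (a : Fin n → Fin m → R),
        (∀ i, f (x i) = ∑ j, a i j • y j) → ∃ z : Fin m → M, ∀ i, x i = ∑ j, a i j • z j) :
    CAlgX.UniversallyInjective R f := by
  classical
  refine universallyInjective_of_finitePresentation fun Q _ _ hQ => ?_
  obtain ⟨n, K, e, hK⟩ := Module.FinitePresentation.exists_fin R Q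
  obtain ⟨m, g, hg⟩ := Submodule.fg_iff_exists_fin_generating_family.mp hK
  let π : (Fin n → R) →ₗ[R] Q := e.symm.toLinearMap ∘ₗ K.mkQ
  let A : (Fin m → R) →ₗ[R] (Fin n → R) := Fintype.linearCombination R g
  have hπ : Function.Surjective π := e.symm.surjective.comp K.mkQ_surjective
  have hex : Function.Exact A π := LinearMap.exact_iff.mpr (by
    rw [Fintype.range_linearCombination, hg, LinearEquiv.ker_comp, Submodule.ker_mkQ])
  rw [injective_iff_map_eq_zero]
  intro z hz
  obtain ⟨z, rfl⟩ := LinearMap.lTensor_surjective M hπ z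
  have : π.lTensor N (f.rTensor _ z) = 0 := by
    rw [← hz, ← LinearMap.comp_apply, ← LinearMap.comp_apply, LinearMap.lTensor_comp_rTensor,
      LinearMap.rTensor_comp_lTensor]
  obtain ⟨w, hw⟩ := (lTensor_exact N hex hπ _).mp this
  let cM := TensorProduct.piScalarRight R R M (Fin n)
  have hev : ∀ (L : Type u) [AddCommGroup L] [Module R L] (i : Fin n) (w : L ⊗[R] (Fin m → R)),
      TensorProduct.piScalarRight R R L (Fin n) (A.lTensor L w) i =
        ∑ j, g j i • TensorProduct.piScalarRight R R L (Fin m) w j := by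
    intro L _ _ i w
    induction w with
    | zero => simp
    | add p q hp hq => simp only [map_add, Pi.add_apply, hp, hq, smul_add, Finset.sum_add_distrib]
    | tmul p v => simp [A, Fintype.linearCombination_apply, Finset.sum_smul, mul_smul, smul_comm (v _)]
  have hnat : ∀ i (z : M ⊗[R] (Fin n → R)),
      TensorProduct.piScalarRight R R N (Fin n) (f.rTensor _ z) i = f (cM z i) := by
    intro i z
    induction z with
    | zero => simp [cM]
    | add p q hp hq => simp only [cM, map_add, Pi.add_apply] at hp hq ⊢; rw [hp, hq]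
    | tmul p v => simp [cM]
  obtain ⟨u, hu⟩ := h n m (fun i => cM z i) (fun j => TensorProduct.piScalarRight R R N (Fin m) w j)
    (fun i j => g j i) fun i => by rw [← hnat, ← hev, hw]
  have hz' : z = A.lTensor M ((TensorProduct.piScalarRight R R M (Fin m)).symm u) := by
    apply (TensorProduct.piScalarRight R R M (Fin n)).injective
    funext i
    rw [hev, LinearEquiv.apply_symm_apply]
    exact hu i
  rw [hz', ← LinearMap.comp_apply, ← LinearMap.lTensor_comp, hex.linearMap_comp_eq_zero,
    LinearMap.lTensor_zero, LinearMap.zero_apply]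

/-- A surjection with universally injective kernel part and finitely presented target splits. -/
theorem exists_section_of_universallyInjective {L : Type u} [AddCommGroup L] [Module R L]
    [Module.FinitePresentation R L] (f : M →ₗ[R] N) (g : N →ₗ[R] L) (hfg : Function.Exact f g)
    (hg : Function.Surjective g) (hf : CAlgX.UniversallyInjective R f) :
    ∃ s : L →ₗ[R] N, g.comp s = LinearMap.id := by
  classical
  obtain ⟨n, K, e, hK⟩ := Module.FinitePresentation.exists_fin R L
  obtain ⟨m, r, hr⟩ := Submodule.fg_iff_exists_fin_generating_family.mp hK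
  choose y hy using fun j : Fin n => hg (e.symm (K.mkQ (Pi.single j 1)))
  let Y : (Fin n → R) →ₗ[R] N := Fintype.linearCombination R y
  have hY : g ∘ₗ Y = e.symm.toLinearMap ∘ₗ K.mkQ := by
    ext j; simp [Y, hy]
  have hker : ∀ i, ∃ x, f x = Y (r i) := fun i => (hfg _).mp (by
    rw [← LinearMap.comp_apply, hY, LinearMap.comp_apply,
      show K.mkQ (r i) = 0 from (Submodule.Quotient.mk_eq_zero _).mpr (hr ▸ Submodule.subset_span ⟨i, rfl⟩),
      map_zero])
  choose x hx using hker
  obtain ⟨z, hz⟩ := exists_solution_of_universallyInjective hf x y (fun i j => r i j) fun i => by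
    rw [hx]; simp [Y, Fintype.linearCombination_apply]
  let Z : (Fin n → R) →ₗ[R] N := Y - f ∘ₗ Fintype.linearCombination R z
  have hK' : K ≤ LinearMap.ker Z := by
    rw [← hr, Submodule.span_le]
    rintro _ ⟨i, rfl⟩
    simp [Z, LinearMap.mem_ker, ← hx, hz i, Fintype.linearCombination_apply]
  refine ⟨K.liftQ Z hK' ∘ₗ e.toLinearMap, ?_⟩
  apply (LinearMap.cancel_right e.symm.surjective).mp
  apply Submodule.linearMap_qext
  ext j
  have := LinearMap.congr_fun hY (Pi.single j 1)
  simp only [LinearMap.comp_apply, LinearMap.coe_single] at this ⊢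
  simp [Z, hfg.apply_apply_eq_zero] at this ⊢
  exact this

/-- The pushout criterion for domination. -/
theorem ker_le_iff_universallyInjective_pushout {M' : Type u} [AddCommGroup M'] [Module R M']
    (f : M →ₗ[R] N) (g : M →ₗ[R] M') :
    (∀ (Q : Type u) [AddCommGroup Q] [Module R Q], LinearMap.ker (f.rTensor Q) ≤ LinearMap.ker (g.rTensor Q)) ↔
      CAlgX.UniversallyInjective R
        ((LinearMap.range (g.prod (-f))).mkQ ∘ₗ LinearMap.inl R M' N) := by
  refine forall_congr' fun Q => forall_congr' fun _ => forall_congr' fun _ => ?_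
  let e := TensorProduct.prodLeft R R M' N Q
  have he : ∀ w, e ((g.prod (-f)).rTensor Q w) = (g.rTensor Q w, -(f.rTensor Q w)) := by
    intro w
    induction w with
    | zero => simp [e, Prod.zero_eq_mk]
    | tmul a b => simp [e, neg_tmul]
    | add a b ha hb =>
      simp only [map_add, ha, hb, Prod.mk_add_mk, neg_add]
  have he' : ∀ z, e ((LinearMap.inl R M' N).rTensor Q z) = (z, 0) := by
    intro z
    induction z with
    | zero => simp [e, Prod.zero_eq_mk]
    | tmul a b => simp [e]
    | add a b ha hb => rw [map_add, map_add, ha, hb, Prod.mk_add_mk, add_zero]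
  have hex := rTensor_exact Q (LinearMap.exact_map_mkQ_range (g.prod (-f))) (Submodule.mkQ_surjective _)
  rw [injective_iff_map_eq_zero]
  constructor
  · intro h z hz
    rw [LinearMap.rTensor_comp, LinearMap.comp_apply] at hz
    obtain ⟨w, hw⟩ := (hex _).mp hz
    have := congrArg e hw
    rw [he, he', Prod.mk.injEq, neg_eq_zero] at this
    rw [← this.1]
    exact h this.2
  · intro h w hw
    refine h _ ?_
    rw [LinearMap.rTensor_comp, LinearMap.comp_apply]
    refine (hex _).mpr ⟨w, e.injective ?_⟩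
    rw [he, he', LinearMap.mem_ker.mp hw, neg_zero]

/-- A dominated map factors through the dominating one when the cokernel is finitely presented. -/
theorem exists_factor_of_ker_le {M' : Type u} [AddCommGroup M'] [Module R M']
    (f : M →ₗ[R] N) (g : M →ₗ[R] M') [Module.FinitePresentation R (N ⧸ LinearMap.range f)]
    (h : ∀ (Q : Type u) [AddCommGroup Q] [Module R Q], LinearMap.ker (f.rTensor Q) ≤ LinearMap.ker (g.rTensor Q)) :
    ∃ k : N →ₗ[R] M', g = k ∘ₗ f := by
  let U := LinearMap.range (g.prod (-f))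
  let i : M' →ₗ[R] (M' × N) ⧸ U := U.mkQ ∘ₗ LinearMap.inl R M' N
  have hi : CAlgX.UniversallyInjective R i := (ker_le_iff_universallyInjective_pushout f g).mp h
  let p : (M' × N) ⧸ U →ₗ[R] N ⧸ LinearMap.range f :=
    U.liftQ ((LinearMap.range f).mkQ ∘ₗ LinearMap.snd R M' N) (by
      rintro _ ⟨m, rfl⟩
      simp)
  have hp : Function.Surjective p := fun z => by
    obtain ⟨n, rfl⟩ := Submodule.mkQ_surjective _ z
    exact ⟨U.mkQ (0, n), by simp [p]⟩
  have hip : Function.Exact i p := by
    intro z
    obtain ⟨⟨a, b⟩, rfl⟩ := Submodule.mkQ_surjective _ z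
    constructor
    · intro hz
      obtain ⟨m, hm⟩ : b ∈ LinearMap.range f := by simpa [p] using hz
      refine ⟨a + g m, (Submodule.Quotient.eq U).mpr ⟨m, ?_⟩⟩
      simp [hm]
    · rintro ⟨c, hc⟩
      rw [← hc]
      simp [p, i]
  obtain ⟨s, hs⟩ := exists_section_of_universallyInjective i p hip hp hi
  let r : (M' × N) ⧸ U →ₗ[R] M' :=
    (LinearEquiv.ofInjective i (injective_of_universallyInjective hi)).symm.toLinearMap ∘ₗ
      (LinearMap.id - s ∘ₗ p).codRestrict (LinearMap.range i) fun z => (hip _).mp (by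
        have : p (s (p z)) = p z := LinearMap.congr_fun hs (p z)
        simp [this])
  have hr : ∀ a, r (i a) = a := fun a => by
    apply (LinearEquiv.ofInjective i (injective_of_universallyInjective hi)).injective
    simp only [r, LinearMap.comp_apply, LinearEquiv.coe_coe, LinearEquiv.apply_symm_apply]
    ext
    simp [hip.apply_apply_eq_zero a]
  refine ⟨r ∘ₗ U.mkQ ∘ₗ LinearMap.inr R M' N, LinearMap.ext fun m => ?_⟩
  have e : U.mkQ (0, f m) = i (g m) := by
    rw [eq_comm]
    exact (Submodule.Quotient.eq U).mpr ⟨m, by simp⟩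
  simp only [LinearMap.comp_apply, LinearMap.inr_apply]
  rw [e, hr]

end Groth.Agent.H1CAlg
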