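import Groth.Prelude.Def_Found
import Groth.Agent.H1CAlg.UnivInj
import Groth.Agent.H1CAlg.PiTensor

/-!
Mittag-Leffler modules: the domination criteria and closure properties.
-/

set_option autoImplicit false
universe u

open TensorProduct

namespace Groth.Agent.H1CAlg

variable {R : Type u} [CommRing R] {M : Type u} [AddCommGroup M] [Module R M]

/-- An element killed in all components of a family is killed in the product, after a finitely presented factorization. -/
theorem eq_zero_of_piRightHom_eq_zero {Q' : Type u} [AddCommGroup Q'] [Module R Q'] [Module.FinitePresentation R Q']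
    {ι : Type u} (Q : ι → Type u) [∀ i, AddCommGroup (Q i)] [∀ i, Module R (Q i)]
    (x : Q' ⊗[R] (∀ i, Q i)) (h : ∀ i, TensorProduct.piRightHom R R Q' Q x i = 0) : x = 0 :=
  (piRightHom_bijective_of_finitePresentation Q).1 (by rw [map_zero]; exact funext h)

theorem rTensor_component_eq_zero {P P' : Type u} [AddCommGroup P] [Module R P] [AddCommGroup P'] [Module R P']
    {ι : Type u} (Q : ι → Type u) [∀ i, AddCommGroup (Q i)] [∀ i, Module R (Q i)]
    (g : P →ₗ[R] P') (X : P ⊗[R] (∀ i, Q i)) (hg : g.rTensor _ X = 0) (i : ι) :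
    g.rTensor (Q i) (TensorProduct.piRightHom R R P Q X i) = 0 := by
  rw [← piRightHom_natural, hg, map_zero, Pi.zero_apply]

/-- A Mittag-Leffler module: every map from a finitely presented module has the same kernels after
tensoring as some map to a finitely presented module. -/
theorem exists_fp_ker_eq (hM : CAlg.IsMittagLeffler R M) (P : Type u) [AddCommGroup P] [Module R P]
    [Module.FinitePresentation R P] (f : P →ₗ[R] M) :
    ∃ (Q : Type u) (_ : AddCommGroup Q) (_ : Module R Q) (_ : Module.FinitePresentation R Q)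
      (g : P →ₗ[R] Q) (c : Q →ₗ[R] M), f = c ∘ₗ g ∧
      ∀ (N : Type u) [AddCommGroup N] [Module R N], LinearMap.ker (f.rTensor N) = LinearMap.ker (g.rTensor N) := by
  let ι := Σ (n : ℕ) (K : Submodule R (Fin n → R)), {x : P ⊗[R] ((Fin n → R) ⧸ K) // f.rTensor _ x = 0}
  let Q : ι → Type u := fun a => (Fin a.1 → R) ⧸ a.2.1
  obtain ⟨X, hX⟩ := (piRightHom_bijective_of_finitePresentation (M := P) Q).2 (fun a => a.2.2.1)
  have hfX : f.rTensor _ X = 0 := by
    apply hM ι Q
    rw [map_zero]
    funext a
    rw [piRightHom_natural, hX, Pi.zero_apply]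
    exact a.2.2.2
  obtain ⟨P', _, _, _, g, c, hfc, hg⟩ := exists_fp_factor f X hfX
  have key : ∀ a : ι, g.rTensor (Q a) a.2.2.1 = 0 := fun a =>
    (congrArg (g.rTensor (Q a)) (congrFun hX a)).symm.trans (rTensor_component_eq_zero Q g X hg a)
  refine ⟨P', inferInstance, inferInstance, inferInstance, g, c, hfc, fun N _ _ => le_antisymm ?_ ?_⟩
  · refine ker_le_of_finitePresentation f g (fun Q' _ _ hQ' x hx => ?_) N
    obtain ⟨n, K, e, hK⟩ := Module.FinitePresentation.exists_fin R Q'
    have hx' : f.rTensor _ (e.toLinearMap.lTensor P x) = 0 := by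
      rw [← LinearMap.comp_apply, LinearMap.rTensor_comp_lTensor, ← LinearMap.lTensor_comp_rTensor,
        LinearMap.comp_apply, LinearMap.mem_ker.mp hx, map_zero]
    have h1 : g.rTensor ((Fin n → R) ⧸ K) (e.toLinearMap.lTensor P x) = 0 :=
      key ⟨n, K, ⟨e.toLinearMap.lTensor P x, hx'⟩⟩
    have h2 : e.toLinearMap.lTensor P' (g.rTensor Q' x) = 0 := by
      rw [← LinearMap.comp_apply, LinearMap.lTensor_comp_rTensor, ← LinearMap.rTensor_comp_lTensor,
        LinearMap.comp_apply]
      exact h1
    rw [LinearMap.mem_ker]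
    have : e.symm.toLinearMap.lTensor P' (e.toLinearMap.lTensor P' (g.rTensor Q' x)) = 0 := by
      rw [h2, map_zero]
    rw [← LinearMap.comp_apply, ← LinearMap.lTensor_comp] at this
    simpa using this
  · rw [hfc, LinearMap.rTensor_comp]; exact LinearMap.ker_le_ker_comp _ _

/-- Converse: it is enough to dominate maps from finite free modules. -/
theorem isMittagLeffler_of_fin_dominate
    (h : ∀ (n : ℕ) (f : (Fin n → R) →ₗ[R] M),
      ∃ (Q : Type u) (_ : AddCommGroup Q) (_ : Module R Q) (_ : Module.FinitePresentation R Q)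
        (g : (Fin n → R) →ₗ[R] Q),
        ∀ (N : Type u) [AddCommGroup N] [Module R N], LinearMap.ker (f.rTensor N) = LinearMap.ker (g.rTensor N)) :
    CAlg.IsMittagLeffler R M := by
  intro ι Q _ _
  rw [injective_iff_map_eq_zero]
  intro x hx
  obtain ⟨n, f, y, rfl⟩ := exists_fin_rTensor_eq x
  obtain ⟨Q', _, _, _, g, hg⟩ := h n f
  have : g.rTensor _ y = 0 := by
    refine eq_zero_of_piRightHom_eq_zero Q _ fun i => ?_
    rw [piRightHom_natural]
    have : TensorProduct.piRightHom R R _ Q y i ∈ LinearMap.ker (f.rTensor (Q i)) := by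
      rw [LinearMap.mem_ker, ← piRightHom_natural, hx, Pi.zero_apply]
    rwa [hg (Q i)] at this
  have h2 : y ∈ LinearMap.ker (g.rTensor (∀ i, Q i)) := this
  rwa [← hg] at h2

theorem isMittagLeffler_of_finitePresentation [Module.FinitePresentation R M] : CAlg.IsMittagLeffler R M :=
  fun ι Q _ _ => (piRightHom_bijective_of_finitePresentation Q).1

variable {M₁ M₂ M₃ : Type u} [AddCommGroup M₁] [Module R M₁] [AddCommGroup M₂] [Module R M₂]
  [AddCommGroup M₃] [Module R M₃]

theorem isMittagLeffler_of_universallyInjective (f : M₁ →ₗ[R] M₂) (hf : CAlgX.UniversallyInjective R f)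
    (h₂ : CAlg.IsMittagLeffler R M₂) : CAlg.IsMittagLeffler R M₁ := by
  intro ι Q _ _
  rw [injective_iff_map_eq_zero]
  intro x hx
  apply hf _
  rw [map_zero]
  apply h₂ ι Q
  rw [map_zero]
  funext i
  rw [piRightHom_natural, hx, Pi.zero_apply, map_zero, Pi.zero_apply]

theorem isMittagLeffler_extension (f : M₁ →ₗ[R] M₂) (g : M₂ →ₗ[R] M₃) (hf : CAlgX.UniversallyInjective R f)
    (hg : Function.Surjective g) (hfg : Function.Exact f g)
    (h₁ : CAlg.IsMittagLeffler R M₁) (h₃ : CAlg.IsMittagLeffler R M₃) : CAlg.IsMittagLeffler R M₂ := by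
  intro ι Q _ _
  rw [injective_iff_map_eq_zero]
  intro x hx
  have : g.rTensor _ x = 0 := by
    apply h₃ ι Q
    rw [map_zero]
    funext i
    rw [piRightHom_natural, hx, Pi.zero_apply, map_zero, Pi.zero_apply]
  obtain ⟨y, rfl⟩ := (rTensor_exact _ hfg hg x).mp this
  have : y = 0 := by
    apply h₁ ι Q
    rw [map_zero]
    funext i
    apply hf
    rw [← piRightHom_natural, hx, Pi.zero_apply, Pi.zero_apply, map_zero]
  rw [this, map_zero]

theorem isMittagLeffler_quotient (N : Submodule R M) (hN : N.FG) (hM : CAlg.IsMittagLeffler R M) :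
    CAlg.IsMittagLeffler R (M ⧸ N) := by
  haveI : Module.Finite R N := Module.Finite.iff_fg.mpr hN
  intro ι Q _ _
  rw [injective_iff_map_eq_zero]
  intro x hx
  obtain ⟨y, rfl⟩ := LinearMap.rTensor_surjective _ N.mkQ_surjective x
  have : ∀ i, ∃ v, N.subtype.rTensor (Q i) v = TensorProduct.piRightHom R R M Q y i := fun i => by
    refine (rTensor_exact (Q i) (LinearMap.exact_subtype_mkQ N) N.mkQ_surjective _).mp ?_
    rw [← piRightHom_natural, hx, Pi.zero_apply]
  choose v hv using this
  obtain ⟨w, hw⟩ := piRightHom_surjective_of_finite (M := N) Q v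
  have : y = N.subtype.rTensor _ w := hM ι Q (funext fun i => by rw [piRightHom_natural, hw, hv])
  rw [this, ← LinearMap.comp_apply, ← LinearMap.rTensor_comp, (LinearMap.exact_subtype_mkQ N).linearMap_comp_eq_zero,
    LinearMap.rTensor_zero, LinearMap.zero_apply]

/-- The submodule criterion for flat modules. -/
theorem exists_smallest_of_flat [Module.Flat R M] (hM : CAlg.IsMittagLeffler R M)
    (F : Type u) [AddCommGroup F] [Module R F] (x : F ⊗[R] M) :
    ∃ F' : Submodule R F, F'.FG ∧ x ∈ LinearMap.range (F'.subtype.rTensor M) ∧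
      ∀ F'' : Submodule R F, x ∈ LinearMap.range (F''.subtype.rTensor M) → F' ≤ F'' := by
  let S := {F'' : Submodule R F // x ∈ LinearMap.range (F''.subtype.rTensor M)}
  let Φ : F →ₗ[R] (∀ s : S, F ⧸ s.1) := LinearMap.pi fun s => s.1.mkQ
  let F₀ := LinearMap.ker Φ
  have hmem : x ∈ LinearMap.range (F₀.subtype.rTensor M) := by
    have hex : Function.Exact (F₀.subtype.rTensor M) (Φ.rTensor M) :=
      Module.Flat.rTensor_exact M (LinearMap.exact_subtype_ker_map Φ)
    refine (hex x).mp ?_
    apply (TensorProduct.comm R _ M).injective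
    rw [map_zero]
    apply hM
    rw [map_zero]
    funext s
    obtain ⟨v, hv⟩ := s.2
    have : ∀ z : F ⊗[R] M, TensorProduct.piRightHom R R M (fun s : S => F ⧸ s.1)
        (TensorProduct.comm R _ M (Φ.rTensor M z)) s = TensorProduct.comm R _ M ((s.1.mkQ).rTensor M z) := by
      intro z
      induction z with
      | zero => simp
      | tmul a b => simp [Φ]
      | add a b ha hb => simp only [map_add, Pi.add_apply, ha, hb]
    refine (this x).trans ((congrArg (fun z => TensorProduct.comm R _ M ((s.1.mkQ).rTensor M z)) hv.symm).trans ?_)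
    simp only [← LinearMap.comp_apply, ← LinearMap.rTensor_comp]
    rw [(LinearMap.exact_subtype_mkQ s.1).linearMap_comp_eq_zero, LinearMap.rTensor_zero, LinearMap.zero_apply,
      map_zero, Pi.zero_apply]
  have hmin : ∀ F'' : Submodule R F, x ∈ LinearMap.range (F''.subtype.rTensor M) → F₀ ≤ F'' := fun F'' h z hz =>
    (Submodule.Quotient.mk_eq_zero F'').mp (congrFun hz ⟨F'', h⟩)
  refine ⟨F₀, ?_, hmem, hmin⟩
  obtain ⟨v, hv⟩ := hmem
  obtain ⟨G, hG, u, hu⟩ := TensorProduct.exists_of_fg v
  have : F₀ ≤ G.map F₀.subtype := hmin _ ⟨(F₀.subtype.submoduleMap G).rTensor M u, by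
    rw [← hv, ← hu, ← LinearMap.comp_apply, ← LinearMap.comp_apply, ← LinearMap.rTensor_comp, ← LinearMap.rTensor_comp]
    rfl⟩
  rw [le_antisymm this (Submodule.map_subtype_le _ _)]
  exact hG.map _

theorem isMittagLeffler_of_exists_smallest [Module.Flat R M]
    (h : ∀ (n : ℕ) (x : (Fin n → R) ⊗[R] M), ∃ F' : Submodule R (Fin n → R),
        x ∈ LinearMap.range (F'.subtype.rTensor M) ∧
        ∀ F'' : Submodule R (Fin n → R), x ∈ LinearMap.range (F''.subtype.rTensor M) → F' ≤ F'') :
    CAlg.IsMittagLeffler R M := by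
  classical
  refine isMittagLeffler_of_fin_dominate fun n f => ?_
  let x : (Fin n → R) ⊗[R] M := ∑ i, Pi.single i 1 ⊗ₜ f (Pi.single i 1)
  obtain ⟨F', hx, hmin⟩ := h n x
  obtain ⟨v, hv⟩ := hx
  obtain ⟨s, hs⟩ := TensorProduct.exists_finset v
  let g : (Fin n → R) →ₗ[R] (s → R) :=
    Fintype.linearCombination R (fun i => fun q : s => (q.1.1 : Fin n → R) i)
  refine ⟨(s → R), inferInstance, inferInstance, inferInstance, g, fun N _ _ => le_antisymm ?_ ?_⟩
  · intro z hz
    rw [LinearMap.mem_ker] at hz ⊢
    -- coordinates of `z`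
    let c : Fin n → N := TensorProduct.piScalarRight R R N (Fin n) (TensorProduct.comm R _ _ z)
    have hzc : z = ∑ i, Pi.single i (1 : R) ⊗ₜ c i := by
      simp only [c]
      clear hz c
      induction z with
      | zero => simp
      | add a b ha hb =>
        simp only [map_add, Pi.add_apply, tmul_add, Finset.sum_add_distrib, ← ha, ← hb]
      | tmul v w =>
        simp only [TensorProduct.comm_tmul, TensorProduct.piScalarRight_apply, TensorProduct.piScalarRightHom_tmul, tmul_smul, smul_tmul']
        rw [← sum_tmul]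
        congr 1
        ext j
        simp [Pi.single_apply]
    let ζ : (Fin n → R) →ₗ[R] N := Fintype.linearCombination R c
    have hζ : ζ.rTensor M x = 0 := by
      apply (TensorProduct.comm R N M).injective
      rw [map_zero, ← hz, hzc]
      simp [x, ζ, map_sum]
    obtain ⟨v', hv'⟩ := (Module.Flat.rTensor_exact M (LinearMap.exact_subtype_ker_map ζ) x).mp hζ
    have hle := hmin _ ⟨v', hv'⟩
    apply (TensorProduct.comm R (s → R) N).injective
    apply (TensorProduct.piScalarRight R R N s).injective
    funext q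
    have hq : ζ (q.1.1 : Fin n → R) = 0 := hle q.1.1.2
    rw [hzc, map_zero, map_zero, Pi.zero_apply, ← hq]
    simp [g, ζ, Fintype.linearCombination_apply, map_sum, Finset.sum_apply, Pi.single_apply]
  · let c : (s → R) →ₗ[R] M := Fintype.linearCombination R (fun q : s => q.1.2)
    have hfg : f = c ∘ₗ g := by
      refine LinearMap.pi_ext' fun i => LinearMap.ext_ring ?_
      have e1 : ∀ z : (Fin n → R) ⊗[R] M, TensorProduct.lid R M ((LinearMap.proj i).rTensor M z) =
          TensorProduct.piScalarRight R R M (Fin n) (TensorProduct.comm R _ _ z) i := by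
        intro z
        induction z with
        | zero => simp
        | tmul a b => simp
        | add a b ha hb => simp only [map_add, Pi.add_apply, ha, hb]
      have h2 := congrArg (fun z => TensorProduct.lid R M ((LinearMap.proj i).rTensor M z)) hv
      simp only [hs, x, map_sum, LinearMap.rTensor_tmul, TensorProduct.lid_tmul, LinearMap.proj_apply,
        Pi.single_apply, ite_smul, one_smul, zero_smul, Finset.sum_ite_eq, Finset.mem_univ, if_true] at h2
      simp only [LinearMap.comp_apply, LinearMap.coe_single]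
      rw [← h2]
      simp [g, c, Fintype.linearCombination_apply, Finset.sum_attach s (fun q => (q.1 : Fin n → R) i • q.2)]
    rw [hfg, LinearMap.rTensor_comp]
    exact LinearMap.ker_le_ker_comp _ _

end Groth.Agent.H1CAlg
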