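import Groth.Agent.H1CAlg.Kaplansky
import Groth.Agent.H1CAlg.CountableML
import Groth.Agent.S0586
import Groth.Agent.S6337
import Groth.Agent.H1CAlg.MLTensor
import Mathlib.RingTheory.Flat.FaithfullyFlat.Basic

/-!
Descent of projectivity along faithfully flat ring maps.
-/

set_option autoImplicit false
universe u

open TensorProduct

namespace Groth.Agent.H1CAlg

variable {R S : Type u} [CommRing R] [CommRing S] [Algebra R S] {M : Type u} [AddCommGroup M] [Module R M]

theorem baseChange_le_iff (N : Submodule R M) (Y : Submodule S (S ⊗[R] M)) :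
    N.baseChange S ≤ Y ↔ ∀ m ∈ N, (1 : S) ⊗ₜ[R] m ∈ Y := by
  rw [Submodule.baseChange_eq_span, Submodule.span_le]
  exact ⟨fun h m hm => h ⟨m, hm, rfl⟩, fun h x ⟨m, hm, hx⟩ => hx ▸ h m hm⟩

theorem baseChange_iSup {κ : Sort*} (N : κ → Submodule R M) :
    (⨆ k, N k).baseChange S = ⨆ k, (N k).baseChange S := by
  refine le_antisymm ?_ (iSup_le fun k => Submodule.baseChange_mono S (le_iSup N k))
  rw [baseChange_le_iff]
  intro m hm
  have : (⨆ k, N k) ≤ ((⨆ k, (N k).baseChange S).restrictScalars R).comap (TensorProduct.mk R S M 1) :=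
    iSup_le fun k x hx => Submodule.mem_iSup_of_mem k (Submodule.tmul_mem_baseChange_of_mem 1 hx)
  exact this hm

/-- Enlarge a countably generated submodule so that its base change is a partial sum of a given
decomposition of `S ⊗ M`. -/
theorem exists_baseChange_eq_biSup {I : Type u} [DecidableEq I] (Q : I → Submodule S (S ⊗[R] M))
    (hQ : DirectSum.IsInternal Q) (hQc : ∀ i, ∃ t : Set (S ⊗[R] M), t.Countable ∧ Submodule.span S t = Q i)
    (s : Set M) (hs : s.Countable) :
    ∃ (A : Set M) (I' : Set I), s ⊆ A ∧ A.Countable ∧ (Submodule.span R A).baseChange S = ⨆ i ∈ I', Q i := by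
  choose t ht ht' using hQc
  choose F hF using fun m : M => Submodule.exists_finset_of_mem_iSup Q
    (show (1 : S) ⊗ₜ[R] m ∈ ⨆ i, Q i by rw [hQ.submodule_iSup_eq_top]; trivial)
  choose G hG using fun x : S ⊗[R] M => TensorProduct.exists_finset x
  let next : M → Set M := fun m => ⋃ i ∈ (F m : Set I), ⋃ x ∈ t i, (fun p : S × M => p.2) '' ↑(G x)
  have hnext : ∀ m, (next m).Countable := fun m => (F m).countable_toSet.biUnion fun i _ =>
    (ht i).biUnion fun x _ => (G x).countable_toSet.image _
  choose cl hcl hmem hclosed using exists_countable_closed next hnext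
  refine ⟨⋃ m ∈ s, cl m, ⋃ m ∈ ⋃ m ∈ s, cl m, (F m : Set I), fun m hm => Set.mem_biUnion hm (hmem m),
    hs.biUnion fun m _ => hcl m, le_antisymm ?_ (iSup₂_le fun i hi => ?_)⟩
  · rw [baseChange_le_iff]
    have : Submodule.span R (⋃ m ∈ s, cl m) ≤
        ((⨆ i ∈ ⋃ m ∈ ⋃ m ∈ s, cl m, (F m : Set I), Q i).restrictScalars R).comap (TensorProduct.mk R S M 1) := by
      refine Submodule.span_le.mpr fun m hm => ?_
      exact iSup₂_le (fun i hi => le_iSup₂_of_le (f := fun i _ => Q i) i
        (Set.mem_biUnion hm (Finset.mem_coe.mpr hi)) le_rfl) (hF m)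
    exact fun m hm => this hm
  · obtain ⟨m, hm, hi⟩ := Set.mem_iUnion₂.mp hi
    obtain ⟨m₀, hm₀, hmc⟩ := Set.mem_iUnion₂.mp hm
    rw [← ht', Submodule.span_le]
    intro x hx
    rw [SetLike.mem_coe, hG x]
    refine Submodule.sum_mem _ fun p hp => Submodule.tmul_mem_baseChange_of_mem _ (Submodule.subset_span ?_)
    exact Set.mem_biUnion hm₀ (hclosed m₀ m hmc
      (Set.mem_biUnion hi (Set.mem_biUnion hx ⟨p, hp, rfl⟩)))

/-- **Descent of projectivity** along a faithfully flat ring map. -/
theorem projective_of_baseChange (R S : Type u) [CommRing R] [CommRing S] [Algebra R S] [Module.FaithfullyFlat R S]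
    (M : Type u) [AddCommGroup M] [Module R M] [Module.Projective S (S ⊗[R] M)] : Module.Projective R M := by
  classical
  obtain ⟨𝓠, hQind, hQsup, hQc⟩ := exists_sSupIndep_of_projective S (S ⊗[R] M)
  let Q : 𝓠 → Submodule S (S ⊗[R] M) := fun L => L
  have hQ : DirectSum.IsInternal Q := isInternal_of_sSupIndep 𝓠 hQind hQsup
  have hQc' : ∀ i, ∃ t : Set (S ⊗[R] M), t.Countable ∧ Submodule.span S t = Q i := fun i =>
    (isCountablyGenerated_iff_submodule (Q i)).mp (hQc i i.2)
  let U : Set 𝓠 → Submodule S (S ⊗[R] M) := fun I => ⨆ i ∈ I, Q i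
  have hU : ∀ A B, U (A ∪ B) = U A ⊔ U B := fun A B => by simp only [U]; rw [iSup_union]
  have hUcompl : ∀ A, IsCompl (U A) (U Aᶜ) := fun A =>
    ⟨hQ.submodule_iSupIndep.disjoint_biSup_biSup disjoint_compl_right, codisjoint_iff.mpr (by
      rw [← hU, Set.union_compl_self]
      simp only [U, Set.mem_univ, iSup_pos, hQ.submodule_iSup_eq_top])⟩
  let T := {z : Set 𝓠 × Set (Submodule R M) // (sSup z.2).baseChange S = U z.1 ∧ sSupIndep z.2 ∧
    ∀ L ∈ z.2, Module.Projective R L}
  obtain ⟨⟨⟨I, 𝓛⟩, hIU, hind, hproj⟩, hmax⟩ : ∃ z : T, IsMax z := by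
    refine zorn_le fun c hc => ⟨⟨(⋃ z ∈ c, z.1.1, ⋃ z ∈ c, z.1.2), ?_, ?_, ?_⟩,
      fun z hz => ⟨Set.subset_biUnion_of_mem (u := fun z : T => z.1.1) hz,
        Set.subset_biUnion_of_mem (u := fun z : T => z.1.2) hz⟩⟩
    · simp only [U, iSup_iUnion, sSup_iUnion, baseChange_iSup]
      exact iSup_congr fun z => iSup_congr fun _ => z.2.1
    · show sSupIndep (⋃ z ∈ c, z.1.2)
      rw [Set.biUnion_eq_iUnion]
      refine sSupIndep_iUnion_of_directed ?_ fun z => z.1.2.2.1
      intro a b
      rcases hc.total a.2 b.2 with h | h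
      · exact ⟨b, h.2, subset_rfl⟩
      · exact ⟨a, subset_rfl, h.2⟩
    · intro L hL
      obtain ⟨z, -, hLz⟩ := Set.mem_iUnion₂.mp hL
      exact z.2.2.2 L hLz
  by_cases htop : sSup 𝓛 = ⊤
  · have hint := isInternal_of_sSupIndep 𝓛 hind htop
    haveI : ∀ L : 𝓛, Module.Projective R (L : Submodule R M) := fun L => hproj L L.2
    haveI : Module.Projective R (DirectSum 𝓛 fun L => ↥(L : Submodule R M)) :=
      inferInstanceAs (Module.Projective R (Π₀ L : 𝓛, ↥(L : Submodule R M)))
    exact Module.Projective.of_equiv (LinearEquiv.ofBijective (DirectSum.coeLinearMap _) hint)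
  exfalso
  obtain ⟨x, hx⟩ : ∃ x, x ∉ sSup 𝓛 := by
    by_contra h
    exact htop (top_unique fun y _ => not_not.mp fun hy => h ⟨y, hy⟩)
  obtain ⟨A, I₁, hxA, hA, hAU⟩ := exists_baseChange_eq_biSup Q hQ hQc' {x} (Set.countable_singleton x)
  let N := sSup 𝓛
  let N₂ := Submodule.span R A
  let N' := N ⊔ N₂
  have hN' : N'.baseChange S = U (I ∪ I₁) := by
    have h1 : N' = ⨆ b : Bool, cond b N N₂ := by rw [iSup_bool_eq]; rfl
    rw [h1, baseChange_iSup, iSup_bool_eq, hU]
    exact congrArg₂ _ hIU hAU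
  let N₀ : Submodule R N' := N.comap N'.subtype
  -- the quotient is countably generated
  have hcg : CAlg.IsCountablyGenerated R (N' ⧸ N₀) := by
    refine isCountablyGenerated_of_surjective (N₀.mkQ ∘ₗ Submodule.inclusion (le_sup_right : N₂ ≤ N')) ?_
      ((isCountablyGenerated_iff_submodule N₂).mpr ⟨A, hA, rfl⟩)
    intro z
    obtain ⟨⟨b, hb⟩, rfl⟩ := N₀.mkQ_surjective z
    obtain ⟨n, hn, a, ha, hab⟩ := Submodule.mem_sup.mp hb
    refine ⟨⟨a, ha⟩, (Submodule.Quotient.eq _).mpr ?_⟩
    show a - b ∈ N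
    rw [← hab, sub_add_cancel_right]
    exact neg_mem hn
  -- its base change is projective
  haveI hprojQ : Module.Projective S (S ⊗[R] (N' ⧸ N₀)) := by
    let j : S ⊗[R] N' →ₗ[S] S ⊗[R] M := N'.subtype.baseChange S
    have hj : Function.Injective j :=
      Module.Flat.lTensor_preserves_injective_linearMap N'.subtype N'.injective_subtype
    have hjr : LinearMap.range j = U (I ∪ I₁) := hN'
    let r : S ⊗[R] M →ₗ[S] S ⊗[R] N' := (LinearEquiv.ofInjective j hj).symm.toLinearMap ∘ₗ
      (LinearMap.range j).projectionOnto _ (hjr ▸ hUcompl (I ∪ I₁))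
    have hrj : ∀ z, r (j z) = z := fun z => by
      apply (LinearEquiv.ofInjective j hj).injective
      simp only [r, LinearMap.comp_apply, LinearEquiv.coe_coe, LinearEquiv.apply_symm_apply]
      exact Submodule.projectionOnto_apply_of_mem_left _ (LinearMap.mem_range_self j z)
    haveI : Module.Projective S (S ⊗[R] N') := Module.Projective.of_split j r (LinearMap.ext hrj)
    let q : S ⊗[R] N' →ₗ[S] S ⊗[R] (N' ⧸ N₀) := N₀.mkQ.baseChange S
    have hq : Function.Surjective q := LinearMap.lTensor_surjective S N₀.mkQ_surjective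
    let i : N →ₗ[R] N' := Submodule.inclusion le_sup_left
    have hker : ∀ z, q z = 0 ↔ j z ∈ U I := by
      intro z
      have hex : Function.Exact i N₀.mkQ := LinearMap.exact_iff.mpr (by
        rw [Submodule.ker_mkQ, Submodule.range_inclusion])
      rw [← hIU]
      constructor
      · intro hz
        obtain ⟨w, hw⟩ := (lTensor_exact S hex N₀.mkQ_surjective z).mp hz
        refine ⟨w, ?_⟩
        rw [← hw]
        show (Submodule.subtype N).lTensor S w = N'.subtype.lTensor S (i.lTensor S w)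
        rw [← LinearMap.comp_apply, ← LinearMap.lTensor_comp, Submodule.subtype_comp_inclusion]
      · rintro ⟨w, hw⟩
        refine (lTensor_exact S hex N₀.mkQ_surjective z).mpr ⟨w, hj ?_⟩
        rw [← hw]
        show N'.subtype.lTensor S (i.lTensor S w) = (Submodule.subtype N).lTensor S w
        rw [← LinearMap.comp_apply, ← LinearMap.lTensor_comp, Submodule.subtype_comp_inclusion]
    let D : Submodule S (S ⊗[R] N') := (U (I₁ \ I)).comap j
    have hD : IsCompl (LinearMap.ker q) D := by
      refine ⟨Submodule.disjoint_def.mpr fun z hz hzD => ?_, codisjoint_iff.mpr (top_unique fun z _ => ?_)⟩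
      · apply hj
        rw [map_zero]
        exact Submodule.disjoint_def.mp (hQ.submodule_iSupIndep.disjoint_biSup_biSup
          (Set.disjoint_sdiff_right)) _ ((hker z).mp hz) hzD
      · have : j z ∈ U I ⊔ U (I₁ \ I) := by
          rw [← hU, Set.union_sdiff_self, ← hjr]
          exact ⟨z, rfl⟩
        obtain ⟨a, ha, b, hb, hab⟩ := Submodule.mem_sup.mp this
        obtain ⟨k, rfl⟩ : a ∈ LinearMap.range j := by
          rw [hjr, hU]
          exact Submodule.mem_sup_left ha
        refine Submodule.mem_sup.mpr ⟨k, (hker k).mpr ha, z - k, ?_, add_sub_cancel _ _⟩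
        show j (z - k) ∈ U (I₁ \ I)
        rw [map_sub, ← hab, add_sub_cancel_left]
        exact hb
    haveI : Module.Projective S D := Module.Projective.of_split D.subtype (D.projectionOnto _ hD.symm)
      (LinearMap.ext fun z => Submodule.projectionOnto_apply_left _ z)
    exact Module.Projective.of_equiv ((Submodule.quotientEquivOfIsCompl _ _ hD).symm ≪≫ₗ
      LinearMap.quotKerEquivOfSurjective q hq)
  have hML : CAlg.IsMittagLeffler S (S ⊗[R] (N' ⧸ N₀)) := by
    obtain ⟨s, hs⟩ := Module.projective_def.mp hprojQ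
    exact isMittagLeffler_of_universallyInjective
      ((finsuppLEquivDirectSum S S (S ⊗[R] (N' ⧸ N₀))).toLinearMap ∘ₗ s)
      (ui_of_leftInverse _ (Finsupp.linearCombination S id ∘ₗ
          (finsuppLEquivDirectSum S S (S ⊗[R] (N' ⧸ N₀))).symm.toLinearMap)
        (LinearMap.ext fun x => by simp [hs x]))
      ((Groth.Agent.S6337.result S (fun _ => S)).mpr fun _ => isMittagLeffler_of_finitePresentation)
  haveI : Module.Flat R (N' ⧸ N₀) := Module.Flat.of_flat_tensorProduct R _ S
  haveI : Module.Projective R (N' ⧸ N₀) :=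
    projective_of_countablyGenerated (Groth.Agent.S0586.result R S _ hML) hcg
  obtain ⟨σ, hσ⟩ := Module.projective_lifting_property N₀.mkQ LinearMap.id N₀.mkQ_surjective
  have hσ' : ∀ c, N₀.mkQ (σ c) = c := LinearMap.congr_fun hσ
  let C : Submodule R M := LinearMap.range (N'.subtype ∘ₗ σ)
  have hCproj : Module.Projective R C :=
    Module.Projective.of_equiv (LinearEquiv.ofInjective (N'.subtype ∘ₗ σ)
      (N'.injective_subtype.comp (Function.LeftInverse.injective hσ')))
  have hdis : Disjoint N C := by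
    rw [Submodule.disjoint_def]
    rintro _ hN ⟨c, rfl⟩
    have : c = 0 := by rw [← hσ' c]; exact (Submodule.Quotient.mk_eq_zero _).mpr hN
    rw [this, map_zero]
  have hsup : N ⊔ C = N' := by
    refine le_antisymm (sup_le le_sup_left ?_) fun y hy => ?_
    · rintro _ ⟨c, rfl⟩
      exact (σ c).2
    · refine Submodule.mem_sup.mpr ⟨y - (σ (N₀.mkQ ⟨y, hy⟩) : M), ?_, _, ⟨_, rfl⟩, sub_add_cancel _ _⟩
      exact (Submodule.Quotient.eq N₀).mp (hσ' (N₀.mkQ ⟨y, hy⟩)).symm
  have hind' : sSupIndep (insert C 𝓛) := by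
    intro a ha
    rcases eq_or_ne a C with rfl | haC
    · exact hdis.symm.mono_right (sSup_le_sSup (Set.sdiff_singleton_subset_iff.mpr subset_rfl))
    · have ha' := Set.mem_of_mem_insert_of_ne ha haC
      rw [Set.insert_sdiff_of_notMem _ (by simpa using Ne.symm haC), sSup_insert, sup_comm]
      refine (hind ha').disjoint_sup_right_of_disjoint_sup_left (hdis.mono_left ?_)
      exact sup_le (le_sSup ha') (sSup_le_sSup Set.sdiff_subset)
  have hle : (⟨(I, 𝓛), hIU, hind, hproj⟩ : T) ≤ ⟨(I ∪ I₁, insert C 𝓛), by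
      rw [sSup_insert, sup_comm]
      exact (congrArg (Submodule.baseChange S) hsup).trans hN', hind', fun L hL => by
        rcases hL with rfl | hL
        exacts [hCproj, hproj L hL]⟩ := ⟨Set.subset_union_left, Set.subset_insert _ _⟩
  have hCle : C ≤ sSup 𝓛 := le_sSup ((hmax hle).2 (Set.mem_insert C 𝓛))
  apply hx
  have : N' ≤ sSup 𝓛 := hsup ▸ sup_le le_rfl hCle
  exact this (Submodule.mem_sup_right (Submodule.subset_span (hxA rfl)))

end Groth.Agent.H1CAlg
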