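import Groth.Prelude.Def_EGA4b
import Mathlib.RingTheory.IntegralClosure.IntegrallyClosed
import Mathlib.RingTheory.Localization.Integral
import Mathlib.RingTheory.Localization.AtPrime.Basic
import Mathlib.RingTheory.Ideal.MinimalPrime.Localization
import Mathlib.RingTheory.Ideal.Operations

/-!
# Normal rings and the total ring of fractions
-/

universe u

open Polynomial

namespace Groth.Agent.H1CAlg

variable {R : Type u} [CommRing R]

theorem algebraMap_atPrime_ne_zero_of_mem_nonZeroDivisors (p : Ideal R) [p.IsPrime] {b : R}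
    (hb : b ∈ nonZeroDivisors R) : algebraMap R (Localization.AtPrime p) b ≠ 0 := fun h => by
  obtain ⟨t, ht⟩ := (IsLocalization.map_eq_zero_iff p.primeCompl _ b).mp h
  exact t.2 ((mem_nonZeroDivisors_iff_right.mp hb t ht) ▸ p.zero_mem)

/-- the canonical map from the total ring of fractions to the fraction field of a localization
at a prime which is a domain -/
noncomputable def fracToLoc (p : Ideal R) [p.IsPrime] [IsDomain (Localization.AtPrime p)] :
    FractionRing R →ₐ[R] FractionRing (Localization.AtPrime p) :=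
  IsLocalization.liftAlgHom (M := nonZeroDivisors R) (f := Algebra.ofId R _)
    (fun y => by
      rw [Algebra.ofId_apply, IsScalarTower.algebraMap_apply R (Localization.AtPrime p),
        isUnit_iff_ne_zero]
      exact (map_ne_zero_iff _ (IsFractionRing.injective _ _)).mpr
        (algebraMap_atPrime_ne_zero_of_mem_nonZeroDivisors p y.2))

/-- A normal ring is integrally closed in its total ring of fractions. -/
theorem isIntegrallyClosedIn_of_isNormalRing (hR : EGA4.IsNormalRing R) :
    IsIntegrallyClosedIn R (FractionRing R) := by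
  rw [isIntegrallyClosedIn_iff]
  refine ⟨IsFractionRing.injective R (FractionRing R), fun {x} hx => ?_⟩
  let I : Ideal R := (LinearMap.range (Algebra.linearMap R (FractionRing R))).comap
    (LinearMap.toSpanSingleton R (FractionRing R) x)
  suffices h : I = ⊤ by
    have h1 : (1 : R) ∈ I := h ▸ trivial
    obtain ⟨y, hy⟩ := h1
    exact ⟨y, by simpa using hy⟩
  by_contra hI
  obtain ⟨p, hp, hle⟩ := Ideal.exists_le_maximal I hI
  haveI := hp.isPrime
  obtain ⟨hdom, hic⟩ := hR p
  let K := FractionRing (Localization.AtPrime p)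
  have hint : IsIntegral (Localization.AtPrime p) (fracToLoc p x) :=
    (hx.map (fracToLoc p)).tower_top
  obtain ⟨y, hy⟩ := (IsIntegrallyClosed.isIntegral_iff (R := Localization.AtPrime p) (K := K)).mp hint
  obtain ⟨c, s, rfl⟩ := IsLocalization.exists_mk'_eq p.primeCompl y
  obtain ⟨a, b, hab⟩ := IsLocalization.exists_mk'_eq (nonZeroDivisors R) x
  have h1 : algebraMap R K (a * s) = algebraMap R K (c * b) := by
    have ha : algebraMap R K a = fracToLoc p x * algebraMap R K b := by
      rw [← (fracToLoc p).commutes a, ← (fracToLoc p).commutes (b : R), ← map_mul, ← hab,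
        IsLocalization.mk'_spec]
    rw [map_mul, map_mul, ha, ← hy]
    rw [IsScalarTower.algebraMap_apply R (Localization.AtPrime p) K c,
      IsScalarTower.algebraMap_apply R (Localization.AtPrime p) K (s : R),
      ← IsLocalization.mk'_spec (Localization.AtPrime p) c s, map_mul]
    ring
  rw [IsScalarTower.algebraMap_apply R (Localization.AtPrime p) K,
    IsScalarTower.algebraMap_apply R (Localization.AtPrime p) K] at h1
  obtain ⟨t, ht⟩ := (IsLocalization.eq_iff_exists p.primeCompl _).mp (IsFractionRing.injective _ _ h1)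
  have hmem : (t : R) * s ∈ I := by
    refine ⟨t * c, ?_⟩
    rw [Algebra.linearMap_apply, LinearMap.toSpanSingleton_apply, Algebra.smul_def]
    refine (IsLocalization.map_units (FractionRing R) b).mul_left_inj.mp ?_
    rw [mul_assoc, ← hab, IsLocalization.mk'_spec, ← map_mul, ← map_mul]
    congr 1
    linear_combination -ht
  rcases (inferInstance : p.IsPrime).mem_or_mem (hle hmem) with h | h
  · exact t.2 h
  · exact s.2 h

/-- A reduced ring with finitely many minimal primes which is integrally closed in its total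
ring of fractions is normal. -/
theorem isNormalRing_of_isIntegrallyClosedIn [IsReduced R] (hfin : (minimalPrimes R).Finite)
    (hic : IsIntegrallyClosedIn R (FractionRing R)) : EGA4.IsNormalRing R := by
  intro p _
  classical
  have hzero : ∀ z : R, (∀ P ∈ minimalPrimes R, z ∈ P) → z = 0 := fun z hz => by
    have : z ∈ sInf (Ideal.minimalPrimes (⊥ : Ideal R)) := Submodule.mem_sInf.mpr hz
    rw [Ideal.sInf_minimalPrimes] at this
    have h2 : z ∈ nilradical R := this
    rwa [nilradical_eq_bot_iff.mpr ‹IsReduced R›] at h2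
  obtain ⟨P0, hP0, hP0p⟩ := Ideal.exists_minimalPrimes_le (I := (⊥ : Ideal R)) (J := p) bot_le
  haveI hP0' : P0.IsPrime := Ideal.minimalPrimes_isPrime hP0
  have hnle : ∀ P ∈ minimalPrimes R, P ≠ P0 → ¬ P ≤ P0 ∧ ¬ P0 ≤ P := fun P hP hne =>
    ⟨fun h => hne (le_antisymm h (hP0.2 ⟨hP.1.1, bot_le⟩ h)),
      fun h => hne (le_antisymm (hP.2 ⟨hP0', bot_le⟩ h) h)⟩
  let S : Finset (Ideal R) := hfin.toFinset.erase P0
  obtain ⟨c, hcS, hc⟩ : ∃ c, (∀ P ∈ S, c ∈ P) ∧ c ∉ P0 := by
    have : ¬ S.inf id ≤ P0 := by
      rw [hP0'.inf_le']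
      rintro ⟨P, hP, hle⟩
      rw [Finset.mem_erase, Set.Finite.mem_toFinset] at hP
      exact (hnle P hP.2 hP.1).1 hle
    obtain ⟨c, hcS, hc⟩ := SetLike.not_le_iff_exists.mp this
    exact ⟨c, fun P hP => (Finset.inf_le hP : S.inf id ≤ P) hcS, hc⟩
  obtain ⟨d, hd, hdS⟩ : ∃ d ∈ P0, ∀ P ∈ S, d ∉ P := by
    have : ¬ ((P0 : Set R) ⊆ ⋃ P ∈ (S : Set (Ideal R)), (P : Set R)) := by
      intro hsub
      obtain ⟨P, hP, hle⟩ := (Ideal.subset_union_prime (f := id) P0 P0 fun P hP _ _ => by
        rw [Finset.mem_erase, Set.Finite.mem_toFinset] at hP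
        exact Ideal.minimalPrimes_isPrime hP.2).mp hsub
      rw [Finset.mem_erase, Set.Finite.mem_toFinset] at hP
      exact (hnle P hP.2 hP.1).2 hle
    obtain ⟨d, hd, hd'⟩ := Set.not_subset.mp this
    exact ⟨d, hd, fun P hP h => hd' (Set.mem_biUnion hP h)⟩
  have hS : ∀ P ∈ minimalPrimes R, P = P0 ∨ P ∈ S := fun P hP => by
    by_cases h : P = P0
    · exact Or.inl h
    · exact Or.inr (Finset.mem_erase.mpr ⟨h, hfin.mem_toFinset.mpr hP⟩)
  have hcd0 : c * d = 0 := hzero _ fun P hP => (hS P hP).elim
    (fun h => h ▸ P0.mul_mem_left c hd) (fun h => P.mul_mem_right d (hcS P h))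
  have hnot : ∀ P ∈ minimalPrimes R, c + d ∉ P := fun P hP h => (hS P hP).elim
    (fun e => hc ((Ideal.add_mem_iff_left _ hd).mp (e ▸ h)))
    (fun e => hdS P e ((Ideal.add_mem_iff_right _ (hcS P e)).mp h))
  have hnzd : ∀ z : R, (∀ P ∈ minimalPrimes R, z ∉ P) → z ∈ nonZeroDivisors R := fun z hz => by
    rw [mem_nonZeroDivisors_iff_right]
    exact fun y hy => hzero y fun P hP =>
      ((Ideal.minimalPrimes_isPrime hP).mem_or_mem (hy ▸ P.zero_mem)).resolve_right (hz P hP)
  let Q := FractionRing R
  let e : Q := IsLocalization.mk' Q c ⟨c + d, hnzd _ hnot⟩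
  have he : e * e = e := by
    rw [← IsLocalization.mk'_mul, IsLocalization.mk'_eq_iff_eq, Submonoid.coe_mul]
    congr 1
    show (c + d) * (c * c) = (c + d) * (c + d) * c
    linear_combination (-(c + d)) * hcd0
  have heint : IsIntegral R e := ⟨X ^ 2 - X, monic_X_pow_sub (degree_X_le.trans_lt (by norm_num)),
    by simp [sq, he]⟩
  obtain ⟨r, hr⟩ := (isIntegrallyClosedIn_iff.mp hic).2 heint
  have hrc : r * (c + d) = c := by
    apply IsFractionRing.injective R Q
    rw [map_mul, hr]
    exact IsLocalization.mk'_spec Q c ⟨c + d, hnzd _ hnot⟩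
  have hrr : r * r = r := IsFractionRing.injective R Q (by rw [map_mul, hr, he])
  have hrP0 : r ∉ P0 := fun h => hc (hrc ▸ P0.mul_mem_right _ h)
  have hrS : ∀ P ∈ S, r ∈ P := fun P hP => by
    have hPmin : P ∈ minimalPrimes R := hfin.mem_toFinset.mp (Finset.mem_erase.mp hP).2
    exact ((Ideal.minimalPrimes_isPrime hPmin).mem_or_mem (hrc.symm ▸ hcS P hP)).resolve_right
      (hnot P hPmin)
  have h1r : 1 - r ∈ P0 :=
    (hP0'.mem_or_mem (show r * (1 - r) ∈ P0 by rw [mul_sub, mul_one, hrr, sub_self]; exact P0.zero_mem)).resolve_left hrP0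
  have hrp : r ∉ p := fun h => (inferInstance : p.IsPrime).ne_top
    ((Ideal.eq_top_iff_one _).mpr (by simpa using p.add_mem h (hP0p h1r)))
  have hann : ∀ z ∈ P0, r * z = 0 := fun z hz => hzero _ fun P hP => (hS P hP).elim
    (fun h => h ▸ P0.mul_mem_left r hz) (fun h => P.mul_mem_right z (hrS P h))
  let D := Localization.AtPrime p
  have hker : ∀ z : R, algebraMap R D z = 0 ↔ z ∈ P0 := fun z => by
    rw [IsLocalization.map_eq_zero_iff p.primeCompl D z]
    exact ⟨fun ⟨t, ht⟩ => (hP0'.mem_or_mem (ht ▸ P0.zero_mem)).resolve_left fun h => t.2 (hP0p h),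
      fun hz => ⟨⟨r, hrp⟩, hann z hz⟩⟩
  haveI : NoZeroDivisors D := ⟨fun {x y} hxy => by
    obtain ⟨a, s, rfl⟩ := IsLocalization.exists_mk'_eq p.primeCompl x
    obtain ⟨b, t, rfl⟩ := IsLocalization.exists_mk'_eq p.primeCompl y
    have : algebraMap R D (a * b) = 0 := by
      rw [map_mul, ← IsLocalization.mk'_spec D a s, ← IsLocalization.mk'_spec D b t]
      linear_combination (algebraMap R D s * algebraMap R D t) * hxy
    rcases hP0'.mem_or_mem ((hker _).mp this) with h | h
    · left; rw [← (IsLocalization.map_units D s).mul_left_inj, IsLocalization.mk'_spec, (hker a).mpr h, zero_mul]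
    · right; rw [← (IsLocalization.map_units D t).mul_left_inj, IsLocalization.mk'_spec, (hker b).mpr h, zero_mul]⟩
  haveI : IsDomain D := NoZeroDivisors.to_isDomain D
  refine ⟨inferInstance, ?_⟩
  let K := FractionRing D
  rw [isIntegrallyClosed_iff K]
  intro x hx
  obtain ⟨t, ht⟩ := IsIntegral.exists_multiple_integral_of_isLocalization p.primeCompl x hx
  obtain ⟨α, β, hβ, hαβ⟩ := IsFractionRing.div_surjective D (t • x)
  obtain ⟨a, s, rfl⟩ := IsLocalization.exists_mk'_eq p.primeCompl α
  obtain ⟨b, s', rfl⟩ := IsLocalization.exists_mk'_eq p.primeCompl β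
  have hbs : b * (s : R) ∉ P0 := fun h => by
    rcases hP0'.mem_or_mem h with h' | h'
    · apply nonZeroDivisors.ne_zero hβ
      rw [← (IsLocalization.map_units D s').mul_left_inj, IsLocalization.mk'_spec, (hker b).mpr h', zero_mul]
    · exact s.2 (hP0p h')
  let N : R := r * (a * s')
  let den : R := r * (b * s) + (1 - r)
  have hden : den ∈ nonZeroDivisors R := hnzd _ fun P hP h => (hS P hP).elim
    (fun e => by
      subst e
      rcases hP0'.mem_or_mem ((Ideal.add_mem_iff_left _ h1r).mp h) with h' | h'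
      · exact hrP0 h'
      · exact hbs h')
    (fun e => (Ideal.minimalPrimes_isPrime hP).ne_top ((Ideal.eq_top_iff_one _).mpr (by
      have h2 : r * (b * (s : R)) - r ∈ P := P.sub_mem (P.mul_mem_right _ (hrS P e)) (hrS P e)
      have h3 : den - (r * (b * (s : R)) - r) ∈ P := P.sub_mem h h2
      convert h3 using 1
      simp only [den]; ring)))
  let x' : Q := IsLocalization.mk' Q N ⟨den, hden⟩
  have hψ1 : algebraMap R K r = 1 := by
    have : algebraMap R D (1 - r) = 0 := (hker _).mpr h1r
    rw [map_sub, map_one, sub_eq_zero] at this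
    rw [IsScalarTower.algebraMap_apply R D K, ← this, map_one]
  have hψ : fracToLoc p x' = t • x := by
    have h1 : fracToLoc p x' * algebraMap R K den = algebraMap R K N := by
      rw [← (fracToLoc p).commutes den, ← (fracToLoc p).commutes N, ← map_mul]
      exact congrArg (fracToLoc p) (IsLocalization.mk'_spec Q N ⟨den, hden⟩)
    have hu : ∀ u : p.primeCompl, algebraMap R K u ≠ 0 := fun u => by
      rw [IsScalarTower.algebraMap_apply R D K]
      exact (map_ne_zero_iff _ (IsFractionRing.injective D K)).mpr (IsLocalization.map_units D u).ne_zero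
    have hbne : algebraMap R K b ≠ 0 := by
      rw [IsScalarTower.algebraMap_apply R D K]
      exact (map_ne_zero_iff _ (IsFractionRing.injective D K)).mpr fun h0 =>
        hbs (P0.mul_mem_right _ ((hker b).mp h0))
    have hmk : ∀ (z : R) (u : p.primeCompl),
        algebraMap D K (IsLocalization.mk' D z u) = algebraMap R K z / algebraMap R K u := fun z u => by
      rw [eq_div_iff (hu u), IsScalarTower.algebraMap_apply R D K (u : R), ← map_mul,
        IsLocalization.mk'_spec, ← IsScalarTower.algebraMap_apply]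
    rw [← hαβ, hmk, hmk]
    simp only [N, den, map_add, map_sub, map_mul, map_one, hψ1, sub_self, add_zero, one_mul] at h1
    rw [div_div_div_eq, eq_div_iff (mul_ne_zero (hu s) hbne)]
    linear_combination h1
  obtain ⟨f, hfm, hf⟩ := ht
  have hkill : ∀ z : Q, fracToLoc p z = 0 → algebraMap R Q r * z = 0 := fun z hz => by
    obtain ⟨A, B, rfl⟩ := IsLocalization.exists_mk'_eq (nonZeroDivisors R) z
    have : algebraMap R K A = 0 := by
      rw [← (fracToLoc p).commutes A, ← IsLocalization.mk'_spec Q A B, map_mul, hz, zero_mul]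
    rw [IsScalarTower.algebraMap_apply R D K, map_eq_zero_iff _ (IsFractionRing.injective D K)] at this
    rw [← IsLocalization.mk'_one (M := nonZeroDivisors R) Q r, ← IsLocalization.mk'_mul,
      hann A ((hker A).mp this), IsLocalization.mk'_zero]
  have hx'r : algebraMap R Q r * x' = x' := by
    rw [← IsLocalization.mk'_one (M := nonZeroDivisors R) Q r, ← IsLocalization.mk'_mul]
    simp only [x', N, one_mul]
    rw [← mul_assoc, hrr]
  have hx'int : IsIntegral R x' := ⟨X * f, monic_X.mul hfm, by
    have h0 : algebraMap R Q r * Polynomial.aeval x' f = 0 := hkill _ (by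
      rw [← Polynomial.aeval_algHom_apply, hψ]; exact hf)
    rw [Polynomial.eval₂_mul, Polynomial.eval₂_X, ← Polynomial.aeval_def, ← hx'r,
      mul_comm (algebraMap R Q r) x', mul_assoc]
    rw [show x' * algebraMap R Q r = x' by rw [mul_comm, hx'r], h0, mul_zero]⟩
  obtain ⟨y, hy⟩ := (isIntegrallyClosedIn_iff.mp hic).2 hx'int
  refine ⟨IsLocalization.mk' D y t, ?_⟩
  have h2 : algebraMap R K y = t • x := by rw [← (fracToLoc p).commutes y, hy, hψ]
  have hu : IsUnit (algebraMap R K t) := by
    rw [IsScalarTower.algebraMap_apply R D K]; exact (IsLocalization.map_units D t).map _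
  refine hu.mul_left_inj.mp ?_
  rw [IsScalarTower.algebraMap_apply R D K (t : R), ← map_mul, IsLocalization.mk'_spec,
    ← IsScalarTower.algebraMap_apply R D K, h2, Submonoid.smul_def, Algebra.smul_def,
    IsScalarTower.algebraMap_apply R D K, mul_comm]

end Groth.Agent.H1CAlg
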