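import Groth.Agent.H8Props.FlatDepth
import Groth.Agent.H27Misc.FlatCokernel
import Mathlib.RingTheory.TensorProduct.Finite
import Mathlib.LinearAlgebra.TensorProduct.Tower

/-!
# Depth of a tensor product with a flat module (EGA IV 6.3.1)

For a local homomorphism `A → B` of Noetherian local rings, a finite `A`-module `M` and a finite
`B`-module `N` flat over `A`: `depth_B (N ⊗_A M) = depth_A M + depth_B (N ⧸ 𝔪_A N)`.
-/

set_option autoImplicit false

universe u

open IsLocalRing LocCoh Pointwise TensorProduct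

namespace Groth.Agent.H1CAlg.FlatDepthModule

open Groth.Agent.H8Props.FlatDepth (equivOfKerEq depth_ne_top)

variable {A B : Type u} [CommRing A] [CommRing B] [IsLocalRing A] [IsLocalRing B]
  [IsNoetherianRing A] [IsNoetherianRing B] [Algebra A B] [IsLocalHom (algebraMap A B)]

variable {M N : Type u} [AddCommGroup M] [Module A M] [AddCommGroup N] [Module B N] [Module A N]
  [IsScalarTower A B N]

omit [IsLocalRing A] [IsLocalRing B] [IsNoetherianRing A] [IsNoetherianRing B]
  [IsLocalHom (algebraMap A B)] in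
theorem mem_map_smul_iff (I : Ideal A) (n : N) :
    n ∈ I.map (algebraMap A B) • (⊤ : Submodule B N) ↔ n ∈ I • (⊤ : Submodule A N) := by
  have : I • (⊤ : Submodule A N) =
      (I.map (algebraMap A B) • (⊤ : Submodule B N)).restrictScalars A := by
    rw [Ideal.smul_restrictScalars, Submodule.restrictScalars_top]
  rw [this, Submodule.restrictScalars_mem]

theorem smul_top_ne_top {R P : Type u} [CommRing R] [IsLocalRing R] [AddCommGroup P] [Module R P]
    [Module.Finite R P] [Nontrivial P] {I : Ideal R} (hI : I ≤ maximalIdeal R) :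
    I • (⊤ : Submodule R P) ≠ ⊤ :=
  (Submodule.top_ne_ideal_smul_of_le_jacobson_annihilator
    (hI.trans (maximalIdeal_le_jacobson _))).symm

instance finite_tensor [Module.Finite B N] [Module.Finite A M] : Module.Finite B (N ⊗[A] M) := by
  classical
  obtain ⟨s, hs⟩ := (Module.Finite.fg_top : (⊤ : Submodule B N).FG)
  obtain ⟨t, ht⟩ := (Module.Finite.fg_top : (⊤ : Submodule A M).FG)
  refine ⟨⟨(s ×ˢ t).image fun p => p.1 ⊗ₜ[A] p.2, Submodule.eq_top_iff'.mpr fun z => ?_⟩⟩
  induction z with
  | zero => exact zero_mem _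
  | add a b ha hb => exact add_mem ha hb
  | tmul n m =>
    have hn : n ∈ Submodule.span B (s : Set N) := hs ▸ trivial
    induction hn using Submodule.span_induction with
    | zero => simp
    | add a b _ _ ha hb => rw [add_tmul]; exact add_mem ha hb
    | smul c a _ ha => rw [← smul_tmul']; exact Submodule.smul_mem _ c ha
    | mem a has =>
      have hm : m ∈ Submodule.span A (t : Set M) := ht ▸ trivial
      induction hm using Submodule.span_induction with
      | zero => simp
      | add x y _ _ hx hy => rw [tmul_add]; exact add_mem hx hy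
      | smul c x _ hx =>
        rw [tmul_smul, ← algebraMap_smul B c (a ⊗ₜ[A] x)]
        exact Submodule.smul_mem _ _ hx
      | mem x hxt =>
        exact Submodule.subset_span (Finset.mem_image.mpr ⟨(a, x), Finset.mem_product.mpr ⟨has, hxt⟩, rfl⟩)

omit [IsNoetherianRing A] [IsNoetherianRing B] in
theorem depth_eq_of_subsingleton {R P : Type u} [CommRing R] [IsLocalRing R] [AddCommGroup P]
    [Module R P] [Subsingleton P] : depth R P = ⊤ :=
  H4Depth.idealDepth_eq_top (Subsingleton.elim _ _)

/-- The base case. -/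
theorem depth_eq_zero [Module.Finite A M] [Module.Finite B N] [Module.Flat A N]
    [Nontrivial M] [Nontrivial N] (hM : depth A M = 0)
    (hN : depth B (N ⧸ (maximalIdeal A).map (algebraMap A B) • (⊤ : Submodule B N)) = 0) :
    depth B (N ⊗[A] M) = 0 := by
  set J := (maximalIdeal A).map (algebraMap A B)
  have hJ : J ≤ maximalIdeal B := map_maximalIdeal_le _
  haveI : Nontrivial (N ⧸ J • (⊤ : Submodule B N)) :=
    Submodule.Quotient.nontrivial_iff.mpr (smul_top_ne_top hJ)
  obtain ⟨p, hp, hle⟩ := (H4Depth.idealDepth_eq_zero_iff_exists_associatedPrime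
    (smul_top_ne_top le_rfl)).mp hM
  obtain ⟨q, hq, hle'⟩ := (H4Depth.idealDepth_eq_zero_iff_exists_associatedPrime
    (smul_top_ne_top le_rfl)).mp hN
  obtain ⟨hp', v, hpv⟩ := isAssociatedPrime_iff.mp hp
  obtain ⟨hq', w, hqw⟩ := isAssociatedPrime_iff.mp hq
  obtain rfl : p = maximalIdeal A := le_antisymm (le_maximalIdeal hp'.ne_top) hle
  obtain rfl : q = maximalIdeal B := le_antisymm (le_maximalIdeal hq'.ne_top) hle'
  obtain ⟨n, rfl⟩ := Submodule.Quotient.mk_surjective _ w
  have hv : ∀ r, r ∈ maximalIdeal A ↔ r • v = 0 := fun r => by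
    rw [hpv, Submodule.mem_colon_singleton, Submodule.mem_bot]
  have hy : ∀ y ∈ maximalIdeal B, y • n ∈ (maximalIdeal A) • (⊤ : Submodule A N) := fun y hy => by
    rw [hqw, Submodule.mem_colon_singleton, Submodule.mem_bot, ← Submodule.Quotient.mk_smul,
      Submodule.Quotient.mk_eq_zero] at hy
    exact (mem_map_smul_iff _ _).mp hy
  have hn : n ∉ (maximalIdeal A) • (⊤ : Submodule A N) := fun h => by
    apply (maximalIdeal.isMaximal B).ne_top
    rw [Ideal.eq_top_iff_one, hqw, Submodule.mem_colon_singleton, Submodule.mem_bot, one_smul,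
      Submodule.Quotient.mk_eq_zero]
    exact (mem_map_smul_iff _ _).mpr h
  let ι := Submodule.liftQ (maximalIdeal A) (LinearMap.toSpanSingleton A M v)
    (fun r hr => by simpa using (hv r).mp hr)
  have hι : Function.Injective ι := by
    rw [← LinearMap.ker_eq_bot, Submodule.ker_liftQ_eq_bot]
    intro r hr
    exact (hv r).mpr (by simpa using hr)
  have hne : n ⊗ₜ[A] v ≠ 0 := by
    intro h0
    apply hn
    have h1 : n ⊗ₜ[A] (Submodule.Quotient.mk (1 : A) : A ⧸ maximalIdeal A) = 0 := by
      refine Module.Flat.lTensor_preserves_injective_linearMap (M := N) ι hι ?_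
      rw [LinearMap.lTensor_tmul, map_zero, Submodule.liftQ_apply, LinearMap.toSpanSingleton_apply,
        one_smul]
      exact h0
    have h2 := congrArg (fun z => TensorProduct.quotTensorEquivQuotSMul N (maximalIdeal A)
      (TensorProduct.comm A _ _ z)) h1
    simp only [TensorProduct.comm_tmul, map_zero] at h2
    rw [show (Submodule.Quotient.mk (1 : A) : A ⧸ maximalIdeal A) =
      Ideal.Quotient.mk (maximalIdeal A) 1 from rfl,
      TensorProduct.quotTensorEquivQuotSMul_mk_tmul, one_smul, Submodule.Quotient.mk_eq_zero] at h2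
    exact h2
  haveI : Nontrivial (N ⊗[A] M) := nontrivial_of_ne _ _ hne
  refine (H4Depth.idealDepth_eq_zero_iff (smul_top_ne_top le_rfl)).mpr fun y hy' hreg => hne (hreg ?_)
  simp only [smul_zero]
  rw [smul_tmul']
  have key : ∀ z ∈ (maximalIdeal A) • (⊤ : Submodule A N), z ⊗ₜ[A] v = 0 := by
    intro z hz
    induction hz using Submodule.smul_induction_on' with
    | smul r hr a _ => rw [smul_tmul, (hv r).mp hr, tmul_zero]
    | add a _ b _ ha hb => rw [add_tmul, ha, hb, add_zero]
  exact key _ (hy y hy')

/-- Cutting down the module over the base. -/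
theorem exists_quot_base [Module.Finite A M] [Module.Finite B N] [Module.Flat A N] {a : A}
    (ha : IsSMulRegular M a) :
    IsSMulRegular (N ⊗[A] M) (algebraMap A B a) ∧
      Nonempty (QuotSMulTop (algebraMap A B a) (N ⊗[A] M) ≃ₗ[B] N ⊗[A] QuotSMulTop a M) := by
  let u : M →ₗ[A] M := LinearMap.lsmul A M a
  have hu : ∀ z : N ⊗[A] M, u.lTensor N z = algebraMap A B a • z := by
    intro z
    rw [algebraMap_smul]
    induction z with
    | zero => simp
    | tmul n m => simp [u, tmul_smul]
    | add z z' h h' => rw [map_add, h, h', smul_add]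
  refine ⟨fun z z' h => Module.Flat.lTensor_preserves_injective_linearMap (M := N) u ha
    (by rw [hu, hu]; exact h), ?_⟩
  let π : M →ₗ[A] QuotSMulTop a M := Submodule.mkQ _
  let g : N ⊗[A] M →ₗ[B] N ⊗[A] QuotSMulTop a M := AlgebraTensorModule.lTensor B N π
  have hg : ∀ z, g z = π.lTensor N z := fun z => rfl
  have hgs : Function.Surjective g := LinearMap.lTensor_surjective N (Submodule.mkQ_surjective _)
  have hex := lTensor_exact N (f := u) (g := π) (LinearMap.exact_lsmul_mkQ_smul_top M a)
    (Submodule.mkQ_surjective _)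
  refine ⟨equivOfKerEq (Submodule.mkQ _) g (Submodule.mkQ_surjective _) hgs ?_⟩
  rw [Submodule.ker_mkQ]
  ext z
  rw [LinearMap.mem_ker, hg, hex z, Submodule.mem_smul_pointwise_iff_exists]
  constructor
  · rintro ⟨w, -, rfl⟩
    exact ⟨w, hu w⟩
  · rintro ⟨w, rfl⟩
    exact ⟨w, trivial, (hu w).symm⟩

/-- Cutting down the flat module. -/
theorem exists_quot_fibre [Module.Finite A M] [Module.Finite B N] [Module.Flat A N] {x : B}
    (hx : IsSMulRegular (N ⧸ (maximalIdeal A).map (algebraMap A B) • (⊤ : Submodule B N)) x) :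
    IsSMulRegular (N ⊗[A] M) x ∧ Module.Flat A (QuotSMulTop x N) ∧
      Nonempty (QuotSMulTop x (N ⊗[A] M) ≃ₗ[B] QuotSMulTop x N ⊗[A] M) ∧
      Nonempty (QuotSMulTop x (N ⧸ (maximalIdeal A).map (algebraMap A B) • (⊤ : Submodule B N)) ≃ₗ[B]
        (QuotSMulTop x N ⧸
          (maximalIdeal A).map (algebraMap A B) • (⊤ : Submodule B (QuotSMulTop x N)))) := by
  set J := (maximalIdeal A).map (algebraMap A B)
  let u : N →ₗ[A] N := (LinearMap.lsmul B N x).restrictScalars A
  have hur : Function.Injective (u.lTensor (ResidueField A)) := by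
    refine H7Flat.lTensor_residueField_injective _ fun b hb => ?_
    rw [← mem_map_smul_iff (B := B), ← Submodule.Quotient.mk_eq_zero] at hb ⊢
    refine hx ?_
    simp only [smul_zero]
    exact hb
  obtain ⟨hinj, hflat⟩ := H7Flat.injective_and_flat_quotient (S := B) u hur
  let π : N →ₗ[B] QuotSMulTop x N := Submodule.mkQ _
  have hrange : LinearMap.range u = (x • (⊤ : Submodule B N)).restrictScalars A := by
    ext z
    rw [Submodule.restrictScalars_mem, Submodule.mem_smul_pointwise_iff_exists, LinearMap.mem_range]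
    simp [u]
  haveI hflat' : Module.Flat A (QuotSMulTop x N) :=
    Module.Flat.of_linearEquiv ((Submodule.quotEquivOfEq _ _ hrange).trans
      (Submodule.Quotient.restrictScalarsEquiv A _)).symm
  have hexu : Function.Exact u (π.restrictScalars A) := LinearMap.exact_lsmul_mkQ_smul_top N x
  have hu : ∀ z : N ⊗[A] M, u.rTensor M z = x • z := by
    intro z
    induction z with
    | zero => simp
    | tmul n m => simp [u, smul_tmul']
    | add z z' h h' => rw [map_add, h, h', smul_add]
  have huinj : Function.Injective (u.rTensor M) :=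
    (LinearMap.lTensor_inj_iff_rTensor_inj M u).mp
      (H27Misc.lTensor_injective_of_flat_cokernel M hinj hexu (Submodule.mkQ_surjective _))
  refine ⟨fun z z' h => huinj (by rw [hu, hu]; exact h), hflat', ?_, ?_⟩
  · let g : N ⊗[A] M →ₗ[B] QuotSMulTop x N ⊗[A] M := AlgebraTensorModule.rTensor A M π
    have hg : ∀ z, g z = (π.restrictScalars A).rTensor M z := fun z => rfl
    have hgs : Function.Surjective g := fun y =>
      LinearMap.rTensor_surjective M (g := π.restrictScalars A) (Submodule.mkQ_surjective _) y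
    have hex := rTensor_exact M hexu (Submodule.mkQ_surjective _)
    refine ⟨equivOfKerEq (Submodule.mkQ _) g (Submodule.mkQ_surjective _) hgs ?_⟩
    rw [Submodule.ker_mkQ]
    ext z
    rw [LinearMap.mem_ker, hg, hex z, Submodule.mem_smul_pointwise_iff_exists]
    constructor
    · rintro ⟨w, -, rfl⟩
      exact ⟨w, hu w⟩
    · rintro ⟨w, rfl⟩
      exact ⟨w, trivial, (hu w).symm⟩
  · refine ⟨equivOfKerEq
      ((Submodule.mkQ (x • (⊤ : Submodule B (N ⧸ J • (⊤ : Submodule B N))))).comp (Submodule.mkQ _))
      ((Submodule.mkQ (J • (⊤ : Submodule B (QuotSMulTop x N)))).comp π)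
      ((Submodule.mkQ_surjective _).comp (Submodule.mkQ_surjective _))
      ((Submodule.mkQ_surjective _).comp (Submodule.mkQ_surjective _)) ?_⟩
    rw [LinearMap.ker_comp, LinearMap.ker_comp, Submodule.ker_mkQ, Submodule.ker_mkQ]
    have h1 : x • (⊤ : Submodule B (N ⧸ J • (⊤ : Submodule B N))) =
        (x • (⊤ : Submodule B N)).map (Submodule.mkQ _) := by
      rw [Submodule.map_pointwise_smul, Submodule.map_top, Submodule.range_mkQ]
    have h2 : J • (⊤ : Submodule B (QuotSMulTop x N)) = (J • (⊤ : Submodule B N)).map π := by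
      rw [Submodule.map_smul'', Submodule.map_top, Submodule.range_mkQ]
    rw [h1, h2, Submodule.comap_map_mkQ, Submodule.comap_map_mkQ, sup_comm]

theorem depth_of_nat (A B : Type u) [CommRing A] [CommRing B] [IsLocalRing A] [IsLocalRing B]
    [IsNoetherianRing A] [IsNoetherianRing B] [Algebra A B] [IsLocalHom (algebraMap A B)] (n : ℕ) :
    ∀ (M N : Type u) [AddCommGroup M] [Module A M] [AddCommGroup N] [Module B N] [Module A N]
      [IsScalarTower A B N] [Module.Finite A M] [Module.Finite B N] [Module.Flat A N]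
      [Nontrivial M] [Nontrivial N],
      depth A M + depth B (N ⧸ (maximalIdeal A).map (algebraMap A B) • (⊤ : Submodule B N)) = (n : ℕ∞) →
        depth B (N ⊗[A] M) = (n : ℕ∞) := by
  set J := (maximalIdeal A).map (algebraMap A B)
  have hJ : J ≤ maximalIdeal B := map_maximalIdeal_le _
  induction n with
  | zero =>
    intro M N _ _ _ _ _ _ _ _ _ _ _ h
    rw [Nat.cast_zero, add_eq_zero] at h
    simpa using depth_eq_zero h.1 h.2
  | succ n ih =>
    intro M N _ _ _ _ _ _ _ _ _ _ _ h
    have hcancel : ∀ {a b : ℕ∞}, a + 1 = b + 1 → a = b := fun e =>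
      ENat.add_left_injective_of_ne_top (n := (1 : ℕ∞)) (by simp) e
    haveI : Nontrivial (N ⧸ J • (⊤ : Submodule B N)) :=
      Submodule.Quotient.nontrivial_iff.mpr (smul_top_ne_top hJ)
    by_cases h0 : depth A M = 0
    · rw [h0, zero_add] at h
      obtain ⟨x, hx, hxreg⟩ : ∃ x ∈ maximalIdeal B,
          IsSMulRegular (N ⧸ J • (⊤ : Submodule B N)) x := by
        refine (H4Depth.one_le_idealDepth_iff (smul_top_ne_top le_rfl)).mp ?_
        rw [← depth, h]
        exact_mod_cast Nat.le_add_left 1 n
      obtain ⟨hreg, hflat, ⟨e₁⟩, ⟨e₂⟩⟩ := exists_quot_fibre (M := M) hxreg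
      haveI : Nontrivial (QuotSMulTop x N) := Submodule.Quotient.nontrivial_iff.mpr fun htop => by
        refine (smul_top_ne_top (R := B) (P := N) le_rfl) (top_le_iff.mp (htop.ge.trans ?_))
        rw [← Submodule.ideal_span_singleton_smul]
        exact Submodule.smul_mono ((Ideal.span_singleton_le_iff_mem _).mpr hx) le_rfl
      have hd := H4Depth.idealDepth_quotSMulTop_add_one (M := N ⧸ J • (⊤ : Submodule B N)) hx hxreg
      rw [H4Depth.idealDepth_congr _ e₂, ← depth, ← depth, h, Nat.cast_succ] at hd
      have hih := ih M (QuotSMulTop x N) (by rw [h0, zero_add]; exact hcancel hd)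
      rw [depth, ← H4Depth.idealDepth_quotSMulTop_add_one hx hreg, H4Depth.idealDepth_congr _ e₁,
        ← depth, hih, Nat.cast_succ]
    · obtain ⟨a, ha, hareg⟩ : ∃ a ∈ maximalIdeal A, IsSMulRegular M a := by
        refine (H4Depth.one_le_idealDepth_iff (smul_top_ne_top le_rfl)).mp ?_
        exact Order.one_le_iff_ne_zero.mpr h0
      obtain ⟨hreg, ⟨e⟩⟩ := exists_quot_base (B := B) (N := N) hareg
      haveI : Nontrivial (QuotSMulTop a M) := Submodule.Quotient.nontrivial_iff.mpr fun htop => by
        refine (smul_top_ne_top (R := A) (P := M) le_rfl) (top_le_iff.mp (htop.ge.trans ?_))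
        rw [← Submodule.ideal_span_singleton_smul]
        exact Submodule.smul_mono ((Ideal.span_singleton_le_iff_mem _).mpr ha) le_rfl
      have hd := H4Depth.idealDepth_quotSMulTop_add_one ha hareg
      rw [← depth, ← depth] at hd
      rw [← hd, add_right_comm, Nat.cast_succ] at h
      have hih := ih (QuotSMulTop a M) N (hcancel h)
      rw [depth, ← H4Depth.idealDepth_quotSMulTop_add_one (hJ (Ideal.mem_map_of_mem _ ha)) hreg,
        H4Depth.idealDepth_congr _ e, ← depth, hih, Nat.cast_succ]

/-- EGA IV 6.3.1. -/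
theorem depth_tensor [Module.Finite A M] [Module.Finite B N] [Module.Flat A N] :
    depth B (N ⊗[A] M) =
      depth A M + depth B (N ⧸ (maximalIdeal A).map (algebraMap A B) • (⊤ : Submodule B N)) := by
  set J := (maximalIdeal A).map (algebraMap A B)
  rcases subsingleton_or_nontrivial M with hM | hM
  · rw [depth_eq_of_subsingleton (R := A) (P := M), depth_eq_of_subsingleton, top_add]
  rcases subsingleton_or_nontrivial N with hN | hN
  · rw [depth_eq_of_subsingleton (R := B) (P := N ⊗[A] M),
      depth_eq_of_subsingleton (R := B) (P := N ⧸ J • (⊤ : Submodule B N)), add_top]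
  haveI : Nontrivial (N ⧸ J • (⊤ : Submodule B N)) :=
    Submodule.Quotient.nontrivial_iff.mpr (smul_top_ne_top (map_maximalIdeal_le _))
  obtain ⟨n, hn⟩ := ENat.ne_top_iff_exists.mp (WithTop.add_ne_top.mpr
    ⟨depth_ne_top A M, depth_ne_top B (N ⧸ J • (⊤ : Submodule B N))⟩)
  exact (depth_of_nat A B n M N hn.symm).trans hn

end Groth.Agent.H1CAlg.FlatDepthModule
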