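import Groth.Agent.H1CAlg.ReducedCriterion
import Groth.Agent.H05EGA4.DerivExt
import Groth.Agent.H1CAlg.Serre
import Groth.Agent.H8Props.NagataAffine
import Groth.Agent.H02CA.N2
import Groth.Agent.H26Grass.DimLemma
import Mathlib.RingTheory.Filtration
import Mathlib.RingTheory.LocalProperties.Basic
import Mathlib.RingTheory.KrullDimension.NonZeroDivisors
import Mathlib.RingTheory.IntegralClosure.IntegrallyClosed
import Mathlib.RingTheory.IntegralClosure.Algebra.Basic

/-!
# Nagata local domains are analytically unramified
-/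

set_option autoImplicit false

universe u

open IsLocalRing

namespace Groth.Agent.H1CAlg

/-- In a finite extension of domains, a finite extension of the big fraction field is finite over the small one. -/
theorem finiteDimensional_of_finite_domain {D S K F L : Type u} [CommRing D] [CommRing S] [IsDomain S]
    [Algebra D S] [Module.Finite D S] [Field K] [Algebra D K] [Field F] [Algebra S F] [IsFractionRing S F]
    [Field L] [Algebra S L] [Algebra F L] [IsScalarTower S F L] [FiniteDimensional F L] [Algebra D L]
    [IsScalarTower D S L] [Algebra K L] [IsScalarTower D K L] :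
    FiniteDimensional K L := by
  classical
  obtain ⟨G, hG⟩ := Module.Finite.fg_top (R := D) (M := S)
  let W : Subalgebra K L := Algebra.adjoin K (algebraMap S L '' (G : Set S))
  have hint : ∀ s : S, IsIntegral K (algebraMap S L s) := fun s =>
    ((Algebra.IsIntegral.isIntegral (R := D) s).map (IsScalarTower.toAlgHom D S L)).tower_top
  have hWfg : (Subalgebra.toSubmodule W).FG :=
    fg_adjoin_of_finite (G.finite_toSet.image _) fun y hy => by
      obtain ⟨s, -, rfl⟩ := hy; exact hint s
  have hSW : ∀ s : S, algebraMap S L s ∈ W := fun s => by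
    have hs : s ∈ Submodule.span D (G : Set S) := hG ▸ Submodule.mem_top
    induction hs using Submodule.span_induction with
    | mem x hx => exact Algebra.subset_adjoin ⟨x, hx, rfl⟩
    | zero => rw [map_zero]; exact zero_mem _
    | add a b _ _ ha hb => rw [map_add]; exact add_mem ha hb
    | smul c a _ ha =>
      rw [Algebra.smul_def, map_mul, ← IsScalarTower.algebraMap_apply, IsScalarTower.algebraMap_apply D K L]
      exact mul_mem (W.algebraMap_mem _) ha
  have hFW : ∀ f : F, algebraMap F L f ∈ W := fun f => by
    obtain ⟨a, b, -, rfl⟩ := IsFractionRing.div_surjective (A := S) f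
    rw [map_div₀, ← IsScalarTower.algebraMap_apply, ← IsScalarTower.algebraMap_apply, div_eq_mul_inv]
    exact mul_mem (hSW a) (W.inv_mem_of_algebraic (x := ⟨_, hSW b⟩) (hint b).isAlgebraic)
  let b := Module.finBasis F L
  refine ⟨(?_ : (⊤ : Submodule K L).FG)⟩
  have htop : (⊤ : Submodule K L) = Subalgebra.toSubmodule W * Submodule.span K (Set.range b) := by
    refine le_antisymm (fun z _ => ?_) le_top
    rw [← b.sum_repr z]
    refine Submodule.sum_mem _ fun i _ => ?_
    rw [Algebra.smul_def]
    exact Submodule.mul_mem_mul (hFW _) (Submodule.subset_span ⟨i, rfl⟩)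
  rw [htop]
  exact hWfg.mul (Submodule.fg_span (Set.finite_range b))

/-- A finite domain over a Nagata ring is Japanese. -/
theorem isN2_of_finite_isNagata {R S : Type u} [CommRing R] [CommRing S] [IsDomain S] [Algebra R S]
    [Module.Finite R S] (hR : CAlg.IsNagata R) : CAlg.IsN2 S := by
  intro L _ _ _ _ hfin
  haveI : FiniteDimensional (FractionRing S) L := hfin
  let p : Ideal R := RingHom.ker (algebraMap R S)
  haveI : p.IsPrime := RingHom.ker_isPrime _
  let D := R ⧸ p
  let f : D →+* S := RingHom.kerLift (algebraMap R S)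
  have hf : Function.Injective f := RingHom.kerLift_injective _
  letI : Algebra D S := f.toAlgebra
  haveI : IsScalarTower R D S := IsScalarTower.of_algebraMap_eq fun r => rfl
  haveI : Module.Finite D S := Module.Finite.of_restrictScalars_finite R D S
  let g : D →+* L := (algebraMap S L).comp f
  have hg : Function.Injective g := by
    show Function.Injective ((algebraMap S L : S → L) ∘ f)
    refine Function.Injective.comp ?_ hf
    rw [IsScalarTower.algebraMap_eq S (FractionRing S) L]
    exact (algebraMap (FractionRing S) L).injective.comp (IsFractionRing.injective S (FractionRing S))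
  letI : Algebra D L := g.toAlgebra
  haveI : IsScalarTower D S L := IsScalarTower.of_algebraMap_eq fun _ => rfl
  letI : Algebra (FractionRing D) L := (IsFractionRing.lift hg).toAlgebra
  haveI : IsScalarTower D (FractionRing D) L :=
    IsScalarTower.of_algebraMap_eq fun x => (IsFractionRing.lift_algebraMap hg x).symm
  haveI : FiniteDimensional (FractionRing D) L :=
    finiteDimensional_of_finite_domain (D := D) (S := S) (F := FractionRing S)
  haveI : Module.Finite D (integralClosure D L) := hR.2 p L ‹_›
  let j : integralClosure D L →ₗ[D] integralClosure S L :=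
    { toFun := fun z => ⟨z.1, z.2.tower_top⟩
      map_add' := fun _ _ => rfl
      map_smul' := fun _ _ => Subtype.ext rfl }
  haveI : Module.Finite D (integralClosure S L) := Module.Finite.of_surjective j fun z =>
    ⟨⟨z.1, isIntegral_trans (R := D) (A := S) z.1 z.2⟩, rfl⟩
  exact Module.Finite.of_restrictScalars_finite D S _

/-- A finite algebra over a Nagata ring is Nagata. -/
theorem isNagata_of_finite {R S : Type u} [CommRing R] [CommRing S] [Algebra R S] [Module.Finite R S]
    (hR : CAlg.IsNagata R) : CAlg.IsNagata S := by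
  haveI := hR.1
  refine ⟨IsNoetherianRing.of_finite R S, fun q hq => ?_⟩
  haveI : Module.Finite R (S ⧸ q) :=
    Module.Finite.of_surjective (Ideal.Quotient.mkₐ R q).toLinearMap Ideal.Quotient.mk_surjective
  exact isN2_of_finite_isNagata hR

/-- The maximal ideal of a normal local domain is principal as soon as it is associated to a principal ideal. -/
theorem isPrincipal_maximalIdeal_of_colon {A : Type u} [CommRing A] [IsDomain A] [IsLocalRing A] [IsNoetherianRing A]
    [IsIntegrallyClosed A] {x a : A} (hx : x ≠ 0) (ha : ¬ x ∣ a) (h : ∀ r ∈ maximalIdeal A, x ∣ a * r) :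
    (maximalIdeal A).IsPrincipal := by
  classical
  by_cases hall : ∀ r ∈ maximalIdeal A, ∀ c, a * r = x * c → c ∈ maximalIdeal A
  · by_cases hM : maximalIdeal A = ⊥
    · exact ⟨0, by rw [hM]; simp⟩
    exfalso
    let K := FractionRing A
    have hxK : algebraMap A K x ≠ 0 := by simpa using hx
    let z : K := algebraMap A K a / algebraMap A K x
    let N : Submodule A K := Submodule.map (Algebra.linearMap A K) (maximalIdeal A)
    have hN : N ≠ ⊥ := by
      obtain ⟨m, hm, hm0⟩ := Submodule.exists_mem_ne_zero_of_ne_bot hM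
      intro h0
      have : algebraMap A K m ∈ N := ⟨m, hm, rfl⟩
      rw [h0, Submodule.mem_bot] at this
      exact hm0 (by simpa using this)
    have hz : IsIntegral A z := by
      refine isIntegral_of_smul_mem_submodule N hN ((IsNoetherian.noetherian _).map _) z ?_
      rintro _ ⟨r, hr, rfl⟩
      obtain ⟨c, hc⟩ := h r hr
      refine ⟨c, hall r hr c hc, ?_⟩
      show algebraMap A K c = z * algebraMap A K r
      rw [div_mul_eq_mul_div, eq_div_iff hxK, ← map_mul, ← map_mul, hc, mul_comm]
    obtain ⟨c, hc⟩ := IsIntegrallyClosed.isIntegral_iff.mp hz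
    refine ha ⟨c, IsFractionRing.injective A K ?_⟩
    rw [map_mul, hc, mul_div_cancel₀ _ hxK]
  · push Not at hall
    obtain ⟨r, hr, c, hc, hcM⟩ := hall
    obtain ⟨u, hu⟩ := notMem_maximalIdeal.mp hcM
    refine ⟨r, le_antisymm (fun t ht => ?_) ((Submodule.span_singleton_le_iff_mem _ _).mpr hr)⟩
    obtain ⟨d, hd⟩ := h t ht
    have h1 : t * c = r * d := mul_left_cancel₀ hx (by linear_combination r * hd - t * hc)
    exact Submodule.mem_span_singleton.mpr ⟨d * (↑u⁻¹ : A), by
      rw [smul_eq_mul, mul_right_comm, mul_comm d r, ← h1, ← hu, mul_assoc, Units.mul_inv, mul_one]⟩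

theorem exists_uniformizer_mem_of_isIntegrallyClosed {R : Type u} [CommRing R] [IsDomain R] [IsNoetherianRing R]
    [IsIntegrallyClosed R] {x : R} (hx : x ≠ 0) {p : Ideal R}
    (hp : p ∈ associatedPrimes R (R ⧸ Ideal.span {x})) [p.IsPrime] :
    ∃ (t : R) (n : ℕ), t ∈ p ∧ maximalIdeal (Localization.AtPrime p) ≤ Ideal.span {algebraMap R _ t} ∧
      algebraMap R (Localization.AtPrime p) t ^ n ∈ Ideal.span {algebraMap R _ x} := by
  let A := Localization.AtPrime p
  have hle := p.primeCompl_le_nonZeroDivisors
  haveI : IsIntegrallyClosed A := isIntegrallyClosed_of_isLocalization _ p.primeCompl hle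
  obtain ⟨-, abar, hp'⟩ := isAssociatedPrime_iff.mp hp
  obtain ⟨a, rfl⟩ := Ideal.Quotient.mk_surjective abar
  have hmem : ∀ r : R, r ∈ p ↔ x ∣ r * a := fun r => by
    rw [hp', Submodule.mem_colon_singleton, Submodule.mem_bot, Algebra.smul_def, Ideal.Quotient.algebraMap_eq,
      ← map_mul, Ideal.Quotient.eq_zero_iff_mem, Ideal.mem_span_singleton]
  have hprinc : (maximalIdeal A).IsPrincipal := by
    refine isPrincipal_maximalIdeal_of_colon (x := algebraMap R A x) (a := algebraMap R A a)
      ((map_ne_zero_iff _ (IsLocalization.injective A hle)).mpr hx) (fun hdvd => ?_) fun r hr => ?_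
    · rw [← Ideal.mem_span_singleton, ← Set.image_singleton, ← Ideal.map_span,
        IsLocalization.algebraMap_mem_map_algebraMap_iff p.primeCompl] at hdvd
      obtain ⟨s, hs, hsa⟩ := hdvd
      exact hs ((hmem s).mpr (Ideal.mem_span_singleton.mp hsa))
    · rw [← Localization.AtPrime.map_eq_maximalIdeal] at hr
      rw [← Ideal.mem_span_singleton, mul_comm]
      have h1 : (p.map (algebraMap R A)) * Ideal.span {algebraMap R A a} ≤ Ideal.span {algebraMap R A x} := by
        rw [← Set.image_singleton, ← Ideal.map_span, ← Ideal.map_mul, Ideal.map_le_iff_le_comap,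
          Ideal.mul_le]
        intro s hs b hb
        obtain ⟨b, rfl⟩ := Ideal.mem_span_singleton.mp hb
        obtain ⟨c, hc⟩ := (hmem s).mp hs
        rw [Ideal.mem_comap, Ideal.mem_span_singleton, ← mul_assoc, hc, mul_assoc, map_mul]
        exact dvd_mul_right _ _
      exact h1 (Ideal.mul_mem_mul hr (Ideal.mem_span_singleton_self _))
  have hxp : x ∈ p := (hmem x).mpr (dvd_mul_right x a)
  obtain ⟨π, hπ⟩ := hprinc
  obtain ⟨⟨t, s⟩, hts⟩ := IsLocalization.surj p.primeCompl π
  have hspan : maximalIdeal A = Ideal.span {algebraMap R A t} := by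
    rw [hπ, ← hts, Ideal.span_singleton_mul_right_unit (IsLocalization.map_units A s)]
  -- the ideal `xA` contains a power of the maximal ideal
  haveI : Ring.KrullDimLE 1 A := Ring.krullDimLE_iff.mpr (ringKrullDim_le_one_of_isPrincipal ⟨π, hπ⟩)
  have hrad : maximalIdeal A ≤ (Ideal.span {algebraMap R A x}).radical := by
    rw [Ideal.radical_eq_sInf]
    refine le_sInf fun P hP => ?_
    haveI := hP.2
    have hP0 : P ≠ ⊥ := fun h0 => (map_ne_zero_iff _ (IsLocalization.injective A hle)).mpr hx (by
      simpa [h0, Ideal.mem_bot] using hP.1 (Ideal.mem_span_singleton_self _))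
    exact (eq_maximalIdeal (Ideal.IsPrime.isMaximal_of_ne_bot inferInstance hP0)).ge
  obtain ⟨n, hn⟩ := hrad (hspan ▸ Ideal.mem_span_singleton_self (algebraMap R A t))
  exact ⟨t, n, (IsLocalization.AtPrime.to_map_mem_maximal_iff A p t).mp (hspan ▸ Ideal.mem_span_singleton_self _), hspan.le, hn⟩

theorem exists_uniformizer_of_isIntegrallyClosed {R : Type u} [CommRing R] [IsDomain R] [IsNoetherianRing R]
    [IsIntegrallyClosed R] {x : R} (hx : x ≠ 0) {p : Ideal R}
    (hp : p ∈ associatedPrimes R (R ⧸ Ideal.span {x})) [p.IsPrime] :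
    ∃ (t : R) (n : ℕ), maximalIdeal (Localization.AtPrime p) ≤ Ideal.span {algebraMap R _ t} ∧
      algebraMap R (Localization.AtPrime p) t ^ n ∈ Ideal.span {algebraMap R _ x} :=
  let ⟨t, n, _, h⟩ := exists_uniformizer_mem_of_isIntegrallyClosed hx hp
  ⟨t, n, h⟩

/-- Components of a nilpotent element of the completion, in a local ring with reduced completion. -/
theorem component_mem_map_pow {R B : Type u} [CommRing R] [IsLocalRing R] [IsNoetherianRing R] [CommRing B]
    [IsLocalRing B] [IsNoetherianRing B] (ψ : R →+* B) (hψ : (maximalIdeal R).map ψ ≤ maximalIdeal B) {c : ℕ}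
    (hc : maximalIdeal B ^ c ≤ (maximalIdeal R).map ψ) (hred : IsReduced (AdicCompletion (maximalIdeal B) B))
    (a : AdicCompletion.AdicCauchySequence (maximalIdeal R) R)
    (hf : IsNilpotent (AdicCompletion.mk (maximalIdeal R) R a)) (k : ℕ) :
    ψ (a.1 k) ∈ (maximalIdeal R ^ k).map ψ := by
  let m := maximalIdeal R
  let Bhat := AdicCompletion (maximalIdeal B) B
  have hsub : ∀ i j, i ≤ j → a.1 i - a.1 j ∈ m ^ i := fun i j hij => by
    have := a.2 hij
    rwa [SModEq.sub_mem, smul_eq_mul, Ideal.mul_top] at this
  let P := (maximalIdeal B).map (algebraMap B Bhat)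
  haveI : IsAdicComplete P Bhat := AdicCompletion.isAdicComplete_self _ (IsNoetherian.noetherian _)
  obtain ⟨F, hF⟩ := H05EGA4.exists_completion_lift m P ((algebraMap B Bhat).comp ψ) (by
    rw [← Ideal.map_map]; exact Ideal.map_mono hψ)
  have hF0 : F (AdicCompletion.mk m R a) = 0 := (hf.map F).eq_zero
  have hdeep : ∀ j, ψ (a.1 j) ∈ maximalIdeal B ^ j := by
    intro j
    have h1 : AdicCompletion.mk m R a - algebraMap R _ (a.1 j) ∈ (m ^ j).map (algebraMap R (AdicCompletion m R)) := by
      have h2 : AdicCompletion.mk m R a - algebraMap R _ (a.1 j) ∈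
          m ^ j • (⊤ : Submodule R (AdicCompletion m R)) := by
        rw [AdicCompletion.pow_smul_top_eq_ker_eval (IsNoetherian.noetherian _), LinearMap.mem_ker, map_sub, sub_eq_zero]
        rfl
      rwa [Ideal.smul_top_eq_map, Submodule.restrictScalars_mem] at h2
    have h3 := Ideal.mem_map_of_mem F h1
    rw [map_sub, hF0, zero_sub, neg_mem_iff, Ideal.map_map, hF, ← RingHom.comp_apply, hF, RingHom.comp_apply,
      ← Ideal.map_map] at h3
    have h4 := Ideal.mem_map_of_mem (AdicCompletion.evalₐ (maximalIdeal B) j).toRingHom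
      (Ideal.map_mono ((Ideal.map_pow ψ m j).le.trans (Ideal.pow_right_mono hψ j)) h3)
    rw [Ideal.map_map, show (AdicCompletion.evalₐ (maximalIdeal B) j).toRingHom.comp (algebraMap B Bhat) =
      Ideal.Quotient.mk _ from (AdicCompletion.evalₐ (maximalIdeal B) j).comp_algebraMap, Ideal.map_quotient_self,
      Ideal.mem_bot] at h4
    rw [← Ideal.Quotient.eq_zero_iff_mem]
    exact ((AdicCompletion.evalₐ (maximalIdeal B) j).commutes (ψ (a.1 j))).symm.trans h4
  have h6 : ψ (a.1 ((c + 1) * k)) ∈ (m ^ k).map ψ := by
    rw [Ideal.map_pow]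
    refine Ideal.pow_right_mono ?_ k (pow_mul (maximalIdeal B) (c + 1) k ▸ hdeep _)
    exact (Ideal.pow_le_pow_right (Nat.le_succ c)).trans hc
  have h7 := Ideal.mem_map_of_mem ψ (hsub k ((c + 1) * k) (Nat.le_mul_of_pos_left k c.succ_pos))
  rw [map_sub] at h7
  simpa using add_mem h7 h6

/-- Components of a nilpotent element of the completion, along an integral extension. -/
theorem component_mem_map_pow_integral {R C : Type u} [CommRing R] [IsLocalRing R] [IsNoetherianRing R]
    [CommRing C] [IsNoetherianRing C] [Algebra R C] [Algebra.IsIntegral R C]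
    (a : AdicCompletion.AdicCauchySequence (maximalIdeal R) R)
    (hf : IsNilpotent (AdicCompletion.mk (maximalIdeal R) R a))
    (hred : ∀ (M : Ideal C) [M.IsMaximal],
      IsReduced (AdicCompletion (R := Localization.AtPrime M) (maximalIdeal (Localization.AtPrime M)) (Localization.AtPrime M)))
    (k : ℕ) : algebraMap R C (a.1 k) ∈ (maximalIdeal R ^ k).map (algebraMap R C) := by
  let m := maximalIdeal R
  refine Ideal.mem_of_localization_maximal fun M hM => ?_
  let CM := Localization.AtPrime M
  have hredM := hred M
  let ψ : R →+* CM := (algebraMap C CM).comp (algebraMap R C)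
  have hcomap : m ≤ M.comap (algebraMap R C) := by
    haveI : (M.comap (algebraMap R C)).IsMaximal := Ideal.isMaximal_comap_of_isIntegral_of_isMaximal M
    rw [eq_maximalIdeal ‹(M.comap (algebraMap R C)).IsMaximal›]
  have hψ : m.map ψ ≤ maximalIdeal CM := by
    rw [Ideal.map_le_iff_le_comap]
    intro r hr
    exact (IsLocalization.AtPrime.to_map_mem_maximal_iff CM M _).mpr (hcomap hr)
  -- a power of the maximal ideal lies in `m C_M`
  obtain ⟨c, hc⟩ : ∃ c, maximalIdeal CM ^ c ≤ m.map ψ := by
    refine Ideal.exists_pow_le_of_le_radical_of_fg ?_ (IsNoetherian.noetherian _)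
    rw [Ideal.radical_eq_sInf]
    refine le_sInf fun Q hQ => ?_
    haveI := hQ.2
    haveI : (Q.comap (algebraMap C CM)).IsMaximal := by
      refine Ideal.isMaximal_of_isIntegral_of_isMaximal_comap (R := R) _ ?_
      have hle : m ≤ (Q.comap (algebraMap C CM)).comap (algebraMap R C) :=
        fun r hr => Ideal.map_le_iff_le_comap.mp hQ.1 hr
      rw [← (IsLocalRing.maximalIdeal.isMaximal R).eq_of_le Ideal.IsPrime.ne_top' hle]
      exact IsLocalRing.maximalIdeal.isMaximal R
    have hQM : Q.comap (algebraMap C CM) = M := Ideal.IsMaximal.eq_of_le ‹_› hM.ne_top fun r hr => by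
      have := IsLocalRing.le_maximalIdeal (Ideal.IsPrime.ne_top (I := Q) inferInstance) (Ideal.mem_comap.mp hr)
      exact (IsLocalization.AtPrime.to_map_mem_maximal_iff CM M r).mp this
    rw [← IsLocalization.map_under M.primeCompl CM Q]
    show maximalIdeal CM ≤ Ideal.map (algebraMap C CM) (Q.comap (algebraMap C CM))
    rw [hQM, Localization.AtPrime.map_eq_maximalIdeal]
  rw [Ideal.map_map]
  exact component_mem_map_pow ψ hψ hc hredM a hf k

/-- A Noetherian local ring is analytically unramified if a finite extension is so at all its maximal ideals. -/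
theorem isReduced_adicCompletion_of_finite_extension {R : Type u} [CommRing R] [IsLocalRing R] [IsNoetherianRing R]
    (C : Type u) [CommRing C] [Algebra R C] [Module.Finite R C] (hinj : Function.Injective (algebraMap R C))
    (hred : ∀ (M : Ideal C) [M.IsMaximal],
      IsReduced (AdicCompletion (R := Localization.AtPrime M) (maximalIdeal (Localization.AtPrime M)) (Localization.AtPrime M))) :
    IsReduced (AdicCompletion (maximalIdeal R) R) := by
  haveI : IsNoetherianRing C := IsNoetherianRing.of_finite R C
  haveI : Algebra.IsIntegral R C := Algebra.IsIntegral.of_finite R C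
  let m := maximalIdeal R
  refine ⟨fun f hf => ?_⟩
  induction f using AdicCompletion.induction_on with
  | _ a =>
    have hsub : ∀ i j, i ≤ j → a.1 i - a.1 j ∈ m ^ i := fun i j hij => by
      have := a.2 hij
      rwa [SModEq.sub_mem, smul_eq_mul, Ideal.mul_top] at this
    obtain ⟨k₀, hk₀⟩ := m.exists_pow_inf_eq_pow_smul (M := C) (LinearMap.range (Algebra.linearMap R C))
    have hdesc : ∀ k ≥ k₀, a.1 k ∈ m ^ (k - k₀) := by
      intro k hk
      have h1 : algebraMap R C (a.1 k) ∈ m ^ k • (⊤ : Submodule R C) ⊓ LinearMap.range (Algebra.linearMap R C) := by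
        refine ⟨?_, a.1 k, rfl⟩
        show algebraMap R C (a.1 k) ∈ m ^ k • (⊤ : Submodule R C)
        rw [Ideal.smul_top_eq_map, Submodule.restrictScalars_mem]
        exact component_mem_map_pow_integral a hf hred k
      rw [hk₀ k hk] at h1
      have h2 : m ^ (k - k₀) • LinearMap.range (Algebra.linearMap R C) ≤ Submodule.map (Algebra.linearMap R C) (m ^ (k - k₀)) := by
        rw [← Submodule.map_top, ← Submodule.map_smul'', smul_eq_mul, Ideal.mul_top]
      obtain ⟨r, hr, hr'⟩ := h2 (Submodule.smul_mono le_rfl inf_le_right h1)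
      rwa [← hinj hr']
    refine AdicCompletion.ext_evalₐ fun j => ?_
    rw [AdicCompletion.evalₐ_mk, map_zero, Ideal.Quotient.eq_zero_iff_mem]
    have h1 := hsub j (j + k₀) (Nat.le_add_right _ _)
    have h2 := hdesc (j + k₀) (Nat.le_add_left _ _)
    rw [Nat.add_sub_cancel] at h2
    simpa using add_mem h1 h2

/-- Nagata local domains are analytically unramified. -/
theorem isReduced_adicCompletion_of_isNagata : ∀ (n : ℕ) (R : Type u) [CommRing R] [IsDomain R] [IsLocalRing R],
    CAlg.IsNagata R → ringKrullDim R < n → IsReduced (AdicCompletion (maximalIdeal R) R) := by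
  intro n
  induction n with
  | zero =>
    intro R _ _ _ _ hdim
    exact absurd hdim (not_lt.mpr (by exact_mod_cast ringKrullDim_nonneg_of_nontrivial))
  | succ n IH =>
    -- the normal case
    have hnormal : ∀ (A : Type u) [CommRing A] [IsDomain A] [IsLocalRing A] [IsIntegrallyClosed A],
        CAlg.IsNagata A → ringKrullDim A < (n + 1 : ℕ) → IsReduced (AdicCompletion (maximalIdeal A) A) := by
      intro A _ _ _ _ hA hdim
      haveI := hA.1
      by_cases hM : maximalIdeal A = ⊥
      · rw [hM]
        exact isReduced_of_injective (AdicCompletion.ofAlgEquiv (⊥ : Ideal A)).symm.toRingEquiv.toRingHom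
          (AdicCompletion.ofAlgEquiv (⊥ : Ideal A)).symm.injective
      obtain ⟨x, hxm, hx⟩ := Submodule.exists_mem_ne_zero_of_ne_bot hM
      refine isReduced_adicCompletion_of_element x hx hxm fun p hp hprime => ⟨?_, exists_uniformizer_of_isIntegrallyClosed hx hp⟩
      haveI : IsLocalRing (A ⧸ p) := IsLocalRing.of_surjective' _ Ideal.Quotient.mk_surjective
      rw [IsLocalRing.map_maximalIdeal_of_surjective _ Ideal.Quotient.mk_surjective]
      refine IH (A ⧸ p) (isNagata_of_finite (R := A) hA) ?_
      have hxp : Ideal.span {x} ≤ p := fun y hy => hp.annihilator_le (Submodule.mem_annihilator.mpr fun m _ => by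
        obtain ⟨m, rfl⟩ := Ideal.Quotient.mk_surjective m
        exact Ideal.Quotient.eq_zero_iff_mem.mpr (Ideal.mul_mem_right _ _ hy))
      have h1 : ringKrullDim (A ⧸ p) + 1 ≤ ringKrullDim A :=
        (add_le_add (ringKrullDim_le_of_surjective (Ideal.Quotient.factor hxp) (Ideal.Quotient.factor_surjective hxp)) le_rfl).trans
          (ringKrullDim_quotient_succ_le_of_nonZeroDivisor (mem_nonZeroDivisors_of_ne_zero hx))
      refine lt_of_not_ge fun hge => (h1.trans_lt hdim).not_ge ?_
      push_cast
      exact add_le_add hge le_rfl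
    intro R _ _ _ hR hdim
    haveI := hR.1
    let K := FractionRing R
    let C := integralClosure R K
    haveI : Module.Finite R C := (show CAlg.IsN2 R from isN2_of_finite_isNagata (R := R) hR) K (Module.Finite.self K)
    haveI : IsIntegrallyClosed C := integralClosure.isIntegrallyClosedOfFiniteExtension K
    have hC : CAlg.IsNagata C := isNagata_of_finite (R := R) hR
    haveI := hC.1
    haveI : Algebra.IsIntegral R C := Algebra.IsIntegral.of_finite R C
    refine isReduced_adicCompletion_of_finite_extension C (fun u v huv => ?_) fun M hM => ?_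
    · exact IsFractionRing.injective R K (congrArg Subtype.val huv)
    let CM := Localization.AtPrime M
    haveI : IsIntegrallyClosed CM := isIntegrallyClosed_of_isLocalization _ M.primeCompl M.primeCompl_le_nonZeroDivisors
    have hCM : CAlg.IsNagata CM := H8Props.NagataAffine.isNagata_of_isLocalization M.primeCompl CM hC
    haveI := hCM.1
    have hdimM : ringKrullDim CM < (n + 1 : ℕ) := by
      refine lt_of_le_of_lt ?_ hdim
      refine le_trans ?_ (H26Grass.ringKrullDim_le_of_integral (R := R) (S := C))
      rw [IsLocalization.AtPrime.ringKrullDim_eq_height M CM]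
      exact Ideal.height_le_ringKrullDim_of_ne_top hM.ne_top
    exact hnormal CM hCM hdimM

end Groth.Agent.H1CAlg
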