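import Groth.Agent.H1CAlg.WLocal
import Mathlib.RingTheory.Ideal.Quotient.Operations
import Mathlib.Topology.Connected.Clopen

/-!
Connected components of the spectrum of a ring are cut out by idempotents.
-/

namespace Groth.Agent.H1CAlg.Comp

universe u

open PrimeSpectrum

variable {A : Type u} [CommRing A]

/-- The ideal generated by the idempotents contained in a prime. -/
def idemIdeal (x : PrimeSpectrum A) : Ideal A :=
  Ideal.span {e | IsIdempotentElem e ∧ e ∈ x.asIdeal}

theorem exists_idem_mul (x : PrimeSpectrum A) {z : A} (hz : z ∈ idemIdeal x) :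
    ∃ f, IsIdempotentElem f ∧ f ∈ x.asIdeal ∧ z * f = z := by
  refine Submodule.span_induction (p := fun z _ => ∃ f, IsIdempotentElem f ∧ f ∈ x.asIdeal ∧ z * f = z)
    ?_ ?_ ?_ ?_ hz
  · exact fun e he => ⟨e, he.1, he.2, he.1.eq⟩
  · exact ⟨0, IsIdempotentElem.zero, x.asIdeal.zero_mem, zero_mul _⟩
  · rintro a b - - ⟨f, hf, hfx, haf⟩ ⟨g, hg, hgx, hbg⟩
    refine ⟨f + g - f * g, ?_, x.asIdeal.sub_mem (x.asIdeal.add_mem hfx hgx)
      (x.asIdeal.mul_mem_right _ hfx), ?_⟩
    · show (f + g - f * g) * (f + g - f * g) = f + g - f * g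
      linear_combination (1 - g) * (1 - g) * hf.eq + (1 - f) * hg.eq
    · linear_combination (1 - g) * haf + (1 - f) * hbg
  · rintro c a - ⟨f, hf, hfx, haf⟩
    exact ⟨f, hf, hfx, by rw [smul_eq_mul, mul_assoc, haf]⟩

theorem isPreconnected_zeroLocus (x : PrimeSpectrum A) :
    IsPreconnected (zeroLocus (idemIdeal x : Set A)) := by
  haveI : PreconnectedSpace (PrimeSpectrum (A ⧸ idemIdeal x)) := by
    rw [preconnectedSpace_iff_clopen]
    intro s hs
    obtain ⟨e, he, rfl⟩ := exists_idempotent_basicOpen_eq_of_isClopen hs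
    obtain ⟨a, rfl⟩ := Ideal.Quotient.mk_surjective e
    have h0 : a * a - a ∈ idemIdeal x := by
      rw [← Ideal.Quotient.eq, map_mul]
      exact he.eq
    obtain ⟨f, hf, hfx, hfa⟩ := exists_idem_mul x h0
    have hε : IsIdempotentElem (a * (1 - f)) := by
      show a * (1 - f) * (a * (1 - f)) = a * (1 - f)
      linear_combination a * a * hf.eq - hfa
    have hf0 : Ideal.Quotient.mk (idemIdeal x) f = 0 :=
      Ideal.Quotient.eq_zero_iff_mem.2 (Ideal.subset_span ⟨hf, hfx⟩)
    have heq : Ideal.Quotient.mk (idemIdeal x) (a * (1 - f)) = Ideal.Quotient.mk _ a := by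
      rw [map_mul, map_sub, map_one, hf0, sub_zero, mul_one]
    rcases WLoc.mem_or_mem_of_isIdempotentElem hε x.asIdeal with h | h
    · left
      have h1 : Ideal.Quotient.mk (idemIdeal x) a = 0 := by
        rw [← heq]
        exact Ideal.Quotient.eq_zero_iff_mem.2 (Ideal.subset_span ⟨hε, h⟩)
      rw [h1, basicOpen_zero]
      rfl
    · right
      have h1 : Ideal.Quotient.mk (idemIdeal x) (1 - a * (1 - f)) = 0 :=
        Ideal.Quotient.eq_zero_iff_mem.2 (Ideal.subset_span ⟨hε.one_sub, h⟩)
      rw [map_sub, map_one, heq, sub_eq_zero] at h1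
      rw [← h1, basicOpen_one]
      rfl
  have h := isPreconnected_range (continuous_comap (Ideal.Quotient.mk (idemIdeal x)))
  rwa [range_comap_of_surjective _ _ Ideal.Quotient.mk_surjective, Ideal.mk_ker] at h

theorem mem_zeroLocus_idemIdeal (x : PrimeSpectrum A) : x ∈ zeroLocus (idemIdeal x : Set A) :=
  SetLike.coe_subset_coe.2 (Ideal.span_le.2 fun _ he => he.2)

/-- Two points lie in the same component iff they contain the same idempotents. -/
theorem mk_eq_mk_iff {x y : PrimeSpectrum A} :
    (ConnectedComponents.mk x : ConnectedComponents (PrimeSpectrum A)) = ConnectedComponents.mk y ↔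
      ∀ e, IsIdempotentElem e → e ∈ x.asIdeal → e ∈ y.asIdeal := by
  constructor
  · intro h e he hex
    by_contra hey
    exact (WLoc.isClopen_basicOpen_of_isIdempotentElem he).connectedComponent_subset (x := y) hey
      (ConnectedComponents.coe_eq_coe'.1 h) hex
  · intro h
    rw [eq_comm]
    refine ConnectedComponents.coe_eq_coe'.2
      ((isPreconnected_zeroLocus x).subset_connectedComponent (mem_zeroLocus_idemIdeal x) ?_)
    exact SetLike.coe_subset_coe.2 (Ideal.span_le.2 fun e he => h e he.1 he.2)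

theorem exists_idem_of_mk_ne {x y : PrimeSpectrum A}
    (h : (ConnectedComponents.mk x : ConnectedComponents (PrimeSpectrum A)) ≠ ConnectedComponents.mk y) :
    ∃ e, IsIdempotentElem e ∧ e ∈ x.asIdeal ∧ e ∉ y.asIdeal := by
  by_contra! hh
  exact h (mk_eq_mk_iff.2 hh)

/-- The image of a clopen set of points given by an idempotent. -/
theorem isClopen_image_basicOpen {e : A} (he : IsIdempotentElem e) :
    IsClopen (ConnectedComponents.mk '' (basicOpen e : Set (PrimeSpectrum A))) := by
  have hU := WLoc.isClopen_basicOpen_of_isIdempotentElem he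
  refine ⟨?_, ?_⟩
  · rw [← ConnectedComponents.isQuotientMap_coe.isClosed_preimage,
      connectedComponents_preimage_image, hU.biUnion_connectedComponent_eq]
    exact hU.isClosed
  · rw [← ConnectedComponents.isQuotientMap_coe.isOpen_preimage,
      connectedComponents_preimage_image, hU.biUnion_connectedComponent_eq]
    exact hU.isOpen

theorem mk_mem_image_basicOpen_iff {e : A} (he : IsIdempotentElem e) {x : PrimeSpectrum A} :
    ConnectedComponents.mk x ∈ ConnectedComponents.mk '' (basicOpen e : Set (PrimeSpectrum A)) ↔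
      e ∉ x.asIdeal := by
  refine ⟨?_, fun h => ⟨x, h, rfl⟩⟩
  rintro ⟨y, hy, hyx⟩ hex
  exact hy (mk_eq_mk_iff.1 hyx.symm e he hex)

instance totallyDisconnectedSpace :
    TotallySeparatedSpace (ConnectedComponents (PrimeSpectrum A)) := by
  refine ⟨fun c _ d _ hne => ?_⟩
  obtain ⟨x, rfl⟩ := ConnectedComponents.surjective_coe c
  obtain ⟨y, rfl⟩ := ConnectedComponents.surjective_coe d
  obtain ⟨e, he, hex, hey⟩ := exists_idem_of_mk_ne hne
  refine ⟨_, _, (isClopen_image_basicOpen he.one_sub).isOpen, (isClopen_image_basicOpen he).isOpen,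
    (mk_mem_image_basicOpen_iff he.one_sub).2 fun h => WLoc.notMem_of_one_sub_mem x.asIdeal h hex,
    (mk_mem_image_basicOpen_iff he).2 hey, fun z _ => ?_, ?_⟩
  · obtain ⟨z, rfl⟩ := ConnectedComponents.surjective_coe z
    rcases WLoc.mem_or_mem_of_isIdempotentElem he z.asIdeal with h | h
    · exact Or.inl ((mk_mem_image_basicOpen_iff he.one_sub).2
        fun h' => WLoc.notMem_of_one_sub_mem z.asIdeal h' h)
    · exact Or.inr ((mk_mem_image_basicOpen_iff he).2 (WLoc.notMem_of_one_sub_mem z.asIdeal h))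
  · rw [Set.disjoint_left]
    intro z h1 h2
    obtain ⟨z, rfl⟩ := ConnectedComponents.surjective_coe z
    rcases WLoc.mem_or_mem_of_isIdempotentElem he z.asIdeal with h | h
    · exact (mk_mem_image_basicOpen_iff he).1 h2 h
    · exact (mk_mem_image_basicOpen_iff he.one_sub).1 h1 h

/-- A closed set of components avoiding a component is separated from it by an idempotent. -/
theorem exists_idem_of_notMem {T : Set (ConnectedComponents (PrimeSpectrum A))} (hT : IsClosed T)
    {x : PrimeSpectrum A} (hx : ConnectedComponents.mk x ∉ T) :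
    ∃ e, IsIdempotentElem e ∧ e ∈ x.asIdeal ∧ ∀ y, ConnectedComponents.mk y ∈ T → e ∉ y.asIdeal := by
  classical
  have hK : IsCompact (ConnectedComponents.mk ⁻¹' T : Set (PrimeSpectrum A)) :=
    (hT.preimage ConnectedComponents.continuous_coe).isCompact
  let U : {e : A // IsIdempotentElem e ∧ e ∈ x.asIdeal} → Set (PrimeSpectrum A) := fun e =>
    (basicOpen e.1 : Set (PrimeSpectrum A))
  obtain ⟨s, hs⟩ := hK.elim_finite_subcover U (fun e => (basicOpen e.1).isOpen) fun y hy => by
    obtain ⟨e, he, hex, hey⟩ := exists_idem_of_mk_ne (x := x) (y := y) fun h => hx (h ▸ hy)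
    exact Set.mem_iUnion.2 ⟨⟨e, he, hex⟩, hey⟩
  refine ⟨1 - ∏ e ∈ s, (1 - e.1), ?_, ?_, fun y hy hmem => ?_⟩
  · refine IsIdempotentElem.one_sub ?_
    show (∏ e ∈ s, (1 - e.1)) * _ = _
    rw [← Finset.prod_mul_distrib]
    exact Finset.prod_congr rfl fun e _ => e.2.1.one_sub.eq
  · rw [← Ideal.Quotient.eq_zero_iff_mem, map_sub, map_prod, map_one, Finset.prod_eq_one, sub_self]
    intro e _
    rw [map_sub, Ideal.Quotient.eq_zero_iff_mem.2 e.2.2, map_one, sub_zero]
  · obtain ⟨e, he, hey⟩ := Set.mem_iUnion₂.1 (hs hy)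
    refine hey ?_
    rcases WLoc.mem_or_mem_of_isIdempotentElem e.2.1 y.asIdeal with h | h
    · exact h
    · exfalso
      have h2 : ∏ e ∈ s, (1 - e.1) ∈ y.asIdeal := y.asIdeal.mem_of_dvd (Finset.dvd_prod_of_mem _ he) h
      exact WLoc.notMem_of_one_sub_mem y.asIdeal hmem h2

end Groth.Agent.H1CAlg.Comp
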