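import Groth.Prelude.Def_PBC
import Groth.Agent.H9Hens.IndEtale
import Mathlib.Algebra.Category.Ring.FinitePresentation
import Mathlib.Algebra.Category.Ring.Under.Basic
import Mathlib.RingTheory.Smooth.NoetherianDescent

/-!
Ind-etale algebras: the factorisation criterion, base change, composition and cancellation.

`Factors A B`: every map from a finitely presented `A`-algebra to `B` factors through an etale
`A`-algebra. This is equivalent to `EtPBC.IsIndEtale A B`.
-/

namespace Groth.Agent.H1CAlg.IndEtale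

universe u

open CategoryTheory Limits TensorProduct

/-- Every map from a finitely presented `A`-algebra to `B` factors through an etale algebra. -/
def Factors (A B : Type u) [CommRing A] [CommRing B] [Algebra A B] : Prop :=
  ∀ (P : Type u) [CommRing P] [Algebra A P] [Algebra.FinitePresentation A P] (f : P →ₐ[A] B),
    ∃ (E : Type u) (_ : CommRing E) (_ : Algebra A E) (_ : Algebra.Etale A E)
      (g : P →ₐ[A] E) (h : E →ₐ[A] B), h.comp g = f

variable {A B : Type u} [CommRing A] [CommRing B] [Algebra A B]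

theorem exists_factor_of_isColimit {J : Type u} [SmallCategory J] [IsFiltered J]
    (D : J ⥤ Under (CommRingCat.of A)) (c : Cocone D) (hc : IsColimit c)
    (e : c.pt ≅ CommRingCat.mkUnder (CommRingCat.of A) B)
    (P : Type u) [CommRing P] [Algebra A P] [Algebra.FinitePresentation A P] (f : P →ₐ[A] B) :
    ∃ (j : J), letI := (D.obj j).hom.hom.toAlgebra
      ∃ (g : P →ₐ[A] (D.obj j).right) (h : (D.obj j).right →ₐ[A] B), h.comp g = f := by
  have hP : (algebraMap A P).FinitePresentation :=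
    RingHom.finitePresentation_algebraMap.mpr inferInstance
  haveI : IsFinitelyPresentable.{u} (CommRingCat.mkUnder (CommRingCat.of A) P) :=
    CommRingCat.isFinitelyPresentable_under _ _ hP
  obtain ⟨j, u, hu⟩ := IsFinitelyPresentable.exists_hom_of_isColimit hc
    (f.toUnder (R := CommRingCat.of A) ≫ e.inv)
  letI := (D.obj j).hom.hom.toAlgebra
  have h2 : u ≫ c.ι.app j ≫ e.hom = f.toUnder (R := CommRingCat.of A) := by
    rw [← Category.assoc, hu, Category.assoc, e.inv_hom_id, Category.comp_id]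
  exact ⟨j,
    { toRingHom := u.right.hom
      commutes' := fun a => ConcreteCategory.congr_hom (Under.w u) a },
    { toRingHom := (c.ι.app j ≫ e.hom).right.hom
      commutes' := fun a => ConcreteCategory.congr_hom (Under.w (c.ι.app j ≫ e.hom)) a },
    AlgHom.ext fun x => ConcreteCategory.congr_hom (congrArg CommaMorphism.right h2) x⟩

theorem factors_of_isIndEtale (h : EtPBC.IsIndEtale A B) : Factors A B := by
  obtain ⟨J, _, _, D, c, hc, hD, ⟨e⟩⟩ := h
  intro P _ _ _ f
  obtain ⟨j, g, k, hgk⟩ := exists_factor_of_isColimit D c hc e P f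
  exact ⟨(D.obj j).right, inferInstance, (D.obj j).hom.hom.toAlgebra, hD j, g, k, hgk⟩

theorem isIndEtale_of_factors (hB : Factors A B) : EtPBC.IsIndEtale A B := by
  obtain ⟨H, _, _, π, hH⟩ := H9Hens.exists_isPtColim (A := A) (k := B)
  have hsurj : Function.Surjective π := fun b => by
    obtain ⟨E, _, _, _, g, h, hgh⟩ := hB (Polynomial A) (Polynomial.aeval b)
    obtain ⟨φ, hφ⟩ := hH.exists_map E h
    refine ⟨φ (g Polynomial.X), ?_⟩
    have h1 := DFunLike.congr_fun hgh Polynomial.X
    rw [AlgHom.comp_apply, Polynomial.aeval_X] at h1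
    exact (DFunLike.congr_fun hφ _).trans h1
  have hinj : Function.Injective π := by
    refine (injective_iff_map_eq_zero π).2 fun x hx => ?_
    obtain ⟨S, _, _, _, φ, s, rfl⟩ := hH.exists_rep x
    let I : Ideal S := Ideal.span {s}
    haveI : Algebra.FinitePresentation A (S ⧸ I) :=
      Algebra.FinitePresentation.quotient (Submodule.fg_span_singleton s)
    let fq : (S ⧸ I) →ₐ[A] B := Ideal.Quotient.liftₐ I (π.comp φ) fun a ha => by
      obtain ⟨c, rfl⟩ := Ideal.mem_span_singleton'.1 ha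
      rw [map_mul, AlgHom.comp_apply π φ s, hx, mul_zero]
    obtain ⟨E, _, _, _, g, h, hgh⟩ := hB (S ⧸ I) fq
    obtain ⟨φE, hφE⟩ := hH.exists_map E h
    have h1 : φE.comp (g.comp (Ideal.Quotient.mkₐ A I)) = φ := hH.hom_ext (by
      rw [← AlgHom.comp_assoc, hφE, ← AlgHom.comp_assoc, hgh]
      exact AlgHom.ext fun a => rfl)
    have hs : Ideal.Quotient.mkₐ A I s = 0 :=
      Ideal.Quotient.eq_zero_iff_mem.2 (Ideal.mem_span_singleton_self s)
    rw [← h1, AlgHom.comp_apply, AlgHom.comp_apply, hs, map_zero, map_zero]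
  obtain ⟨J, i₁, i₂, D, c, hc, hD, ⟨e⟩⟩ := hH.isIndEtale
  exact ⟨J, i₁, i₂, D, c, hc, hD,
    ⟨e ≪≫ (AlgEquiv.ofBijective π ⟨hinj, hsurj⟩).toUnder (R := CommRingCat.of A)⟩⟩

theorem isIndEtale_iff_factors : EtPBC.IsIndEtale A B ↔ Factors A B :=
  ⟨factors_of_isIndEtale, isIndEtale_of_factors⟩

theorem isIndEtale_of_algEquiv {B' : Type u} [CommRing B'] [Algebra A B'] (e : B ≃ₐ[A] B')
    (h : EtPBC.IsIndEtale A B) : EtPBC.IsIndEtale A B' := by
  obtain ⟨J, i₁, i₂, D, c, hc, hD, ⟨e'⟩⟩ := h
  exact ⟨J, i₁, i₂, D, c, hc, hD, ⟨e' ≪≫ e.toUnder (R := CommRingCat.of A)⟩⟩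

theorem isIndEtale_of_etale [Algebra.Etale A B] : EtPBC.IsIndEtale A B :=
  isIndEtale_of_factors fun _ _ _ _ f =>
    ⟨B, inferInstance, inferInstance, inferInstance, f, AlgHom.id A B, AlgHom.id_comp f⟩

/-- A filtered colimit of ind-etale algebras is ind-etale. -/
theorem isIndEtale_of_isColimit {J : Type u} [SmallCategory J] [IsFiltered J]
    (D : J ⥤ Under (CommRingCat.of A))
    (hD : ∀ j, letI := (D.obj j).hom.hom.toAlgebra; EtPBC.IsIndEtale A ↥(D.obj j).right)
    (c : Cocone D) (hc : IsColimit c)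
    (e : c.pt ≅ CommRingCat.mkUnder (CommRingCat.of A) B) :
    EtPBC.IsIndEtale A B := isIndEtale_of_factors fun P _ _ _ f => by
  obtain ⟨j, g, k, hgk⟩ := exists_factor_of_isColimit D c hc e P f
  letI := (D.obj j).hom.hom.toAlgebra
  obtain ⟨E, i₁, i₂, i₃, u, v, huv⟩ := factors_of_isIndEtale (hD j) P g
  exact ⟨E, i₁, i₂, i₃, u, k.comp v, by rw [AlgHom.comp_assoc, huv, hgk]⟩

/-- Ind-etale algebras are stable under base change. -/
theorem isIndEtale_baseChange (A' : Type u) [CommRing A'] [Algebra A A']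
    (h : EtPBC.IsIndEtale A B) : EtPBC.IsIndEtale A' (A' ⊗[A] B) := by
  obtain ⟨J, _, _, D, c, hc, hD, ⟨e⟩⟩ := h
  have he : (algebraMap A B).toAlgebra = ‹Algebra A B› := Algebra.algebra_ext _ _ fun _ => rfl
  suffices h' : @EtPBC.IsIndEtale A' (@TensorProduct A _ A' B _ _ _
      (algebraMap A B).toAlgebra.toModule) _ _ _ by rwa [he] at h'
  letI : Algebra ↑(CommRingCat.of A) ↑(CommRingCat.of A') := ‹Algebra A A'›
  let F := CommRingCat.tensorProd (CommRingCat.of A) (CommRingCat.of A')
  haveI : PreservesColimit D F :=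
    preservesColimit_of_natIso D
      (CommRingCat.tensorProdIsoPushout (R := CommRingCat.of A) (S := CommRingCat.of A')).symm
  refine ⟨J, inferInstance, inferInstance, D ⋙ F, F.mapCocone c, isColimitOfPreserves F hc,
    fun j => ?_, ⟨F.mapIso e⟩⟩
  letI := (D.obj j).hom.hom.toAlgebra
  haveI := hD j
  exact (Algebra.algebra_ext _ _ fun _ => rfl :
    (algebraMap A' (A' ⊗[A] (D.obj j).right)).toAlgebra =
      (inferInstance : Algebra A' (A' ⊗[A] (D.obj j).right))) ▸
    (inferInstance : Algebra.Etale A' (A' ⊗[A] (D.obj j).right))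

/-- An algebra which is ind-etale over an etale algebra is ind-etale. -/
theorem isIndEtale_of_etale_comp {F : Type u} [CommRing F] [Algebra A F] [Algebra.Etale A F]
    [Algebra F B] [IsScalarTower A F B] (h : EtPBC.IsIndEtale F B) : EtPBC.IsIndEtale A B :=
  isIndEtale_of_factors fun P _ _ _ f => by
  let fF : F ⊗[A] P →ₐ[F] B :=
    Algebra.TensorProduct.lift (Algebra.ofId F B) f fun _ _ => Commute.all _ _
  obtain ⟨E, _, _, _, g, k, hgk⟩ := factors_of_isIndEtale h (F ⊗[A] P) fF
  letI : Algebra A E := ((algebraMap F E).comp (algebraMap A F)).toAlgebra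
  haveI : IsScalarTower A F E := IsScalarTower.of_algebraMap_eq fun _ => rfl
  refine ⟨E, inferInstance, inferInstance, Algebra.Etale.comp A F E,
    (g.restrictScalars A).comp Algebra.TensorProduct.includeRight, k.restrictScalars A,
    AlgHom.ext fun x => ?_⟩
  have h1 := DFunLike.congr_fun hgk (1 ⊗ₜ x)
  simpa [fF] using h1

/-- A finitely generated `ℤ`-subalgebra of an ind-etale algebra lifts to an etale algebra. -/
theorem exists_etale_lift (h : EtPBC.IsIndEtale A B) (T : Subalgebra ℤ B) (hT : T.FG) :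
    ∃ (E : Type u) (_ : CommRing E) (_ : Algebra A E) (_ : Algebra.Etale A E)
      (g : T →+* E) (k : E →ₐ[A] B), ∀ t : T, k (g t) = (t : B) := by
  haveI : Algebra.FiniteType ℤ T := (Subalgebra.fg_iff_finiteType T).mp hT
  haveI : Algebra.FinitePresentation ℤ T := Algebra.FinitePresentation.of_finiteType.mp inferInstance
  obtain ⟨E, _, _, _, g, k, hgk⟩ := factors_of_isIndEtale h (A ⊗[ℤ] T)
    (Algebra.TensorProduct.lift (Algebra.ofId A B) T.val fun _ _ => Commute.all _ _)
  refine ⟨E, inferInstance, inferInstance, inferInstance,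
    g.toRingHom.comp Algebra.TensorProduct.includeRight.toRingHom, k, fun t => ?_⟩
  have h1 := DFunLike.congr_fun hgk (1 ⊗ₜ t)
  simpa using h1

/-- A map between ind-etale algebras is ind-etale. -/
theorem isIndEtale_cancel {C : Type u} [CommRing C] [Algebra B C] [Algebra A C]
    [IsScalarTower A B C] (hB : EtPBC.IsIndEtale A B) (hC : EtPBC.IsIndEtale A C) :
    EtPBC.IsIndEtale B C := isIndEtale_of_factors fun P _ _ _ f => by
  classical
  let Q := Algebra.Presentation.ofFinitePresentation B P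
  let T : Subalgebra ℤ B := Algebra.adjoin ℤ Q.coeffs
  have hT : T.FG := ⟨Q.finite_coeffs.toFinset, by simp [T]⟩
  haveI : Q.HasCoeffs T := ⟨by simp [T]⟩
  obtain ⟨E₁, _, _, _, g, k, hk⟩ := exists_etale_lift hB T hT
  letI : Algebra T E₁ := g.toAlgebra
  letI : Algebra E₁ B := k.toRingHom.toAlgebra
  haveI : IsScalarTower A E₁ B := IsScalarTower.of_algebraMap_eq fun a => (k.commutes a).symm
  haveI : IsScalarTower T E₁ B := IsScalarTower.of_algebraMap_eq fun t => (hk t).symm
  haveI : SMulCommClass T A E₁ := ⟨fun a b x => by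
    simp only [Algebra.smul_def]; ring⟩
  haveI : SMulCommClass A T E₁ := SMulCommClass.symm _ _ _
  letI : Algebra E₁ C := ((algebraMap B C).comp (algebraMap E₁ B)).toAlgebra
  haveI : IsScalarTower E₁ B C := IsScalarTower.of_algebraMap_eq fun _ => rfl
  haveI : IsScalarTower A E₁ C := IsScalarTower.of_algebraMap_eq fun a => by
    show algebraMap A C a = algebraMap B C (algebraMap E₁ B (algebraMap A E₁ a))
    rw [← IsScalarTower.algebraMap_apply A E₁ B, ← IsScalarTower.algebraMap_apply A B C]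
  haveI : IsScalarTower T E₁ C := IsScalarTower.of_algebraMap_eq fun t => by
    show algebraMap T C t = algebraMap B C (algebraMap E₁ B (algebraMap T E₁ t))
    rw [← IsScalarTower.algebraMap_apply T E₁ B]
    rfl
  let P₀ := Q.ModelOfHasCoeffs T
  let e : B ⊗[T] P₀ ≃ₐ[B] P := Q.tensorModelOfHasCoeffsEquiv T
  let f₀ : P₀ →ₐ[T] C :=
    ((f.comp e.toAlgHom).restrictScalars T).comp Algebra.TensorProduct.includeRight
  haveI : Algebra.FinitePresentation A (E₁ ⊗[T] P₀) := Algebra.FinitePresentation.trans A E₁ (E₁ ⊗[T] P₀)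
  let f₁ : E₁ ⊗[T] P₀ →ₐ[E₁] C :=
    Algebra.TensorProduct.lift (Algebra.ofId E₁ C) f₀ fun _ _ => Commute.all _ _
  obtain ⟨E₂, _, _, _, g₂, k₂, hgk₂⟩ :=
    factors_of_isIndEtale hC (E₁ ⊗[T] P₀) (f₁.restrictScalars A)
  letI : Algebra E₁ E₂ :=
    (g₂.toRingHom.comp (algebraMap E₁ (E₁ ⊗[T] P₀))).toAlgebra
  haveI : IsScalarTower A E₁ E₂ := IsScalarTower.of_algebraMap_eq fun a => by
    show algebraMap A E₂ a = g₂ (algebraMap E₁ (E₁ ⊗[T] P₀) (algebraMap A E₁ a))
    rw [← IsScalarTower.algebraMap_apply A E₁, g₂.commutes]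
  haveI : Algebra.Etale E₁ E₂ := Algebra.Etale.of_restrictScalars A E₁ E₂
  letI : Algebra T E₂ := ((algebraMap E₁ E₂).comp (algebraMap T E₁)).toAlgebra
  haveI : IsScalarTower T E₁ E₂ := IsScalarTower.of_algebraMap_eq fun _ => rfl
  let g₂' : E₁ ⊗[T] P₀ →ₐ[E₁] E₂ := { g₂.toRingHom with commutes' := fun _ => rfl }
  let k₂' : E₂ →ₐ[E₁] C :=
    { k₂ with
      commutes' := fun a => by
        show k₂ (g₂ (algebraMap E₁ (E₁ ⊗[T] P₀) a)) = _
        rw [← AlgHom.comp_apply, hgk₂]
        exact f₁.commutes a }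
  haveI : IsScalarTower T E₁ (B ⊗[E₁] E₂) := IsScalarTower.of_algebraMap_eq fun t => by
    rw [Algebra.TensorProduct.algebraMap_apply, ← IsScalarTower.algebraMap_apply T E₁ B,
      IsScalarTower.algebraMap_apply T B (B ⊗[E₁] E₂)]
    rfl
  let gP : B ⊗[T] P₀ →ₐ[B] B ⊗[E₁] E₂ :=
    Algebra.TensorProduct.lift (Algebra.ofId B _)
      (((Algebra.TensorProduct.includeRight : E₂ →ₐ[E₁] B ⊗[E₁] E₂).comp g₂').restrictScalars T
        |>.comp Algebra.TensorProduct.includeRight)
      fun _ _ => Commute.all _ _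
  refine ⟨B ⊗[E₁] E₂, inferInstance, inferInstance, inferInstance, gP.comp e.symm.toAlgHom,
    Algebra.TensorProduct.lift (Algebra.ofId B C) k₂' (fun _ _ => Commute.all _ _), ?_⟩
  refine (AlgHom.cancel_right (f := e.toAlgHom) e.surjective).1 ?_
  refine Algebra.TensorProduct.ext (Subsingleton.elim _ _) (AlgHom.ext fun p => ?_)
  have h1 := DFunLike.congr_fun hgk₂ (1 ⊗ₜ p)
  simp only [AlgHom.comp_apply, AlgHom.restrictScalars_apply] at h1
  simp [gP, f₁, f₀, g₂', k₂'] at h1 ⊢
  exact h1

/-- Ind-etale algebras are stable under composition. -/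
theorem isIndEtale_trans {C : Type u} [CommRing C] [Algebra B C] [Algebra A C]
    [IsScalarTower A B C] (hAB : EtPBC.IsIndEtale A B) (hBC : EtPBC.IsIndEtale B C) :
    EtPBC.IsIndEtale A C := isIndEtale_of_factors fun P _ _ _ f => by
  classical
  obtain ⟨E, _, _, _, gE, hE, hghE⟩ := factors_of_isIndEtale hBC (B ⊗[A] P)
    (Algebra.TensorProduct.lift (Algebra.ofId B C) f fun _ _ => Commute.all _ _)
  letI : Algebra A E := ((algebraMap B E).comp (algebraMap A B)).toAlgebra
  haveI : IsScalarTower A B E := IsScalarTower.of_algebraMap_eq fun _ => rfl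
  suffices hAE : EtPBC.IsIndEtale A E by
    obtain ⟨E₃, i₁, i₂, i₃, u, v, huv⟩ := factors_of_isIndEtale hAE P
      ((gE.restrictScalars A).comp Algebra.TensorProduct.includeRight)
    refine ⟨E₃, i₁, i₂, i₃, u, (hE.restrictScalars A).comp v, AlgHom.ext fun x => ?_⟩
    have h1 := DFunLike.congr_fun hghE (1 ⊗ₜ x)
    have h2 := DFunLike.congr_fun huv x
    simp only [AlgHom.comp_apply, AlgHom.restrictScalars_apply,
      Algebra.TensorProduct.includeRight_apply] at h2
    simp only [AlgHom.comp_apply, AlgHom.restrictScalars_apply, h2]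
    simpa using h1
  obtain ⟨T, E₀, _, _, hT, _, ⟨e⟩⟩ := Algebra.Etale.exists_subalgebra_fg (R := ℤ) (A := B) (B := E)
  obtain ⟨E₁, _, _, _, g, k, hk⟩ := exists_etale_lift hAB T hT
  letI : Algebra T E₁ := g.toAlgebra
  letI : Algebra E₁ B := k.toRingHom.toAlgebra
  haveI : IsScalarTower A E₁ B := IsScalarTower.of_algebraMap_eq fun a => (k.commutes a).symm
  haveI : IsScalarTower T E₁ B := IsScalarTower.of_algebraMap_eq fun t => (hk t).symm
  haveI : SMulCommClass T A E₁ := ⟨fun a b x => by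
    simp only [Algebra.smul_def]; ring⟩
  haveI : SMulCommClass A T E₁ := SMulCommClass.symm _ _ _
  let F := E₁ ⊗[T] E₀
  haveI : Algebra.Etale A F := Algebra.Etale.comp A E₁ F
  have h1 : EtPBC.IsIndEtale F (F ⊗[E₁] B) :=
    isIndEtale_baseChange F (isIndEtale_cancel (isIndEtale_of_etale (A := A) (B := E₁)) hAB)
  have h2 : EtPBC.IsIndEtale A (F ⊗[E₁] B) := isIndEtale_of_etale_comp h1
  let e₁ : F ⊗[E₁] B ≃+* E :=
    ((Algebra.TensorProduct.comm E₁ F B).toRingEquiv.trans
      (Algebra.TensorProduct.cancelBaseChange T E₁ B B E₀).toRingEquiv).trans e.symm.toRingEquiv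
  refine isIndEtale_of_algEquiv (AlgEquiv.ofRingEquiv (f := e₁) fun a => ?_) h2
  show e₁ (algebraMap A (E₁ ⊗[T] E₀) a ⊗ₜ[E₁] 1) = algebraMap B E (algebraMap A B a)
  rw [← e.symm.commutes, IsScalarTower.algebraMap_apply A E₁ B]
  simp [e₁, Algebra.TensorProduct.algebraMap_apply, Algebra.smul_def,
    IsScalarTower.algebraMap_apply A E₁ B]
  erw [Algebra.TensorProduct.cancelBaseChange_tmul]
  rw [Algebra.smul_def, mul_one]

end Groth.Agent.H1CAlg.IndEtale

namespace Groth.Agent.H1CAlg.IndEtale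

universe v

open scoped TensorProduct

/-- Ind-etale algebras are flat. -/
theorem flat_of_isIndEtale {A B : Type v} [CommRing A] [CommRing B] [Algebra A B]
    (h : EtPBC.IsIndEtale A B) : Module.Flat A B := by
  refine Module.Flat.iff_forall_isTrivialRelation.mpr fun {l} a x hax => ?_
  let r : MvPolynomial (Fin l) A := ∑ i, a i • MvPolynomial.X i
  let I : Ideal (MvPolynomial (Fin l) A) := Ideal.span {r}
  haveI : Algebra.FinitePresentation A (MvPolynomial (Fin l) A ⧸ I) :=
    Algebra.FinitePresentation.quotient (Submodule.fg_span_singleton r)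
  let f : (MvPolynomial (Fin l) A ⧸ I) →ₐ[A] B :=
    Ideal.Quotient.liftₐ I (MvPolynomial.aeval x) fun p hp => by
      obtain ⟨c, rfl⟩ := Ideal.mem_span_singleton'.1 hp
      have hr : MvPolynomial.aeval x r = 0 := by
        simp only [r, map_sum, map_smul, MvPolynomial.aeval_X]
        exact hax
      rw [map_mul, hr, mul_zero]
  obtain ⟨E, _, _, _, g, k, hgk⟩ := factors_of_isIndEtale h _ f
  let y : Fin l → E := fun i => g (Ideal.Quotient.mk I (MvPolynomial.X i))
  have hy : ∑ i, a i • y i = 0 := by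
    have h0 : Ideal.Quotient.mkₐ A I r = 0 :=
      Ideal.Quotient.eq_zero_iff_mem.2 (Ideal.mem_span_singleton_self r)
    have h1 := congrArg g h0
    simp only [r, map_sum, map_smul, map_zero, Ideal.Quotient.mkₐ_eq_mk] at h1
    exact h1
  obtain ⟨κ, c, z, hc, hca⟩ :=
    Module.Flat.iff_forall_isTrivialRelation.mp (inferInstance : Module.Flat A E) hy
  refine ⟨κ, c, fun j => k (z j), fun i => ?_, hca⟩
  have h2 : k (y i) = x i := by
    have := DFunLike.congr_fun hgk (Ideal.Quotient.mk I (MvPolynomial.X i))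
    simpa [f, y] using this
  rw [← h2, hc i, map_sum]
  simp only [map_smul]

/-- Ind-etale algebras are weakly etale. -/
theorem weaklyEtale_of_isIndEtale {A B : Type v} [CommRing A] [CommRing B] [Algebra A B]
    (h : EtPBC.IsIndEtale A B) : Algebra.WeaklyEtale A B := by
  refine { flat := flat_of_isIndEtale h, flat_lmul' := ?_ }
  have h2 : EtPBC.IsIndEtale A (B ⊗[A] B) := isIndEtale_trans h (isIndEtale_baseChange B h)
  algebraize [(Algebra.TensorProduct.lmul' A (S := B)).toRingHom]
  haveI : IsScalarTower A (B ⊗[A] B) B := IsScalarTower.of_algebraMap_eq fun a =>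
    ((Algebra.TensorProduct.lmul' A (S := B)).commutes a).symm
  exact flat_of_isIndEtale (isIndEtale_cancel h2 h)

end Groth.Agent.H1CAlg.IndEtale
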