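import Groth.Agent.H1CAlg.ZarColimSplit
import Groth.Agent.H1CAlg.IndEtale
import Mathlib.RingTheory.Flat.FaithfullyFlat.Algebra
import Mathlib.RingTheory.LocalRing.ResidueField.Ideal

/-!
The colimit of pointed local isomorphisms for a family of field valued points.
-/

namespace Groth.Agent.H1CAlg.Zar

universe u

variable {A : Type u} [CommRing A]

theorem isIndEtale_of_isIndZariski {B : Type u} [CommRing B] [Algebra A B]
    (h : EtPBC.IsIndZariski A B) : EtPBC.IsIndEtale A B := by
  obtain ⟨J, i₁, i₂, D, c, hc, hD, e⟩ := h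
  refine ⟨J, i₁, i₂, D, c, hc, fun j => ?_, e⟩
  letI := (D.obj j).hom.hom.toAlgebra
  haveI := hD j
  exact etale_of_isLocalIso

/-- The point of `H` attached to the `i`-th coordinate. -/
def pointOf {ι : Type*} {K : ι → Type u} [∀ i, Field (K i)] [∀ i, Algebra A (K i)] {H : Type u}
    [CommRing H] [Algebra A H] (π : H →ₐ[A] (∀ i, K i)) (i : ι) :
    PrimeSpectrum.zeroLocus (RingHom.ker π : Set H) :=
  ⟨⟨RingHom.ker ((Pi.evalAlgHom A K i).comp π), RingHom.ker_isPrime _⟩, fun x hx => by
    show π x i = 0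
    rw [show π x = 0 from hx]
    rfl⟩

/-- If the points are dense and all indicators lift, the space of components is extremally
disconnected. -/
theorem extremallyDisconnected_of_pi {ι : Type*} {K : ι → Type u} [∀ i, Field (K i)]
    [∀ i, Algebra A (K i)] {H : Type u} [CommRing H] [Algebra A H] (π : H →ₐ[A] (∀ i, K i))
    (h : WLoc.Split H (RingHom.ker π))
    (hidem : ∀ e : (∀ i, K i), IsIdempotentElem e → ∃ ε : H, IsIdempotentElem ε ∧ π ε = e) :
    ExtremallyDisconnected (ConnectedComponents (PrimeSpectrum H)) := by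
  classical
  refine h.extremallyDisconnected (pointOf π)
    (fun g hg => Ideal.le_radical (funext fun i => hg i)) fun S => ?_
  obtain ⟨ε, hε, hεe⟩ := hidem (fun i => if i ∈ S then 1 else 0) (funext fun i => by
    show (if i ∈ S then (1 : K i) else 0) * (if i ∈ S then 1 else 0) = if i ∈ S then 1 else 0
    split_ifs <;> simp)
  refine ⟨ε, hε, fun i => ?_⟩
  show π ε i = 0 ↔ i ∉ S
  rw [hεe]
  dsimp only
  split_ifs with hS <;> simp [hS]

/-- If the points surject onto the spectrum of `A`, so do the closed points. -/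
theorem image_closedPoints_eq_univ {ι : Type*} {K : ι → Type u} [∀ i, Field (K i)]
    [∀ i, Algebra A (K i)] {H : Type u} [CommRing H] [Algebra A H] (π : H →ₐ[A] (∀ i, K i))
    (h : WLoc.Split H (RingHom.ker π))
    (hK : ∀ p : PrimeSpectrum A, ∃ i, RingHom.ker (algebraMap A (K i)) = p.asIdeal) :
    PrimeSpectrum.comap (algebraMap A H) '' ProEtW.closedPoints (PrimeSpectrum H) = Set.univ := by
  rw [Set.eq_univ_iff_forall]
  intro p
  obtain ⟨i, hi⟩ := hK p
  refine ⟨(pointOf π i).1, by rw [h.closedPoints_eq]; exact (pointOf π i).2, PrimeSpectrum.ext ?_⟩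
  refine (Ideal.ext fun a => ?_).trans hi
  show π (algebraMap A H a) i = 0 ↔ algebraMap A (K i) a = 0
  rw [π.commutes]
  rfl

theorem faithfullyFlat_of_image_closedPoints {H : Type u} [CommRing H] [Algebra A H]
    [Module.Flat A H]
    (h : PrimeSpectrum.comap (algebraMap A H) '' ProEtW.closedPoints (PrimeSpectrum H) = Set.univ) :
    Module.FaithfullyFlat A H := by
  refine Module.FaithfullyFlat.of_comap_surjective fun p => ?_
  obtain ⟨q, -, hq⟩ := h.ge (Set.mem_univ p)
  exact ⟨q, hq⟩

theorem isSpectralMap_comap {R S : Type u} [CommRing R] [CommRing S] (f : R →+* S) :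
    IsSpectralMap (PrimeSpectrum.comap f) := by
  classical
  refine ⟨PrimeSpectrum.continuous_comap f, fun s hs hc => ?_⟩
  obtain ⟨T, rfl⟩ := PrimeSpectrum.isCompact_isOpen_iff.1 ⟨hc, hs⟩
  refine (PrimeSpectrum.isCompact_isOpen_iff.2 ⟨T.image f, ?_⟩).1
  rw [Set.preimage_compl, PrimeSpectrum.preimage_comap_zeroLocus, Finset.coe_image]

end Groth.Agent.H1CAlg.Zar
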