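import Groth.Agent.H1CAlg.ZarColimSplit

/-!
The colimit of pointed local isomorphisms of a quotient: the kernel of the point is the extended
ideal.
-/

namespace Groth.Agent.H1CAlg.Zar

universe u

open TensorProduct

variable {A : Type u} [CommRing A] {I : Ideal A}

/-- If `s` vanishes at the point, it lies in `I S` after multiplying by an element invertible at
the point. -/
theorem exists_mul_mem_map {S : Type u} [CommRing S] [Algebra A S]
    [Algebra.FormallyUnramified A S] [Algebra.EssFiniteType A S] (σ : S →ₐ[A] A ⧸ I) (s : S)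
    (hs : σ s = 0) : ∃ t : S, σ t = 1 ∧ s * t ∈ I.map (algebraMap A S) := by
  obtain ⟨t, ht, ht1⟩ := Algebra.FormallyUnramified.iff_exists_tensorProduct.mp
    (inferInstance : Algebra.FormallyUnramified A S)
  let q : S →ₐ[A] S ⧸ I.map (algebraMap A S) := Ideal.Quotient.mkₐ A _
  let r : (A ⧸ I) →ₐ[A] S ⧸ I.map (algebraMap A S) :=
    Ideal.Quotient.liftₐ I (Algebra.ofId A _) fun a ha =>
      Ideal.Quotient.eq_zero_iff_mem.2 (Ideal.mem_map_of_mem _ ha)
  let L : S ⊗[A] S →ₐ[A] S ⧸ I.map (algebraMap A S) :=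
    Algebra.TensorProduct.lift q (r.comp σ) fun _ _ => Commute.all _ _
  obtain ⟨T, hT⟩ := Ideal.Quotient.mk_surjective (L t)
  refine ⟨T, ?_, ?_⟩
  · let σq : (S ⧸ I.map (algebraMap A S)) →ₐ[A] A ⧸ I :=
      Ideal.Quotient.liftₐ _ σ fun a ha => by
        have h1 := Ideal.mem_map_of_mem σ.toRingHom ha
        rw [Ideal.map_map, show σ.toRingHom.comp (algebraMap A S) = algebraMap A (A ⧸ I) from
          σ.comp_algebraMap, Ideal.Quotient.algebraMap_eq, Ideal.map_quotient_self] at h1
        exact h1
    have hr : σq.comp r = AlgHom.id A (A ⧸ I) := AlgHom.ext fun x => by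
      obtain ⟨a, rfl⟩ := Ideal.Quotient.mk_surjective x
      exact σ.commutes a
    have hL : σq.comp L = σ.comp (Algebra.TensorProduct.lmul' A) :=
      Algebra.TensorProduct.ext' fun a b => by
        have hb : σq (r (σ b)) = σ b := DFunLike.congr_fun hr (σ b)
        show σq (q a * r (σ b)) = σ (a * b)
        rw [map_mul, map_mul, hb]
        rfl
    have h1 := DFunLike.congr_fun hL t
    simp only [AlgHom.comp_apply, ht1, map_one, ← hT] at h1
    exact h1
  · have h := congrArg L (ht s)
    simp only [map_mul, map_sub, map_zero, L, Algebra.TensorProduct.lift_tmul,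
      AlgHom.comp_apply, hs, map_one, mul_one, one_mul, zero_sub, sub_zero] at h
    rw [← Ideal.Quotient.eq_zero_iff_mem, map_mul, hT]
    simpa [q] using h

theorem IsZarColim.surjective_quotient {H : Type u} [CommRing H] [Algebra A H]
    (π : H →ₐ[A] A ⧸ I) : Function.Surjective π := fun x => by
  obtain ⟨a, rfl⟩ := Ideal.Quotient.mk_surjective x
  exact ⟨algebraMap A H a, π.commutes a⟩

theorem IsZarColim.ker_quotient {H : Type u} [CommRing H] [Algebra A H] {π : H →ₐ[A] A ⧸ I}
    (hH : IsZarColim π) : RingHom.ker π = I.map (algebraMap A H) := by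
  refine le_antisymm (fun x hx => ?_) (Ideal.map_le_iff_le_comap.2 fun a ha => ?_)
  · obtain ⟨S, _, _, _, φ, s, rfl⟩ := hH.exists_rep x
    haveI : Algebra.Etale A S := etale_of_isLocalIso
    obtain ⟨t, ht, hst⟩ := exists_mul_mem_map (π.comp φ) s hx
    have hu : IsUnit (φ t) := hH.isUnit_of_isUnit (by
      rw [show π (φ t) = 1 from ht]; exact isUnit_one)
    have h1 := Ideal.mem_map_of_mem φ.toRingHom hst
    rw [Ideal.map_map, show φ.toRingHom.comp (algebraMap A S) = algebraMap A H from
      φ.comp_algebraMap] at h1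
    exact (Ideal.mul_unit_mem_iff_mem _ hu).1 (by simpa using h1)
  · rw [Ideal.mem_comap, RingHom.mem_ker, π.commutes]
    exact Ideal.Quotient.eq_zero_iff_mem.2 ha

end Groth.Agent.H1CAlg.Zar
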