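import Groth.Agent.H1CAlg.IndEtale
import Groth.Agent.H1CAlg.ZarColimQuot

/-!
Local rings of ind-Zariski algebras, a bijectivity criterion for maps identifying local rings, and
lifting of points of local isomorphisms over w-local rings.
-/

namespace Groth.Agent.H1CAlg.Zar

universe u

variable {A : Type u} [CommRing A]

/-- Elements of a local isomorphism are fractions near any prime. -/
theorem exists_frac {E : Type u} [CommRing E] [Algebra A E] [Algebra.IsLocalIso A E] (q : Ideal E)
    [q.IsPrime] (d : E) :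
    ∃ (c s : A) (g : E), algebraMap A E s ∉ q ∧ g ∉ q ∧
      g * (d * algebraMap A E s - algebraMap A E c) = 0 := by
  obtain ⟨g, hg, hsoi⟩ := Algebra.IsLocalIso.exists_notMem_isStandardOpenImmersion (R := A) q
  obtain ⟨r, hr⟩ := hsoi.exists_away
  let L := Localization.Away g
  obtain ⟨⟨c, ⟨_, n, rfl⟩⟩, hc⟩ := IsLocalization.surj (Submonoid.powers r) (algebraMap E L d)
  rw [IsScalarTower.algebraMap_apply A E L, IsScalarTower.algebraMap_apply A E L, ← map_mul] at hc
  obtain ⟨⟨_, N, rfl⟩, hN⟩ := IsLocalization.exists_of_eq (M := Submonoid.powers g) hc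
  refine ⟨c, r ^ n, g ^ N, fun hmem => ?_, fun h => hg (‹q.IsPrime›.mem_of_pow_mem N h), ?_⟩
  · have hdis : Disjoint (Submonoid.powers g : Set E) (q : Set E) := by
      rw [Set.disjoint_left]
      rintro _ ⟨k, rfl⟩ hk
      exact hg (‹q.IsPrime›.mem_of_pow_mem k hk)
    haveI := IsLocalization.isPrime_of_isPrime_disjoint (Submonoid.powers g) L q ‹_› hdis
    have h1 : algebraMap E L (algebraMap A E (r ^ n)) ∈ q.map (algebraMap E L) :=
      Ideal.mem_map_of_mem _ hmem
    refine (inferInstance : (q.map (algebraMap E L)).IsPrime).ne_top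
      (Ideal.eq_top_of_isUnit_mem _ h1 ?_)
    rw [← IsScalarTower.algebraMap_apply A E L, map_pow]
    exact (IsLocalization.Away.algebraMap_isUnit (S := L) r).pow n
  · rw [mul_sub, sub_eq_zero]
    exact hN

/-- Annihilators near a prime of a local isomorphism come from the base. -/
theorem exists_annihilator {E : Type u} [CommRing E] [Algebra A E] [Algebra.IsLocalIso A E]
    (q : Ideal E) [q.IsPrime] (a : A) (τ : E) (hτ : τ ∉ q) (h : τ * algebraMap A E a = 0) :
    ∃ s : A, algebraMap A E s ∉ q ∧ s * a = 0 := by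
  obtain ⟨g, hg, hsoi⟩ := Algebra.IsLocalIso.exists_notMem_isStandardOpenImmersion (R := A) q
  obtain ⟨r, hr⟩ := hsoi.exists_away
  let L := Localization.Away g
  have hdis : Disjoint (Submonoid.powers g : Set E) (q : Set E) := by
    rw [Set.disjoint_left]
    rintro _ ⟨k, rfl⟩ hk
    exact hg (‹q.IsPrime›.mem_of_pow_mem k hk)
  haveI := IsLocalization.isPrime_of_isPrime_disjoint (Submonoid.powers g) L q ‹_› hdis
  have hcomap : (q.map (algebraMap E L)).comap (algebraMap E L) = q :=
    IsLocalization.under_map_of_isPrime_disjoint (Submonoid.powers g) L ‹_› hdis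
  have hru : ∀ n : ℕ, IsUnit (algebraMap A L (r ^ n)) := fun n => by
    rw [map_pow]
    exact (IsLocalization.Away.algebraMap_isUnit (S := L) r).pow n
  obtain ⟨⟨c, ⟨_, n, rfl⟩⟩, hc⟩ := IsLocalization.surj (Submonoid.powers r) (algebraMap E L τ)
  have h0 : algebraMap A L (c * a) = algebraMap A L 0 := by
    rw [map_zero, map_mul, ← hc, mul_right_comm, IsScalarTower.algebraMap_apply A E L a, ← map_mul,
      h, map_zero, zero_mul]
  obtain ⟨⟨_, N, rfl⟩, hN⟩ := IsLocalization.exists_of_eq (M := Submonoid.powers r) h0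
  refine ⟨r ^ N * c, fun hmem => ?_, by rw [mul_assoc]; simpa using hN⟩
  have h1 : algebraMap E L (algebraMap A E (r ^ N * c)) ∈ q.map (algebraMap E L) :=
    Ideal.mem_map_of_mem _ hmem
  rw [← IsScalarTower.algebraMap_apply A E L, map_mul, ← hc] at h1
  have h2 : algebraMap E L τ ∈ q.map (algebraMap E L) := by
    rw [← mul_assoc] at h1
    exact (Ideal.unit_mul_mem_iff_mem _ (hru N)).1 ((Ideal.mul_unit_mem_iff_mem _ (hru n)).1 h1)
  exact hτ (hcomap.le h2)

/-- A map from a finitely presented algebra to an ind-Zariski algebra factors through a local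
isomorphism. -/
theorem exists_factor_of_isIndZariski {B : Type u} [CommRing B] [Algebra A B]
    (h : EtPBC.IsIndZariski A B) (P : Type u) [CommRing P] [Algebra A P]
    [Algebra.FinitePresentation A P] (f : P →ₐ[A] B) :
    ∃ (E : Type u) (_ : CommRing E) (_ : Algebra A E) (_ : Algebra.IsLocalIso A E)
      (g : P →ₐ[A] E) (k : E →ₐ[A] B), k.comp g = f := by
  obtain ⟨J, _, _, D, c, hc, hD, ⟨e⟩⟩ := h
  obtain ⟨j, g, k, hgk⟩ := IndEtale.exists_factor_of_isColimit D c hc e P f
  exact ⟨(D.obj j).right, inferInstance, (D.obj j).hom.hom.toAlgebra, hD j, g, k, hgk⟩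

/-- Ind-Zariski algebras identify local rings. -/
theorem identifiesLocalRings_of_isIndZariski {B : Type u} [CommRing B] [Algebra A B]
    (h : EtPBC.IsIndZariski A B) : EtPBC.IdentifiesLocalRings A B := by
  intro q
  let p := q.asIdeal.comap (algebraMap A B)
  refine ⟨(injective_iff_map_eq_zero _).2 fun z hz => ?_, fun z => ?_⟩
  · obtain ⟨a, s, rfl⟩ := IsLocalization.exists_mk'_eq p.primeCompl z
    rw [Localization.localRingHom_mk', IsLocalization.mk'_eq_zero_iff] at hz
    obtain ⟨⟨t, ht⟩, hta⟩ := hz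
    let P := Polynomial A ⧸ Ideal.span {Polynomial.C a * Polynomial.X}
    haveI : Algebra.FinitePresentation A P :=
      Algebra.FinitePresentation.quotient (Submodule.fg_span_singleton _)
    let f : P →ₐ[A] B := Ideal.Quotient.liftₐ _ (Polynomial.aeval t) fun w hw => by
      obtain ⟨c, rfl⟩ := Ideal.mem_span_singleton'.1 hw
      rw [map_mul, map_mul, Polynomial.aeval_C, Polynomial.aeval_X, mul_comm (algebraMap A B a) t,
        hta, mul_zero]
    obtain ⟨E, _, _, _, g, k, hgk⟩ := exists_factor_of_isIndZariski h P f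
    let τ : E := g (Ideal.Quotient.mk _ Polynomial.X)
    have hτ : k τ = t := (DFunLike.congr_fun hgk _).trans (Polynomial.aeval_X t)
    have hτa : τ * algebraMap A E a = 0 := by
      have h0 : (Ideal.Quotient.mk (Ideal.span {Polynomial.C a * Polynomial.X}))
          (Polynomial.C a * Polynomial.X) = 0 :=
        Ideal.Quotient.eq_zero_iff_mem.2 (Ideal.mem_span_singleton_self _)
      have h1 := congrArg g h0
      rw [map_mul, map_mul, map_zero, mul_comm] at h1
      rw [← g.commutes a]
      exact h1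
    haveI : (q.asIdeal.comap k.toRingHom).IsPrime := Ideal.comap_isPrime _ _
    obtain ⟨s', hs', hsa⟩ := exists_annihilator (A := A) (E := E) (q.asIdeal.comap k.toRingHom) a τ
      (fun hmem => ht (hτ ▸ hmem : t ∈ q.asIdeal)) hτa
    rw [IsLocalization.mk'_eq_zero_iff]
    refine ⟨⟨s', fun hmem => hs' ?_⟩, hsa⟩
    show k (algebraMap A E s') ∈ q.asIdeal
    rw [k.commutes]
    exact hmem
  · obtain ⟨d, ⟨t, ht⟩, rfl⟩ := IsLocalization.exists_mk'_eq q.asIdeal.primeCompl z
    obtain ⟨E, _, _, _, g, k, hgk⟩ := exists_factor_of_isIndZariski h (MvPolynomial (Fin 2) A)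
      (MvPolynomial.aeval ![d, t])
    have hd : k (g (MvPolynomial.X 0)) = d :=
      (DFunLike.congr_fun hgk _).trans (MvPolynomial.aeval_X _ _)
    have ht' : k (g (MvPolynomial.X 1)) = t :=
      (DFunLike.congr_fun hgk _).trans (MvPolynomial.aeval_X _ _)
    let qE := q.asIdeal.comap k.toRingHom
    haveI : qE.IsPrime := Ideal.comap_isPrime _ _
    obtain ⟨c₁, s₁, g₁, hs₁, hg₁, h₁⟩ := exists_frac (A := A) qE (g (MvPolynomial.X 0))
    obtain ⟨c₂, s₂, g₂, hs₂, hg₂, h₂⟩ := exists_frac (A := A) qE (g (MvPolynomial.X 1))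
    have h₁' := congrArg k h₁
    have h₂' := congrArg k h₂
    rw [map_mul, map_sub, map_mul, k.commutes, k.commutes, map_zero, hd] at h₁'
    rw [map_mul, map_sub, map_mul, k.commutes, k.commutes, map_zero, ht'] at h₂'
    have hmem : ∀ x : E, x ∉ qE → k x ∉ q.asIdeal := fun x hx => hx
    have hs₁' : algebraMap A B s₁ ∉ q.asIdeal := k.commutes s₁ ▸ hmem _ hs₁
    have hs₂' : algebraMap A B s₂ ∉ q.asIdeal := k.commutes s₂ ▸ hmem _ hs₂
    have hc₂ : algebraMap A B c₂ ∉ q.asIdeal := fun hc => by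
      have h3 : k g₂ * (t * algebraMap A B s₂) ∈ q.asIdeal := by
        rw [show k g₂ * (t * algebraMap A B s₂) = k g₂ * algebraMap A B c₂ by linear_combination h₂']
        exact q.asIdeal.mul_mem_left _ hc
      rcases q.isPrime.mem_or_mem h3 with h4 | h4
      · exact hmem _ hg₂ h4
      · exact (q.isPrime.mem_or_mem h4).elim ht hs₂'
    refine ⟨IsLocalization.mk' _ (c₁ * s₂)
      (⟨s₁ * c₂, ?_⟩ : (q.asIdeal.comap (algebraMap A B)).primeCompl), ?_⟩
    · show algebraMap A B (s₁ * c₂) ∉ q.asIdeal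
      rw [map_mul]
      exact fun h3 => (q.isPrime.mem_or_mem h3).elim hs₁' hc₂
    · rw [Localization.localRingHom_mk', IsLocalization.mk'_eq_iff_eq, IsLocalization.eq_iff_exists
        q.asIdeal.primeCompl]
      refine ⟨⟨k g₁ * k g₂, fun h3 => (q.isPrime.mem_or_mem h3).elim (hmem _ hg₁) (hmem _ hg₂)⟩, ?_⟩
      show k g₁ * k g₂ * (t * algebraMap A B (c₁ * s₂)) =
        k g₁ * k g₂ * (algebraMap A B (s₁ * c₂) * d)
      rw [map_mul, map_mul]
      linear_combination (algebraMap A B s₁ * d * k g₁) * h₂' -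
        (t * algebraMap A B s₂ * k g₂) * h₁'

/-- A map identifying local rings is bijective if over every maximal ideal there is exactly one
maximal ideal containing all the primes lying below it. -/
theorem bijective_of_identifiesLocalRings {B : Type u} [CommRing B] [Algebra A B]
    (h : EtPBC.IdentifiesLocalRings A B)
    (hb : ∀ m : Ideal A, m.IsMaximal → ∃ n : Ideal B, n.IsPrime ∧ n.comap (algebraMap A B) = m ∧
      ∀ q : Ideal B, q.IsPrime → q.comap (algebraMap A B) ≤ m → q ≤ n) :
    Function.Bijective (algebraMap A B) := by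
  constructor
  · refine (injective_iff_map_eq_zero _).2 fun a ha => ?_
    let I : Ideal A := (Ideal.span {a}).annihilator
    by_contra hne
    have hI : I ≠ ⊤ := fun hI => hne (by
      have h1 : (1 : A) ∈ I := hI ▸ Submodule.mem_top
      simpa [I, Submodule.mem_annihilator_span_singleton] using h1)
    obtain ⟨m, hm, hle⟩ := Ideal.exists_le_maximal I hI
    obtain ⟨n, hn, hnm, -⟩ := hb m hm
    have h1 : Localization.localRingHom (n.comap (algebraMap A B)) n (algebraMap A B) rfl
        (algebraMap A _ a) = 0 := by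
      rw [Localization.localRingHom_to_map, ha, map_zero]
    have h2 := (h ⟨n, hn⟩).1 (h1.trans (map_zero _).symm)
    rw [← map_zero (algebraMap A (Localization.AtPrime (n.comap (algebraMap A B))))] at h2
    obtain ⟨⟨s, hs⟩, hsa⟩ :=
      IsLocalization.exists_of_eq (M := (n.comap (algebraMap A B)).primeCompl) h2
    refine hs (hnm.symm ▸ hle ?_)
    rw [Submodule.mem_annihilator_span_singleton, smul_eq_mul]
    simpa using hsa
  · intro b
    let I : Ideal A := ((LinearMap.range (Algebra.linearMap A B)).comap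
      (LinearMap.toSpanSingleton A B b))
    suffices hI : I = ⊤ by
      have h1 : (1 : A) ∈ I := hI ▸ Submodule.mem_top
      obtain ⟨a, ha⟩ := h1
      exact ⟨a, by simpa using ha⟩
    by_contra hI
    obtain ⟨m, hm, hle⟩ := Ideal.exists_le_maximal I hI
    obtain ⟨n, hn, hnm, hq⟩ := hb m hm
    obtain ⟨z, hz⟩ := (h ⟨n, hn⟩).2 (algebraMap B _ b)
    obtain ⟨c, ⟨s, hs⟩, rfl⟩ := IsLocalization.exists_mk'_eq (n.comap (algebraMap A B)).primeCompl z
    rw [Localization.localRingHom_mk', IsLocalization.mk'_eq_iff_eq_mul, ← map_mul] at hz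
    obtain ⟨⟨t, ht⟩, hts⟩ := IsLocalization.exists_of_eq (M := n.primeCompl) hz
    -- a multiple of `t` comes from outside `m`
    obtain ⟨y, hy⟩ : ∃ y : B, ∃ s' : A, s' ∉ m ∧ t * y = algebraMap A B s' := by
      haveI := hm.isPrime
      by_contra! hne
      have hdis : Disjoint ((Ideal.span {t} : Ideal B) : Set B)
          (m.primeCompl.map (algebraMap A B) : Set B) := by
        rw [Set.disjoint_left]
        rintro _ hmem ⟨s', hs', rfl⟩
        obtain ⟨y, hy⟩ := Ideal.mem_span_singleton'.1 hmem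
        exact hne y s' hs' (by rw [mul_comm]; exact hy)
      obtain ⟨q, hqp, htq, hqd⟩ := Ideal.exists_le_prime_disjoint _ _ hdis
      refine ht (hq q hqp (fun a ha => ?_) (htq (Ideal.mem_span_singleton_self t)))
      by_contra ham
      exact Set.disjoint_left.1 hqd ha ⟨a, ham, rfl⟩
    obtain ⟨s', hs', hy⟩ := hy
    refine ((hm.isPrime.mem_or_mem (x := s') (y := s) (hle ?_)).elim hs'
      (fun h' => hs (hnm.symm ▸ h')))
    refine ⟨s' * c, ?_⟩
    show algebraMap A B (s' * c) = (s' * s) • b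
    rw [Algebra.smul_def, map_mul, map_mul, ← hy]
    linear_combination y * hts

/-- Over a w-local ring with ideal `J` of closed points, the colimit of pointed local isomorphisms
at `A ⧸ J` is trivial. -/
theorem bijective_zarColim {J : Ideal A} (hS : WLoc.Split A J) {H : Type u} [CommRing H]
    [Algebra A H] {π : H →ₐ[A] A ⧸ J} (hH : IsZarColim π) :
    Function.Bijective (algebraMap A H) := by
  have hmax : ∀ p : Ideal (A ⧸ J), p.IsPrime → p.IsMaximal := fun p hp => by
    haveI := hp
    haveI : (p.comap (Ideal.Quotient.mk J)).IsPrime := Ideal.comap_isPrime _ _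
    have h1 : (p.comap (Ideal.Quotient.mk J)).IsMaximal := hS.isMaximal_of_le fun a ha => by
      rw [Ideal.mem_comap, Ideal.Quotient.eq_zero_iff_mem.2 ha]
      exact p.zero_mem
    haveI := h1
    rw [← Ideal.map_comap_of_surjective _ Ideal.Quotient.mk_surjective p]
    refine Ideal.IsMaximal.map_of_surjective_of_ker_le Ideal.Quotient.mk_surjective ?_
    intro a ha
    rw [Ideal.mem_comap, RingHom.mem_ker.1 ha]
    exact p.zero_mem
  have hSH := hH.split fun x => exists_unit_idem_of_isMaximal hmax (π x)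
  have hk := hH.ker_quotient
  refine bijective_of_identifiesLocalRings (identifiesLocalRings_of_isIndZariski hH.isIndZariski)
    fun m hm => ?_
  have hJm := hS.le_of_isMaximal hm
  let ρ : H →+* A ⧸ m := (Ideal.Quotient.factor hJm).comp π.toRingHom
  haveI := hm.isPrime
  have hρ : ∀ a, ρ (algebraMap A H a) = Ideal.Quotient.mk m a := fun a => by
    show Ideal.Quotient.factor hJm (π (algebraMap A H a)) = _
    rw [π.commutes]
    exact Ideal.Quotient.factor_mk hJm a
  have hnm : (RingHom.ker ρ).comap (algebraMap A H) = m := Ideal.ext fun a => by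
    rw [Ideal.mem_comap, RingHom.mem_ker, hρ, Ideal.Quotient.eq_zero_iff_mem]
  refine ⟨RingHom.ker ρ, RingHom.ker_isPrime _, hnm, fun q hq hqm => ?_⟩
  haveI := hq
  obtain ⟨n', hn', hle⟩ := Ideal.exists_le_maximal q hq.ne_top
  haveI := hn'.isPrime
  have h2 : J ≤ n'.comap (algebraMap A H) := fun a ha =>
    hSH.le_of_isMaximal hn' (by rw [hk]; exact Ideal.mem_map_of_mem _ ha)
  have h3 : n'.comap (algebraMap A H) = m :=
    hS.eq_of_le_of_le (q := q.comap (algebraMap A H)) (hS.isMaximal_of_le h2) hm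
      (Ideal.comap_mono hle) hqm
  refine hle.trans fun x hx => ?_
  obtain ⟨a, ha⟩ := Ideal.Quotient.mk_surjective (π x)
  show Ideal.Quotient.factor hJm (π x) = 0
  rw [← ha, Ideal.Quotient.factor_mk, Ideal.Quotient.eq_zero_iff_mem, ← h3]
  have h4 : x - algebraMap A H a ∈ n' := hSH.le_of_isMaximal hn' (by
    rw [RingHom.mem_ker, map_sub, π.commutes, sub_eq_zero]
    exact ha.symm)
  show algebraMap A H a ∈ n'
  simpa using n'.sub_mem hx h4

/-- Points of local isomorphisms in the closed points of a w-local ring lift uniquely. -/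
theorem existsUnique_algHom_lift_rel {B : Type u} [CommRing B] [Algebra A B] {J : Ideal B}
    (hS : WLoc.Split B J) {E : Type u} [CommRing E] [Algebra A E] [Algebra.IsLocalIso A E]
    (σ : E →ₐ[A] B ⧸ J) :
    ∃! τ : E →ₐ[A] B, (Ideal.Quotient.mkₐ A J).comp τ = σ := by
  obtain ⟨H, _, _, π, hH⟩ := exists_isZarColim (A := B) (k := B ⧸ J)
  obtain ⟨φ, hφ⟩ := hH.exists_map (TensorProduct A B E)
    (Algebra.TensorProduct.lift (Algebra.ofId B (B ⧸ J)) σ fun _ _ => Commute.all _ _)
  let e : B ≃ₐ[B] H := AlgEquiv.ofBijective (Algebra.ofId B H) (bijective_zarColim hS hH)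
  refine ⟨((e.symm.toAlgHom.comp φ).restrictScalars A).comp Algebra.TensorProduct.includeRight,
    AlgHom.ext fun x => ?_, fun τ hτ => ?_⟩
  · show Ideal.Quotient.mk J (e.symm (φ (1 ⊗ₜ x))) = σ x
    have h1 : π (φ (1 ⊗ₜ x)) = σ x :=
      (DFunLike.congr_fun hφ _).trans (by simp)
    have h2 : π (e (e.symm (φ (1 ⊗ₜ x)))) = σ x := by rw [e.apply_symm_apply]; exact h1
    rw [← h2]
    exact (π.commutes _).symm
  · haveI : Algebra.Etale A E := etale_of_isLocalIso
    refine H9Hens.algHom_eq_of_sub_mem hS.le_jac fun x => ?_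
    rw [← Ideal.Quotient.eq]
    refine (DFunLike.congr_fun hτ x).trans ?_
    have h1 : π (φ (1 ⊗ₜ x)) = σ x :=
      (DFunLike.congr_fun hφ _).trans (by simp)
    have h2 : π (e (e.symm (φ (1 ⊗ₜ x)))) = σ x := by rw [e.apply_symm_apply]; exact h1
    rw [← h2]
    exact π.commutes _

/-- Maps out of a colimit of pointed local isomorphisms into a w-local ring. -/
theorem IsZarColim.existsUnique_algHom {k H : Type u} [CommRing k] [Algebra A k] [CommRing H]
    [Algebra A H] {π : H →ₐ[A] k} (hH : IsZarColim π) {C : Type u} [CommRing C] [Algebra A C]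
    {J : Ideal C} (hS : WLoc.Split C J) (ρ : k →ₐ[A] C ⧸ J) :
    ∃! g : H →ₐ[A] C, (Ideal.Quotient.mkₐ A J).comp g = ρ.comp π := by
  choose F hF hFu using fun (S : Type u) [CommRing S] [Algebra A S] [Algebra.IsLocalIso A S]
    (φ : S →ₐ[A] H) => existsUnique_algHom_lift_rel hS ((ρ.comp π).comp φ)
  obtain ⟨g, hg⟩ := hH.exists_desc F fun S _ _ _ φ T _ _ _ φT ψ h => hFu S φ _ (by
    show (Ideal.Quotient.mkₐ A J).comp ((F T φT).comp ψ) = _
    rw [← AlgHom.comp_assoc, hF, AlgHom.comp_assoc, h])
  refine ⟨g, AlgHom.ext fun x => ?_, fun g' hg' => AlgHom.ext fun x => ?_⟩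
  · obtain ⟨S, _, _, _, φ, s, rfl⟩ := hH.exists_rep x
    rw [← AlgHom.comp_apply, AlgHom.comp_assoc, hg, hF]
    rfl
  · obtain ⟨S, _, _, _, φ, s, rfl⟩ := hH.exists_rep x
    rw [← AlgHom.comp_apply, ← AlgHom.comp_apply g, hg]
    exact DFunLike.congr_fun (hFu S φ _ (show (Ideal.Quotient.mkₐ A J).comp (g'.comp φ) = _ by
      rw [← AlgHom.comp_assoc, hg'])) s

end Groth.Agent.H1CAlg.Zar
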