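import Groth.Agent.H1CAlg.FlatDevissage
import Mathlib.RingTheory.Filtration
import Mathlib.RingTheory.Ideal.AssociatedPrime.Finiteness
import Mathlib.RingTheory.Localization.FractionRing
import Mathlib.RingTheory.Localization.Integer
import Mathlib.LinearAlgebra.Basis.VectorSpace
import Mathlib.LinearAlgebra.TensorProduct.RightExactness
import Mathlib.LinearAlgebra.TensorProduct.Pi

/-!
# Descent of flatness along finite injective maps of Noetherian rings (Ferrand)
-/

set_option autoImplicit false

universe u

open TensorProduct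

namespace Groth.Agent.H1CAlg.Ferrand

open Groth.Agent.H1CAlg.FlatDev

/-- A module with `X/JX` flat over `A/J`. -/
abbrev Good {A : Type u} [CommRing A] (X : Type u) [AddCommGroup X] [Module A X] (J : Ideal A) : Prop :=
  Module.Flat (A ⧸ J) ((A ⧸ J) ⊗[A] X)

variable {A : Type u} [CommRing A] {B : Type u} [CommRing B] [Algebra A B]
  {X : Type u} [AddCommGroup X] [Module A X]

theorem lTensor_injective_of_algebra [Module.Flat B (B ⊗[A] X)] {P Q : Type u}
    [AddCommGroup P] [Module A P] [Module B P] [IsScalarTower A B P]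
    [AddCommGroup Q] [Module A Q] [Module B Q] [IsScalarTower A B Q]
    (f : P →ₗ[B] Q) (hf : Function.Injective f) :
    Function.Injective ((f.restrictScalars A).lTensor X) :=
  (LinearMap.lTensor_inj_iff_rTensor_inj X _).mpr
    ((rTensor_baseChange_injective_iff f).mp (Module.Flat.rTensor_preserves_injective_linearMap f hf))

/-- Flatness descends if it holds modulo the contraction of every prime. -/
theorem flat_of_good_comap [IsNoetherianRing B] (hinj : Function.Injective (algebraMap A B))
    [Module.Flat B (B ⊗[A] X)] (h : ∀ p : Ideal B, p.IsPrime → Good X (p.comap (algebraMap A B))) :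
    Module.Flat A X := by
  obtain ⟨s, hs1, hs2⟩ := IsNoetherianRing.exists_relSeries_isQuotientEquivQuotientPrime B B
  let Ψ : Submodule B B → Prop := fun T => ∀ (U : Submodule A B) (hU : U ≤ T.restrictScalars A),
    Function.Injective ((Submodule.inclusion hU).lTensor X)
  have H : ∀ n, (hn : n < s.length + 1) → Ψ (s ⟨n, hn⟩) := by
    intro n
    induction n with
    | zero =>
      intro hn
      show Ψ s.head
      rw [hs1]
      intro U hU
      haveI : Subsingleton U := subsingleton_of_forall_eq 0 fun x => Subtype.ext (hU x.2)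
      intro a b _
      have h0 : ∀ w : X ⊗[A] U, w = 0 := fun w => by
        induction w using TensorProduct.induction_on with
        | zero => rfl
        | tmul x y => rw [Subsingleton.elim y 0, TensorProduct.tmul_zero]
        | add x y hx hy => rw [hx, hy, add_zero]
      rw [h0 a, h0 b]
    | succ n ih =>
      intro hn U hU
      have hstep := s.step ⟨n, (add_lt_add_iff_right _).1 hn⟩
      obtain ⟨x, hp, hx⟩ := Submodule.isQuotientEquivQuotientPrime_iff.mp hstep
      set T₁ := s ⟨n, (n.lt_add_one).trans hn⟩ with hT₁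
      set T₂ := s ⟨n + 1, hn⟩ with hT₂
      have hle : T₁ ≤ T₂ := le_sup_left.trans_eq hx.symm
      let p : Ideal B := (⊥ : Submodule B (B ⧸ T₁)).colon {T₁.mkQ x}
      haveI := h p hp
      let q : U →ₗ[A] B ⧸ T₁ := (T₁.mkQ.restrictScalars A) ∘ₗ U.subtype
      let Q : Submodule A (B ⧸ T₁) := (T₂.map T₁.mkQ).restrictScalars A
      have hQ : ∀ a ∈ p.comap (algebraMap A B), ∀ z : Q, a • z = 0 := by
        intro a ha z
        obtain ⟨_, y, hy, rfl⟩ := z
        refine Subtype.ext ?_
        show a • T₁.mkQ y = 0
        rw [← algebraMap_smul B a (T₁.mkQ y), ← map_smul, Submodule.mkQ_apply, Submodule.Quotient.mk_eq_zero]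
        have hy' : y ∈ T₁ ⊔ Submodule.span B {x} := by
          have h' : T₂ = T₁ ⊔ Submodule.span B {x} := hx
          rw [← h']; exact hy
        obtain ⟨y₁, hy₁, y₂, hy₂, rfl⟩ := Submodule.mem_sup.mp hy'
        obtain ⟨c, rfl⟩ := Submodule.mem_span_singleton.mp hy₂
        rw [smul_add]
        refine add_mem (T₁.smul_mem _ hy₁) ?_
        rw [smul_comm]
        exact T₁.smul_mem _ ((Submodule.Quotient.mk_eq_zero _).mp ((Submodule.mem_bot B).mp (Submodule.mem_colon_singleton.mp ha)))
      have hqQ : LinearMap.range q ≤ Q := by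
        rintro _ ⟨u, rfl⟩
        exact ⟨u.1, hU u.2, rfl⟩
      have hU₁ : U ⊓ T₁.restrictScalars A ≤ T₁.restrictScalars A := inf_le_right
      have hex : Function.Exact (Submodule.inclusion (inf_le_left : U ⊓ T₁.restrictScalars A ≤ U))
          q.rangeRestrict := by
        intro z
        refine ⟨fun hz => ⟨⟨z.1, z.2, (Submodule.Quotient.mk_eq_zero _).mp (congrArg Subtype.val hz)⟩, rfl⟩, ?_⟩
        rintro ⟨v, rfl⟩
        exact Subtype.ext ((Submodule.Quotient.mk_eq_zero _).mpr v.2.2)
      rw [injective_iff_map_eq_zero]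
      intro w hw
      let g : T₂.restrictScalars A →ₗ[A] Q :=
        ((T₁.mkQ.restrictScalars A) ∘ₗ (T₂.restrictScalars A).subtype).codRestrict Q fun y => ⟨y.1, y.2, rfl⟩
      have hinjQ : Function.Injective ((Submodule.inclusion hqQ).lTensor X) := by
        have e : Submodule.inclusion hqQ = ((LinearMap.range q).comap Q.subtype).subtype ∘ₗ
            (Submodule.comapSubtypeEquivOfLe hqQ).symm.toLinearMap := rfl
        rw [e, LinearMap.lTensor_comp]
        exact (lTensor_injective_of_killed (p.comap (algebraMap A B)) hQ _).comp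
          (LinearEquiv.lTensor X _).injective
      obtain ⟨y, rfl⟩ := (lTensor_exact X hex q.surjective_rangeRestrict w).mp (hinjQ (by
        rw [map_zero, ← LinearMap.lTensor_comp_apply,
          show Submodule.inclusion hqQ ∘ₗ q.rangeRestrict = g ∘ₗ Submodule.inclusion hU from rfl,
          LinearMap.lTensor_comp_apply, hw, map_zero]))
      have h1 : (Submodule.inclusion hU₁).lTensor X y = 0 := by
        refine (injective_iff_map_eq_zero _).mp (lTensor_injective_of_algebra (A := A) (B := B) (X := X)
          (Submodule.inclusion hle) (Submodule.inclusion_injective hle)) _ ?_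
        refine Eq.trans ?_ hw
        erw [← LinearMap.lTensor_comp_apply, ← LinearMap.lTensor_comp_apply]
        rfl
      rw [ih ((n.lt_add_one).trans hn) _ hU₁ (h1.trans (map_zero _).symm), map_zero]
  have htop := H s.length s.length.lt_add_one
  rw [show s ⟨s.length, s.length.lt_add_one⟩ = ⊤ from hs2] at htop
  refine Module.Flat.iff_lTensor_injective'.mpr fun I => ?_
  let U : Submodule A B := Submodule.map (Algebra.linearMap A B) I
  let e : I ≃ₗ[A] U := Submodule.equivMapOfInjective (Algebra.linearMap A B) hinj I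
  rw [injective_iff_map_eq_zero]
  intro w hw
  refine (LinearEquiv.lTensor X e).injective ?_
  rw [map_zero]
  refine htop U (fun _ _ => trivial) ?_
  rw [map_zero]
  let k : A →ₗ[A] ↥((⊤ : Submodule B B).restrictScalars A) :=
    (Algebra.linearMap A B).codRestrict _ fun _ => trivial
  have : (Submodule.inclusion (fun _ _ => trivial : U ≤ (⊤ : Submodule B B).restrictScalars A)) ∘ₗ e.toLinearMap =
      k ∘ₗ I.subtype := rfl
  rw [show LinearEquiv.lTensor X e w = e.toLinearMap.lTensor X w from rfl, ← LinearMap.lTensor_comp_apply, this,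
    LinearMap.lTensor_comp_apply, hw, map_zero]

/-- A finite torsion-free algebra over a domain has a functional with `1 ↦ c ≠ 0`. -/
theorem exists_functional [IsDomain A] [IsDomain B] [Module.Finite A B]
    (hinj : Function.Injective (algebraMap A B)) : ∃ lam : B →ₗ[A] A, lam 1 ≠ 0 := by
  classical
  let K := FractionRing A
  let L := FractionRing B
  haveI : FaithfulSMul A L := (faithfulSMul_iff_algebraMap_injective A L).mpr (by
    rw [IsScalarTower.algebraMap_eq A B L]
    exact (IsFractionRing.injective B L).comp hinj)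
  letI : Algebra K L := FractionRing.liftAlgebra A L
  obtain ⟨φ, hφ⟩ := LinearMap.exists_leftInverse_of_injective (Algebra.linearMap K L)
    (LinearMap.ker_eq_bot.mpr (RingHom.injective _))
  let ψ : B →ₗ[A] K := (φ.restrictScalars A) ∘ₗ ((Algebra.linearMap B L).restrictScalars A)
  obtain ⟨t, ht⟩ := Module.Finite.fg_top (R := A) (M := B)
  obtain ⟨⟨c, hc⟩, hc'⟩ := IsLocalization.exist_integer_multiples (nonZeroDivisors A) t fun b => ψ b
  have hmem : ∀ b : B, (c • ψ) b ∈ LinearMap.range (Algebra.linearMap A K) := fun b => by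
    have hb : b ∈ Submodule.span A (t : Set B) := ht ▸ trivial
    induction hb using Submodule.span_induction with
    | mem y hy => obtain ⟨z, hz⟩ := hc' y hy; exact ⟨z, hz⟩
    | zero => rw [map_zero]; exact zero_mem _
    | add y z _ _ hy hz => rw [map_add]; exact add_mem hy hz
    | smul a y _ hy => rw [map_smul]; exact Submodule.smul_mem _ a hy
  let e := LinearEquiv.ofInjective (Algebra.linearMap A K) (IsFractionRing.injective A K)
  refine ⟨e.symm.toLinearMap ∘ₗ (c • ψ).codRestrict _ hmem, fun h0 => ?_⟩
  have h1 : ((c • ψ).codRestrict _ hmem) 1 = 0 := e.symm.injective (h0.trans (map_zero _).symm)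
  have h2 : c • ψ 1 = 0 := congrArg Subtype.val h1
  have h3 : ψ 1 = 1 := by
    show φ (algebraMap B L 1) = 1
    rw [map_one, ← map_one (algebraMap K L)]
    exact LinearMap.congr_fun hφ 1
  rw [h3, Algebra.smul_def, mul_one, IsFractionRing.to_map_eq_zero_iff] at h2
  exact nonZeroDivisors.ne_zero hc h2

/-- The domain case. -/
theorem flat_of_good_ne_bot [IsDomain A] [IsDomain B] [IsNoetherianRing A] [Module.Finite A B]
    (hinj : Function.Injective (algebraMap A B)) [Module.Flat B (B ⊗[A] X)]
    (h : ∀ J : Ideal A, J ≠ ⊥ → (J.map (algebraMap A B)).comap (algebraMap A B) = J → Good X J) :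
    Module.Flat A X := by
  classical
  obtain ⟨lam, hlam⟩ := exists_functional hinj
  set c := lam 1 with hc
  -- `X/fX` is flat over `A/f`
  have hgood : ∀ f : A, f ≠ 0 → Good X (Ideal.span {f}) := by
    intro f hf
    obtain ⟨k, hk⟩ := Ideal.exists_pow_inf_eq_pow_smul (Ideal.span {f}) (LinearMap.range (Algebra.linearMap A B))
    set I₀ : Ideal A := (Ideal.span {f}) ^ (k + 1)
    set J := (I₀.map (algebraMap A B)).comap (algebraMap A B)
    have hJf : J ≤ Ideal.span {f} := by
      intro a ha
      have h1 : Algebra.linearMap A B a ∈ I₀ • (⊤ : Submodule A B) := by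
        rw [Ideal.smul_top_eq_map]; exact ha
      have h2 : Algebra.linearMap A B a ∈ (Ideal.span {f}) ^ (k + 1 - k) • LinearMap.range (Algebra.linearMap A B) :=
        Submodule.smul_mono le_rfl inf_le_right (hk (k + 1) (by omega) ▸ Submodule.mem_inf.mpr ⟨h1, LinearMap.mem_range_self _ a⟩)
      rw [Nat.add_sub_cancel_left, pow_one, LinearMap.range_eq_map, ← Submodule.map_smul''] at h2
      obtain ⟨a', ha', hh⟩ := h2
      rw [smul_eq_mul, Ideal.mul_top] at ha'
      exact hinj hh ▸ ha'
    have hne : J ≠ ⊥ := fun h0 => pow_ne_zero (k + 1) hf (by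
      have : f ^ (k + 1) ∈ J := Ideal.le_comap_map (Ideal.pow_mem_pow (Ideal.mem_span_singleton_self f) _)
      rwa [h0, Ideal.mem_bot] at this)
    haveI := h J hne (Ideal.map_comap_map (algebraMap A B) I₀ ▸ rfl)
    exact flat_baseChange_of_killed J _ fun a ha =>
      (Ideal.Quotient.eq_zero_iff_mem.mpr (hJf ha) : Ideal.Quotient.mk (Ideal.span {f}) a = 0)
  -- torsion
  let ι : A →ₗ[A] B := Algebra.linearMap A B
  have hcomp : lam ∘ₗ ι = c • (LinearMap.id : A →ₗ[A] A) := LinearMap.ext_ring (by
    show lam (algebraMap A B 1) = c • (1 : A)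
    rw [map_one, smul_eq_mul, mul_one])
  have hkill : ∀ (f : A), f ≠ 0 → ∀ x : X, f • x = 0 → c • x = 0 := by
    intro f hf x hx
    have hinjf : Function.Injective (((LinearMap.lsmul B B (algebraMap A B f)).restrictScalars A).lTensor X) :=
      lTensor_injective_of_algebra (A := A) (B := B) (X := X) _
        (fun a b hab => mul_left_cancel₀ (fun h0 => hf (hinj (h0.trans (map_zero _).symm))) hab)
    have h1 : x ⊗ₜ[A] (1 : B) = 0 := hinjf (by
      rw [map_zero, LinearMap.lTensor_tmul,
        show ((LinearMap.lsmul B B (algebraMap A B f)).restrictScalars A) 1 = f • (1 : B) by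
          simp [Algebra.smul_def], ← TensorProduct.smul_tmul, hx, TensorProduct.zero_tmul])
    have h2 := congrArg (TensorProduct.rid A X) (congrArg (lam.lTensor X) h1)
    rwa [LinearMap.lTensor_tmul, TensorProduct.rid_tmul, map_zero, map_zero] at h2
  have htf : ∀ f : A, f ≠ 0 → ∀ x : X, f • x = 0 → x = 0 := by
    intro f hf x hx
    have hcx := hkill f hf x hx
    haveI := hgood (c * c) (mul_ne_zero hlam hlam)
    let a : A ⧸ Ideal.span {c} →ₗ[A] A ⧸ Ideal.span {c * c} :=
      Submodule.mapQ _ _ (LinearMap.lsmul A A c) (fun y hy => by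
        obtain ⟨z, rfl⟩ := Ideal.mem_span_singleton'.mp hy
        exact Ideal.mem_span_singleton'.mpr ⟨z, by simp; ring⟩)
    have ha : Function.Injective a := (injective_iff_map_eq_zero a).mpr fun y hy => by
      obtain ⟨y, rfl⟩ := Submodule.Quotient.mk_surjective _ y
      obtain ⟨z, hz⟩ := Ideal.mem_span_singleton'.mp ((Submodule.Quotient.mk_eq_zero _).mp hy)
      refine (Submodule.Quotient.mk_eq_zero _).mpr (Ideal.mem_span_singleton'.mpr ⟨z, mul_left_cancel₀ hlam ?_⟩)
      rw [LinearMap.lsmul_apply, smul_eq_mul] at hz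
      rw [← hz]; ring
    have hinja : Function.Injective (a.lTensor X) := by
      have e : a = (LinearMap.range a).subtype ∘ₗ (LinearEquiv.ofInjective a ha).toLinearMap := rfl
      rw [e, LinearMap.lTensor_comp]
      exact (lTensor_injective_of_killed (Ideal.span {c * c}) (fun b hb z => by
        obtain ⟨z, rfl⟩ := Submodule.Quotient.mk_surjective _ z
        rw [← Submodule.Quotient.mk_smul, Submodule.Quotient.mk_eq_zero]
        exact Ideal.mul_mem_right _ _ hb) _).comp (LinearEquiv.lTensor X _).injective
    have h1 : x ⊗ₜ[A] (Submodule.Quotient.mk 1 : A ⧸ Ideal.span {c}) = 0 := hinja (by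
      rw [map_zero, LinearMap.lTensor_tmul, Submodule.mapQ_apply, LinearMap.lsmul_apply, Submodule.Quotient.mk_smul,
        ← TensorProduct.smul_tmul, hcx, TensorProduct.zero_tmul])
    obtain ⟨w, hw⟩ := (lTensor_exact X (LinearMap.exact_subtype_mkQ (Ideal.span {c})) (Submodule.mkQ_surjective _) (x ⊗ₜ (1 : A))).mp h1
    have h2 : ∀ w : X ⊗[A] ↥(Ideal.span {c}), ∃ y, TensorProduct.rid A X ((Ideal.span {c}).subtype.lTensor X w) = c • y := fun w => by
      induction w using TensorProduct.induction_on with
      | zero => exact ⟨0, by simp⟩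
      | tmul y z =>
        obtain ⟨d, hd⟩ := Ideal.mem_span_singleton'.mp z.2
        exact ⟨d • y, by rw [LinearMap.lTensor_tmul, TensorProduct.rid_tmul, Submodule.subtype_apply, ← hd, mul_comm, mul_smul]⟩
      | add p q hp hq =>
        obtain ⟨y, hy⟩ := hp
        obtain ⟨y', hy'⟩ := hq
        exact ⟨y + y', by rw [map_add, map_add, hy, hy', smul_add]⟩
    obtain ⟨y, hy⟩ := h2 w
    rw [hw, TensorProduct.rid_tmul, one_smul] at hy
    rw [hy]
    exact hkill (c * c) (mul_ne_zero hlam hlam) y (by rw [mul_smul, ← hy, hcx])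
  refine Module.Flat.iff_lTensor_injective'.mpr fun I => ?_
  rw [injective_iff_map_eq_zero]
  intro z hz
  haveI := hgood c hlam
  -- `c z = 0`
  have hcz : c • z = 0 := by
    let T : Ideal B := I.map (algebraMap A B)
    have hlamT : ∀ y ∈ T.restrictScalars A, lam y ∈ I := by
      intro y hy
      rw [← Ideal.smul_top_eq_map] at hy
      refine Submodule.smul_induction_on hy ?_ ?_
      · intro a ha b _
        rw [map_smul, smul_eq_mul]; exact I.mul_mem_right _ ha
      · intro u v hu hv
        rw [map_add]; exact add_mem hu hv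
    let lamT : T.restrictScalars A →ₗ[A] I := (lam ∘ₗ (T.restrictScalars A).subtype).codRestrict I fun y => hlamT y.1 y.2
    let ιT : I →ₗ[A] T.restrictScalars A := (ι ∘ₗ I.subtype).codRestrict _ fun a => Ideal.mem_map_of_mem _ a.2
    have h0 : ιT.lTensor X z = 0 := by
      refine (injective_iff_map_eq_zero _).mp
        (lTensor_injective_of_algebra (A := A) (B := B) (X := X) T.subtype T.injective_subtype) _ ?_
      erw [← LinearMap.lTensor_comp_apply]
      erw [show (T.subtype.restrictScalars A) ∘ₗ ιT = ι ∘ₗ I.subtype from rfl]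
      rw [LinearMap.lTensor_comp_apply, hz, map_zero]
    have h1 : lamT ∘ₗ ιT = c • LinearMap.id := LinearMap.ext fun a => Subtype.ext (LinearMap.congr_fun hcomp a.1)
    have h2 := congrArg (lamT.lTensor X) h0
    rwa [← LinearMap.lTensor_comp_apply, h1, LinearMap.lTensor_smul, LinearMap.smul_apply, LinearMap.lTensor_id,
      LinearMap.id_apply, map_zero] at h2
  -- `c` is regular on `X ⊗ I`
  obtain ⟨m, π, hπ⟩ := Module.Finite.exists_fin' A I
  obtain ⟨u, rfl⟩ := LinearMap.lTensor_surjective X hπ z
  obtain ⟨l, hl⟩ := (lTensor_exact X (LinearMap.exact_subtype_ker_map π) hπ (c • u)).mp (by rw [map_smul, hcz])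
  let L := LinearMap.ker π
  let F := Fin m → A
  let mc : ∀ (V : Type u) [AddCommGroup V] [Module A V], V →ₗ[A] V := fun V _ _ => LinearMap.lsmul A V c
  let qF : F →ₗ[A] F ⧸ LinearMap.range (mc F) := Submodule.mkQ _
  let qL : L →ₗ[A] F ⧸ LinearMap.range (mc F) := qF ∘ₗ L.subtype
  have hexL : Function.Exact (mc L) qL.rangeRestrict := by
    intro v
    constructor
    · intro hv
      obtain ⟨y, hy⟩ := (Submodule.Quotient.mk_eq_zero _).mp (congrArg Subtype.val hv)
      refine ⟨⟨y, ?_⟩, Subtype.ext hy⟩
      have h0 : c • π y = 0 := by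
        rw [← map_smul]; exact (congrArg π hy).trans v.2
      exact Subtype.ext ((mul_eq_zero.mp (congrArg Subtype.val h0 : c * (π y : A) = 0)).resolve_left hlam)
    · rintro ⟨y, rfl⟩
      exact Subtype.ext ((Submodule.Quotient.mk_eq_zero _).mpr ⟨y.1, rfl⟩)
  have hkF : ∀ b ∈ Ideal.span {c}, ∀ y : F ⧸ LinearMap.range (mc F), b • y = 0 := by
    intro b hb y
    obtain ⟨d, rfl⟩ := Ideal.mem_span_singleton'.mp hb
    obtain ⟨y, rfl⟩ := Submodule.Quotient.mk_surjective _ y
    rw [← Submodule.Quotient.mk_smul, Submodule.Quotient.mk_eq_zero]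
    exact ⟨d • y, by show c • d • y = _; rw [mul_comm, mul_smul]⟩
  obtain ⟨l', rfl⟩ := (lTensor_exact X hexL qL.surjective_rangeRestrict l).mp
    (lTensor_injective_of_killed (Ideal.span {c}) hkF _ (by
      rw [map_zero, ← LinearMap.lTensor_comp_apply,
        show (LinearMap.range qL).subtype ∘ₗ qL.rangeRestrict = qF ∘ₗ L.subtype from rfl,
        LinearMap.lTensor_comp_apply, hl, map_smul, ← LinearMap.smul_apply, ← LinearMap.lTensor_smul,
        show c • qF = 0 from LinearMap.ext fun y => hkF c (Ideal.mem_span_singleton_self c) (qF y),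
        LinearMap.lTensor_zero, LinearMap.zero_apply]))
  have hu : u = L.subtype.lTensor X l' := by
    have hsm : (mc L).lTensor X l' = c • l' := by
      rw [show mc L = c • LinearMap.id from rfl, LinearMap.lTensor_smul, LinearMap.smul_apply, LinearMap.lTensor_id]
      rfl
    rw [hsm, map_smul] at hl
    apply (TensorProduct.piRight A A X (fun _ : Fin m => A)).injective
    refine funext fun i => ?_
    rw [← sub_eq_zero]
    refine (TensorProduct.rid A X).injective ?_
    rw [map_zero]
    refine htf c hlam _ ?_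
    have hh := congrFun (congrArg (TensorProduct.piRight A A X (fun _ : Fin m => A)) hl) i
    rw [map_smul, map_smul, Pi.smul_apply, Pi.smul_apply] at hh
    rw [← map_smul, smul_sub, hh, sub_self, map_zero]
  rw [hu]
  exact (lTensor_exact X (LinearMap.exact_subtype_ker_map π) hπ).apply_apply_eq_zero l'

/-- Ferrand: flatness descends along a finite injective map of Noetherian rings. -/
theorem flat_descent (R S : Type u) [CommRing R] [IsNoetherianRing R]
    [CommRing S] [IsNoetherianRing S] [Algebra R S] [Module.Finite R S] (hinj : Function.Injective (algebraMap R S))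
    (M : Type u) [AddCommGroup M] [Module R M] [Module.Flat S (S ⊗[R] M)] : Module.Flat R M := by
  suffices H : ∀ J : Ideal R, (J.map (algebraMap R S)).comap (algebraMap R S) = J → Good M J by
    have hbot : ((⊥ : Ideal R).map (algebraMap R S)).comap (algebraMap R S) = ⊥ := by
      rw [Ideal.map_bot, ← RingHom.ker_eq_comap_bot, (RingHom.injective_iff_ker_eq_bot _).mp hinj]
    haveI := H ⊥ hbot
    haveI : Module.Flat R (R ⊗[R] M) := flat_baseChange_of_killed ⊥ R (fun a ha => by simpa using ha)
    exact Module.Flat.of_linearEquiv (TensorProduct.lid R M).symm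
  intro J
  induction J using WellFoundedGT.induction with
  | _ J IH =>
  intro hJ
  let A := R ⧸ J
  let B := S ⧸ J.map (algebraMap R S)
  let X := A ⊗[R] M
  haveI : Module.Finite A B := Module.Finite.of_restrictScalars_finite R A B
  haveI : IsNoetherianRing A := isNoetherianRing_of_surjective R _ (Ideal.Quotient.mk J) Ideal.Quotient.mk_surjective
  haveI : IsNoetherianRing B := isNoetherianRing_of_surjective S _ (Ideal.Quotient.mk _) Ideal.Quotient.mk_surjective
  have hAB : ∀ a : R, algebraMap A B (Ideal.Quotient.mk J a) = Ideal.Quotient.mk _ (algebraMap R S a) :=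
    fun a => rfl
  have hinjA : Function.Injective (algebraMap A B) := by
    rw [injective_iff_map_eq_zero]
    intro a ha
    obtain ⟨a, rfl⟩ := Ideal.Quotient.mk_surjective a
    rw [hAB, Ideal.Quotient.eq_zero_iff_mem] at ha
    rw [Ideal.Quotient.eq_zero_iff_mem, ← hJ]
    exact ha
  haveI hBX : Module.Flat B (B ⊗[A] X) := by
    haveI : Module.Flat B (B ⊗[S] (S ⊗[R] M)) := inferInstance
    exact Module.Flat.of_linearEquiv ((AlgebraTensorModule.cancelBaseChange R A B B M).trans
      (AlgebraTensorModule.cancelBaseChange R S B B M).symm)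
  -- transfer of `Good` from `R` to `A`
  have transfer : ∀ q : Ideal A, Good M (q.comap (Ideal.Quotient.mk J)) → Good X q := by
    intro q hq
    haveI : Module.Flat (A ⧸ q) ((A ⧸ q) ⊗[R] M) := flat_baseChange_of_killed (q.comap (Ideal.Quotient.mk J)) _
      (fun a ha => (Ideal.Quotient.eq_zero_iff_mem.mpr ha : Ideal.Quotient.mk q (Ideal.Quotient.mk J a) = 0))
    exact Module.Flat.of_linearEquiv (AlgebraTensorModule.cancelBaseChange R A (A ⧸ q) (A ⧸ q) M)
  have above : ∀ q : Ideal A, q ≠ ⊥ → (q.map (algebraMap A B)).comap (algebraMap A B) = q → Good X q := by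
    intro q hq hc
    refine transfer q (IH _ ?_ ?_)
    · refine lt_of_le_of_ne (fun a ha => show Ideal.Quotient.mk J a ∈ q by
        rw [Ideal.Quotient.eq_zero_iff_mem.mpr ha]; exact zero_mem q) fun e => hq ?_
      rw [eq_bot_iff]
      intro a ha
      obtain ⟨a, rfl⟩ := Ideal.Quotient.mk_surjective a
      exact Ideal.Quotient.eq_zero_iff_mem.mpr (e.ge ha)
    · refine le_antisymm (fun a ha => ?_) Ideal.le_comap_map
      show Ideal.Quotient.mk J a ∈ q
      rw [← hc, Ideal.mem_comap, hAB]
      have h1 := Ideal.mem_map_of_mem (Ideal.Quotient.mk (J.map (algebraMap R S))) (Ideal.mem_comap.mp ha)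
      rw [Ideal.map_map] at h1
      rw [show (Ideal.Quotient.mk (J.map (algebraMap R S))).comp (algebraMap R S) =
        (algebraMap A B).comp (Ideal.Quotient.mk J) from rfl, ← Ideal.map_map,
        Ideal.map_comap_of_surjective _ Ideal.Quotient.mk_surjective] at h1
      exact h1
  have hA : Module.Flat A X := by
    by_cases hP : ∃ P : Ideal B, P.IsPrime ∧ P.comap (algebraMap A B) = ⊥
    · obtain ⟨P, hPp, hP0⟩ := hP
      haveI := hPp
      haveI : IsDomain A := by
        have : (⊥ : Ideal A).IsPrime := hP0 ▸ inferInstance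
        exact IsDomain.of_bot_isPrime A
      let B' := B ⧸ P
      haveI : Module.Finite A B' := Module.Finite.of_surjective (Ideal.Quotient.mkₐ A P).toLinearMap Ideal.Quotient.mk_surjective
      have hinjB' : Function.Injective (algebraMap A B') := by
        rw [RingHom.injective_iff_ker_eq_bot, IsScalarTower.algebraMap_eq A B B', ← RingHom.comap_ker,
          Ideal.Quotient.algebraMap_eq, Ideal.mk_ker, hP0]
      haveI : Module.Flat B' (B' ⊗[A] X) := by
        haveI : Module.Flat B' (B' ⊗[B] (B ⊗[A] X)) := inferInstance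
        exact Module.Flat.of_linearEquiv (AlgebraTensorModule.cancelBaseChange A B B' B' X).symm
      refine flat_of_good_ne_bot (B := B') hinjB' fun q hq hc => above q hq ?_
      refine le_antisymm (fun a ha => ?_) Ideal.le_comap_map
      rw [← hc, Ideal.mem_comap, IsScalarTower.algebraMap_eq A B B', ← Ideal.map_map, RingHom.comp_apply]
      exact Ideal.mem_map_of_mem _ ha
    · push_neg at hP
      refine flat_of_good_comap hinjA fun p hp => above _ (hP p hp) ?_
      exact Ideal.comap_map_comap (algebraMap A B) p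
  exact hA

end Groth.Agent.H1CAlg.Ferrand
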