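import Groth.Agent.H9Hens.PairHens
import Groth.Agent.H9Hens.Newton
import Mathlib.RingTheory.Polynomial.UniversalFactorizationRing
import Mathlib.RingTheory.FinitePresentation

/-!
# Descending data from a henselization to an etale neighbourhood
-/

set_option autoImplicit false
universe u

open TensorProduct Polynomial

namespace Groth.Agent.H1CAlg.Nbhd

open Groth.Agent.H9Hens

variable {A : Type u} [CommRing A] {I : Ideal A}

/-- The algebra structure map `A / I → T / IT` is the quotient map. -/
lemma algebraMap_quotient_eq (T : Type u) [CommRing T] [Algebra A T] (x : A ⧸ I) :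
    algebraMap (A ⧸ I) (T ⧸ I.map (algebraMap A T)) x =
      Ideal.quotientMap (I.map (algebraMap A T)) (algebraMap A T) Ideal.le_comap_map x := by
  obtain ⟨a, rfl⟩ := Ideal.Quotient.mk_surjective x
  rfl

lemma bijective_algebraMap (T : Type u) [CommRing T] [Algebra A T]
    (h : Function.Bijective (Ideal.quotientMap (I.map (algebraMap A T)) (algebraMap A T) Ideal.le_comap_map)) :
    Function.Bijective (algebraMap (A ⧸ I) (T ⧸ I.map (algebraMap A T))) := by
  rwa [show (algebraMap (A ⧸ I) (T ⧸ I.map (algebraMap A T)) : (A ⧸ I) → _) = _ from funext (algebraMap_quotient_eq T)]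

/-- A map from a finitely presented algebra into the colimit of pointed etale algebras factors
through an etale neighbourhood. -/
theorem descend {H : Type u} [CommRing H] [Algebra A H] {π : H →ₐ[A] A ⧸ I} (hH : IsPtColim π)
    (B : Type u) [CommRing B] [Algebra A B] [Algebra.FinitePresentation A B] (χ : B →ₐ[A] H) :
    ∃ (T : Type u) (_ : CommRing T) (_ : Algebra A T) (_ : Algebra.Etale A T)
      (φ : T →ₐ[A] H) (τ : B →ₐ[A] T),
      Function.Bijective (Ideal.quotientMap (I.map (algebraMap A T)) (algebraMap A T) Ideal.le_comap_map) ∧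
      φ.comp τ = χ := by
  classical
  obtain ⟨n, p, hp, hK⟩ := Algebra.FinitePresentation.out (R := A) (A := B)
  obtain ⟨s, hs⟩ := hK
  obtain ⟨S, _, _, _, φ, y, hy⟩ := hH.exists_rep_fin fun i => χ (p (MvPolynomial.X i))
  have hfin : ∀ t : Finset (MvPolynomial (Fin n) A), (t : Set (MvPolynomial (Fin n) A)) ⊆ RingHom.ker p.toRingHom →
      ∃ (T : Type u) (_ : CommRing T) (_ : Algebra A T) (_ : Algebra.Etale A T) (φT : T →ₐ[A] H) (z : Fin n → T),
        (∀ i, φT (z i) = χ (p (MvPolynomial.X i))) ∧ ∀ f ∈ t, MvPolynomial.aeval z f = 0 := by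
    intro t
    induction t using Finset.induction with
    | empty => exact fun _ => ⟨S, inferInstance, inferInstance, inferInstance, φ, y, hy, by simp⟩
    | insert f t _ ih =>
      intro hsub
      rw [Finset.coe_insert, Set.insert_subset_iff] at hsub
      obtain ⟨T, _, _, _, φT, z, hz, ht⟩ := ih hsub.2
      have hcomp : φT.comp (MvPolynomial.aeval z) = χ.comp p := MvPolynomial.algHom_ext fun i => by
        simp [hz]
      obtain ⟨T', _, _, _, ψ, φT', hc, hf⟩ := hH.exists_eq_zero T φT (MvPolynomial.aeval z f) (by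
        have h := AlgHom.congr_fun hcomp f
        rw [AlgHom.comp_apply, AlgHom.comp_apply, show p f = 0 from hsub.1, map_zero] at h
        exact h)
      refine ⟨T', inferInstance, inferInstance, inferInstance, φT', ψ ∘ z, fun i => ?_, fun g hg => ?_⟩
      · rw [← hz i, ← hc]; rfl
      · rw [show MvPolynomial.aeval (ψ ∘ z) g = ψ (MvPolynomial.aeval z g) from (MvPolynomial.comp_aeval_apply z ψ g).symm]
        rcases Finset.mem_insert.mp hg with rfl | hg
        · exact hf
        · rw [ht g hg, map_zero]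
  obtain ⟨T, _, _, _, φT, z, hz, hzs⟩ := hfin s (fun f hf => hs ▸ Submodule.subset_span hf)
  obtain ⟨T', _, _, _, ψ, σ', hb, hσ, -⟩ := exists_etale_nbhd T (π.comp φT) 1 (by simp)
  obtain ⟨φ', hφ'⟩ := hH.exists_map T' σ'
  have hres : φ'.comp ψ = φT := hH.hom_ext (by rw [← AlgHom.comp_assoc, hφ', hσ])
  have hker : ∀ f, p f = 0 → MvPolynomial.aeval (ψ ∘ z) f = 0 := by
    intro f hf
    have hle : RingHom.ker p.toRingHom ≤ RingHom.ker (MvPolynomial.aeval (R := A) (ψ ∘ z)).toRingHom := by
      rw [← hs]
      refine Submodule.span_le.mpr fun g hg => ?_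
      show MvPolynomial.aeval (ψ ∘ z) g = 0
      rw [show MvPolynomial.aeval (ψ ∘ z) g = ψ (MvPolynomial.aeval z g) from (MvPolynomial.comp_aeval_apply z ψ g).symm, hzs g hg, map_zero]
    exact hle hf
  let e := Ideal.quotientKerAlgEquivOfSurjective hp
  let τ : B →ₐ[A] T' := (Ideal.Quotient.liftₐ (RingHom.ker p) (MvPolynomial.aeval (ψ ∘ z))
    (fun f hf => hker f hf)).comp e.symm.toAlgHom
  have hτ : τ.comp p = MvPolynomial.aeval (ψ ∘ z) := AlgHom.ext fun f => by
    show Ideal.Quotient.liftₐ (RingHom.ker p) (MvPolynomial.aeval (ψ ∘ z)) (fun f hf => hker f hf) (e.symm (p f)) = _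
    rw [show e.symm (p f) = Ideal.Quotient.mk _ f from (AlgEquiv.symm_apply_eq e).mpr rfl]
    rfl
  refine ⟨T', inferInstance, inferInstance, inferInstance, φ', τ, hb, ?_⟩
  rw [← AlgHom.cancel_right hp, AlgHom.comp_assoc, hτ]
  exact MvPolynomial.algHom_ext fun i => by
    have h := AlgHom.congr_fun hres (z i)
    simp only [AlgHom.comp_apply] at h ⊢
    rw [MvPolynomial.aeval_X, Function.comp_apply, h, hz]

/-- Coprime monic factorisations lift to an etale neighbourhood. -/
theorem exists_etale_factorization (f : A[X]) (hf : f.Monic) (g h : (A ⧸ I)[X]) (hg : g.Monic)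
    (hh : h.Monic) (hcop : IsCoprime g h) (hfgh : f.map (Ideal.Quotient.mk I) = g * h) :
    ∃ (T : Type u) (_ : CommRing T) (_ : Algebra A T) (_ : Algebra.Etale A T) (σ : T →ₐ[A] A ⧸ I),
      Function.Bijective (Ideal.quotientMap (I.map (algebraMap A T)) (algebraMap A T) Ideal.le_comap_map) ∧
      ∃ g' h' : T[X], g'.Monic ∧ h'.Monic ∧ IsCoprime g' h' ∧ f.map (algebraMap A T) = g' * h' ∧
        g'.map σ.toRingHom = g ∧ h'.map σ.toRingHom = h := by
  rcases subsingleton_or_nontrivial (A ⧸ I) with hs | hn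
  · have hI : I = ⊤ := Ideal.Quotient.subsingleton_iff.mp hs
    haveI : Algebra.Etale A (Localization.Away (0 : A)) := Algebra.Etale.of_isLocalizationAway (0 : A)
    haveI : Subsingleton (Localization.Away (0 : A)) :=
      IsLocalization.subsingleton (M := Submonoid.powers (0 : A)) ⟨1, pow_one 0⟩
    haveI : Subsingleton (Localization.Away (0 : A) ⧸ I.map (algebraMap A (Localization.Away (0 : A)))) :=
      Ideal.Quotient.subsingleton_iff.mpr (by rw [hI, Ideal.map_top])
    refine ⟨Localization.Away (0 : A), inferInstance, inferInstance, inferInstance,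
      { toFun := fun _ => 0, map_one' := Subsingleton.elim _ _, map_mul' := fun _ _ => Subsingleton.elim _ _,
        map_zero' := rfl, map_add' := fun _ _ => Subsingleton.elim _ _, commutes' := fun _ => Subsingleton.elim _ _ },
      ⟨fun _ _ _ => Subsingleton.elim _ _, fun _ => ⟨0, Subsingleton.elim _ _⟩⟩,
      1, 1, monic_one, monic_one, isCoprime_one_left, Subsingleton.elim _ _, Subsingleton.elim _ _, Subsingleton.elim _ _⟩
  have hdeg : f.natDegree = g.natDegree + h.natDegree := by
    rw [← hf.natDegree_map (Ideal.Quotient.mk I), hfgh, hg.natDegree_mul hh]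
  let p : Polynomial.MonicDegreeEq A f.natDegree := .mk f hf rfl
  let σ : UniversalCoprimeFactorizationRing g.natDegree h.natDegree hdeg p →ₐ[A] A ⧸ I :=
    (UniversalCoprimeFactorizationRing.homEquiv (A ⧸ I) _ _ hdeg p).symm
      ⟨(.mk g hg rfl, .mk h hh rfl), by simpa [p, MonicDegreeEq.mk] using hfgh.symm, hcop⟩
  obtain ⟨T, _, _, _, ψ, σT, hb, hσT, -⟩ := exists_etale_nbhd _ σ 1 (by simp)
  let q := UniversalCoprimeFactorizationRing.homEquiv T _ _ hdeg p ψ
  have h1 := UniversalCoprimeFactorizationRing.homEquiv_comp_fst T g.natDegree h.natDegree hdeg p ψ σT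
  have h2 := UniversalCoprimeFactorizationRing.homEquiv_comp_snd T g.natDegree h.natDegree hdeg p ψ σT
  rw [hσT, Equiv.apply_symm_apply] at h1 h2
  refine ⟨T, inferInstance, inferInstance, inferInstance, σT, hb, q.1.1.1, q.1.2.1, q.1.1.monic,
    q.1.2.monic, q.2.2, ?_, ?_, ?_⟩
  · simpa [p, MonicDegreeEq.mk] using q.2.1.symm
  · exact (congrArg Subtype.val h1).symm
  · exact (congrArg Subtype.val h2).symm

/-- Reduction of a polynomial through a section. -/
lemma map_mk_eq {T : Type u} [CommRing T] [Algebra A T]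
    (hb : Function.Bijective (Ideal.quotientMap (I.map (algebraMap A T)) (algebraMap A T) Ideal.le_comap_map))
    (σ : T →ₐ[A] A ⧸ I) (p : T[X]) :
    p.map (Ideal.Quotient.mk (I.map (algebraMap A T))) =
      (p.map σ.toRingHom).map (algebraMap (A ⧸ I) (T ⧸ I.map (algebraMap A T))) := by
  ext i
  simp only [coeff_map]
  rw [algebraMap_quotient_eq]
  exact mk_eq_quotientMap_section hb.2 σ _

end Groth.Agent.H1CAlg.Nbhd
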