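import Groth.Agent.H22Alg.KrullAkizuki
import Groth.Agent.H22Alg.BranchBound
import Groth.Agent.H24Adic.Basic
import Groth.Agent.H26Grass.DimLemma
import Groth.Agent.H02CA.N2
import Groth.Agent.H1CAlg.Serre
import Mathlib.RingTheory.DedekindDomain.PID
import Mathlib.RingTheory.Ideal.KrullsHeightTheorem
import Mathlib.FieldTheory.Minpoly.IsIntegrallyClosed
import Mathlib.RingTheory.Polynomial.ScaleRoots

/-!
# Tate's theorem: a complete domain with Japanese quotient is Japanese
-/

set_option autoImplicit false

universe u

open IsLocalRing Polynomial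

namespace Groth.Agent.H1CAlg

theorem minpoly_algebraMap_mul {K L : Type u} [Field K] [Field L] [Algebra K L] {y : L} (hy : IsIntegral K y)
    {c : K} (hc : c ≠ 0) : minpoly K (algebraMap K L c * y) = (minpoly K y).scaleRoots c := by
  refine (minpoly.unique' K _ ((monic_scaleRoots_iff c).mpr (minpoly.monic hy))
    (scaleRoots_aeval_eq_zero (minpoly.aeval K y)) fun q hq => ?_).symm
  by_cases hq0 : q = 0
  · exact Or.inl hq0
  refine Or.inr fun hqy => not_le.mpr hq ?_
  rw [degree_scaleRoots]
  have hy' : aeval y (q.scaleRoots c⁻¹) = 0 := by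
    have h := scaleRoots_aeval_eq_zero (r := c⁻¹) hqy
    rwa [map_inv₀, ← mul_assoc, inv_mul_cancel₀ ((map_ne_zero_iff _ (algebraMap K L).injective).mpr hc), one_mul] at h
  exact (minpoly.degree_le_of_ne_zero K y (scaleRoots_ne_zero hq0 _) hy').trans (degree_scaleRoots _).le

/-- A semi-local Dedekind domain of integral elements over a one-dimensional local domain. -/
theorem integralClosure_pid {V L : Type u} (F : Type u) [Field F] [CommRing V] [IsDomain V] [IsLocalRing V] [IsNoetherianRing V]
    [Ring.KrullDimLE 1 V] [Algebra V F] [IsFractionRing V F] (hnf : ¬ IsField V) [Field L] [Algebra V L] [Algebra F L]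
    [IsScalarTower V F L] [FiniteDimensional F L] :
    ∃ C : Subalgebra V L, (∀ z, z ∈ C ↔ IsIntegral V z) ∧ IsPrincipalIdealRing C ∧
      ∀ a : V, a ≠ 0 → Module.Finite V (C ⧸ Ideal.span {algebraMap V C a}) := by
  classical
  let b := Module.finBasis F L
  obtain ⟨s, hs0, hs⟩ : ∃ s : V, s ≠ 0 ∧ ∀ i, IsIntegral V (algebraMap V L s * b i) := by
    choose y hy0 hy using fun i => exists_integral_multiples (A := V) (K := F) (L := L) {b i}
    refine ⟨∏ i, y i, Finset.prod_ne_zero_iff.mpr fun i _ => hy0 i, fun i => ?_⟩
    rw [← Finset.mul_prod_erase _ _ (Finset.mem_univ i), map_mul, mul_comm (algebraMap V L (y i)), mul_assoc]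
    refine isIntegral_algebraMap.mul ?_
    rw [← Algebra.smul_def]
    exact hy i _ (Finset.mem_singleton_self _)
  let V' : Subalgebra V L := Algebra.adjoin V (Set.range fun i => algebraMap V L s * b i)
  haveI : Module.Finite V V' := Module.Finite.iff_fg.mpr (fg_adjoin_of_finite (Set.finite_range _) (by
    rintro _ ⟨i, rfl⟩; exact hs i))
  haveI : IsNoetherianRing V' := IsNoetherianRing.of_finite V V'
  haveI : Algebra.IsIntegral V V' := Algebra.IsIntegral.of_finite V V'
  haveI : Ring.KrullDimLE 1 V' := Ring.krullDimLE_iff.mpr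
    ((H26Grass.ringKrullDim_le_of_integral (R := V) (S := V')).trans (Ring.krullDimLE_iff.mp ‹Ring.KrullDimLE 1 V›))
  have hinjV : Function.Injective (algebraMap V L) := by
    rw [IsScalarTower.algebraMap_eq V F L]
    exact (algebraMap F L).injective.comp (IsFractionRing.injective V F)
  haveI : IsFractionRing V' L := by
    haveI : FaithfulSMul V' L := (faithfulSMul_iff_algebraMap_injective _ _).mpr Subtype.val_injective
    refine IsFractionRing.of_field V' L fun z => ?_
    obtain ⟨⟨d, hd⟩, hd'⟩ := IsLocalization.exist_integer_multiples (nonZeroDivisors V) Finset.univ fun i => b.repr z i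
    choose a ha using fun i => hd' i (Finset.mem_univ i)
    refine ⟨⟨∑ i, algebraMap V L (a i) * (algebraMap V L s * b i),
      sum_mem fun i _ => mul_mem (V'.algebraMap_mem _) (Algebra.subset_adjoin ⟨i, rfl⟩)⟩,
      algebraMap V V' (d * s), ?_⟩
    have hne : algebraMap V L (d * s) ≠ 0 :=
      (map_ne_zero_iff _ hinjV).mpr (mul_ne_zero (nonZeroDivisors.ne_zero hd) hs0)
    show z = (∑ i, algebraMap V L (a i) * (algebraMap V L s * b i)) / algebraMap V L (d * s)
    rw [eq_div_iff hne]
    conv_lhs => rw [← b.sum_repr z, Finset.sum_mul]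
    refine Finset.sum_congr rfl fun i _ => ?_
    have hai := congrArg (algebraMap F L) (ha i)
    rw [Algebra.smul_def, map_mul, ← IsScalarTower.algebraMap_apply, ← IsScalarTower.algebraMap_apply] at hai
    rw [hai, Algebra.smul_def, map_mul]
    ring
  have hinjV' : Function.Injective (algebraMap V V') := fun u v huv => hinjV (congrArg Subtype.val huv)
  haveI hsl : Finite (MaximalSpectrum V') := H22Alg.finite_maximalSpectrum_of_finite V V'
  have hnf' : ¬ IsField V' := fun h => hnf (isField_of_isIntegral_of_isField hinjV' h)
  let C' := integralClosure V' L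
  haveI := H22Alg.isDedekindDomain_integralClosure (B := V') (K := L)
  haveI : Finite (MaximalSpectrum C') := H22Alg.finite_maximalSpectrum_subalgebra C' hsl hnf'
  haveI hpid : IsPrincipalIdealRing C' := IsPrincipalIdealRing.of_finite_maximals (by
    refine (Set.finite_range fun m : MaximalSpectrum C' => m.asIdeal).subset ?_
    exact fun I hI => ⟨⟨I, hI⟩, rfl⟩)
  refine ⟨C'.restrictScalars V, fun z => ⟨fun hz => isIntegral_trans (R := V) (A := V') z hz, fun hz => hz.tower_top⟩,
    hpid, fun a ha => ?_⟩
  have ha' : algebraMap V V' a ≠ 0 := (map_ne_zero_iff _ hinjV').mpr ha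
  haveI := (isFiniteLength_iff_isNoetherian_isArtinian.mp (H22Alg.quot_finite_length C' ha')).1
  haveI : Module.Finite V' (C' ⧸ Ideal.span {algebraMap V' C' (algebraMap V V' a)}) := inferInstance
  haveI : Module.Finite V (C' ⧸ Ideal.span {algebraMap V' C' (algebraMap V V' a)}) := Module.Finite.trans V' _
  exact this

/-- Tate's theorem. -/
theorem isN2_of_complete {R : Type u} [CommRing R] [IsDomain R] [IsNoetherianRing R] [IsIntegrallyClosed R]
    (x : R) (hx0 : x ≠ 0) [hP : (Ideal.span {x}).IsPrime] (h2 : CAlg.IsN2 (R ⧸ Ideal.span {x}))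
    [IsAdicComplete (Ideal.span {x}) R] : CAlg.IsN2 R := by
  classical
  intro L _ _ _ _ hfin
  let K := FractionRing R
  haveI : FiniteDimensional K L := hfin
  let P := Ideal.span {x}
  let V := Localization.AtPrime P
  have hle := P.primeCompl_le_nonZeroDivisors
  have hxP : x ∈ P := Ideal.mem_span_singleton_self x
  have hxV : algebraMap R V x ≠ 0 := (map_ne_zero_iff _ (IsLocalization.injective V hle)).mpr hx0
  have hmax : maximalIdeal V = Ideal.span {algebraMap R V x} := by
    rw [← Localization.AtPrime.map_eq_maximalIdeal, Ideal.map_span, Set.image_singleton]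
  haveI : IsDomain V := IsLocalization.isDomain_of_le_nonZeroDivisors _ hle
  haveI : IsNoetherianRing V := IsLocalization.isNoetherianRing P.primeCompl V inferInstance
  haveI : Ring.KrullDimLE 1 V := Ring.krullDimLE_iff.mpr (ringKrullDim_le_one_of_isPrincipal ⟨_, hmax⟩)
  have hnf : ¬ IsField V := fun h => by
    have := h.isPrincipalIdealRing
    have hbot := (IsLocalRing.isField_iff_maximalIdeal_eq).mp h
    rw [hmax, Ideal.span_singleton_eq_bot] at hbot
    exact hxV hbot
  -- structures over `V`
  have hRL : Function.Injective (algebraMap R L) := by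
    rw [IsScalarTower.algebraMap_eq R K L]
    exact (algebraMap K L).injective.comp (IsFractionRing.injective R K)
  have hunitK : ∀ y : P.primeCompl, IsUnit (algebraMap R L y) := fun y =>
    (IsUnit.mk0 _ ((map_ne_zero_iff _ hRL).mpr (nonZeroDivisors.ne_zero (hle y.2))))
  letI : Algebra V L := (IsLocalization.lift (M := P.primeCompl) hunitK).toAlgebra
  haveI : IsScalarTower R V L := IsScalarTower.of_algebraMap_eq fun r => (IsLocalization.lift_eq hunitK r).symm
  let F := FractionRing R
  haveI : IsFractionRing V F := IsFractionRing.isFractionRing_of_isDomain_of_isLocalization P.primeCompl V F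
  haveI : IsScalarTower V F L := IsScalarTower.of_algebraMap_eq' (IsLocalization.ringHom_ext P.primeCompl
    (RingHom.ext fun r => by
      show algebraMap V L (algebraMap R V r) = algebraMap F L (algebraMap V F (algebraMap R V r))
      rw [← IsScalarTower.algebraMap_apply R V L, ← IsScalarTower.algebraMap_apply R V F,
        ← IsScalarTower.algebraMap_apply R F L]))
  have hVL : Function.Injective (algebraMap V L) := by
    rw [IsScalarTower.algebraMap_eq V F L]
    exact (algebraMap F L).injective.comp (IsFractionRing.injective V F)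
  obtain ⟨C, hC, hpid, hfinq⟩ := integralClosure_pid (V := V) (L := L) F hnf
  let S := integralClosure R L
  have hSC : ∀ z ∈ S, z ∈ C := fun z hz => (hC z).mpr (IsIntegral.tower_top (R := R) hz)
  -- the descent property
  have hdescR : ∀ (c : V) (n : ℕ) (r : R), algebraMap R V x ^ n * c = algebraMap R V r →
      ∃ r' : R, algebraMap R V r' = c := by
    intro c n
    induction n with
    | zero => intro r hr; exact ⟨r, by rw [← hr, pow_zero, one_mul]⟩
    | succ n ih =>
      intro r hr
      have hrmem : algebraMap R V r ∈ maximalIdeal V := by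
        rw [← hr, hmax, pow_succ', mul_assoc]
        exact Ideal.mem_span_singleton.mpr (dvd_mul_right _ _)
      obtain ⟨r₁, hr₁⟩ := Ideal.mem_span_singleton.mp ((IsLocalization.AtPrime.to_map_mem_maximal_iff V P r).mp hrmem)
      refine ih r₁ (mul_left_cancel₀ hxV ?_)
      rw [← mul_assoc, ← pow_succ', hr, hr₁, map_mul]
  have hkey : ∀ y : L, IsIntegral V y → IsIntegral R (algebraMap R L x * y) → IsIntegral R y := by
    intro y hy hxy
    haveI : IsIntegrallyClosed V := isIntegrallyClosed_of_isLocalization _ P.primeCompl hle
    have hxF : algebraMap R F x ≠ 0 := (map_ne_zero_iff _ (IsFractionRing.injective R F)).mpr hx0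
    have hy' : IsIntegral F y := IsIntegral.of_finite F y
    have h1 := minpoly_algebraMap_mul hy' hxF
    rw [← IsScalarTower.algebraMap_apply] at h1
    have h2 := minpoly.isIntegrallyClosed_eq_field_fractions' F hxy
    have h3 := minpoly.isIntegrallyClosed_eq_field_fractions' F hy
    have hlift : minpoly F y ∈ Polynomial.lifts (algebraMap R F) := by
      rw [Polynomial.lifts_iff_coeff_lifts]
      intro j
      have hj := congrArg (fun p => p.coeff j) h1
      simp only [h2, coeff_scaleRoots, Polynomial.coeff_map] at hj
      rw [h3, Polynomial.coeff_map]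
      obtain ⟨r', hr'⟩ := hdescR ((minpoly V y).coeff j) ((minpoly F y).natDegree - j) ((minpoly R (algebraMap R L x * y)).coeff j)
        (IsFractionRing.injective V F (by
          rw [map_mul, map_pow, ← IsScalarTower.algebraMap_apply R V F, ← IsScalarTower.algebraMap_apply R V F, hj,
            h3, Polynomial.coeff_map, mul_comm]))
      exact ⟨r', by rw [IsScalarTower.algebraMap_apply R V F, hr']⟩
    obtain ⟨Q, hQ, -, hQm⟩ := Polynomial.lifts_and_degree_eq_and_monic hlift (minpoly.monic hy')
    refine ⟨Q, hQm, ?_⟩
    rw [← Polynomial.aeval_def, ← Polynomial.aeval_map_algebraMap F, hQ, minpoly.aeval]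
  let ι : S →ₐ[R] C.restrictScalars R := Subalgebra.inclusion (S := S) (T := C.restrictScalars R) hSC
  let ιC : S →+* C := (algebraMap S L).codRestrict C.toSubring fun z => hSC z.1 z.2
  have hιR : ∀ r : R, ιC (algebraMap R S r) = algebraMap V C (algebraMap R V r) := fun r =>
    Subtype.ext (IsScalarTower.algebraMap_apply R V L r)
  have hscale : ∀ y : C, ∃ t : P.primeCompl, IsIntegral R (algebraMap R L t * y) := fun y => by
    obtain ⟨t, ht⟩ := IsIntegral.exists_multiple_integral_of_isLocalization P.primeCompl (y : L) ((hC y).mp y.2)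
    refine ⟨t, ?_⟩
    rwa [Submonoid.smul_def, Algebra.smul_def] at ht
  have hunitC : ∀ t : P.primeCompl, IsUnit (algebraMap V C (algebraMap R V t)) := fun t =>
    (IsLocalization.map_units V t).map _
  let xC : C := algebraMap V C (algebraMap R V x)
  have hxC0 : xC ≠ 0 := fun h => hxV (hVL ((congrArg Subtype.val h : algebraMap V L (algebraMap R V x) = _).trans (map_zero _).symm))
  -- all quotients by divisors of `x` are finite
  have hprimeq : ∀ π : C, Prime π → π ∣ xC → Module.Finite R (S ⧸ (Ideal.span {π}).comap ιC) := by
    intro π hπ hπx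
    haveI : (Ideal.span {π}).IsMaximal := IsPrime.to_maximal_ideal (hpi := (Ideal.span_singleton_prime hπ.ne_zero).mpr hπ)
      (by rw [Ne, Ideal.span_singleton_eq_bot]; exact hπ.ne_zero)
    let κ' := C ⧸ Ideal.span {π}
    letI : Field κ' := Ideal.Quotient.field _
    let g : V →+* κ' := (Ideal.Quotient.mk _).comp (algebraMap V C)
    have hg : ∀ v ∈ maximalIdeal V, g v = 0 := by
      intro v hv
      rw [hmax, Ideal.mem_span_singleton] at hv
      obtain ⟨w, rfl⟩ := hv
      refine Ideal.Quotient.eq_zero_iff_mem.mpr (Ideal.mem_span_singleton.mpr ?_)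
      rw [map_mul]; exact hπx.mul_right _
    letI : Algebra P.ResidueField κ' := (Ideal.Quotient.lift (maximalIdeal V) g hg).toAlgebra
    haveI : IsScalarTower V P.ResidueField κ' := IsScalarTower.of_algebraMap_eq fun v => rfl
    haveI : Module.Finite V (C ⧸ Ideal.span {xC}) := hfinq _ hxV
    haveI : Module.Finite V κ' := Module.Finite.of_surjective
      ((Ideal.Quotient.factorₐ V ((Ideal.span_singleton_le_span_singleton).mpr hπx)).toLinearMap)
      (Ideal.Quotient.factor_surjective ((Ideal.span_singleton_le_span_singleton).mpr hπx))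
    haveI : FiniteDimensional P.ResidueField κ' := Module.Finite.of_restrictScalars_finite V P.ResidueField κ'
    letI : Algebra (R ⧸ P) κ' := ((algebraMap P.ResidueField κ').comp (algebraMap (R ⧸ P) P.ResidueField)).toAlgebra
    haveI : IsScalarTower (R ⧸ P) P.ResidueField κ' := IsScalarTower.of_algebraMap_eq fun _ => rfl
    haveI : Module.Finite (R ⧸ P) (integralClosure (R ⧸ P) κ') :=
      H02CA.finite_integralClosure_of_isN2 h2 P.ResidueField κ'
    haveI : IsScalarTower R (R ⧸ P) κ' := IsScalarTower.of_algebraMap_eq fun r => by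
      show _ = algebraMap P.ResidueField κ' (algebraMap (R ⧸ P) P.ResidueField (algebraMap R (R ⧸ P) r))
      rw [← IsScalarTower.algebraMap_apply R (R ⧸ P) P.ResidueField, IsScalarTower.algebraMap_apply R V P.ResidueField]
      show Ideal.Quotient.mk (Ideal.span {π}) (algebraMap R C r) = Ideal.Quotient.mk _ (algebraMap V C (algebraMap R V r))
      exact congrArg _ (Subtype.ext (IsScalarTower.algebraMap_apply R V L r))
    haveI : Module.Finite R (R ⧸ P) :=
      Module.Finite.of_surjective (Ideal.Quotient.mkₐ R P).toLinearMap Ideal.Quotient.mk_surjective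
    haveI : Module.Finite R (integralClosure (R ⧸ P) κ') := Module.Finite.trans (R ⧸ P) _
    let f : S →ₐ[R] κ' := ((Ideal.Quotient.mkₐ R (Ideal.span {π})).comp ι)
    let f' : S →ₗ[R] integralClosure (R ⧸ P) κ' :=
      { toFun := fun z => ⟨f z, IsIntegral.tower_top (R := R) ((Algebra.IsIntegral.isIntegral z).map f)⟩
        map_add' := fun u v => Subtype.ext (map_add f u v)
        map_smul' := fun r u => Subtype.ext (map_smul f r u) }
    have hker : LinearMap.ker f' = ((Ideal.span {π}).comap ιC).restrictScalars R := by
      ext z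
      constructor
      · intro hz
        show ιC z ∈ Ideal.span {π}
        exact Ideal.Quotient.eq_zero_iff_mem.mp (congrArg Subtype.val hz)
      · intro hz
        exact Subtype.ext (Ideal.Quotient.eq_zero_iff_mem.mpr hz)
    exact Module.Finite.of_injective ((Submodule.liftQ (((Ideal.span {π}).comap ιC).restrictScalars R) f' hker.ge) ∘ₗ
      (Submodule.Quotient.restrictScalarsEquiv R _).symm.toLinearMap)
      (by
        rw [LinearMap.coe_comp]
        refine Function.Injective.comp ?_ (LinearEquiv.injective _)
        rw [← LinearMap.ker_eq_bot, Submodule.ker_liftQ_eq_bot _ _ _ hker.le])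
  haveI := hpid
  have hdiv : ∀ d : C, d ≠ 0 → d ∣ xC → Module.Finite R (S ⧸ (Ideal.span {d}).comap ιC) := by
    intro d
    induction d using WfDvdMonoid.induction_on_irreducible with
    | zero => intro h; exact absurd rfl h
    | unit u hu =>
      intro _ _
      have : (Ideal.span {u}).comap ιC = ⊤ := by rw [Ideal.span_singleton_eq_top.mpr hu, Ideal.comap_top]
      rw [this]
      infer_instance
    | mul d π hd0 hπ ih =>
      intro _ hdx
      have hπp : Prime π := hπ.prime
      obtain ⟨u, hu⟩ := hdx
      have hdx' : d ∣ xC := ⟨π * u, by rw [hu]; ring⟩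
      have hπx : π ∣ xC := ⟨d * u, by rw [hu]; ring⟩
      haveI := ih hd0 hdx'
      haveI := hprimeq π hπp hπx
      obtain ⟨t, ht⟩ := hscale (π * u)
      let q : S := ⟨_, ht⟩
      let I : Submodule R S := ((Ideal.span {π * d}).comap ιC).restrictScalars R
      let J : Submodule R S := ((Ideal.span {d}).comap ιC).restrictScalars R
      have hIJ : I ≤ J := Ideal.comap_mono ((Ideal.span_singleton_le_span_singleton).mpr (dvd_mul_left d π))
      have hxL : algebraMap R L x ≠ 0 := (map_ne_zero_iff _ hRL).mpr hx0
      -- division of elements of `J`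
      have hex : ∀ z : J, ∃ w : S, algebraMap R L x * (w : L) = ((z : S) : L) * (q : L) := by
        intro z
        obtain ⟨a, ha⟩ := Ideal.mem_span_singleton.mp z.2
        let w : C := algebraMap V C (algebraMap R V t) * a
        have hw : algebraMap R L x * (w : L) = ((z : S) : L) * (q : L) := by
          have ha' : ((z : S) : L) = (d : L) * (a : L) := congrArg Subtype.val ha
          have hu' : algebraMap R L x = (π : L) * (d : L) * (u : L) := by
            rw [IsScalarTower.algebraMap_apply R V L]; exact congrArg Subtype.val hu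
          show algebraMap R L x * (algebraMap V L (algebraMap R V t) * (a : L)) = _ * (algebraMap R L t * ((π : L) * (u : L)))
          rw [ha', hu', ← IsScalarTower.algebraMap_apply]
          ring
        refine ⟨⟨(w : L), hkey _ ((hC _).mp w.2) ?_⟩, hw⟩
        rw [hw]
        exact IsIntegral.mul (z : S).2 q.2
      choose w hw using hex
      let φ : J →ₗ[R] S ⧸ (Ideal.span {π}).comap ιC :=
        { toFun := fun z => Ideal.Quotient.mk _ (w z)
          map_add' := fun z z' => by
            rw [← map_add]
            refine congrArg _ (Subtype.ext (mul_left_cancel₀ hxL ?_))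
            show algebraMap R L x * (w (z + z') : L) = algebraMap R L x * ((w z : L) + (w z' : L))
            rw [hw, mul_add, hw, hw]
            exact add_mul _ _ _
          map_smul' := fun r z => by
            show Ideal.Quotient.mk _ (w (r • z)) = r • Ideal.Quotient.mkₐ R _ (w z)
            rw [← map_smul, Ideal.Quotient.mkₐ_eq_mk]
            refine congrArg _ (Subtype.ext (mul_left_cancel₀ hxL ?_))
            show algebraMap R L x * (w (r • z) : L) = algebraMap R L x * (r • (w z : L))
            rw [mul_smul_comm, hw, hw]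
            exact smul_mul_assoc r ((z : S) : L) (q : L) }
      have hφ : ∀ z : J, φ z = 0 → (z : S) ∈ I := by
        intro z hz
        obtain ⟨c, hc⟩ := Ideal.mem_span_singleton.mp (Ideal.Quotient.eq_zero_iff_mem.mp hz)
        refine Ideal.mem_span_singleton.mpr ((hunitC t).dvd_mul_right.mp ⟨c, Subtype.ext ?_⟩)
        have hcL : (w z : L) = (π : L) * (c : L) := congrArg Subtype.val hc
        have hu' : algebraMap R L x = (π : L) * (d : L) * (u : L) := by
          rw [IsScalarTower.algebraMap_apply R V L]; exact congrArg Subtype.val hu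
        have hne : (π : L) * (u : L) ≠ 0 := fun h0 => hxL (by rw [hu', mul_right_comm, h0, zero_mul])
        show ((z : S) : L) * algebraMap V L (algebraMap R V t) = (π : L) * (d : L) * (c : L)
        rw [← IsScalarTower.algebraMap_apply]
        refine mul_right_cancel₀ hne ?_
        have h := hw z
        rw [hcL, hu'] at h
        change _ = ((z : S) : L) * (algebraMap R L t * ((π : L) * (u : L))) at h
        rw [mul_assoc ((z : S) : L), ← h]
        ring
      haveI : Module.Finite R (S ⧸ J) :=
        Module.Finite.equiv (Submodule.Quotient.restrictScalarsEquiv R _).symm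
      haveI hJI : Module.Finite R (J ⧸ I.comap J.subtype) := by
        refine Module.Finite.of_injective (Submodule.liftQ (I.comap J.subtype) φ ?_) ?_
        · intro z hz
          obtain ⟨c, hc⟩ := Ideal.mem_span_singleton.mp hz
          refine Ideal.Quotient.eq_zero_iff_mem.mpr (Ideal.mem_span_singleton.mpr ⟨algebraMap V C (algebraMap R V t) * c, Subtype.ext ?_⟩)
          have hc' : ((z : S) : L) = (π : L) * (d : L) * (c : L) := congrArg Subtype.val hc
          have hu' : algebraMap R L x = (π : L) * (d : L) * (u : L) := by
            rw [IsScalarTower.algebraMap_apply R V L]; exact congrArg Subtype.val hu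
          show (w z : L) = (π : L) * (algebraMap V L (algebraMap R V t) * (c : L))
          refine mul_left_cancel₀ hxL ?_
          rw [hw, hc', hu', ← IsScalarTower.algebraMap_apply]
          show _ * (algebraMap R L t * ((π : L) * (u : L))) = _
          ring
        · rw [← LinearMap.ker_eq_bot, Submodule.ker_liftQ_eq_bot _ _ _]
          intro z hz
          exact hφ z hz
      haveI : Module.Finite R (S ⧸ I) := by
        let e₁ : (J ⧸ I.comap J.subtype) →ₗ[R] S ⧸ I := Submodule.mapQ _ _ J.subtype le_rfl
        let e₂ : (S ⧸ I) →ₗ[R] S ⧸ J := Submodule.factor hIJ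
        refine Module.Finite.of_exact (f := e₁) (g := e₂) ?_ (Submodule.factor_surjective hIJ)
        intro y
        obtain ⟨y, rfl⟩ := Submodule.Quotient.mk_surjective _ y
        constructor
        · intro hy
          exact ⟨Submodule.Quotient.mk ⟨y, (Submodule.Quotient.mk_eq_zero J).mp hy⟩, rfl⟩
        · rintro ⟨z, hz⟩
          obtain ⟨z, rfl⟩ := Submodule.Quotient.mk_surjective _ z
          rw [← hz]
          exact (Submodule.Quotient.mk_eq_zero J).mpr z.2
      exact Module.Finite.equiv (Submodule.Quotient.restrictScalarsEquiv R _)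
  -- conclusion
  have hxfin : Module.Finite R (S ⧸ (Ideal.span {x} • ⊤ : Submodule R S)) := by
    haveI := hdiv xC hxC0 dvd_rfl
    haveI : Module.Finite R (S ⧸ ((Ideal.span {xC}).comap ιC).restrictScalars R) :=
      Module.Finite.equiv (Submodule.Quotient.restrictScalarsEquiv R _).symm
    refine Module.Finite.equiv (Submodule.quotEquivOfEq _ _ ?_) (M := S ⧸ ((Ideal.span {xC}).comap ιC).restrictScalars R)
    ext z
    rw [Submodule.restrictScalars_mem, Ideal.mem_comap, Ideal.mem_span_singleton, Submodule.ideal_span_singleton_smul, Submodule.mem_smul_pointwise_iff_exists]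
    constructor
    · rintro ⟨c, hc⟩
      have hc' : (z : L) = algebraMap R L x * (c : L) := by
        rw [IsScalarTower.algebraMap_apply R V L]; exact congrArg Subtype.val hc
      refine ⟨⟨c, hkey _ ((hC _).mp c.2) (hc' ▸ z.2)⟩, trivial, Subtype.ext ?_⟩
      show x • (c : L) = (z : L)
      rw [hc', Algebra.smul_def]
    · rintro ⟨c, -, hc⟩
      exact ⟨ιC c, by rw [← hc, Algebra.smul_def, map_mul, hιR]⟩
  haveI := hxfin
  haveI : IsHausdorff (Ideal.span {x}) S := by
    refine ⟨fun z hz => Subtype.ext ?_⟩
    have hjac : Ideal.span {xC} ≠ ⊤ := by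
      rw [Ne, Ideal.span_singleton_eq_top]
      intro hu
      have h1 : IsIntegral V ((↑hu.unit⁻¹ : C) : L) := (hC _).mp (SetLike.coe_mem _)
      haveI : IsIntegrallyClosed V := isIntegrallyClosed_of_isLocalization _ P.primeCompl hle
      have hinv : ((↑hu.unit⁻¹ : C) : L) = algebraMap F L (algebraMap R F x)⁻¹ := by
        rw [map_inv₀, ← IsScalarTower.algebraMap_apply]
        refine eq_inv_of_mul_eq_one_left ?_
        rw [IsScalarTower.algebraMap_apply R V L]
        exact congrArg Subtype.val hu.val_inv_mul
      rw [hinv] at h1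
      obtain ⟨v, hv⟩ := IsIntegrallyClosed.isIntegral_iff.mp
        ((isIntegral_algHom_iff (IsScalarTower.toAlgHom V F L) (algebraMap F L).injective).mp h1)
      have hunit : IsUnit (algebraMap R V x) := IsUnit.of_mul_eq_one v (IsFractionRing.injective V F (by
        rw [map_mul, hv, ← IsScalarTower.algebraMap_apply, map_one, mul_inv_cancel₀]
        exact (map_ne_zero_iff _ (IsFractionRing.injective R F)).mpr hx0))
      have : algebraMap R V x ∈ maximalIdeal V := hmax ▸ Ideal.mem_span_singleton_self _
      exact this hunit
    have hall : ∀ n : ℕ, ιC z ∈ Ideal.span {xC} ^ n := by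
      intro n
      have h := hz n
      rw [SModEq.sub_mem, sub_zero, Ideal.span_singleton_pow, Submodule.ideal_span_singleton_smul, Submodule.mem_smul_pointwise_iff_exists] at h
      obtain ⟨c, -, hc⟩ := h
      rw [Ideal.span_singleton_pow, Ideal.mem_span_singleton]
      exact ⟨ιC c, by rw [← hc, Algebra.smul_def, map_mul, hιR, map_pow, map_pow]⟩
    have h0 : ιC z ∈ ⨅ n, Ideal.span {xC} ^ n := (Submodule.mem_iInf _).mpr hall
    rw [Ideal.iInf_pow_eq_bot_of_isDomain _ hjac, Ideal.mem_bot] at h0
    exact congrArg (fun c : C => (c : L)) h0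
  exact H24Adic.finite_of_finite_quotient (Ideal.span {x})

end Groth.Agent.H1CAlg
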