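import Groth.Prelude.Def_Found
import Groth.Agent.S2321
import Groth.Agent.S2138
import Groth.Agent.H05EGA4.Equidim
import Groth.Agent.H05EGA4.Regular2
import Mathlib.RingTheory.Ideal.AssociatedPrime.Finiteness
import Mathlib.RingTheory.Ideal.KrullsHeightTheorem
import Mathlib.RingTheory.AdicCompletion.LocalRing
import Mathlib.LinearAlgebra.TensorProduct.Pi
import Mathlib.RingTheory.RegularLocalRing.Defs

/-!
# A criterion for a local domain to be analytically unramified
-/

set_option autoImplicit false

universe u

open TensorProduct IsLocalRing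

namespace Groth.Agent.H1CAlg

section flat

variable {R S : Type u} [CommRing R] [CommRing S] [Algebra R S] [Module.Flat R S]

theorem mem_map_of_mul_mem (I : Ideal R) {s : R} (hs : ∀ r, s * r ∈ I → r ∈ I) {y : S}
    (h : algebraMap R S s * y ∈ I.map (algebraMap R S)) : y ∈ I.map (algebraMap R S) := by
  refine S2138.mem_map_of_tmul_eq_zero I ?_
  have hinj : Function.Injective ((LinearMap.lsmul R (R ⧸ I) s).lTensor S) :=
    Module.Flat.lTensor_preserves_injective_linearMap _ ((injective_iff_map_eq_zero _).mpr fun x hx => by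
      obtain ⟨x, rfl⟩ := Ideal.Quotient.mk_surjective x
      exact Ideal.Quotient.eq_zero_iff_mem.mpr (hs x (Ideal.Quotient.eq_zero_iff_mem.mp hx)))
  refine hinj ?_
  rw [map_zero, LinearMap.lTensor_tmul, LinearMap.lsmul_apply, ← TensorProduct.smul_tmul, Algebra.smul_def]
  exact S2138.tmul_eq_zero_of_mem I _ (fun a ha => by
    rw [Algebra.smul_def, map_one, mul_one]; exact Ideal.Quotient.eq_zero_iff_mem.mpr ha) h

theorem mem_map_of_forall_mem {ι : Type u} [Fintype ι] [DecidableEq ι] (I : ι → Ideal R) (J : Ideal R)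
    (h : ∀ r, (∀ i, r ∈ I i) → r ∈ J) (hJ : ∀ i, J ≤ I i) {y : S}
    (hy : ∀ i, y ∈ (I i).map (algebraMap R S)) : y ∈ J.map (algebraMap R S) := by
  refine S2138.mem_map_of_tmul_eq_zero J ?_
  let g : (R ⧸ J) →ₗ[R] ((i : ι) → R ⧸ I i) := LinearMap.pi fun i => (Ideal.Quotient.factorₐ R (hJ i)).toLinearMap
  have hg : Function.Injective g := (injective_iff_map_eq_zero _).mpr fun x hx => by
    obtain ⟨x, rfl⟩ := Ideal.Quotient.mk_surjective x
    exact Ideal.Quotient.eq_zero_iff_mem.mpr (h x fun i => Ideal.Quotient.eq_zero_iff_mem.mp (congrFun hx i))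
  apply Module.Flat.lTensor_preserves_injective_linearMap (M := S) g hg
  rw [map_zero]
  apply (TensorProduct.piRight R R S fun i => R ⧸ I i).injective
  rw [map_zero, LinearMap.lTensor_tmul]
  funext i
  simp only [TensorProduct.piRight_apply, TensorProduct.piRightHom_tmul, Pi.zero_apply]
  exact S2138.tmul_eq_zero_of_mem (I i) _ (fun a ha => by
    show a • (1 : R ⧸ I i) = 0
    rw [Algebra.smul_def, mul_one]; exact Ideal.Quotient.eq_zero_iff_mem.mpr ha) (hy i)

theorem eq_zero_of_algebraMap_mul [IsDomain R] {s : R} (hs : s ≠ 0) {y : S} (h : algebraMap R S s * y = 0) :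
    y = 0 := by
  have := mem_map_of_mul_mem (S := S) (⊥ : Ideal R) (s := s) (fun r hr => (mul_eq_zero.mp hr).resolve_left hs)
    (y := y) (by rw [h]; exact zero_mem _)
  simpa using this

end flat

variable {R : Type u} [CommRing R] [IsDomain R] [IsLocalRing R] [IsNoetherianRing R]

theorem isNilpotent_of_algebraMap_mul {s : R} (hs : s ≠ 0) {g : AdicCompletion (maximalIdeal R) R}
    [Module.Flat R (AdicCompletion (maximalIdeal R) R)]
    (h : IsNilpotent (algebraMap R (AdicCompletion (maximalIdeal R) R) s * g)) : IsNilpotent g := by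
  obtain ⟨N, hN⟩ := h
  rw [mul_pow, ← map_pow] at hN
  exact ⟨N, eq_zero_of_algebraMap_mul (pow_ne_zero N hs) hN⟩

/-- If the completions of the quotients by the associated primes `p` of `R/xR` are reduced and the
maximal ideals of the rings `R_p` are principal, then the completion of `R` is reduced. -/
theorem isReduced_adicCompletion_of_element (x : R) (hx : x ≠ 0) (hxm : x ∈ maximalIdeal R)
    (h : ∀ p ∈ associatedPrimes R (R ⧸ Ideal.span {x}), ∀ _ : p.IsPrime,
      IsReduced (AdicCompletion ((maximalIdeal R).map (Ideal.Quotient.mk p)) (R ⧸ p)) ∧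
      ∃ (t : R) (n : ℕ), maximalIdeal (Localization.AtPrime p) ≤ Ideal.span {algebraMap R _ t} ∧
        algebraMap R (Localization.AtPrime p) t ^ n ∈ Ideal.span {algebraMap R _ x}) :
    IsReduced (AdicCompletion (maximalIdeal R) R) := by
  classical
  let Ah := AdicCompletion (maximalIdeal R) R
  haveI : IsNoetherianRing Ah := H05EGA4.isNoetherianRing_adicCompletion R _
  haveI : IsLocalRing Ah := AdicCompletion.isLocalRing_of_fg (IsNoetherian.noetherian _)
  haveI : Module.FaithfullyFlat R Ah :=
    ((Groth.Agent.S2321.result R (maximalIdeal R)).out 0 1).mp (IsLocalRing.maximalIdeal_le_jacobson _)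
  have hfin := associatedPrimes.finite R (R ⧸ Ideal.span {x})
  haveI := hfin.fintype
  have hdiv : ∀ f : Ah, IsNilpotent f → ∃ g, f = algebraMap R Ah x * g ∧ IsNilpotent g := by
    intro f hf
    have hfp : ∀ p : Ideal R, (∀ [p.IsPrime], IsReduced (AdicCompletion ((maximalIdeal R).map (Ideal.Quotient.mk p)) (R ⧸ p))) →
        p.IsPrime → ∀ g : Ah, IsNilpotent g → g ∈ p.map (algebraMap R Ah) := by
      intro p hred hp g hg
      haveI := @hred hp
      obtain ⟨e⟩ := H05EGA4.exists_completion_quotient_equiv (maximalIdeal R) (R ⧸ p) (Ideal.Quotient.mk p)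
        Ideal.Quotient.mk_surjective _ rfl
      have h0 : e (Ideal.Quotient.mk _ g) = 0 :=
        IsNilpotent.eq_zero ((hg.map (Ideal.Quotient.mk _)).map e.toRingHom)
      rw [map_eq_zero_iff _ e.injective, Ideal.Quotient.eq_zero_iff_mem, Ideal.mk_ker] at h0
      exact h0
    have hloc : ∀ p : associatedPrimes R (R ⧸ Ideal.span {x}),
        f ∈ ((Ideal.span {algebraMap R (Localization (p.1.primeCompl (hp := p.2.isPrime))) x}).comap
          (algebraMap R _)).map (algebraMap R Ah) := by
      rintro ⟨p, hp⟩
      haveI := hp.isPrime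
      obtain ⟨hred, t, n, ht, htn⟩ := h p hp inferInstance
      let Rp := Localization.AtPrime p
      have hxp : x ∈ p := hp.annihilator_le (Submodule.mem_annihilator.mpr fun m _ => by
        obtain ⟨m, rfl⟩ := Ideal.Quotient.mk_surjective m
        exact Ideal.Quotient.eq_zero_iff_mem.mpr (Ideal.mul_mem_right _ _ (Ideal.mem_span_singleton_self x)))
      have ht0 : t ≠ 0 := by
        rintro rfl
        have hx' := ht ((IsLocalization.AtPrime.to_map_mem_maximal_iff Rp p x).mpr hxp)
        rw [map_zero, Ideal.mem_span_singleton, zero_dvd_iff] at hx'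
        exact hx (IsLocalization.injective Rp p.primeCompl_le_nonZeroDivisors (hx'.trans (map_zero _).symm))
      let I : ℕ → Ideal R := fun j => (Ideal.span {algebraMap R Rp t ^ j}).comap (algebraMap R Rp)
      have hI : ∀ j, f ∈ (I j).map (algebraMap R Ah) := by
        intro j
        induction j with
        | zero =>
          have : I 0 = ⊤ := by simp [I]
          rw [this, Ideal.map_top]; trivial
        | succ j ih =>
          obtain ⟨s, hs, hsI⟩ : ∃ s ∈ p.primeCompl, ∀ r ∈ I j, t ^ j ∣ s * r := by
            obtain ⟨G, hG⟩ := IsNoetherian.noetherian (I j)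
            have h1 : ∀ r ∈ I j, ∃ s ∈ p.primeCompl, t ^ j ∣ s * r := by
              intro r hr
              rw [Ideal.mem_comap, ← map_pow, ← Set.image_singleton, ← Ideal.map_span,
                IsLocalization.algebraMap_mem_map_algebraMap_iff p.primeCompl] at hr
              obtain ⟨s, hs, hsr⟩ := hr
              exact ⟨s, hs, Ideal.mem_span_singleton.mp hsr⟩
            choose s hs hsr using fun g : G => h1 g (hG ▸ Submodule.subset_span g.2)
            refine ⟨∏ g, s g, Submonoid.prod_mem _ fun g _ => hs g, fun r hr => ?_⟩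
            rw [← hG] at hr
            induction hr using Submodule.span_induction with
            | mem g hg =>
              obtain ⟨c, hc⟩ := Finset.dvd_prod_of_mem s (Finset.mem_univ (⟨g, hg⟩ : G))
              rw [hc, mul_right_comm]
              exact (hsr ⟨g, hg⟩).mul_right c
            | zero => rw [mul_zero]; exact dvd_zero _
            | add a b _ _ ha hb => rw [mul_add]; exact dvd_add ha hb
            | smul c a _ ha => rw [smul_eq_mul, mul_left_comm]; exact ha.mul_left c
          have h2 : algebraMap R Ah s * f ∈ (Ideal.span {t ^ j}).map (algebraMap R Ah) := by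
            have h3 : Ideal.span {s} * I j ≤ Ideal.span {t ^ j} := by
              rw [Ideal.span_singleton_mul_le_iff]
              exact fun r hr => Ideal.mem_span_singleton.mpr (hsI r hr)
            refine Ideal.map_mono h3 ?_
            rw [Ideal.map_mul]
            exact Ideal.mul_mem_mul (Ideal.mem_map_of_mem _ (Ideal.mem_span_singleton_self s)) ih
          rw [Ideal.map_span, Set.image_singleton, Ideal.mem_span_singleton] at h2
          obtain ⟨g, hg⟩ := h2
          have hgn : IsNilpotent g := isNilpotent_of_algebraMap_mul (pow_ne_zero j ht0) (by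
            rw [← hg]
            obtain ⟨N, hN⟩ := hf
            exact ⟨N, by rw [mul_pow, hN, mul_zero]⟩)
          have hle : Ideal.span {t ^ j} * p ≤ I (j + 1) := by
            rw [Ideal.span_singleton_mul_le_iff]
            intro r hr
            have hr' := Ideal.mem_span_singleton.mp (ht ((IsLocalization.AtPrime.to_map_mem_maximal_iff Rp p r).mpr hr))
            rw [Ideal.mem_comap, Ideal.mem_span_singleton, map_mul, map_pow, pow_succ]
            exact mul_dvd_mul_left _ hr'
          refine mem_map_of_mul_mem (I (j + 1)) (s := s) (fun r hr => ?_) ?_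
          · rw [Ideal.mem_comap, map_mul] at hr
            exact (Ideal.unit_mul_mem_iff_mem _ (IsLocalization.map_units Rp (⟨s, hs⟩ : p.primeCompl))).mp hr
          · rw [hg]
            refine Ideal.map_mono hle ?_
            rw [Ideal.map_mul]
            exact Ideal.mul_mem_mul (Ideal.mem_map_of_mem _ (Ideal.mem_span_singleton_self _))
              (hfp p hred inferInstance g hgn)
      refine Ideal.map_mono (Ideal.comap_mono ?_) (hI n)
      rwa [Ideal.span_singleton_le_iff_mem]
    have hfx : f ∈ (Ideal.span {x}).map (algebraMap R Ah) := by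
      refine mem_map_of_forall_mem (ι := associatedPrimes R (R ⧸ Ideal.span {x})) _ (Ideal.span {x}) (fun r hr => ?_)
        (fun p => ?_) hloc
      · by_contra hrx
        obtain ⟨P, hP, hle⟩ := exists_le_isAssociatedPrime_of_isNoetherianRing R (Ideal.Quotient.mk (Ideal.span {x}) r)
          (mt Ideal.Quotient.eq_zero_iff_mem.mp hrx)
        haveI := hP.isPrime
        have h1 := hr ⟨P, hP⟩
        rw [Ideal.mem_comap, ← Set.image_singleton, ← Ideal.map_span,
          IsLocalization.algebraMap_mem_map_algebraMap_iff P.primeCompl] at h1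
        obtain ⟨s, hs, hsr⟩ := h1
        refine hs (hle (Submodule.mem_colon_singleton.mpr ((Submodule.mem_bot R).mpr ?_)))
        rw [Algebra.smul_def, Ideal.Quotient.algebraMap_eq, ← map_mul]
        exact Ideal.Quotient.eq_zero_iff_mem.mpr hsr
      · rw [← Ideal.map_le_iff_le_comap, Ideal.map_span, Set.image_singleton]
    rw [Ideal.map_span, Set.image_singleton, Ideal.mem_span_singleton] at hfx
    obtain ⟨g, hg⟩ := hfx
    exact ⟨g, hg, isNilpotent_of_algebraMap_mul hx (hg ▸ hf)⟩
  refine ⟨fun f hf => ?_⟩
  have hall : ∀ k : ℕ, ∀ f : Ah, IsNilpotent f → f ∈ maximalIdeal Ah ^ k := by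
    intro k
    induction k with
    | zero => intro f _; simp
    | succ k ih =>
      intro f hf
      obtain ⟨g, hg, hgn⟩ := hdiv f hf
      rw [hg, pow_succ']
      refine Ideal.mul_mem_mul ?_ (ih g hgn)
      show algebraMap R Ah x ∈ maximalIdeal Ah
      rw [show maximalIdeal Ah = _ from AdicCompletion.maximalIdeal_eq_map]
      exact Ideal.mem_map_of_mem _ hxm
  have h0 : f ∈ ⨅ k, maximalIdeal Ah ^ k := (Submodule.mem_iInf _).mpr fun k => hall k f hf
  rwa [Ideal.iInf_pow_eq_bot_of_isLocalRing _ (IsLocalRing.maximalIdeal.isMaximal Ah).ne_top, Ideal.mem_bot] at h0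

theorem exists_uniformizer_of_isRegularLocalRing {p : Ideal R} [p.IsPrime] {x : R}
    (hp : p ∈ (Ideal.span {x}).minimalPrimes) [IsRegularLocalRing (Localization.AtPrime p)] :
    ∃ (t : R) (n : ℕ), maximalIdeal (Localization.AtPrime p) ≤ Ideal.span {algebraMap R _ t} ∧
      algebraMap R (Localization.AtPrime p) t ^ n ∈ Ideal.span {algebraMap R _ x} := by
  let Rp := Localization.AtPrime p
  have hdim : ringKrullDim Rp ≤ (1 : ℕ∞) := by
    rw [IsLocalization.AtPrime.ringKrullDim_eq_height p Rp]
    exact WithBot.coe_le_coe.mpr (Ideal.height_le_one_of_isPrincipal_of_mem_minimalPrimes _ p hp)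
  have hrk : Submodule.spanFinrank (maximalIdeal Rp) ≤ 1 := by
    have := IsRegularLocalRing.spanFinrank_maximalIdeal (R := Rp) ▸ hdim
    exact_mod_cast this
  obtain ⟨π, hπ⟩ : ∃ π : Rp, maximalIdeal Rp = Ideal.span {π} := by
    obtain ⟨s, hs, hspan⟩ := Submodule.FG.exists_span_set_encard_eq_spanFinrank (IsNoetherian.noetherian (maximalIdeal Rp))
    rcases Set.encard_le_one_iff_subsingleton.mp (hs.le.trans (by exact_mod_cast hrk)) |>.eq_empty_or_singleton with rfl | ⟨π, rfl⟩
    · exact ⟨0, by rw [← hspan]; simp⟩
    · exact ⟨π, hspan.symm⟩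
  obtain ⟨⟨t, s⟩, hts⟩ := IsLocalization.surj p.primeCompl π
  have hspan : maximalIdeal Rp = Ideal.span {algebraMap R Rp t} := by
    rw [hπ, ← hts, Ideal.span_singleton_mul_right_unit (IsLocalization.map_units Rp s)]
  have htp : t ∈ p := (IsLocalization.AtPrime.to_map_mem_maximal_iff Rp p t).mp (hspan ▸ Ideal.mem_span_singleton_self _)
  obtain ⟨n, hn⟩ : algebraMap R Rp t ∈ ((Ideal.span {x}).map (algebraMap R Rp)).radical := by
    rw [IsLocalization.AtPrime.radical_map_of_mem_minimalPrimes Rp p _ hp, IsLocalization.AtPrime.map_eq_maximalIdeal p Rp]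
    exact hspan ▸ Ideal.mem_span_singleton_self _
  exact ⟨t, n, hspan.le, by rwa [Ideal.map_span, Set.image_singleton] at hn⟩

end Groth.Agent.H1CAlg
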