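import Groth.Agent.H9Hens.FormalFibres
import Groth.Agent.H9Hens.GRingLocal
import Groth.Agent.H9Hens.StrictHens
import Groth.Agent.S0540
import Groth.Agent.S1962
import Groth.Agent.S9318

/-!
# Formal fibres of strict henselizations
-/

set_option linter.style.haveILetI false

universe u

open IsLocalRing TensorProduct Groth.Agent Groth.Agent.H05EGA4 Groth.Agent.H9Hens

namespace Groth.Agent.H1CAlg.GRingStrict

theorem isLocalHom_cpl (S : Type u) [CommRing S] [IsLocalRing S] [IsNoetherianRing S] :
    IsLocalHom (algebraMap S (EGA4.Cpl S)) := by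
  refine ((local_hom_TFAE _).out 0 2).mpr ?_
  rw [← AdicCompletion.maximalIdeal_eq_map]

theorem isAdicFormallySmooth_stage (R S : Type u) [CommRing R] [IsLocalRing R] [CommRing S]
    [IsLocalRing S] [IsNoetherianRing S] [Algebra R S] [IsLocalHom (algebraMap R S)]
    [Hensel.IsStrictHenselization R S]
    (T : Type u) [CommRing T] [Algebra R T] [Algebra T S] [IsScalarTower R T S]
    [Algebra.FormallyUnramified R T] :
    CAlgX.IsAdicFormallySmooth T (EGA4.Cpl S) (maximalIdeal (EGA4.Cpl S)) := by
  haveI : Algebra.FormallyEtale R S := S1962.result R S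
  have hS : CAlgX.IsAdicFormallySmooth T S (maximalIdeal S) := by
    intro C _ _ J hJ ψ _
    letI : Algebra R C := ((algebraMap T C).comp (algebraMap R T)).toAlgebra
    haveI : IsScalarTower R T C := IsScalarTower.of_algebraMap_eq fun _ => rfl
    have hnil : IsNilpotent J := ⟨2, hJ⟩
    let χ : S →ₐ[R] C := Algebra.FormallySmooth.lift J hnil (ψ.restrictScalars R)
    have hχ : (Ideal.Quotient.mkₐ R J).comp χ = ψ.restrictScalars R :=
      Algebra.FormallySmooth.comp_lift J hnil _
    have hT : χ.comp (IsScalarTower.toAlgHom R T S) = IsScalarTower.toAlgHom R T C := by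
      refine Algebra.FormallyUnramified.ext J hnil fun t => ?_
      show Ideal.Quotient.mk J (χ (algebraMap T S t)) = Ideal.Quotient.mk J (algebraMap T C t)
      exact (AlgHom.congr_fun hχ (algebraMap T S t)).trans (ψ.commutes t)
    exact ⟨{ χ with commutes' := fun t => AlgHom.congr_fun hT t }, AlgHom.ext fun s => AlgHom.congr_fun hχ s⟩
  have := (S9318.result (maximalIdeal S) (IsNoetherian.noetherian _)).mp hS
  rwa [← AdicCompletion.maximalIdeal_eq_map] at this

variable {r n : WithBot ℕ∞}

theorem grsHom_cpl_strictHenselization (R S : Type u) [CommRing R] [IsLocalRing R] [IsNoetherianRing R] [CommRing S]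
    [IsLocalRing S] [Algebra R S] [IsLocalHom (algebraMap R S)] [Hensel.IsStrictHenselization R S]
    (h : GRSHom r n R (EGA4.Cpl R)) : GRSHom r n S (EGA4.Cpl S) := by
  classical
  have : IsNoetherianRing S := (S0540.result R S).mp inferInstance
  obtain ⟨k, _, _, _, _, _, π, hπ⟩ := exists_isPtColim_of_isStrictHenselization (R := R) S
  haveI := isNoetherianRing_cpl S
  refine grsHom_of_forall (flat_cpl S) fun Q _ L _ _ _ _ _ _ => ?_
  let κ := Q.ResidueField
  let b := Module.finBasis κ L
  let ι := Fin (Module.finrank κ L)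
  obtain ⟨F, hF⟩ := (IsNoetherian.noetherian Q : Q.FG)
  -- numerators and denominators
  have hfr : ∀ c : κ, ∃ a d : S, d ∉ Q ∧ algebraMap S κ a / algebraMap S κ d = c := fun c => by
    obtain ⟨a, d, hd, he⟩ := IsFractionRing.div_surjective (S ⧸ Q) c
    obtain ⟨a, rfl⟩ := Ideal.Quotient.mk_surjective a
    obtain ⟨d, rfl⟩ := Ideal.Quotient.mk_surjective d
    exact ⟨a, d, fun h => nonZeroDivisors.ne_zero hd (Ideal.Quotient.eq_zero_iff_mem.mpr h), he⟩
  choose num den hden hfrac using hfr
  let cst : Finset κ := Finset.univ.image (fun i : ι => b.repr 1 i) ∪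
    Finset.univ.image (fun x : ι × ι × ι => b.repr (b x.1 * b x.2.1) x.2.2)
  obtain ⟨T, _, _, _, φ, y, hy⟩ := hπ.exists_rep_finset (F ∪ cst.image num ∪ cst.image den) id
  let M : Ideal T := (maximalIdeal S).comap φ.toRingHom
  let T0 := Localization.AtPrime M
  let ψ : T0 →ₐ[R] S := IsLocalization.liftAlgHom (M := M.primeCompl) (f := φ) fun t =>
    IsLocalRing.notMem_maximalIdeal.mp t.2
  let : Algebra T0 S := ψ.toRingHom.toAlgebra
  have : IsScalarTower R T0 S := IsScalarTower.of_algebraMap_eq fun x => (ψ.commutes x).symm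
  have hψ : ∀ t, algebraMap T0 S (algebraMap T T0 t) = φ t := fun t => IsLocalization.lift_eq _ t
  have : IsLocalHom (algebraMap T0 S) := ⟨fun x hx => by
    obtain ⟨t, d, rfl⟩ := IsLocalization.exists_mk'_eq M.primeCompl x
    rw [IsLocalization.AtPrime.isUnit_mk'_iff T0 M]
    intro ht
    have h' := hx.mul ((IsLocalization.map_units T0 d).map (algebraMap T0 S))
    rw [← map_mul, IsLocalization.mk'_spec, hψ] at h'
    exact (mem_maximalIdeal _).mp ht h'⟩
  have : IsNoetherianRing T := Algebra.FiniteType.isNoetherianRing R T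
  have : IsNoetherianRing T0 := IsLocalization.isNoetherianRing M.primeCompl _ inferInstance
  haveI : Algebra.EssFiniteType T T0 := Algebra.EssFiniteType.of_isLocalization T0 M.primeCompl
  haveI : Algebra.EssFiniteType R T0 := Algebra.EssFiniteType.comp R T T0
  haveI : Algebra.FormallyUnramified T T0 := Algebra.FormallyUnramified.of_isLocalization M.primeCompl
  haveI : Algebra.FormallyUnramified R T0 := Algebra.FormallyUnramified.comp R T T0
  have hT0 : GRSHom r n T0 (EGA4.Cpl S) := by
    haveI : IsLocalHom (algebraMap R T0) := ⟨fun r hr => by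
      have := hr.map (algebraMap T0 S)
      rw [← IsScalarTower.algebraMap_apply] at this
      exact IsUnit.of_map (algebraMap R S) r this⟩
    haveI := isNoetherianRing_cpl T0
    haveI : IsLocalHom (algebraMap S (EGA4.Cpl S)) := isLocalHom_cpl S
    haveI : IsLocalHom (algebraMap T0 (EGA4.Cpl S)) := by
      rw [IsScalarTower.algebraMap_eq T0 S (EGA4.Cpl S)]
      infer_instance
    exact grsHom_of_isAdicFormallySmooth (h.cpl_essFiniteType T0) (isAdicFormallySmooth_stage R S T0)
  -- the prime and the residue fields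
  have hrep : ∀ x ∈ F ∪ cst.image num ∪ cst.image den, ∃ t : T0, algebraMap T0 S t = x := fun x hx =>
    ⟨algebraMap T T0 (y x), (hψ _).trans (hy x hx)⟩
  let P : Ideal T0 := Q.comap (algebraMap T0 S)
  haveI : Q.LiesOver P := ⟨rfl⟩
  have hQ : P.map (algebraMap T0 S) = Q := by
    refine le_antisymm Ideal.map_comap_le ?_
    conv_lhs => rw [← hF]
    rw [Submodule.span_le]
    intro x hx
    obtain ⟨t, rfl⟩ := hrep x (by simp [Finset.mem_coe.mp hx])
    exact Ideal.mem_map_of_mem _ (show algebraMap T0 S t ∈ Q from hF ▸ Submodule.subset_span hx)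
  let k0 := P.ResidueField
  let : Algebra k0 κ := (Ideal.ResidueField.map P Q (algebraMap T0 S) rfl).toAlgebra
  have : IsScalarTower T0 k0 κ := IsScalarTower.of_algebraMap_eq fun t => by
    rw [RingHom.algebraMap_toAlgebra, Ideal.ResidueField.map_algebraMap]
    exact IsScalarTower.algebraMap_apply T0 S κ t
  let : Algebra k0 L := ((algebraMap κ L).comp (algebraMap k0 κ)).toAlgebra
  have : IsScalarTower k0 κ L := IsScalarTower.of_algebraMap_eq fun _ => rfl
  let : Algebra T0 L := ((algebraMap S L).comp (algebraMap T0 S)).toAlgebra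
  have : IsScalarTower T0 S L := IsScalarTower.of_algebraMap_eq fun _ => rfl
  have : IsScalarTower T0 k0 L := IsScalarTower.of_algebraMap_eq fun t => by
    show algebraMap S L (algebraMap T0 S t) = algebraMap κ L (algebraMap k0 κ (algebraMap T0 k0 t))
    rw [← IsScalarTower.algebraMap_apply T0 k0 κ, IsScalarTower.algebraMap_apply T0 S κ,
      ← IsScalarTower.algebraMap_apply S κ L]
  have hcst : ∀ c ∈ cst, ∃ c0 : k0, algebraMap k0 κ c0 = c := fun c hc => by
    obtain ⟨a, ha⟩ := hrep (num c) (by simp [Finset.mem_image_of_mem num hc])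
    obtain ⟨d, hd⟩ := hrep (den c) (by simp [Finset.mem_image_of_mem den hc])
    refine ⟨algebraMap T0 k0 a / algebraMap T0 k0 d, ?_⟩
    rw [map_div₀, ← IsScalarTower.algebraMap_apply, ← IsScalarTower.algebraMap_apply,
      IsScalarTower.algebraMap_apply T0 S κ, IsScalarTower.algebraMap_apply T0 S κ, ha, hd, hfrac]
  let N : Submodule k0 L := Submodule.span k0 (Set.range b)
  have hmem : ∀ l : L, (∀ i, b.repr l i ∈ cst) → l ∈ N := fun l hl => by
    rw [← b.sum_repr l]
    refine Submodule.sum_mem _ fun i _ => ?_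
    obtain ⟨c0, hc0⟩ := hcst _ (hl i)
    rw [← hc0, algebraMap_smul]
    exact Submodule.smul_mem _ _ (Submodule.subset_span ⟨i, rfl⟩)
  have h1 : (1 : L) ∈ N := hmem 1 fun i => Finset.mem_union_left _ (Finset.mem_image_of_mem _ (Finset.mem_univ i))
  have hmul : ∀ x z, x ∈ N → z ∈ N → x * z ∈ N := fun x z hx hz => by
    have := Submodule.mul_mem_mul hx hz
    rw [Submodule.span_mul_span] at this
    refine Submodule.span_le.mpr ?_ this
    rintro _ ⟨_, ⟨i, rfl⟩, _, ⟨j, rfl⟩, rfl⟩
    exact hmem _ fun l => Finset.mem_union_right _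
      (Finset.mem_image.mpr ⟨(i, j, l), Finset.mem_univ _, rfl⟩)
  let L0 : Subalgebra k0 L := N.toSubalgebra h1 hmul
  have hli : LinearIndependent k0 b := b.linearIndependent.restrict_scalars (by
    intro x z hxz
    exact (algebraMap k0 κ).injective (by simpa [Algebra.smul_def] using hxz))
  let b0 : Module.Basis ι k0 L0 := Module.Basis.span hli
  have hb0 : ∀ i, algebraMap L0 L (b0 i) = b i := fun i => congrArg Subtype.val (Module.Basis.span_apply hli i)
  have : Module.Finite k0 L0 := Module.Finite.of_basis b0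
  have hL0 : IsField L0 := isField_of_isIntegral_of_isField' (R := k0) (Field.toIsField k0)
  let := hL0.toField
  have : Algebra.EssFiniteType k0 L0 := inferInstance
  have : Algebra.EssFiniteType T0 L0 := Algebra.EssFiniteType.comp T0 k0 L0
  haveI : IsNoetherianRing (L0 ⊗[T0] EGA4.Cpl S) := H02CA.isNoetherianRing_tensor_of_essFiniteType _ _ _
  have h0 : RS r n (L0 ⊗[T0] EGA4.Cpl S) := hT0.tensor_field L0 (.inl inferInstance)
  let C := EGA4.Cpl S
  let W := S ⊗[T0] L0
  let e' : L0 ⊗[T0] C ≃+* C ⊗[S] W := (Algebra.TensorProduct.comm T0 L0 C).toRingEquiv.trans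
    (Algebra.TensorProduct.cancelBaseChange T0 S S C L0).symm.toRingEquiv
  haveI : IsNoetherianRing (C ⊗[S] W) := isNoetherianRing_of_ringEquiv (L0 ⊗[T0] C) e'
  let : Algebra W L := (Algebra.TensorProduct.lift (Algebra.ofId S L)
    (IsScalarTower.toAlgHom T0 L0 L) fun _ _ => Commute.all _ _).toRingHom.toAlgebra
  have : IsScalarTower S W L := IsScalarTower.of_algebraMap_eq fun s =>
    (AlgHom.commutes (Algebra.TensorProduct.lift (Algebra.ofId S L)
      (IsScalarTower.toAlgHom T0 L0 L) fun _ _ => Commute.all _ _) s).symm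
  have hloc : IsLocalization (Q.primeCompl.map (algebraMap S W)) L :=
    isLocalization_fibre_descent Q P hQ L L0 b0 b hb0
  exact rs_tensor_of_isLocalization S C W L (Q.primeCompl.map (algebraMap S W)) (h0.of_ringEquiv e')

end Groth.Agent.H1CAlg.GRingStrict
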