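import Groth.Agent.H1CAlg.CycDet

/-! The symbol of a spanning admissible tuple is non-zero. -/

set_option autoImplicit false
universe u v

namespace Groth.Agent.H1CAlg.CycSym

open IsLocalRing CycDet

variable {R : Type u} [CommRing R] [IsLocalRing R] {M : Type v} [AddCommGroup M] [Module R M]

theorem spanBefore_swap_eq {l : ℕ} (e : Fin l → M) {a b : Fin l} (hab : (b : ℕ) + 1 = a) {i : ℕ}
    (hi : i ≠ a) : spanBefore R M (e ∘ Equiv.swap a b) i = spanBefore R M e i := by
  rw [spanBefore, spanBefore, Set.image_comp]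
  congr 2
  ext j
  simp only [Set.mem_setOf_eq, Set.mem_image]
  have key : ∀ k : Fin l, (k : ℕ) < i → ((Equiv.swap a b k : Fin l) : ℕ) < i := fun k hk => by
    rw [Equiv.swap_apply_def]
    split_ifs with h1 h2 <;> subst_vars <;> omega
  exact ⟨by rintro ⟨k, hk, rfl⟩; exact key k hk, fun hj => ⟨_, key j hj, Equiv.swap_apply_self _ _ _⟩⟩

theorem spanBefore_swap_self {l : ℕ} (e : Fin l → M) {a b : Fin l} (hab : (b : ℕ) + 1 = a) :
    spanBefore R M (e ∘ Equiv.swap a b) a = spanBefore R M e b ⊔ Submodule.span R {e a} := by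
  rw [← hab, spanBefore_succ, spanBefore_swap_eq e hab (by omega), Function.comp_apply,
    Equiv.swap_apply_right]

theorem spanBefore_change {l : ℕ} {e e' : Fin l → M} {a : Fin l} {c : Rˣ}
    (h : ∀ j, j ≠ a → e j = e' j) (h' : e a - (c : R) • e' a ∈ spanBefore R M e a) (i : ℕ) :
    spanBefore R M e i = spanBefore R M e' i := by
  by_cases hi : i ≤ a
  · exact spanBefore_congr fun j hj => h j fun hh => by subst hh; omega
  have ha : spanBefore R M e a = spanBefore R M e' a :=
    spanBefore_congr fun j hj => h j fun hh => by subst hh; omega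
  refine le_antisymm (Submodule.span_le.2 ?_) (Submodule.span_le.2 ?_) <;> rintro _ ⟨j, hj, rfl⟩
  · by_cases hja : j = a
    · subst hja
      have h1 := spanBefore_mono e' (le_of_lt (not_le.1 hi)) (ha.le h')
      have := add_mem h1 (Submodule.smul_mem _ (c : R) (mem_spanBefore (R := R) e' (not_le.1 hi)))
      rwa [sub_add_cancel] at this
    · rw [h j hja]; exact mem_spanBefore _ hj
  · by_cases hja : j = a
    · subst hja
      have h1 := spanBefore_mono e (le_of_lt (not_le.1 hi)) h'
      have := sub_mem (mem_spanBefore (R := R) e (not_le.1 hi)) h1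
      rw [sub_sub_cancel] at this
      exact (Submodule.smul_mem_iff_of_isUnit _ c.isUnit).1 this
    · rw [← h j hja]; exact mem_spanBefore _ hj

theorem nonDeg_change {l : ℕ} {e e' : Fin l → M} {a : Fin l} {c : Rˣ}
    (h : ∀ j, j ≠ a → e j = e' j) (h' : e a - (c : R) • e' a ∈ spanBefore R M e a) :
    NonDeg (R := R) e ↔ NonDeg (R := R) e' := by
  refine forall_congr' fun i => not_congr ?_
  rw [← spanBefore_change h h']
  by_cases hia : i = a
  · subst hia
    refine ⟨fun hi => ?_, fun hi => ?_⟩
    · have := sub_mem hi h'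
      rw [sub_sub_cancel] at this
      exact (Submodule.smul_mem_iff_of_isUnit _ c.isUnit).1 this
    · have := add_mem h' (Submodule.smul_mem _ (c : R) hi)
      rwa [sub_add_cancel] at this
  · rw [h i hia]

theorem nonDeg_swap {l : ℕ} (e : Fin l → M) {a b : Fin l} (hab : (b : ℕ) + 1 = a)
    (h : ∀ r ∈ maximalIdeal R, r • e a ∈ spanBefore R M e b) (he : NonDeg (R := R) e) :
    NonDeg (R := R) (e ∘ Equiv.swap a b) := by
  intro i
  have hba : spanBefore R M e b ≤ spanBefore R M e a := spanBefore_mono e (by omega)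
  by_cases hia : i = a
  · subst hia
    rw [spanBefore_swap_self e hab, Function.comp_apply, Equiv.swap_apply_left, Submodule.mem_sup]
    rintro ⟨p, hp, q, hq, hpq⟩
    obtain ⟨r, rfl⟩ := Submodule.mem_span_singleton.1 hq
    have hr : IsUnit r := smul_unit_of_notMem h fun hh => he b (hpq ▸ add_mem hp hh)
    have h2 : r • e i ∈ spanBefore R M e i := by
      have : r • e i = e b - p := by rw [← hpq, add_sub_cancel_left]
      rw [this]
      exact sub_mem (mem_spanBefore _ (by omega)) (hba hp)
    exact he i ((Submodule.smul_mem_iff_of_isUnit _ hr).1 h2)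
  rw [spanBefore_swap_eq e hab (fun hh => hia (Fin.ext hh))]
  by_cases hib : i = b
  · subst hib
    rw [Function.comp_apply, Equiv.swap_apply_right]
    exact fun hh => he a (hba hh)
  · rw [Function.comp_apply, Equiv.swap_apply_of_ne_of_ne hia hib]
    exact he i

theorem admissible_congr_swap {l : ℕ} (e : Adm R M l) {a b : Fin l} (hab : (b : ℕ) + 1 = a) :
    ∀ r ∈ maximalIdeal R, r • (e.1 ∘ Equiv.swap a b) a ∈ spanBefore R M (e.1 ∘ Equiv.swap a b) b := by
  intro r hr
  rw [Function.comp_apply, Equiv.swap_apply_left, spanBefore_swap_eq e.1 hab (by omega)]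
  exact e.2 b r hr

theorem swap_swap_comp {l : ℕ} (e : Fin l → M) (a b : Fin l) :
    (e ∘ Equiv.swap a b) ∘ Equiv.swap a b = e := funext fun j => congrArg e (Equiv.swap_apply_self _ _ _)

/-- `s` enters the filtration of `e` at step `i`, with leading coefficient `r`. -/
structure Pivot {l : ℕ} (s : M) (e : Fin l → M) (i : Fin l) (r : R) : Prop where
  sub_mem : e i - r • s ∈ spanBefore R M e i
  notMem : s ∉ spanBefore R M e i
  unit : IsUnit r

variable {s : M} (hs : ∀ r ∈ maximalIdeal R, r • s = 0)

theorem Pivot.mem_succ {l : ℕ} {e : Fin l → M} {i : Fin l} {r : R} (h : Pivot s e i r) :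
    s ∈ spanBefore R M e ((i : ℕ) + 1) := by
  refine (Submodule.smul_mem_iff_of_isUnit _ h.unit).1 ?_
  have := _root_.sub_mem (mem_spanBefore (R := R) e (Nat.lt_succ_self (i : ℕ)))
    (spanBefore_mono e (Nat.le_succ (i : ℕ)) h.sub_mem)
  rwa [sub_sub_cancel] at this

include hs in
theorem Pivot.eq {l : ℕ} {e : Fin l → M} {i i' : Fin l} {r r' : R} (h : Pivot s e i r)
    (h' : Pivot s e i' r') : i = i' ∧ residue R r = residue R r' := by
  obtain rfl : i = i' := by
    by_contra hne
    rcases lt_or_gt_of_ne (fun hh => hne (Fin.ext hh) : (i : ℕ) ≠ i') with hlt | hlt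
    · exact h'.notMem (spanBefore_mono e hlt h.mem_succ)
    · exact h.notMem (spanBefore_mono e hlt h'.mem_succ)
  refine ⟨rfl, sub_eq_zero.1 ?_⟩
  rw [← map_sub, residue_eq_zero_iff, mem_maximalIdeal]
  intro hu
  refine h.notMem ((Submodule.smul_mem_iff_of_isUnit _ hu).1 ?_)
  rw [sub_smul, show r • s - r' • s = (e i - r' • s) - (e i - r • s) by abel]
  exact _root_.sub_mem h'.sub_mem h.sub_mem

theorem exists_pivot {l : ℕ} (hs0 : s ≠ 0) (e : Adm R M l) (htop : s ∈ spanBefore R M e.1 l) :
    ∃ (i : Fin l) (r : R), Pivot s e.1 i r := by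
  classical
  have hex : ∃ k, s ∈ spanBefore R M e.1 k := ⟨l, htop⟩
  have hne : Nat.find hex ≠ 0 := fun h0 => hs0 (by
    have := Nat.find_spec hex
    rw [h0] at this
    simpa [spanBefore] using this)
  obtain ⟨k, hk⟩ := Nat.exists_eq_succ_of_ne_zero hne
  have hkl : k < l := by
    have := Nat.find_le (h := hex) htop
    omega
  have h1 : s ∈ spanBefore R M e.1 (k + 1) := by
    have := Nat.find_spec hex
    rw [hk] at this
    exact this
  have h2 : s ∉ spanBefore R M e.1 k := Nat.find_min hex (by omega)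
  rw [show k + 1 = ((⟨k, hkl⟩ : Fin l) : ℕ) + 1 from rfl, spanBefore_succ, Submodule.mem_sup] at h1
  obtain ⟨p, hp, q, hq, hpq⟩ := h1
  obtain ⟨r, rfl⟩ := Submodule.mem_span_singleton.1 hq
  obtain ⟨u, rfl⟩ := smul_unit_of_notMem (e.2 ⟨k, hkl⟩) fun hh => h2 (hpq ▸ add_mem hp hh)
  refine ⟨⟨k, hkl⟩, (↑u⁻¹ : R), ?_, h2, u⁻¹.isUnit⟩
  rw [← hpq, smul_add, smul_smul, Units.inv_mul, one_smul, sub_add_cancel_right]
  exact neg_mem (Submodule.smul_mem _ _ hp)

variable (R s) in
/-- The reduced tuple modulo `s`. -/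
def red {l : ℕ} (e : Fin (l + 1) → M) (i : Fin (l + 1)) : Fin l → M ⧸ Submodule.span R {s} :=
  fun j => Submodule.Quotient.mk (e (i.succAbove j))

theorem succAbove_val {l : ℕ} (i : Fin (l + 1)) (j : Fin l) :
    ((i.succAbove j : Fin (l + 1)) : ℕ) = if (j : ℕ) < i then (j : ℕ) else (j : ℕ) + 1 := by
  rw [Fin.succAbove]
  split_ifs with h h' <;> simp_all [Fin.lt_def]

theorem spanBefore_red {l : ℕ} {e : Fin (l + 1) → M} {i : Fin (l + 1)} {r : R} (hp : Pivot s e i r)
    (j : Fin l) : spanBefore R (M ⧸ Submodule.span R {s}) (red R s e i) j =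
      (spanBefore R M e (i.succAbove j)).map (Submodule.span R {s}).mkQ := by
  refine le_antisymm (Submodule.span_le.2 ?_) ?_
  · rintro _ ⟨j', hj', rfl⟩
    refine ⟨_, mem_spanBefore e ?_, rfl⟩
    have hj'' : (j' : ℕ) < j := hj'
    rw [succAbove_val, succAbove_val]
    split_ifs <;> omega
  · rw [spanBefore, Submodule.map_span, Submodule.span_le]
    rintro _ ⟨_, ⟨k, hk, rfl⟩, rfl⟩
    have hlow : ∀ k : Fin (l + 1), k ≠ i → (k : ℕ) < (i.succAbove j : Fin (l + 1)) →
        (Submodule.span R {s}).mkQ (e k) ∈ spanBefore R (M ⧸ Submodule.span R {s}) (red R s e i) j := by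
      intro k hki hk
      obtain ⟨k', rfl⟩ := Fin.exists_succAbove_eq hki
      refine Submodule.subset_span ⟨k', ?_, rfl⟩
      show (k' : ℕ) < j
      rw [succAbove_val, succAbove_val] at hk
      split_ifs at hk <;> omega
    by_cases hki : k = i
    · subst hki
      have h1 : (Submodule.span R {s}).mkQ (e k) = (Submodule.span R {s}).mkQ (e k - r • s) := by
        rw [map_sub, eq_comm, sub_eq_self, Submodule.mkQ_apply, Submodule.Quotient.mk_eq_zero]
        exact Submodule.smul_mem _ _ (Submodule.mem_span_singleton_self s)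
      rw [SetLike.mem_coe, h1]
      refine (Submodule.map_le_iff_le_comap.2 (Submodule.span_le.2 ?_) ⟨_, hp.sub_mem, rfl⟩ :
        (Submodule.span R {s}).mkQ (e k - r • s) ∈ _)
      rintro _ ⟨k', hk', rfl⟩
      exact hlow k' (fun hh => by subst hh; exact lt_irrefl _ (show (k' : ℕ) < k' from hk'))
        (lt_trans (show (k' : ℕ) < k from hk') hk)
    · exact hlow k hki hk

theorem red_admissible {l : ℕ} (e : Adm R M (l + 1)) {i : Fin (l + 1)} {r : R} (hp : Pivot s e.1 i r) :
    IsAdmissible R (M ⧸ Submodule.span R {s}) (red R s e.1 i) := fun j c hc => by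
  rw [spanBefore_red hp]
  exact ⟨_, e.2 _ c hc, rfl⟩

include hs in
theorem red_nonDeg {l : ℕ} {e : Fin (l + 1) → M} {i : Fin (l + 1)} {r : R} (hp : Pivot s e i r)
    (he : NonDeg (R := R) e) : NonDeg (R := R) (red R s e i) := by
  intro j hj
  rw [spanBefore_red hp] at hj
  obtain ⟨p, hpm, hpe⟩ := hj
  obtain ⟨z, hz⟩ := Submodule.mem_span_singleton.1 ((Submodule.Quotient.eq _).1 hpe.symm)
  have hek : e (i.succAbove j) = p + z • s := by rw [hz, add_sub_cancel]
  by_cases hu : IsUnit z
  · have hsk : s ∈ spanBefore R M e (((i.succAbove j : Fin (l + 1)) : ℕ) + 1) := by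
      refine (Submodule.smul_mem_iff_of_isUnit _ hu).1 ?_
      rw [show z • s = e (i.succAbove j) - p by rw [hek, add_sub_cancel_left]]
      exact sub_mem (mem_spanBefore e (Nat.lt_succ_self _)) (spanBefore_mono e (Nat.le_succ _) hpm)
    rcases lt_or_gt_of_ne (fun hh => Fin.succAbove_ne i j (Fin.ext hh) :
      ((i.succAbove j : Fin (l + 1)) : ℕ) ≠ i) with hlt | hlt
    · exact hp.notMem (spanBefore_mono e hlt hsk)
    · exact he _ (hek ▸ add_mem hpm (Submodule.smul_mem _ z (spanBefore_mono e hlt hp.mem_succ)))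
  · exact he _ (by rw [hek, hs z ((mem_maximalIdeal z).2 hu), add_zero]; exact hpm)

/-- The properties of a coordinate on the space of symbols. -/
structure IsCoord {l : ℕ} (φ : Adm R M l → ResidueField R) : Prop where
  ne_zero : ∀ e, NonDeg (R := R) e.1 → φ e ≠ 0
  deg : ∀ e, ¬ NonDeg (R := R) e.1 → φ e = 0
  change : ∀ (e e' : Adm R M l) (a : Fin l) (c : Rˣ), (∀ j, j ≠ a → e.1 j = e'.1 j) →
    e.1 a - (c : R) • e'.1 a ∈ spanBefore R M e.1 a → φ e = residue R (c : R) * φ e'
  swap : ∀ (e e' : Adm R M l) (a b : Fin l), (b : ℕ) + 1 = a →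
    (∀ r ∈ maximalIdeal R, r • e.1 a ∈ spanBefore R M e.1 b) → e'.1 = e.1 ∘ Equiv.swap a b →
    φ e + φ e' = 0

include hs in
theorem exists_coord_step {l : ℕ} (hs0 : s ≠ 0)
    (htop : ∀ e : Adm R M (l + 1), NonDeg (R := R) e.1 → s ∈ spanBefore R M e.1 (l + 1))
    {ψ : Adm R (M ⧸ Submodule.span R {s}) l → ResidueField R} (hψ : IsCoord ψ) :
    ∃ φ : Adm R M (l + 1) → ResidueField R, IsCoord φ := by
  classical
  let val : ∀ (e : Adm R M (l + 1)) (i : Fin (l + 1)) (r : R), Pivot s e.1 i r → ResidueField R :=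
    fun e i r hp => (-1) ^ (i : ℕ) * residue R r * ψ ⟨_, red_admissible e hp⟩
  let φ : Adm R M (l + 1) → ResidueField R := fun e =>
    if h : NonDeg (R := R) e.1 then
      val e _ _ (exists_pivot hs0 e (htop e h)).choose_spec.choose_spec
    else 0
  have hφ : ∀ (e : Adm R M (l + 1)) (i : Fin (l + 1)) (r : R) (hp : Pivot s e.1 i r),
      NonDeg (R := R) e.1 → φ e = val e i r hp := by
    intro e i r hp he
    show dite _ _ _ = _
    rw [dif_pos he]
    have key : ∀ (i' : Fin (l + 1)) (r' : R) (hp' : Pivot s e.1 i' r'), val e i' r' hp' = val e i r hp := by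
      intro i' r' hp'
      obtain ⟨rfl, hr⟩ := hp'.eq hs hp
      simp only [val, hr]
    exact key _ _ (exists_pivot hs0 e (htop e he)).choose_spec.choose_spec
  refine ⟨φ, ⟨fun e he => ?_, fun e he => dif_neg he, fun e e' a c h h' => ?_, fun e e' a b hab h hsw => ?_⟩⟩
  · obtain ⟨i, r, hp⟩ := exists_pivot hs0 e (htop e he)
    rw [hφ e i r hp he]
    refine mul_ne_zero (mul_ne_zero (pow_ne_zero _ (neg_ne_zero.2 one_ne_zero)) ?_)
      (hψ.ne_zero ⟨_, red_admissible e hp⟩ (red_nonDeg hs hp he))
    rw [Ne, residue_eq_zero_iff, mem_maximalIdeal]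
    exact fun hh => hh hp.unit
  · have hspan := spanBefore_change h h'
    by_cases he : NonDeg (R := R) e'.1
    swap
    · rw [show φ e' = 0 from dif_neg he,
        show φ e = 0 from dif_neg fun hh => he ((nonDeg_change h h').1 hh), mul_zero]
    obtain ⟨i, r, hp⟩ := exists_pivot hs0 e' (htop e' he)
    by_cases hia : a = i
    · subst hia
      have hp' : Pivot s e.1 a ((c : R) * r) := by
        refine ⟨?_, hspan a ▸ hp.notMem, c.isUnit.mul hp.unit⟩
        rw [show e.1 a - ((c : R) * r) • s =
          (e.1 a - (c : R) • e'.1 a) + (c : R) • (e'.1 a - r • s) by rw [smul_sub, smul_smul]; abel]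
        exact add_mem h' (Submodule.smul_mem _ _ (hspan a ▸ hp.sub_mem))
      rw [hφ e' a r hp he, hφ e a _ hp' ((nonDeg_change h h').2 he)]
      have : (⟨_, red_admissible e hp'⟩ : Adm R (M ⧸ Submodule.span R {s}) l) = ⟨_, red_admissible e' hp⟩ :=
        Subtype.ext (funext fun j => congrArg Submodule.Quotient.mk (h _ (Fin.succAbove_ne a j)))
      simp only [val, this, map_mul]
      ring
    · have hp' : Pivot s e.1 i r :=
        ⟨h i (Ne.symm hia) ▸ hspan i ▸ hp.sub_mem, hspan i ▸ hp.notMem, hp.unit⟩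
      rw [hφ e' i r hp he, hφ e i r hp' ((nonDeg_change h h').2 he)]
      obtain ⟨a', rfl⟩ := Fin.exists_succAbove_eq hia
      have hred := hψ.change ⟨_, red_admissible e hp'⟩ ⟨_, red_admissible e' hp⟩ a' c
        (fun j hj => congrArg Submodule.Quotient.mk (h _ fun hh => hj (Fin.succAbove_right_injective hh)))
        (by
          show _ ∈ spanBefore R _ (red R s e.1 i) a'
          rw [spanBefore_red hp']
          exact ⟨_, h', by rw [map_sub, map_smul]; rfl⟩)
      simp only [val, hred]
      ring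
  · obtain ⟨f, hf⟩ := e'
    simp only at hsw
    subst hsw
    by_cases he : NonDeg (R := R) e.1
    swap
    · rw [show φ e = 0 from dif_neg he, show φ ⟨_, hf⟩ = 0 from dif_neg fun hh => he ?_, add_zero]
      have := nonDeg_swap _ hab (admissible_congr_swap e hab) hh
      rwa [swap_swap_comp] at this
    have key : ∀ (g : Adm R M (l + 1)) (hg' : IsAdmissible R M (g.1 ∘ Equiv.swap a b)) (r : R),
        (∀ c ∈ maximalIdeal R, c • g.1 a ∈ spanBefore R M g.1 b) → NonDeg (R := R) g.1 →
        Pivot s g.1 b r → φ g + φ ⟨_, hg'⟩ = 0 := by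
      intro g hg' r hga hg hp
      have hgn := nonDeg_swap g.1 hab hga hg
      have hba : (g.1 ∘ Equiv.swap a b) a = g.1 b := congrArg g.1 (Equiv.swap_apply_left a b)
      have hp' : Pivot s (g.1 ∘ Equiv.swap a b) a r := by
        refine ⟨?_, fun hmem => hgn a ?_, hp.unit⟩
        · rw [hba, spanBefore_swap_self g.1 hab]
          exact Submodule.mem_sup_left hp.sub_mem
        · rw [hba]
          have h1 : g.1 b - r • s ∈ spanBefore R M (g.1 ∘ Equiv.swap a b) a := by
            rw [spanBefore_swap_self g.1 hab]; exact Submodule.mem_sup_left hp.sub_mem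
          have := add_mem h1 (Submodule.smul_mem _ r hmem)
          rwa [sub_add_cancel] at this
      rw [hφ g b r hp hg, hφ ⟨_, hg'⟩ a r hp' hgn]
      have : (⟨_, red_admissible g hp⟩ : Adm R (M ⧸ Submodule.span R {s}) l) =
          ⟨_, red_admissible ⟨_, hg'⟩ hp'⟩ := Subtype.ext (funext fun j => by
        refine congrArg Submodule.Quotient.mk ?_
        show g.1 (b.succAbove j) = g.1 (Equiv.swap a b (a.succAbove j))
        refine congrArg g.1 (Fin.ext ?_)
        rw [Equiv.swap_apply_def]
        split_ifs with h1 h2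
        · exact absurd h1 (Fin.succAbove_ne a j)
        · have h3 := congrArg Fin.val h2
          rw [succAbove_val] at h3 ⊢
          split_ifs at h3 ⊢ <;> omega
        · have h3 : ((a.succAbove j : Fin (l + 1)) : ℕ) ≠ b := fun hh => h2 (Fin.ext hh)
          rw [succAbove_val] at h3 ⊢
          rw [succAbove_val]
          split_ifs at h3 ⊢ <;> omega)
      simp only [val, this]
      rw [← hab, pow_succ]
      ring
    obtain ⟨i, r, hp⟩ := exists_pivot hs0 e (htop e he)
    have hne : NonDeg (R := R) (e.1 ∘ Equiv.swap a b) := nonDeg_swap e.1 hab h he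
    by_cases hib : i = b
    · subst hib; exact key e hf r h he hp
    by_cases hia : i = a
    swap
    · -- the pivot is away from the swapped entries
      have hne' : (i : ℕ) ≠ a := fun hh => hia (Fin.ext hh)
      have hp' : Pivot s (e.1 ∘ Equiv.swap a b) i r := by
        refine ⟨?_, ?_, hp.unit⟩
        · rw [Function.comp_apply, Equiv.swap_apply_of_ne_of_ne hia hib, spanBefore_swap_eq e.1 hab hne']
          exact hp.sub_mem
        · rw [spanBefore_swap_eq e.1 hab hne']; exact hp.notMem
      rw [hφ e i r hp he, hφ ⟨_, hf⟩ i r hp' hne]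
      obtain ⟨a', rfl⟩ := Fin.exists_succAbove_eq (Ne.symm hia)
      obtain ⟨b', rfl⟩ := Fin.exists_succAbove_eq (Ne.symm hib)
      have hib' : (i : ℕ) ≠ (i.succAbove b' : Fin (l + 1)) := fun hh => hib (Fin.ext hh)
      have hab' : (b' : ℕ) + 1 = a' := by
        rw [succAbove_val, succAbove_val] at hab
        rw [succAbove_val] at hne' hib'
        split_ifs at hab hne' hib' <;> omega
      have hred := hψ.swap ⟨_, red_admissible e hp⟩ ⟨_, red_admissible ⟨_, hf⟩ hp'⟩ a' b' hab'
        (fun c hc => by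
          show _ ∈ spanBefore R _ (red R s e.1 i) b'
          rw [spanBefore_red hp]
          exact ⟨_, h c hc, rfl⟩)
        (funext fun j => by
          show Submodule.Quotient.mk (e.1 (Equiv.swap _ _ (i.succAbove j))) = _
          rw [(Fin.succAbove_right_injective (p := i)).swap_apply]
          rfl)
      simp only [val]
      linear_combination ((-1) ^ (i : ℕ) * residue R r) * hred
    subst hia
    -- the pivot is the later of the two entries
    have hsp : spanBefore R M e.1 i = spanBefore R M e.1 b ⊔ Submodule.span R {e.1 b} := by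
      rw [← hab, spanBefore_succ]
    have h1 := hp.sub_mem
    rw [hsp, Submodule.mem_sup] at h1
    obtain ⟨p, hpm, q, hq, hpq⟩ := h1
    obtain ⟨y, rfl⟩ := Submodule.mem_span_singleton.1 hq
    by_cases hy : IsUnit y
    swap
    · have hp' : Pivot s (e.1 ∘ Equiv.swap i b) b r := by
        refine ⟨?_, ?_, hp.unit⟩
        · rw [spanBefore_swap_eq e.1 hab (by omega), Function.comp_apply, Equiv.swap_apply_right, ← hpq]
          exact add_mem hpm (e.2 b y ((mem_maximalIdeal y).2 hy))
        · rw [spanBefore_swap_eq e.1 hab (by omega)]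
          exact fun hh => hp.notMem (spanBefore_mono e.1 (by omega) hh)
      have h2 := key ⟨_, hf⟩ (by show IsAdmissible R M ((e.1 ∘ Equiv.swap i b) ∘ Equiv.swap i b)
                                 rw [swap_swap_comp]; exact e.2) r (admissible_congr_swap e hab) hne hp'
      have h3 : (⟨_, (by show IsAdmissible R M ((e.1 ∘ Equiv.swap i b) ∘ Equiv.swap i b)
                         rw [swap_swap_comp]; exact e.2)⟩ : Adm R M (l + 1)) = e :=
        Subtype.ext (swap_swap_comp e.1 i b)
      rw [h3] at h2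
      rwa [add_comm]
    · obtain ⟨y, rfl⟩ := hy
      have hp' : Pivot s (e.1 ∘ Equiv.swap i b) i (-((↑y⁻¹ : R) * r)) := by
        refine ⟨?_, fun hmem => ?_, ((y⁻¹).isUnit.mul hp.unit).neg⟩
        · rw [Function.comp_apply, Equiv.swap_apply_left, spanBefore_swap_self e.1 hab]
          have : e.1 b - (-((↑y⁻¹ : R) * r)) • s = (↑y⁻¹ : R) • (e.1 i - p) := by
            have h4 : e.1 i - p = (y : R) • e.1 b + r • s := by
              linear_combination (norm := module) (-1 : ℤ) • hpq
            rw [h4, smul_add, smul_smul, smul_smul, Units.inv_mul, one_smul, neg_smul, sub_neg_eq_add]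
          rw [this]
          exact Submodule.smul_mem _ _ (sub_mem (Submodule.mem_sup_right (Submodule.mem_span_singleton_self _))
            (Submodule.mem_sup_left hpm))
        · rw [spanBefore_swap_self e.1 hab, Submodule.mem_sup] at hmem
          obtain ⟨q, hqm, w, hw, hqw⟩ := hmem
          obtain ⟨z, rfl⟩ := Submodule.mem_span_singleton.1 hw
          have h5 : (1 - z * r) • s = q + z • p + (z * (y : R)) • e.1 b := by
            linear_combination (norm := module) (-1 : ℤ) • hqw + (-z) • hpq
          by_cases hu : IsUnit (1 - z * r)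
          · refine hp.notMem ((Submodule.smul_mem_iff_of_isUnit _ hu).1 ?_)
            rw [h5, hsp]
            exact add_mem (Submodule.mem_sup_left (add_mem hqm (Submodule.smul_mem _ _ hpm)))
              (Submodule.mem_sup_right (Submodule.smul_mem _ _ (Submodule.mem_span_singleton_self _)))
          · rw [hs _ ((mem_maximalIdeal _).2 hu), eq_comm] at h5
            have hz : IsUnit z := by
              rcases IsLocalRing.isUnit_or_isUnit_one_sub_self (z * r) with hh | hh
              · exact isUnit_of_mul_isUnit_left hh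
              · exact absurd hh hu
            refine he b ((Submodule.smul_mem_iff_of_isUnit _ (hz.mul y.isUnit)).1 ?_)
            rw [eq_neg_of_add_eq_zero_right h5]
            exact neg_mem (add_mem hqm (Submodule.smul_mem _ _ hpm))
      rw [hφ e i r hp he, hφ ⟨_, hf⟩ i _ hp' hne]
      obtain ⟨b', rfl⟩ := Fin.exists_succAbove_eq (Ne.symm hib)
      have hred := hψ.change ⟨_, red_admissible e hp⟩ ⟨_, red_admissible ⟨_, hf⟩ hp'⟩ b' y⁻¹
        (fun j hj => by
          refine congrArg Submodule.Quotient.mk ?_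
          show _ = e.1 (Equiv.swap _ _ (i.succAbove j))
          rw [Equiv.swap_apply_of_ne_of_ne (Fin.succAbove_ne i j)
            (fun hh => hj (Fin.succAbove_right_injective hh))])
        (by
          show _ ∈ spanBefore R _ (red R s e.1 i) b'
          rw [spanBefore_red hp]
          refine ⟨-((↑y⁻¹ : R) • p), neg_mem (Submodule.smul_mem _ _ hpm), ?_⟩
          show Submodule.Quotient.mk _ = Submodule.Quotient.mk (e.1 (i.succAbove b')) -
            (↑y⁻¹ : R) • Submodule.Quotient.mk (e.1 (Equiv.swap i (i.succAbove b') (i.succAbove b')))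
          rw [Equiv.swap_apply_right, ← Submodule.Quotient.mk_smul, ← Submodule.Quotient.mk_sub,
            Submodule.Quotient.eq]
          refine Submodule.mem_span_singleton.2 ⟨(↑y⁻¹ : R) * r, ?_⟩
          have hy1 : ((↑y⁻¹ : R) * (y : R)) • e.1 (i.succAbove b') = e.1 (i.succAbove b') := by
            rw [Units.inv_mul, one_smul]
          linear_combination (norm := module) (↑y⁻¹ : R) • hpq - hy1)
      simp only [val, hred, map_neg, map_mul]
      ring

variable (R) in
theorem exists_coord : ∀ (l : ℕ) (M : Type v) [AddCommGroup M] [Module R M] [IsArtinian R M]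
    [IsNoetherian R M], (l : ℕ∞) = Module.length R M →
    ∃ φ : Adm R M l → ResidueField R, IsCoord φ := by
  intro l
  induction l with
  | zero =>
    intro M _ _ _ _ _
    exact ⟨fun _ => 1, fun _ _ => one_ne_zero, fun e he => absurd (fun i => i.elim0) he,
      fun _ _ a => a.elim0, fun _ _ a => a.elim0⟩
  | succ l ih =>
    intro M _ _ _ _ hl
    classical
    by_cases hex : ∃ f : Adm R M (l + 1), NonDeg (R := R) f.1
    swap
    · exact ⟨fun _ => 0, fun e he => absurd ⟨e, he⟩ hex, fun _ _ => rfl,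
        fun _ _ _ _ _ _ => (mul_zero _).symm, fun _ _ _ _ _ _ _ => add_zero 0⟩
    obtain ⟨f, hf⟩ := hex
    have h0 : spanBefore R M f.1 ((0 : Fin (l + 1)) : ℕ) = ⊥ := by simp [spanBefore]
    have hs : ∀ r ∈ maximalIdeal R, r • f.1 0 = 0 := fun r hr =>
      (Submodule.mem_bot R).1 (h0 ▸ f.2 0 r hr)
    have hs0 : f.1 0 ≠ 0 := fun hh => hf 0 (hh ▸ zero_mem _)
    haveI : IsSimpleModule R (Submodule.span R {f.1 0}) := by
      rw [isSimpleModule_iff_isAtom, ← bot_covBy_iff]
      simpa using covBy_sup_span (P := (⊥ : Submodule R M)) (fun r hr => by simp [hs r hr])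
        (by simpa using hs0)
    have hlen : (l : ℕ∞) = Module.length R (M ⧸ Submodule.span R {f.1 0}) := by
      have h1 := Module.length_eq_add_of_exact (Submodule.span R {f.1 0}).subtype
        (Submodule.span R {f.1 0}).mkQ Subtype.val_injective (Submodule.mkQ_surjective _)
        (LinearMap.exact_subtype_mkQ _)
      rw [← hl, Module.length_eq_one, Nat.cast_succ, add_comm (1 : ℕ∞)] at h1
      exact WithTop.add_right_cancel ENat.one_ne_top h1
    obtain ⟨ψ, hψ⟩ := ih (M ⧸ Submodule.span R {f.1 0}) hlen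
    exact exists_coord_step hs hs0 (fun e he => span_eq_top_of_nonDeg hl e he ▸ Submodule.mem_top) hψ

theorem length_spanBefore_le [IsArtinian R M] [IsNoetherian R M] {l : ℕ} (e : Adm R M l) :
    ∀ i : ℕ, i ≤ l → Module.length R (spanBefore R M e.1 i) ≤ i ∧
      ((∃ a : Fin l, (a : ℕ) < i ∧ e.1 a ∈ spanBefore R M e.1 a) →
        Module.length R (spanBefore R M e.1 i) + 1 ≤ i) := by
  intro i hi
  induction i with
  | zero =>
    refine ⟨?_, fun ⟨a, ha, _⟩ => absurd ha (Nat.not_lt_zero _)⟩
    rw [show spanBefore R M e.1 0 = ⊥ by simp [spanBefore], Module.length_bot]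
    exact zero_le'
  | succ i ih =>
    obtain ⟨ih₁, ih₂⟩ := ih (Nat.le_of_succ_le hi)
    have hspan : spanBefore R M e.1 (i + 1) =
        spanBefore R M e.1 i ⊔ Submodule.span R {e.1 ⟨i, hi⟩} := spanBefore_succ e.1 ⟨i, hi⟩
    by_cases hmem : e.1 ⟨i, hi⟩ ∈ spanBefore R M e.1 i
    · rw [hspan, sup_eq_left.2 ((Submodule.span_singleton_le_iff_mem _ _).2 hmem), Nat.cast_succ]
      exact ⟨ih₁.trans le_self_add, fun _ => add_le_add ih₁ le_rfl⟩
    · have hc := covBy_sup_span (e.2 ⟨i, hi⟩) hmem
      rw [← hspan] at hc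
      have hlen : Module.length R (spanBefore R M e.1 (i + 1)) =
          Module.length R (spanBefore R M e.1 i) + 1 := by
        rw [Module.length_eq_add_of_exact (Submodule.inclusion hc.le)
          ((spanBefore R M e.1 i).submoduleOf (spanBefore R M e.1 (i + 1))).mkQ
          (Submodule.inclusion_injective _) (Submodule.mkQ_surjective _) (fun x => ?_)]
        · congr 1
          haveI : IsSimpleModule R (↥(spanBefore R M e.1 (i + 1)) ⧸
            (spanBefore R M e.1 i).submoduleOf (spanBefore R M e.1 (i + 1))) :=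
            (covBy_iff_quot_is_simple hc.le).1 hc
          exact Module.length_eq_one R _
        · rw [Submodule.mkQ_apply, Submodule.Quotient.mk_eq_zero]
          exact ⟨fun hx => ⟨⟨x, hx⟩, Subtype.ext rfl⟩, by rintro ⟨y, rfl⟩; exact y.2⟩
      rw [hlen, Nat.cast_succ]
      refine ⟨add_le_add ih₁ le_rfl, ?_⟩
      rintro ⟨a, ha, hmem'⟩
      rcases Nat.lt_succ_iff_lt_or_eq.1 ha with hh | hh
      · exact add_le_add (ih₂ ⟨a, hh, hmem'⟩) le_rfl
      · obtain rfl : a = ⟨i, hi⟩ := Fin.ext hh
        exact absurd hmem' hmem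

theorem nonDeg_of_span_eq_top [IsArtinian R M] [IsNoetherian R M] {l : ℕ}
    (hl : (l : ℕ∞) = Module.length R M) (e : Adm R M l) (he : Submodule.span R (Set.range e.1) = ⊤) :
    NonDeg (R := R) e.1 := by
  intro a ha
  have h := (length_spanBefore_le e l le_rfl).2 ⟨a, a.2, ha⟩
  rw [spanBefore_of_le e.1 le_rfl, he, Module.length_top, ← hl] at h
  exact absurd h (by exact_mod_cast Nat.not_succ_le_self l)

theorem cls_ne_zero [IsArtinian R M] [IsNoetherian R M] {l : ℕ} (hl : (l : ℕ∞) = Module.length R M)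
    {e : Adm R M l} (he : NonDeg (R := R) e.1) : cls e ≠ 0 := by
  obtain ⟨φ, hφ⟩ := exists_coord R l M hl
  intro h0
  let Φ : Free R M l →ₗ[ResidueField R] ResidueField R := Finsupp.linearCombination _ φ
  have hΦ : ∀ e, Φ (sym R M e) = φ e := fun e => by
    simp [Φ, sym]
  have hrel : Submodule.span (ResidueField R) (relSet R M l) ≤ LinearMap.ker Φ := by
    rw [Submodule.span_le]
    rintro x ((⟨e, a, ha, rfl⟩ | ⟨e, e', a, c, h, h', rfl⟩) | ⟨e, e', a, b, hab, h, hsw, rfl⟩)
    · rw [SetLike.mem_coe, LinearMap.mem_ker, hΦ]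
      exact hφ.deg e fun hh => hh a ha
    · rw [SetLike.mem_coe, LinearMap.mem_ker, map_sub, map_smul, hΦ, hΦ, smul_eq_mul,
        hφ.change e e' a c h h', sub_self]
    · rw [SetLike.mem_coe, LinearMap.mem_ker, map_add, hΦ, hΦ]
      exact hφ.swap e e' a b hab h hsw
  have := hrel ((Submodule.Quotient.mk_eq_zero _).1 h0)
  rw [LinearMap.mem_ker, hΦ] at this
  exact hφ.ne_zero e he this

end Groth.Agent.H1CAlg.CycSym
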