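import Groth.Prelude.Def_CAlgX
import Mathlib.RingTheory.MvPolynomial.Homogeneous
import Mathlib.RingTheory.Polynomial.Basic
import Mathlib.Algebra.MvPolynomial.Equiv
import Mathlib.RingTheory.Ideal.Operations

/-!
# A quasi-regular sequence followed by an `H₁`-regular one is quasi-regular
-/

set_option autoImplicit false

universe u

open MvPolynomial

namespace Groth.Agent.H1CAlg.H1Append

variable {A : Type u} [CommRing A]

/-- A homogeneous polynomial of positive degree is a combination of the variables. -/
theorem exists_decomp {m : ℕ} {e : ℕ} {P : MvPolynomial (Fin m) A} (hP : P.IsHomogeneous (e + 1)) :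
    ∃ R : Fin m → MvPolynomial (Fin m) A, (∀ k, (R k).IsHomogeneous e) ∧ P = ∑ k, X k * R k := by
  classical
  have hmem : P ∈ Ideal.span (Set.range (X : Fin m → MvPolynomial (Fin m) A)) := by
    rw [P.as_sum]
    refine Submodule.sum_mem _ fun δ hδ => ?_
    have hdeg : δ.degree = e + 1 := by
      rw [← hP (MvPolynomial.mem_support_iff.mp hδ), Finsupp.degree_eq_weight_one]; rfl
    obtain ⟨k, hk⟩ : ∃ k, δ k ≠ 0 := by
      by_contra hne
      push Not at hne
      have : δ = 0 := Finsupp.ext hne
      rw [this, map_zero] at hdeg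
      omega
    have hle : Finsupp.single k 1 ≤ δ := Finsupp.single_le_iff.mpr (Nat.one_le_iff_ne_zero.mpr hk)
    have : monomial δ (P.coeff δ) = X k * monomial (δ - Finsupp.single k 1) (P.coeff δ) := by
      rw [X, monomial_mul, add_tsub_cancel_of_le hle, one_mul]
    rw [this]
    exact Ideal.mul_mem_right _ _ (Ideal.subset_span ⟨k, rfl⟩)
  obtain ⟨R, hR⟩ := Ideal.mem_span_range_iff_exists_fun.mp hmem
  refine ⟨fun k => homogeneousComponent e (R k), fun k => homogeneousComponent_isHomogeneous _ _, ?_⟩
  have h1 := congrArg (homogeneousComponent (e + 1)) hR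
  rw [homogeneousComponent_of_mem hP, if_pos rfl, map_sum] at h1
  rw [← h1]
  refine Finset.sum_congr rfl fun k _ => ?_
  conv_lhs => rw [← sum_homogeneousComponent (R k), Finset.sum_mul, map_sum]
  rw [Finset.sum_eq_single e]
  · rw [homogeneousComponent_of_mem ((homogeneousComponent_isHomogeneous e (R k)).mul (isHomogeneous_X A k)),
      if_pos rfl, mul_comm]
  · intro i _ hi
    rw [homogeneousComponent_of_mem ((homogeneousComponent_isHomogeneous i (R k)).mul (isHomogeneous_X A k)),
      if_neg (by omega)]
  · intro he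
    rw [homogeneousComponent_eq_zero e (R k) (by simpa using he), zero_mul, map_zero]

/-- The trivial relation in the polynomial ring. -/
noncomputable def rel {m : ℕ} (g : Fin m → A) (i j : Fin m) : MvPolynomial (Fin m) A :=
  C (g i) * X j - C (g j) * X i

theorem eval_rel {m : ℕ} (g : Fin m → A) (i j : Fin m) : eval g (rel g i j) = 0 := by
  simp [rel, mul_comm]

theorem isHomogeneous_rel {m : ℕ} (g : Fin m → A) (i j : Fin m) : (rel g i j).IsHomogeneous 1 :=
  ((isHomogeneous_C _ (g i)).mul (isHomogeneous_X A j)).sub
    ((isHomogeneous_C _ (g j)).mul (isHomogeneous_X A i))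

/-- For an `H₁`-regular sequence the homogeneous relations are generated by the trivial ones. -/
theorem mem_rel_of_eval_eq_zero {m : ℕ} (g : Fin m → A) (hg : CAlgX.IsH1Regular g) :
    ∀ (e : ℕ) (P : MvPolynomial (Fin m) A), P.IsHomogeneous e → eval g P = 0 →
      P ∈ Ideal.span (Set.range fun p : Fin m × Fin m => rel g p.1 p.2) := by
  classical
  intro e
  induction e with
  | zero =>
    intro P hP h
    have hC : P = C (coeff 0 P) := totalDegree_eq_zero_iff_eq_C.mp (Nat.le_zero.mp hP.totalDegree_le)
    rw [hC, eval_C] at h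
    rw [hC, h, map_zero]
    exact zero_mem _
  | succ e ih =>
    intro P hP h
    set K := Ideal.span (Set.range fun p : Fin m × Fin m => rel g p.1 p.2)
    obtain ⟨R, hR, rfl⟩ := exists_decomp hP
    have h1 : (∑ k, C (g k) * R k) ∈ K := by
      refine ih _ (IsHomogeneous.sum _ _ _ fun k _ => by simpa using (isHomogeneous_C _ (g k)).mul (hR k)) ?_
      rw [map_sum] at h ⊢
      simpa using h
    obtain ⟨u, hu⟩ := Ideal.mem_span_range_iff_exists_fun.mp h1
    let W : Fin m → MvPolynomial (Fin m) A := fun k => ∑ j, u (k, j) * X j - ∑ i, u (i, k) * X i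
    have hW1 : ∑ k, C (g k) * W k = ∑ k, C (g k) * R k := by
      rw [← hu, Fintype.sum_prod_type]
      simp only [W, mul_sub, Finset.mul_sum, Finset.sum_sub_distrib, rel]
      congr 1
      · exact Finset.sum_congr rfl fun k _ => Finset.sum_congr rfl fun j _ => by ring
      · rw [Finset.sum_comm]
        exact Finset.sum_congr rfl fun k _ => Finset.sum_congr rfl fun j _ => by ring
    have hW2 : ∑ k, X k * W k = 0 := by
      simp only [W, mul_sub, Finset.mul_sum, Finset.sum_sub_distrib]
      rw [sub_eq_zero]
      conv_rhs => rw [Finset.sum_comm]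
      exact Finset.sum_congr rfl fun k _ => Finset.sum_congr rfl fun j _ => by ring
    have hD : ∑ k, C (g k) * (R k - W k) = 0 := by
      simp only [mul_sub, Finset.sum_sub_distrib, hW1, sub_self]
    have hgoal : ∑ k, X k * R k = ∑ k, X k * (R k - W k) := by
      simp only [mul_sub, Finset.sum_sub_distrib, hW2, sub_zero]
    rw [hgoal]
    let s : Finset (Fin m →₀ ℕ) := Finset.univ.biUnion fun k => (R k - W k).support
    have hexp : ∀ k, R k - W k = ∑ β ∈ s, monomial β (coeff β (R k - W k)) := fun k => by
      conv_lhs => rw [(R k - W k).as_sum]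
      refine Finset.sum_subset (fun β hβ => Finset.mem_biUnion.mpr ⟨k, Finset.mem_univ _, hβ⟩) ?_
      intro β _ hβ
      rw [MvPolynomial.notMem_support_iff.mp hβ, monomial_zero]
    have hcol : ∑ k, X k * (R k - W k) =
        ∑ β ∈ s, monomial β (1 : A) * ∑ k, C (coeff β (R k - W k)) * X k := by
      calc ∑ k, X k * (R k - W k) = ∑ k, ∑ β ∈ s, X k * monomial β (coeff β (R k - W k)) := by
            exact Finset.sum_congr rfl fun k _ => by conv_lhs => rw [hexp k, Finset.mul_sum]
        _ = _ := by
            rw [Finset.sum_comm]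
            refine Finset.sum_congr rfl fun β _ => ?_
            rw [Finset.mul_sum]
            refine Finset.sum_congr rfl fun k _ => ?_
            rw [show monomial β (coeff β (R k - W k)) = C (coeff β (R k - W k)) * monomial β 1 by
              rw [C_mul_monomial, mul_one]]
            ring
    rw [hcol]
    refine Submodule.sum_mem _ fun β _ => Ideal.mul_mem_left _ _ ?_
    have hrel : ∑ k, coeff β (R k - W k) * g k = 0 := by
      have := congrArg (coeff β) hD
      rw [coeff_sum, coeff_zero] at this
      rw [← this]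
      exact Finset.sum_congr rfl fun k _ => by rw [coeff_C_mul, mul_comm]
    have hv := hg _ hrel
    refine Submodule.span_induction (p := fun v _ => ∑ k, C (v k) * X k ∈ K) ?_ ?_ ?_ ?_ hv
    · rintro _ ⟨i, j, rfl⟩
      have : ∑ k, C ((Pi.single i (g j) - Pi.single j (g i) : Fin m → A) k) * X k = rel g j i := by
        simp only [Pi.sub_apply, map_sub, sub_mul, Finset.sum_sub_distrib]
        rw [Finset.sum_eq_single i (fun k _ hk => by rw [Pi.single_eq_of_ne hk, map_zero, zero_mul])
          (fun h => absurd (Finset.mem_univ i) h),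
          Finset.sum_eq_single j (fun k _ hk => by rw [Pi.single_eq_of_ne hk, map_zero, zero_mul])
          (fun h => absurd (Finset.mem_univ j) h), Pi.single_eq_same, Pi.single_eq_same]
        rfl
      rw [this]
      exact Ideal.subset_span ⟨(j, i), rfl⟩
    · simp
    · intro v w _ _ hv hw
      simpa [add_mul, Finset.sum_add_distrib] using add_mem hv hw
    · intro c v _ hv
      have : ∑ k, C ((c • v) k) * X k = C c * ∑ k, C (v k) * X k := by
        rw [Finset.mul_sum]
        exact Finset.sum_congr rfl fun k _ => by rw [Pi.smul_apply, smul_eq_mul, map_mul, mul_assoc]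
      rw [this]
      exact K.mul_mem_left _ hv

section Main

variable {n m : ℕ} (f : Fin n → A) (g : Fin m → A)

/-- The ideal generated by both sequences. -/
noncomputable def J : Ideal A := Ideal.span (Set.range f) ⊔ Ideal.span (Set.range g)

/-- Polynomials in two sets of variables. -/
abbrev T (A : Type u) [CommRing A] (n m : ℕ) := MvPolynomial (Fin n) (MvPolynomial (Fin m) A)

/-- Evaluation at both sequences. -/
noncomputable def val : T A n m →+* A := eval₂Hom (eval g) f

/-- Bidegree condition. -/
def B (d a : ℕ) : Submodule A (T A n m) where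
  carrier := {P | ∀ α β, coeff β (coeff α P) ≠ 0 → α.degree + β.degree = d ∧ a ≤ α.degree}
  zero_mem' := fun α β h => absurd (by simp) h
  add_mem' := fun {P Q} hP hQ α β h => by
    rw [coeff_add, coeff_add] at h
    by_cases h1 : coeff β (coeff α P) = 0
    · rw [h1, zero_add] at h; exact hQ α β h
    · exact hP α β h1
  smul_mem' := fun c P hP α β h => by
    rw [coeff_smul, coeff_smul] at h
    exact hP α β fun h1 => h (by rw [h1, smul_zero])

theorem monomial_mem_B {d a : ℕ} (α : Fin n →₀ ℕ) (q : MvPolynomial (Fin m) A) (e : ℕ)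
    (hq : q.IsHomogeneous e) (hd : α.degree + e = d) (ha : a ≤ α.degree) :
    monomial α q ∈ B (n := n) d a := by
  classical
  intro α' β h
  rw [coeff_monomial] at h
  split_ifs at h with h'
  · subst h'
    refine ⟨?_, ha⟩
    have h2 : β.degree = e := by rw [Finsupp.degree_eq_weight_one]; exact hq h
    rw [h2]; exact hd
  · simp at h

theorem val_monomial (α : Fin n →₀ ℕ) (q : MvPolynomial (Fin m) A) :
    val f g (monomial α q) = eval g q * α.prod fun i k => f i ^ k := eval₂Hom_monomial _ _ _ _

theorem prod_mem_pow (α : Fin n →₀ ℕ) :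
    (α.prod fun i k => f i ^ k) ∈ Ideal.span (Set.range f) ^ α.degree := by
  induction α using Finsupp.induction with
  | zero => simp
  | single_add i k α hi hk ih =>
    rw [Finsupp.prod_add_index' (fun _ => pow_zero _) (fun _ _ _ => pow_add _ _ _),
      Finsupp.prod_single_index (h := fun x l => f x ^ l) (pow_zero _), map_add, Finsupp.degree_single, pow_add]
    exact Ideal.mul_mem_mul (Ideal.pow_mem_pow (Ideal.subset_span (Set.mem_range_self i) : f i ∈ Ideal.span (Set.range f)) _) ih

/-- Membership in the ideal of polynomials with coefficients in `J`. -/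
noncomputable def JT : Ideal (T A n m) := ((J f g).map MvPolynomial.C).map MvPolynomial.C

theorem mem_JT {P : T A n m} : P ∈ JT f g ↔ ∀ α β, coeff β (coeff α P) ∈ J f g := by
  simp only [JT, mem_map_C_iff]

theorem monomial_mem_JT {α : Fin n →₀ ℕ} {q : MvPolynomial (Fin m) A}
    (hq : q ∈ (J f g).map MvPolynomial.C) : monomial α q ∈ JT f g := by
  rw [show monomial α q = C q * monomial α 1 by rw [C_mul_monomial, mul_one]]
  exact Ideal.mul_mem_right _ _ (Ideal.mem_map_of_mem _ hq)

variable (hf : CAlgX.IsQuasiRegular f)
  (hg : CAlgX.IsH1Regular (fun j => Ideal.Quotient.mk (Ideal.span (Set.range f)) (g j)))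

include hf hg in
theorem mem_JT_of_val_eq_zero (d : ℕ) : ∀ (k a : ℕ), d ≤ a + k → ∀ P ∈ B (n := n) d a,
    val f g P = 0 → P ∈ JT f g := by
  classical
  intro k
  induction k using Nat.strong_induction_on with
  | _ k ih =>
  intro a hk P hP hval
  set I := Ideal.span (Set.range f)
  have hIJ : I ≤ J f g := le_sup_left
  by_cases had : d < a
  · rw [mem_JT]
    intro α β
    by_cases h : coeff β (coeff α P) = 0
    · rw [h]; exact zero_mem _
    · obtain ⟨h1, h2⟩ := hP α β h; omega
  let s := P.support.filter fun α => α.degree = a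
  let s' := P.support.filter fun α => ¬ α.degree = a
  have hsplit : P = (∑ α ∈ s, monomial α (coeff α P)) + ∑ α ∈ s', monomial α (coeff α P) := by
    conv_lhs => rw [P.as_sum]
    exact (Finset.sum_filter_add_sum_filter_not P.support _ _).symm
  have hdeg : ∀ α β, coeff β (coeff α P) ≠ 0 → β.degree = d - α.degree ∧ a ≤ α.degree ∧ α.degree ≤ d :=
    fun α β h => ⟨by have := (hP α β h).1; omega, (hP α β h).2, by have := (hP α β h).1; omega⟩
  have hhom : ∀ α, (coeff α P).IsHomogeneous (d - α.degree) := fun α β h => by
    rw [← (hdeg α β h).1, Finsupp.degree_eq_weight_one]; rfl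
  have hge : ∀ α ∈ P.support, a ≤ α.degree ∧ α.degree ≤ d := fun α hα => by
    obtain ⟨β, hβ⟩ := MvPolynomial.exists_coeff_ne_zero (MvPolynomial.mem_support_iff.mp hα)
    exact (hdeg α β hβ).2
  -- quasi-regularity of `f`
  have hI : ∀ α : Fin n →₀ ℕ, α.degree = a → eval g (coeff α P) ∈ I := by
    let Pa : MvPolynomial (Fin n) A := ∑ α ∈ s, monomial α (eval g (coeff α P))
    have hPa : Pa.IsHomogeneous a := IsHomogeneous.sum _ _ _ fun α hα =>
      isHomogeneous_monomial _ (Finset.mem_filter.mp hα).2
    have hev : eval f Pa ∈ I ^ (a + 1) := by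
      have h0 : eval f Pa + val f g (∑ α ∈ s', monomial α (coeff α P)) = 0 := by
        rw [← hval]
        conv_rhs => rw [hsplit]
        simp only [Pa, map_add, map_sum, eval_monomial, val_monomial]
      rw [eq_neg_of_add_eq_zero_left h0, map_sum]
      refine neg_mem (sum_mem fun α hα => ?_)
      rw [val_monomial]
      refine Ideal.mul_mem_left _ _ (Ideal.pow_le_pow_right ?_ (prod_mem_pow f α))
      obtain ⟨hα1, hα2⟩ := Finset.mem_filter.mp hα
      have := (hge α hα1).1
      omega
    intro α hα
    have h := hf a Pa hPa hev α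
    rw [coeff_sum, Finset.sum_congr rfl (fun γ _ => coeff_monomial α γ (eval g (coeff γ P))),
      Finset.sum_ite_eq'] at h
    split_ifs at h with hs
    · exact h
    · have : coeff α P = 0 := by
        by_contra hne
        exact hs (Finset.mem_filter.mpr ⟨MvPolynomial.mem_support_iff.mpr hne, hα⟩)
      rw [this, map_zero]
      exact zero_mem _
  -- the degree `a` part: replacement
  have key : ∀ α : Fin n →₀ ℕ, α.degree = a → coeff α P ∈ (J f g).map MvPolynomial.C ∧
      (a < d → ∃ Q ∈ B (n := n) d (a + 1), Q ∈ JT f g ∧ val f g Q = val f g (monomial α (coeff α P))) := by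
    intro α hα
    set h := coeff α P with hh
    have hhe : h.IsHomogeneous (d - a) := hα ▸ hhom α
    rcases Nat.eq_zero_or_pos (d - a) with he0 | hepos
    · rw [he0] at hhe
      have hC : h = C (coeff 0 h) := totalDegree_eq_zero_iff_eq_C.mp (Nat.le_zero.mp hhe.totalDegree_le)
      have hc : coeff 0 h ∈ I := by
        have := hI α hα
        rw [← hh, hC, eval_C] at this
        exact this
      exact ⟨by rw [hC]; exact Ideal.mem_map_of_mem _ (hIJ hc), fun h => absurd h (by omega)⟩
    · obtain ⟨e, he⟩ : ∃ e, d - a = e + 1 := ⟨d - a - 1, by omega⟩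
      rw [he] at hhe
      let π : MvPolynomial (Fin m) A →+* MvPolynomial (Fin m) (A ⧸ I) := MvPolynomial.map (Ideal.Quotient.mk I)
      have hπ : π h ∈ (Ideal.span (Set.range fun p : Fin m × Fin m => rel g p.1 p.2)).map π := by
        have h1 := mem_rel_of_eval_eq_zero _ hg (e + 1) (π h) (hhe.map _) (by
          rw [eval_map]
          show eval₂ (Ideal.Quotient.mk I) (⇑(Ideal.Quotient.mk I) ∘ g) h = 0
          rw [← MvPolynomial.eval₂_comp, Ideal.Quotient.eq_zero_iff_mem]
          exact hI α hα)
        rw [Ideal.map_span, ← Set.range_comp]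
        convert h1 using 3
        funext p
        simp [π, rel]
      obtain ⟨w, hw, hwh⟩ := (Ideal.mem_map_iff_of_surjective π
        (MvPolynomial.map_surjective _ Ideal.Quotient.mk_surjective)).mp hπ
      obtain ⟨c, rfl⟩ := Ideal.mem_span_range_iff_exists_fun.mp hw
      let w' := ∑ p : Fin m × Fin m, homogeneousComponent e (c p) * rel g p.1 p.2
      have hw'h : w'.IsHomogeneous (e + 1) := IsHomogeneous.sum _ _ _ fun p _ =>
        (homogeneousComponent_isHomogeneous _ _).mul (isHomogeneous_rel g p.1 p.2)
      have hw'0 : eval g w' = 0 := by simp [w', eval_rel]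
      have hw'J : w' ∈ (J f g).map MvPolynomial.C := sum_mem fun p _ => Ideal.mul_mem_left _ _ (by
        refine sub_mem (Ideal.mul_mem_right _ _ (Ideal.mem_map_of_mem _ ?_))
          (Ideal.mul_mem_right _ _ (Ideal.mem_map_of_mem _ ?_)) <;>
        exact Ideal.mem_sup_right (Ideal.subset_span ⟨_, rfl⟩))
      have hq : h - w' ∈ I.map MvPolynomial.C := by
        have h2 : h - ∑ p, c p * rel g p.1 p.2 ∈ I.map MvPolynomial.C := by
          rw [← Ideal.mk_ker (I := I), ← MvPolynomial.ker_map, RingHom.mem_ker, map_sub, sub_eq_zero]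
          exact hwh.symm
        have h3 : h - w' = homogeneousComponent (e + 1) (h - ∑ p, c p * rel g p.1 p.2) := by
          rw [map_sub, homogeneousComponent_of_mem hhe, if_pos rfl, map_sum]
          congr 1
          refine Finset.sum_congr rfl fun p _ => ?_
          conv_rhs => rw [← sum_homogeneousComponent (c p), Finset.sum_mul, map_sum]
          rw [Finset.sum_eq_single e]
          · rw [homogeneousComponent_of_mem ((homogeneousComponent_isHomogeneous e (c p)).mul
              (isHomogeneous_rel g p.1 p.2)), if_pos rfl]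
          · intro i _ hi
            rw [homogeneousComponent_of_mem ((homogeneousComponent_isHomogeneous i (c p)).mul
              (isHomogeneous_rel g p.1 p.2)), if_neg (by omega)]
          · intro he'
            rw [homogeneousComponent_eq_zero e (c p) (by simpa using he'), zero_mul, map_zero]
        rw [h3, mem_map_C_iff]
        intro β
        rw [coeff_homogeneousComponent]
        split_ifs
        · exact mem_map_C_iff.mp h2 β
        · exact zero_mem _
      rw [Ideal.map_span, ← Set.range_comp] at hq
      obtain ⟨r, hr⟩ := Ideal.mem_span_range_iff_exists_fun.mp hq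
      have hr' : h - w' = ∑ i, homogeneousComponent (e + 1) (r i) * C (f i) := by
        have := congrArg (homogeneousComponent (e + 1)) hr
        rw [homogeneousComponent_of_mem (hhe.sub hw'h), if_pos rfl, map_sum] at this
        rw [← this]
        exact Finset.sum_congr rfl fun i _ => by
          rw [Function.comp_apply, mul_comm, homogeneousComponent_C_mul, mul_comm]
      choose R hR hRsum using fun i => exists_decomp (homogeneousComponent_isHomogeneous (e + 1) (r i))
      refine ⟨?_, fun _ => ⟨∑ i, ∑ j, monomial (α + Finsupp.single i 1) (C (g j) * R i j), ?_, ?_, ?_⟩⟩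
      · have : h = w' + (h - w') := by ring
        rw [this, hr']
        exact add_mem hw'J (sum_mem fun i _ => Ideal.mul_mem_left _ _
          (Ideal.mem_map_of_mem _ (hIJ (Ideal.subset_span ⟨i, rfl⟩))))
      · refine sum_mem fun i _ => sum_mem fun j _ => monomial_mem_B _ _ e ?_ ?_ ?_
        · simpa using (isHomogeneous_C _ (g j)).mul (hR i j)
        · rw [map_add, Finsupp.degree_single, hα]; omega
        · rw [map_add, Finsupp.degree_single, hα]
      · exact sum_mem fun i _ => sum_mem fun j _ => monomial_mem_JT f g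
          (Ideal.mul_mem_right _ _ (Ideal.mem_map_of_mem _ (Ideal.mem_sup_right (Ideal.subset_span ⟨j, rfl⟩))))
      · rw [val_monomial, map_sum]
        have he1 : eval g h = ∑ i, f i * ∑ j, g j * eval g (R i j) := by
          have : h = w' + (h - w') := by ring
          rw [this, map_add, hw'0, zero_add, hr', map_sum]
          refine Finset.sum_congr rfl fun i _ => ?_
          rw [map_mul, eval_C, hRsum i, map_sum, mul_comm]
          simp
        rw [he1, Finset.sum_mul]
        refine Finset.sum_congr rfl fun i _ => ?_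
        rw [map_sum, Finset.mul_sum, Finset.sum_mul]
        refine Finset.sum_congr rfl fun j _ => ?_
        rw [val_monomial, Finsupp.prod_add_index' (fun _ => pow_zero _) (fun _ _ _ => pow_add _ _ _),
          Finsupp.prod_single_index (h := fun x l => f x ^ l) (pow_zero _), map_mul, eval_C, pow_one]
        ring
  rcases (Nat.le_of_not_lt had).eq_or_lt with hda | hlt
  · -- only degree `a = d` terms
    rw [mem_JT]
    intro α β
    by_cases h : coeff β (coeff α P) = 0
    · rw [h]; exact zero_mem _
    · obtain ⟨-, h2, h3⟩ := hdeg α β h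
      exact mem_map_C_iff.mp (key α (by omega)).1 β
  · choose Q hQB hQJ hQv using fun α : s => (key α.1 (Finset.mem_filter.mp α.2).2).2 hlt
    let P' := (∑ α ∈ s', monomial α (coeff α P)) + ∑ α : s, Q α
    have hP'B : P' ∈ B (n := n) d (a + 1) := by
      refine add_mem (sum_mem fun α hα => ?_) (sum_mem fun α _ => hQB α)
      obtain ⟨hα1, hα2⟩ := Finset.mem_filter.mp hα
      refine monomial_mem_B _ _ (d - α.degree) (hhom α) ?_ ?_ <;>
      · have := hge α hα1; omega
    have hP'v : val f g P' = 0 := by
      rw [map_add, map_sum (val f g) _ Finset.univ, Finset.sum_congr rfl fun α _ => hQv α,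
        Finset.sum_coe_sort s (fun α => val f g (monomial α (coeff α P))), ← map_sum, ← map_add,
        add_comm, ← hsplit, hval]
    have hP'J := ih (k - 1) (by omega) (a + 1) (by omega) P' hP'B hP'v
    have hrest : ∑ α ∈ s', monomial α (coeff α P) ∈ JT f g := by
      have := sub_mem hP'J (sum_mem fun α (_ : α ∈ (Finset.univ : Finset s)) => hQJ α)
      simpa [P'] using this
    rw [hsplit]
    exact add_mem (sum_mem fun α hα => monomial_mem_JT f g (key α (Finset.mem_filter.mp hα).2).1) hrest

theorem exists_eval_of_mem_pow {c : ℕ} (v : Fin c → A) :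
    ∀ (d : ℕ), ∀ x ∈ Ideal.span (Set.range v) ^ d,
      ∃ P : MvPolynomial (Fin c) A, P.IsHomogeneous d ∧ eval v P = x := by
  intro d
  induction d with
  | zero => exact fun x _ => ⟨C x, isHomogeneous_C _ x, eval_C x⟩
  | succ d ih =>
    intro x hx
    rw [pow_succ] at hx
    refine Submodule.mul_induction_on hx (fun y hy z hz => ?_) (fun y z hy hz => ?_)
    · obtain ⟨P, hP, rfl⟩ := ih y hy
      obtain ⟨r, rfl⟩ := Ideal.mem_span_range_iff_exists_fun.mp hz
      refine ⟨P * ∑ i, C (r i) * X i, hP.mul (IsHomogeneous.sum _ _ _ fun i _ => ?_), by simp⟩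
      simpa using (isHomogeneous_C _ (r i)).mul (isHomogeneous_X A i)
    · obtain ⟨P, hP, rfl⟩ := hy
      obtain ⟨Q, hQ, rfl⟩ := hz
      exact ⟨P + Q, hP.add hQ, map_add _ _ _⟩

include hf hg in
/-- Quasi-regularity of the concatenation. -/
theorem isQuasiRegular_append : CAlgX.IsQuasiRegular (Fin.append f g) := by
  classical
  intro d P hP hPJ δ
  have hJ : Ideal.span (Set.range (Fin.append f g)) = J f g := by
    rw [J, ← Ideal.span_union]
    congr 1
    ext x
    constructor
    · rintro ⟨i, rfl⟩
      refine Fin.addCases (fun i => ?_) (fun j => ?_) i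
      · exact Or.inl ⟨i, (Fin.append_left f g i).symm⟩
      · exact Or.inr ⟨j, (Fin.append_right f g j).symm⟩
    · rintro (⟨i, rfl⟩ | ⟨j, rfl⟩)
      · exact ⟨_, Fin.append_left f g i⟩
      · exact ⟨_, Fin.append_right f g j⟩
  set Jf := Ideal.span (Set.range (Fin.append f g))
  -- reduce to value zero
  obtain ⟨R, hR, hRJ, hRv⟩ : ∃ R : MvPolynomial (Fin (n + m)) A, R.IsHomogeneous d ∧
      R ∈ Jf.map MvPolynomial.C ∧ eval (Fin.append f g) R = eval (Fin.append f g) P := by
    rw [pow_succ] at hPJ
    generalize eval (Fin.append f g) P = x at hPJ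
    refine Submodule.mul_induction_on hPJ (fun y hy z hz => ?_) (fun y z hy hz => ?_)
    · obtain ⟨R, hR, rfl⟩ := exists_eval_of_mem_pow _ d y hy
      exact ⟨C z * R, by simpa using (isHomogeneous_C _ z).mul hR,
        Ideal.mul_mem_right _ _ (Ideal.mem_map_of_mem _ hz), by simp [mul_comm]⟩
    · obtain ⟨R, hR, hR', rfl⟩ := hy
      obtain ⟨S, hS, hS', rfl⟩ := hz
      exact ⟨R + S, hR.add hS, add_mem hR' hS', map_add _ _ _⟩
  suffices key : P - R ∈ Jf.map MvPolynomial.C by
    have := add_mem key hRJ
    rw [sub_add_cancel] at this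
    exact mem_map_C_iff.mp this δ
  let e : MvPolynomial (Fin (n + m)) A →ₐ[A] T A n m :=
    aeval (Fin.addCases (fun i => X i) (fun j => C (X j)))
  let e' : T A n m →+* MvPolynomial (Fin (n + m)) A :=
    eval₂Hom (rename (R := A) (Fin.natAdd n)).toRingHom (fun i => X (Fin.castAdd m i))
  have he : ∀ Q, e' (e Q) = Q := by
    intro Q
    have : e'.comp e.toRingHom = RingHom.id _ := by
      refine ringHom_ext (fun c => ?_) (fun i => ?_)
      · show e' (e (C c)) = _
        rw [← algebraMap_eq, AlgHom.commutes, IsScalarTower.algebraMap_apply A (MvPolynomial (Fin m) A),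
          algebraMap_eq, algebraMap_eq]
        simp [e']
      · show e' (e (X i)) = X i
        refine Fin.addCases (fun i => ?_) (fun j => ?_) i <;> simp [e, e']
    exact DFunLike.congr_fun this Q
  have hval : ∀ Q, val f g (e Q) = eval (Fin.append f g) Q := by
    intro Q
    have : (val f g).comp e.toRingHom = eval (Fin.append f g) := by
      refine ringHom_ext (fun c => ?_) (fun i => ?_)
      · show val f g (e (C c)) = _
        rw [← algebraMap_eq, AlgHom.commutes, IsScalarTower.algebraMap_apply A (MvPolynomial (Fin m) A),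
          algebraMap_eq, algebraMap_eq]
        simp [val]
      · show val f g (e (X i)) = _
        refine Fin.addCases (fun i => ?_) (fun j => ?_) i <;> simp [e, val]
    exact DFunLike.congr_fun this Q
  have hmon : ∀ (γ : Fin (n + m) →₀ ℕ) (c : A), γ.degree = d → e (monomial γ c) ∈ B (n := n) d 0 := by
    intro γ c hγ
    let α : Fin n →₀ ℕ := γ.comapDomain (Fin.castAdd m) (Fin.castAdd_injective n m).injOn
    let β : Fin m →₀ ℕ := γ.comapDomain (Fin.natAdd n) (Fin.natAdd_injective m n).injOn
    have : e (monomial γ c) = monomial α (monomial β c) := by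
      rw [aeval_monomial, Finsupp.prod_fintype _ _ (fun _ => pow_zero _), Fin.prod_univ_add,
        IsScalarTower.algebraMap_apply A (MvPolynomial (Fin m) A), algebraMap_eq, algebraMap_eq]
      rw [monomial_eq (a := monomial β c), monomial_eq (a := c), Finsupp.prod_fintype _ _ (fun _ => pow_zero _),
        Finsupp.prod_fintype _ _ (fun _ => pow_zero _)]
      simp [α, β, map_prod, mul_comm, mul_left_comm]
    rw [this]
    refine monomial_mem_B _ _ β.degree (isHomogeneous_monomial _ rfl) ?_ (Nat.zero_le _)
    rw [← hγ, Finsupp.degree_eq_sum, Finsupp.degree_eq_sum, Finsupp.degree_eq_sum, Fin.sum_univ_add]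
    rfl
  have hB : e (P - R) ∈ B (n := n) d 0 := by
    rw [(P - R).as_sum, map_sum]
    refine sum_mem fun γ hγ => hmon γ _ ?_
    rw [← (hP.sub hR) (MvPolynomial.mem_support_iff.mp hγ), Finsupp.degree_eq_weight_one]
    rfl
  have h0 : val f g (e (P - R)) = 0 := by rw [hval, map_sub, hRv, sub_self]
  have hmem := mem_JT_of_val_eq_zero f g hf hg d d 0 (by omega) _ hB h0
  have h1 := Ideal.mem_map_of_mem e' hmem
  rw [he, JT, Ideal.map_map, Ideal.map_map] at h1
  have hC : (e'.comp MvPolynomial.C).comp MvPolynomial.C = MvPolynomial.C := RingHom.ext fun c => by simp [e']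
  rw [hC, ← hJ] at h1
  exact h1

end Main

end Groth.Agent.H1CAlg.H1Append
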