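import Groth.Prelude.Def_ProEtW
import Mathlib.RingTheory.Spectrum.Prime.Topology
import Mathlib.RingTheory.Jacobson.Ideal
import Mathlib.RingTheory.Nilpotent.Lemmas
import Mathlib.Topology.ExtremallyDisconnected

/-!
W-local spectra of rings: a purely algebraic criterion, its converse, the space of connected
components, and a criterion for extremal disconnectedness.
-/

namespace Groth.Agent.H1CAlg.WLoc

universe u

open PrimeSpectrum Topology

/-- `J` lies in the Jacobson radical and, modulo `J`, every element is a unit times a lifted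
idempotent, up to nilpotents. -/
structure Split (B : Type*) [CommRing B] (J : Ideal B) : Prop where
  le_jac : J ≤ Ideal.jacobson ⊥
  split : ∀ x : B, ∃ e y : B, IsIdempotentElem e ∧ x * y - e ∈ J ∧ x * (1 - e) ∈ J.radical

variable {B : Type u} [CommRing B] {J : Ideal B}

theorem mem_or_mem_of_isIdempotentElem {e : B} (he : IsIdempotentElem e) (p : Ideal B)
    [hp : p.IsPrime] : e ∈ p ∨ 1 - e ∈ p :=
  hp.mem_or_mem (by rw [mul_sub, mul_one, he.eq, sub_self]; exact p.zero_mem)

theorem notMem_of_one_sub_mem {e : B} (p : Ideal B) [hp : p.IsPrime] (h : 1 - e ∈ p) : e ∉ p :=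
  fun h' => hp.ne_top ((Ideal.eq_top_iff_one _).2 (by simpa using p.add_mem h h'))

theorem isClopen_basicOpen_of_isIdempotentElem {e : B} (he : IsIdempotentElem e) :
    IsClopen (basicOpen e : Set (PrimeSpectrum B)) :=
  isClopen_basicOpen_of_mul_add e (1 - e) (by rw [mul_sub, mul_one, he.eq, sub_self]) (by ring)

namespace Split

variable (h : Split B J)
include h

theorem le_of_isMaximal {m : Ideal B} (hm : m.IsMaximal) : J ≤ m :=
  h.le_jac.trans (sInf_le ⟨bot_le, hm⟩)

theorem isMaximal_of_le {q : Ideal B} [hq : q.IsPrime] (hJ : J ≤ q) : q.IsMaximal := by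
  obtain ⟨m, hm, hle⟩ := Ideal.exists_le_maximal q hq.ne_top
  by_contra hne
  have hlt : ¬ m ≤ q := fun h' => hne (le_antisymm hle h' ▸ hm)
  obtain ⟨x, hxm, hxq⟩ := SetLike.not_le_iff_exists.1 hlt
  obtain ⟨e, y, -, hxy, hx1⟩ := h.split x
  have h1 : x * (1 - e) ∈ q := (hq.radical_le_iff.2 hJ) hx1
  have h2 : 1 - e ∈ m := hle ((hq.mem_or_mem h1).resolve_left hxq)
  have h3 : e ∈ m := by
    have h4 := m.sub_mem (m.mul_mem_right y hxm) (hle (hJ hxy))
    rwa [sub_sub_cancel] at h4
  exact hm.ne_top ((Ideal.eq_top_iff_one _).2 (by simpa using m.add_mem h2 h3))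

theorem closedPoints_eq :
    ProEtW.closedPoints (PrimeSpectrum B) = zeroLocus (J : Set B) := by
  ext x
  rw [mem_zeroLocus, SetLike.coe_subset_coe]
  show IsClosed ({x} : Set (PrimeSpectrum B)) ↔ _
  rw [isClosed_singleton_iff_isMaximal]
  exact ⟨h.le_of_isMaximal, h.isMaximal_of_le⟩

theorem exists_idem {m₁ m₂ : Ideal B} (h₁ : m₁.IsMaximal) (h₂ : m₂.IsMaximal) (hne : m₁ ≠ m₂) :
    ∃ e, IsIdempotentElem e ∧ e ∈ m₁ ∧ 1 - e ∈ m₂ := by
  obtain ⟨x, hx₁, hx₂⟩ := SetLike.not_le_iff_exists.1
    (fun h' : m₁ ≤ m₂ => hne (h₁.eq_of_le h₂.ne_top h'))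
  obtain ⟨e, y, he, hxy, hx1⟩ := h.split x
  refine ⟨e, he, ?_, ?_⟩
  · have h4 := m₁.sub_mem (m₁.mul_mem_right y hx₁) (h.le_of_isMaximal h₁ hxy)
    rwa [sub_sub_cancel] at h4
  · exact (h₂.isPrime.mem_or_mem
      (h₂.isPrime.radical_le_iff.2 (h.le_of_isMaximal h₂) hx1)).resolve_left hx₂

theorem eq_of_le_of_le {q m₁ m₂ : Ideal B} [hq : q.IsPrime] (h₁ : m₁.IsMaximal)
    (h₂ : m₂.IsMaximal) (hq₁ : q ≤ m₁) (hq₂ : q ≤ m₂) : m₁ = m₂ := by
  by_contra hne
  obtain ⟨e, he, he₁, he₂⟩ := h.exists_idem h₁ h₂ hne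
  rcases mem_or_mem_of_isIdempotentElem he q with hmem | hmem
  · exact @notMem_of_one_sub_mem B _ e m₂ h₂.isPrime he₂ (hq₂ hmem)
  · exact @notMem_of_one_sub_mem B _ e m₁ h₁.isPrime (hq₁ hmem) he₁

theorem isWLocal : ProEtW.IsWLocal (PrimeSpectrum B) := by
  refine ⟨inferInstance, ?_, fun q => ?_⟩
  · have h' := h.closedPoints_eq
    rw [show {x : PrimeSpectrum B | IsClosed ({x} : Set (PrimeSpectrum B))} = _ from h']
    exact isClosed_zeroLocus _
  · obtain ⟨m, hm, hle⟩ := Ideal.exists_le_maximal q.asIdeal q.isPrime.ne_top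
    refine ⟨⟨m, hm.isPrime⟩, ⟨(isClosed_singleton_iff_isMaximal _).2 hm,
      (le_iff_specializes q ⟨m, hm.isPrime⟩).1 hle⟩, fun y hy => PrimeSpectrum.ext ?_⟩
    exact h.eq_of_le_of_le ((isClosed_singleton_iff_isMaximal y).1 hy.1) hm
      ((le_iff_specializes q y).2 hy.2) hle

theorem bijective_mk :
    Function.Bijective (fun z : zeroLocus (J : Set B) =>
      (ConnectedComponents.mk z.1 : ConnectedComponents (PrimeSpectrum B))) := by
  refine ⟨fun z₁ z₂ hz => ?_, fun c => ?_⟩
  · by_contra hne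
    have hm₁ := @isMaximal_of_le B _ J h z₁.1.asIdeal z₁.1.isPrime z₁.2
    have hm₂ := @isMaximal_of_le B _ J h z₂.1.asIdeal z₂.1.isPrime z₂.2
    obtain ⟨e, he, he₁, he₂⟩ := h.exists_idem hm₁ hm₂ fun h' =>
      hne (Subtype.ext (PrimeSpectrum.ext h'))
    have h3 := (isClopen_basicOpen_of_isIdempotentElem he).connectedComponent_subset
      (x := z₂.1) (notMem_of_one_sub_mem _ he₂)
    exact h3 (ConnectedComponents.coe_eq_coe'.1 hz) he₁
  · obtain ⟨q, rfl⟩ := ConnectedComponents.surjective_coe c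
    obtain ⟨m, hm, hle⟩ := Ideal.exists_le_maximal q.asIdeal q.isPrime.ne_top
    refine ⟨⟨⟨m, hm.isPrime⟩, h.le_of_isMaximal hm⟩, ConnectedComponents.coe_eq_coe'.2 ?_⟩
    exact ((le_iff_specializes q ⟨m, hm.isPrime⟩).1 hle).mem_closed
      isClosed_connectedComponent mem_connectedComponent

theorem t2Space_connectedComponents :
    T2Space (ConnectedComponents (PrimeSpectrum B)) := by
  refine ⟨fun c₁ c₂ hne => ?_⟩
  obtain ⟨z₁, rfl⟩ := h.bijective_mk.2 c₁
  obtain ⟨z₂, rfl⟩ := h.bijective_mk.2 c₂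
  have hm₁ := @isMaximal_of_le B _ J h z₁.1.asIdeal z₁.1.isPrime z₁.2
  have hm₂ := @isMaximal_of_le B _ J h z₂.1.asIdeal z₂.1.isPrime z₂.2
  obtain ⟨e, he, he₁, he₂⟩ := h.exists_idem hm₁ hm₂ fun h' =>
    hne (congrArg ConnectedComponents.mk (PrimeSpectrum.ext h'))
  have hclo := isClopen_basicOpen_of_isIdempotentElem he
  have hopen : ∀ U : Set (PrimeSpectrum B), IsClopen U →
      IsOpen (ConnectedComponents.mk '' U) := fun U hU => by
    rw [← ConnectedComponents.isQuotientMap_coe.isOpen_preimage,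
      connectedComponents_preimage_image, hU.biUnion_connectedComponent_eq]
    exact hU.isOpen
  refine ⟨ConnectedComponents.mk '' (basicOpen e : Set (PrimeSpectrum B))ᶜ,
    ConnectedComponents.mk '' (basicOpen e : Set (PrimeSpectrum B)), hopen _ hclo.compl, hopen _ hclo,
    ⟨z₁.1, fun h' => h' he₁, rfl⟩, ⟨z₂.1, notMem_of_one_sub_mem _ he₂, rfl⟩, ?_⟩
  rw [Set.disjoint_left]
  rintro c ⟨a, ha, rfl⟩ ⟨b, hb, hab⟩
  exact ha (hclo.connectedComponent_subset hb (ConnectedComponents.coe_eq_coe'.1 hab.symm))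

/-- The closed points are homeomorphic to the space of connected components. -/
theorem exists_homeomorph :
    ∃ e : zeroLocus (J : Set B) ≃ₜ ConnectedComponents (PrimeSpectrum B),
      ∀ z, e z = ConnectedComponents.mk z.1 := by
  haveI := h.t2Space_connectedComponents
  haveI : CompactSpace (zeroLocus (J : Set B)) :=
    isCompact_iff_compactSpace.1 (isClosed_zeroLocus _).isCompact
  exact ⟨Continuous.homeoOfEquivCompactToT2 (f := Equiv.ofBijective _ h.bijective_mk)
    (ConnectedComponents.continuous_coe.comp continuous_subtype_val), fun _ => rfl⟩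

/-- Extremal disconnectedness from a dense family of points with all indicator idempotents. -/
theorem extremallyDisconnected {ι : Type*} (pt : ι → zeroLocus (J : Set B))
    (hdense : ∀ g : B, (∀ i, g ∈ (pt i).1.asIdeal) → g ∈ J.radical)
    (hind : ∀ S : Set ι, ∃ e : B, IsIdempotentElem e ∧ ∀ i, e ∈ (pt i).1.asIdeal ↔ i ∉ S) :
    ExtremallyDisconnected (ConnectedComponents (PrimeSpectrum B)) := by
  obtain ⟨φ, -⟩ := h.exists_homeomorph
  suffices ExtremallyDisconnected (zeroLocus (J : Set B)) from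
    extremallyDisconnected_of_homeo φ
  refine ⟨fun U hU => ?_⟩
  obtain ⟨e, he, hi⟩ := hind {i | pt i ∈ U}
  let W : Set (zeroLocus (J : Set B)) := {z | e ∉ z.1.asIdeal}
  have hW : IsClopen W :=
    (isClopen_basicOpen_of_isIdempotentElem he).preimage continuous_subtype_val
  -- a nonempty open subset of the closed points contains one of the points
  have key : ∀ O : Set (zeroLocus (J : Set B)), IsOpen O → ∀ z ∈ O, ∃ i, pt i ∈ O := by
    intro O hO z hz
    obtain ⟨O', hO', rfl⟩ := isOpen_induced_iff.1 hO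
    obtain ⟨_, ⟨g, rfl⟩, hzg, hgO⟩ :=
      isTopologicalBasis_basic_opens.exists_subset_of_mem_open (show z.1 ∈ O' from hz) hO'
    by_contra! hc
    have hg : g ∈ J.radical := hdense g fun i => by
      by_contra hgi
      exact hc i (hgO hgi)
    exact hzg (z.1.isPrime.radical_le_iff.2 z.2 hg)
  have h1 : U ⊆ W := fun z hz => by
    by_contra hzW
    obtain ⟨i, hiU, hiW⟩ := key (U ∩ Wᶜ) (hU.inter hW.compl.isOpen) z ⟨hz, hzW⟩
    exact hiW fun hmem => (hi i).1 hmem hiU
  have h2 : W ⊆ closure U := fun z hz => by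
    by_contra hzc
    obtain ⟨i, hiW, hic⟩ := key (W ∩ (closure U)ᶜ) (hW.isOpen.inter isClosed_closure.isOpen_compl)
      z ⟨hz, hzc⟩
    by_cases hiU : pt i ∈ U
    · exact hic (subset_closure hiU)
    · exact hiW ((hi i).2 hiU)
  rw [show closure U = W from (closure_minimal h1 hW.isClosed).antisymm h2]
  exact hW.isOpen

end Split

/-- Every w-local spectrum satisfies the algebraic criterion for the ideal of its closed points. -/
theorem split_of_isWLocal (hB : ProEtW.IsWLocal (PrimeSpectrum B)) :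
    Split B (vanishingIdeal (ProEtW.closedPoints (PrimeSpectrum B))) := by
  obtain ⟨-, hclosed, huniq⟩ := hB
  set J := vanishingIdeal (ProEtW.closedPoints (PrimeSpectrum B)) with hJdef
  have hcp : ProEtW.closedPoints (PrimeSpectrum B) = zeroLocus (J : Set B) := by
    rw [hJdef, zeroLocus_vanishingIdeal_eq_closure]
    exact hclosed.closure_eq.symm
  have hmax : ∀ {q : Ideal B} [q.IsPrime], J ≤ q → q.IsMaximal := fun {q} _ hq => by
    have : (⟨q, ‹_›⟩ : PrimeSpectrum B) ∈ ProEtW.closedPoints (PrimeSpectrum B) := by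
      rw [hcp]; exact hq
    exact (isClosed_singleton_iff_isMaximal _).1 this
  have hle : ∀ {m : Ideal B}, m.IsMaximal → J ≤ m := fun {m} hm => by
    have : (⟨m, hm.isPrime⟩ : PrimeSpectrum B) ∈ ProEtW.closedPoints (PrimeSpectrum B) :=
      (isClosed_singleton_iff_isMaximal _).2 hm
    rw [hcp] at this
    exact this
  refine ⟨le_sInf fun m hm => hle hm.2, fun x => ?_⟩
  -- the closed points at which `x` is invertible: `V(K)` with `K = J + (x)` is its complement
  let K : Ideal B := J ⊔ Ideal.span {x}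
  let S : Submonoid B :=
    { carrier := {s | ∀ m : Ideal B, m.IsMaximal → x ∈ m → s ∉ m}
      one_mem' := fun m hm _ h' => hm.ne_top ((Ideal.eq_top_iff_one _).2 h')
      mul_mem' := fun {a b} ha hb m hm hx h' =>
        (hm.isPrime.mem_or_mem h').elim (ha m hm hx) (hb m hm hx) }
  let W : Set (PrimeSpectrum B) := Set.range (comap (algebraMap B (Localization S)))
  -- `W` is the set of generalisations of the closed points at which `x` vanishes
  have hW : ∀ q : PrimeSpectrum B, q ∈ W ↔ ∀ m : Ideal B, m.IsMaximal → q.asIdeal ≤ m → x ∈ m := by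
    intro q
    show q ∈ Set.range _ ↔ _
    rw [localization_comap_range (Localization S) S]
    constructor
    · intro hq m hm hqm
      by_contra hxm
      -- `q + K` is the unit ideal, as only `m` lies over `q`
      have htop : q.asIdeal ⊔ K = ⊤ := by
        by_contra hne
        obtain ⟨m', hm', hle'⟩ := Ideal.exists_le_maximal _ hne
        have h1 := (huniq q).unique
          (y₁ := ⟨m, hm.isPrime⟩) (y₂ := ⟨m', hm'.isPrime⟩)
          ⟨(isClosed_singleton_iff_isMaximal _).2 hm, (le_iff_specializes q ⟨m, hm.isPrime⟩).1 hqm⟩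
          ⟨(isClosed_singleton_iff_isMaximal _).2 hm',
            (le_iff_specializes q ⟨m', hm'.isPrime⟩).1 (le_sup_left.trans hle')⟩
        apply hxm
        rw [show m = m' from congrArg PrimeSpectrum.asIdeal h1]
        exact hle' (Ideal.mem_sup_right (Ideal.mem_sup_right (Ideal.mem_span_singleton_self x)))
      obtain ⟨a, ha, b, hb, hab⟩ :=
        Submodule.mem_sup.1 (htop ▸ Submodule.mem_top : (1 : B) ∈ q.asIdeal ⊔ K)
      refine Set.disjoint_left.1 hq (show a ∈ S from fun n hn hxn han => ?_) ha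
      have hbn : b ∈ n :=
        (sup_le (hle hn) ((Ideal.span_singleton_le_iff_mem _).2 hxn)) hb
      exact hn.ne_top ((Ideal.eq_top_iff_one _).2 (hab ▸ n.add_mem han hbn))
    · intro hq
      obtain ⟨m, hm, hqm⟩ := Ideal.exists_le_maximal q.asIdeal q.isPrime.ne_top
      exact Set.disjoint_left.2 fun a ha haq => ha m hm (hq m hm hqm) (hqm haq)
  -- its complement is the set of generalisations of the closed points in `D(x)`
  have hW2 : ∀ q : PrimeSpectrum B, q ∉ W ↔ ∀ m : Ideal B, m.IsMaximal → q.asIdeal ≤ m → x ∉ m := by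
    intro q
    rw [hW]
    constructor
    · intro hn m hm hqm hxm
      refine hn fun m' hm' hqm' => ?_
      have h1 := (huniq q).unique
        (y₁ := ⟨m', hm'.isPrime⟩) (y₂ := ⟨m, hm.isPrime⟩)
        ⟨(isClosed_singleton_iff_isMaximal _).2 hm', (le_iff_specializes q ⟨m', hm'.isPrime⟩).1 hqm'⟩
        ⟨(isClosed_singleton_iff_isMaximal _).2 hm, (le_iff_specializes q ⟨m, hm.isPrime⟩).1 hqm⟩
      rw [show m' = m from congrArg PrimeSpectrum.asIdeal h1]
      exact hxm
    · intro hq hall
      obtain ⟨m, hm, hqm⟩ := Ideal.exists_le_maximal q.asIdeal q.isPrime.ne_top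
      exact hq m hm hqm (hall m hm hqm)
  -- and this complement is the image of a localisation as well
  let S' : Submonoid B :=
    { carrier := {s | ∀ m : Ideal B, m.IsMaximal → x ∉ m → s ∉ m}
      one_mem' := fun m hm _ h' => hm.ne_top ((Ideal.eq_top_iff_one _).2 h')
      mul_mem' := fun {a b} ha hb m hm hx h' =>
        (hm.isPrime.mem_or_mem h').elim (ha m hm hx) (hb m hm hx) }
  have hW' : Wᶜ = Set.range (comap (algebraMap B (Localization S'))) := by
    ext q
    rw [Set.mem_compl_iff, hW2, localization_comap_range (Localization S') S']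
    constructor
    · intro hq
      obtain ⟨m, hm, hqm⟩ := Ideal.exists_le_maximal q.asIdeal q.isPrime.ne_top
      exact Set.disjoint_left.2 fun a ha haq => ha m hm (hq m hm hqm) (hqm haq)
    · intro hq m hm hqm hxm
      -- an element of `S'` in `q + J` would be a contradiction
      have htop : ∀ n : Ideal B, n.IsMaximal → q.asIdeal ⊔ J ≤ n → n = m := by
        intro n hn hqn
        have h1 := (huniq q).unique
          (y₁ := ⟨n, hn.isPrime⟩) (y₂ := ⟨m, hm.isPrime⟩)
          ⟨(isClosed_singleton_iff_isMaximal _).2 hn,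
            (le_iff_specializes q ⟨n, hn.isPrime⟩).1 (le_sup_left.trans hqn)⟩
          ⟨(isClosed_singleton_iff_isMaximal _).2 hm, (le_iff_specializes q ⟨m, hm.isPrime⟩).1 hqm⟩
        exact congrArg PrimeSpectrum.asIdeal h1
      have hrad : x ∈ (q.asIdeal ⊔ J).radical := by
        rw [Ideal.radical_eq_sInf, Submodule.mem_sInf]
        rintro n ⟨hn, hnp⟩
        haveI : Ideal.IsPrime n := hnp
        have hnmax := hmax (le_sup_right.trans hn)
        rw [htop n hnmax hn]
        exact hxm
      obtain ⟨N, hN⟩ := hrad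
      obtain ⟨a, ha, b, hb, hab⟩ := Submodule.mem_sup.1 hN
      refine Set.disjoint_left.1 hq (show a ∈ S' from fun n hn hxn han => hxn ?_) ha
      exact hn.isPrime.mem_of_pow_mem N (hab ▸ n.add_mem han (hle hn hb))
  -- both are stable under specialisation, hence clopen
  have hstab : ∀ {q r : PrimeSpectrum B}, q ⤳ r → (q ∈ W ↔ r ∈ W) := by
    intro q r hqr
    have hqr' := (le_iff_specializes q r).2 hqr
    constructor
    · intro hq
      rw [hW] at hq ⊢
      exact fun m hm hrm => hq m hm (le_trans hqr' hrm)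
    · intro hr
      by_contra hq
      rw [hW2] at hq
      rw [hW] at hr
      obtain ⟨m, hm, hrm⟩ := Ideal.exists_le_maximal r.asIdeal r.isPrime.ne_top
      exact hq m hm (le_trans hqr' hrm) (hr m hm hrm)
  have hWcl : IsClopen W := by
    refine ⟨isClosed_range_of_stableUnderSpecialization _ fun q r hqr hq => (hstab hqr).1 hq, ?_⟩
    rw [← isClosed_compl_iff, hW']
    refine isClosed_range_of_stableUnderSpecialization _ ?_
    rw [← hW']
    exact fun q r hqr hq hr => hq ((hstab hqr).2 hr)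
  obtain ⟨e, he, heW⟩ := exists_idempotent_basicOpen_eq_of_isClopen hWcl.compl
  -- `e` is invertible exactly where `x` is
  have hem : ∀ m : Ideal B, m.IsMaximal → (e ∈ m ↔ x ∈ m) := fun m hm => by
    have h1 : (⟨m, hm.isPrime⟩ : PrimeSpectrum B) ∈ (basicOpen e : Set (PrimeSpectrum B)) ↔
        (⟨m, hm.isPrime⟩ : PrimeSpectrum B) ∉ W := by rw [← heW]; rfl
    rw [hW2] at h1
    change e ∉ m ↔ _ at h1
    constructor
    · intro hme
      by_contra hxm
      exact (h1.2 fun m' hm' hle' => by rwa [← hm.eq_of_le hm'.ne_top hle']) hme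
    · intro hxm
      by_contra hme
      exact h1.1 hme m hm le_rfl hxm
  have hrad : ∀ z : B, (∀ m : Ideal B, m.IsMaximal → z ∈ m) → z ∈ J.radical := fun z hz => by
    rw [Ideal.radical_eq_sInf, Submodule.mem_sInf]
    rintro n ⟨hn, hnp⟩
    haveI : Ideal.IsPrime n := hnp
    exact hz n (hmax hn)
  have hu : IsUnit (x + (1 - e)) := by
    by_contra hnu
    obtain ⟨m, hm, hmem⟩ := exists_max_ideal_of_mem_nonunits (mem_nonunits_iff.2 hnu)
    haveI := hm.isPrime
    rcases mem_or_mem_of_isIdempotentElem he m with h1 | h1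
    · have h2 := (hem m hm).1 h1
      exact notMem_of_one_sub_mem m (e := e) (by simpa using m.sub_mem hmem h2) h1
    · exact notMem_of_one_sub_mem m h1 ((hem m hm).2 (by simpa using m.sub_mem hmem h1))
  obtain ⟨v, hv⟩ := hu.exists_right_inv
  refine ⟨e, e * v, he, ?_, hrad _ fun m hm => ?_⟩
  · have h1 : x * (e * v) - e = 0 := by linear_combination e * hv + v * he.eq
    rw [h1]; exact J.zero_mem
  · haveI := hm.isPrime
    rcases mem_or_mem_of_isIdempotentElem he m with h1 | h1
    · exact m.mul_mem_right _ ((hem m hm).1 h1)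
    · exact m.mul_mem_left _ h1

end Groth.Agent.H1CAlg.WLoc
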