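import Groth.Agent.H1CAlg.ZarColim
import Groth.Agent.H1CAlg.WLocal
import Groth.Agent.H9Hens.PtColim
import Groth.Agent.H13SchFin.EtAlg
import Mathlib.RingTheory.Spectrum.Prime.Topology
import Mathlib.RingTheory.Nilpotent.Lemmas

/-!
W-locality of colimits of pointed local isomorphisms and of pointed etale algebras.
-/

namespace Groth.Agent.H1CAlg.Zar

universe u

open H9Hens (IsPtColim)

variable {A : Type u} [CommRing A]

theorem isLocalIso_prod (R S T : Type u) [CommRing R] [CommRing S] [CommRing T] [Algebra R S]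
    [Algebra R T] [Algebra.IsLocalIso R S] [Algebra.IsLocalIso R T] :
    Algebra.IsLocalIso R (S × T) := by
  have key : ∀ (F : Bool → Type u) [∀ b, CommRing (F b)] [∀ b, Algebra R (F b)]
      [∀ b, Algebra.IsLocalIso R (F b)], Algebra.IsLocalIso R (F true × F false) := by
    intro F _ _ _
    haveI := Algebra.IsLocalIso.pi_of_finite R F
    refine Algebra.IsLocalIso.of_algEquiv (AlgEquiv.ofBijective
      ((Pi.evalAlgHom R F true).prod (Pi.evalAlgHom R F false))
      ⟨fun x y h => funext fun b => ?_, fun p => ⟨fun b => Bool.rec (motive := F) p.2 p.1 b, rfl⟩⟩)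
    cases b
    · exact congrArg Prod.snd h
    · exact congrArg Prod.fst h
  exact @key (fun b => Bool.rec (motive := fun _ => Type u) T S b)
    (fun b => match b with | true => ‹CommRing S› | false => ‹CommRing T›)
    (fun b => match b with | true => ‹Algebra R S› | false => ‹Algebra R T›)
    (fun b => match b with | true => ‹Algebra.IsLocalIso R S› | false => ‹Algebra.IsLocalIso R T›)

variable {k : Type u} [CommRing k] [Algebra A k]

/-- The two-valued map `A × A → k` given by an idempotent. -/
noncomputable def idemHom (e : k) (he : IsIdempotentElem e) : (A × A) →ₐ[A] k where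
  toFun p := algebraMap A k p.1 * e + algebraMap A k p.2 * (1 - e)
  map_one' := by
    show algebraMap A k 1 * e + algebraMap A k 1 * (1 - e) = 1
    rw [map_one]; ring
  map_mul' p q := by
    show algebraMap A k (p.1 * q.1) * e + algebraMap A k (p.2 * q.2) * (1 - e) = _
    rw [map_mul, map_mul]
    linear_combination (-(algebraMap A k p.1 * algebraMap A k q.1) +
      algebraMap A k p.1 * algebraMap A k q.2 + algebraMap A k p.2 * algebraMap A k q.1 -
      algebraMap A k p.2 * algebraMap A k q.2) * he.eq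
  map_zero' := by
    show algebraMap A k 0 * e + algebraMap A k 0 * (1 - e) = 0
    rw [map_zero]; ring
  map_add' p q := by
    show algebraMap A k (p.1 + q.1) * e + algebraMap A k (p.2 + q.2) * (1 - e) = _
    rw [map_add, map_add]; ring
  commutes' a := by
    show algebraMap A k a * e + algebraMap A k a * (1 - e) = _
    ring

theorem idemHom_one_zero (e : k) (he : IsIdempotentElem e) :
    idemHom (A := A) e he (1, 0) = e := by
  show algebraMap A k 1 * e + algebraMap A k 0 * (1 - e) = e
  rw [map_one, map_zero]; ring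

variable {H : Type u} [CommRing H] [Algebra A H] {π : H →ₐ[A] k}

theorem IsZarColim.exists_idem_lift (hH : IsZarColim π) {e : k} (he : IsIdempotentElem e) :
    ∃ ε : H, IsIdempotentElem ε ∧ π ε = e := by
  haveI : Algebra.IsLocalIso A (A × A) := isLocalIso_prod A A A
  obtain ⟨φ, hφ⟩ := hH.exists_map (A × A) (idemHom e he)
  refine ⟨φ (1, 0), ?_, (DFunLike.congr_fun hφ _).trans (idemHom_one_zero e he)⟩
  show φ (1, 0) * φ (1, 0) = φ (1, 0)
  rw [← map_mul, Prod.mk_mul_mk, mul_one, mul_zero]

theorem exists_idem_lift_of_isPtColim (hH : IsPtColim π) {e : k} (he : IsIdempotentElem e) :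
    ∃ ε : H, IsIdempotentElem ε ∧ π ε = e := by
  haveI : Algebra.Etale A (A × A) := H13SchFin.etale_prod
  obtain ⟨φ, hφ⟩ := hH.exists_map (A × A) (idemHom e he)
  refine ⟨φ (1, 0), ?_, (DFunLike.congr_fun hφ _).trans (idemHom_one_zero e he)⟩
  show φ (1, 0) * φ (1, 0) = φ (1, 0)
  rw [← map_mul, Prod.mk_mul_mk, mul_one, mul_zero]

/-- If units and idempotents lift along `π` and the elements of the image are units times
idempotents up to nilpotents, then the criterion for w-locality holds. -/
theorem split_of_lifts (hjac : RingHom.ker π ≤ Ideal.jacobson ⊥)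
    (hunit : ∀ x : H, IsUnit (π x) → IsUnit x)
    (hidem : ∀ e : k, IsIdempotentElem e → ∃ ε : H, IsIdempotentElem ε ∧ π ε = e)
    (hk : ∀ x : H, ∃ e y : k, IsIdempotentElem e ∧ π x * y = e ∧ IsNilpotent (π x * (1 - e))) :
    WLoc.Split H (RingHom.ker π) := by
  refine ⟨hjac, fun x => ?_⟩
  obtain ⟨e, y, he, hxy, n, hn⟩ := hk x
  obtain ⟨ε, hε, hεe⟩ := hidem e he
  -- the element `x ε + (1 - ε)` is a unit
  have hu : IsUnit (x * ε + (1 - ε)) := by
    refine hunit _ (IsUnit.of_mul_eq_one (y * e + (1 - e)) ?_)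
    rw [map_add, map_mul, map_sub, map_one, hεe]
    linear_combination e * e * hxy + (-(π x) - y + 1 + e) * he.eq + he.eq
  obtain ⟨v, hv⟩ := hu.exists_right_inv
  refine ⟨ε, v * ε, hε, ?_, n, ?_⟩
  · rw [show x * (v * ε) - ε = 0 by linear_combination ε * hv + (-x * v + v) * hε.eq]
    exact Ideal.zero_mem _
  · rw [RingHom.mem_ker, map_pow, map_mul, map_sub, map_one, hεe, hn]

theorem IsZarColim.split (hH : IsZarColim π)
    (hk : ∀ x : H, ∃ e y : k, IsIdempotentElem e ∧ π x * y = e ∧ IsNilpotent (π x * (1 - e))) :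
    WLoc.Split H (RingHom.ker π) :=
  split_of_lifts hH.jac (fun _ => hH.isUnit_of_isUnit) (fun _ => hH.exists_idem_lift) hk

theorem split_of_isPtColim (hH : IsPtColim π)
    (hk : ∀ x : H, ∃ e y : k, IsIdempotentElem e ∧ π x * y = e ∧ IsNilpotent (π x * (1 - e))) :
    WLoc.Split H (RingHom.ker π) :=
  split_of_lifts hH.jac (fun _ => hH.isUnit_of_isUnit) (fun _ => exists_idem_lift_of_isPtColim hH) hk

/-- Elements of products of fields are units times idempotents. -/
theorem exists_unit_idem_pi {ι : Type*} (K : ι → Type*) [∀ i, Field (K i)] (x : ∀ i, K i) :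
    ∃ e y : (∀ i, K i), IsIdempotentElem e ∧ x * y = e ∧ IsNilpotent (x * (1 - e)) := by
  classical
  refine ⟨fun i => x i * (x i)⁻¹, fun i => (x i)⁻¹, funext fun i => ?_, rfl, 1, funext fun i => ?_⟩
  · show x i * (x i)⁻¹ * (x i * (x i)⁻¹) = x i * (x i)⁻¹
    by_cases h : x i = 0 <;> simp [h]
  · show (x * (1 - _)) i ^ 1 = 0
    by_cases h : x i = 0 <;> simp [h]

/-- Elements of rings in which all primes are maximal are units times idempotents up to
nilpotents. -/
theorem exists_unit_idem_of_isMaximal {R : Type*} [CommRing R]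
    (hR : ∀ p : Ideal R, p.IsPrime → p.IsMaximal) (x : R) :
    ∃ e y : R, IsIdempotentElem e ∧ x * y = e ∧ IsNilpotent (x * (1 - e)) := by
  have hcl : IsClosed (PrimeSpectrum.basicOpen x : Set (PrimeSpectrum R)) := by
    rw [← PrimeSpectrum.localization_away_comap_range (Localization.Away x) x]
    refine PrimeSpectrum.isClosed_range_of_stableUnderSpecialization _ fun q r hqr hq => ?_
    have h1 := (hR q.asIdeal q.isPrime).eq_of_le r.isPrime.ne_top
      ((PrimeSpectrum.le_iff_specializes q r).2 hqr)
    rwa [← PrimeSpectrum.ext h1]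
  obtain ⟨e, he, heq⟩ := PrimeSpectrum.exists_idempotent_basicOpen_eq_of_isClopen
    (⟨hcl, (PrimeSpectrum.basicOpen x).isOpen⟩ :
      IsClopen (PrimeSpectrum.basicOpen x : Set (PrimeSpectrum R)))
  have hiff : ∀ (p : Ideal R) (hp : p.IsPrime), x ∈ p ↔ e ∈ p := fun p hp => by
    have := Set.ext_iff.1 heq ⟨p, hp⟩
    exact not_iff_not.1 this
  have hu : IsUnit (x + (1 - e)) := by
    by_contra hnu
    obtain ⟨m, hm, hmem⟩ := exists_max_ideal_of_mem_nonunits (mem_nonunits_iff.2 hnu)
    haveI := hm.isPrime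
    rcases WLoc.mem_or_mem_of_isIdempotentElem he m with h1 | h1
    · exact WLoc.notMem_of_one_sub_mem m (by simpa using m.sub_mem hmem ((hiff m hm.isPrime).2 h1)) h1
    · exact WLoc.notMem_of_one_sub_mem m h1 ((hiff m hm.isPrime).1 (by simpa using m.sub_mem hmem h1))
  obtain ⟨v, hv⟩ := hu.exists_right_inv
  refine ⟨e, e * v, he, by linear_combination e * hv + v * he.eq, ?_⟩
  rw [← mem_nilradical, nilradical_eq_sInf, Submodule.mem_sInf]
  intro p hp
  haveI : Ideal.IsPrime p := hp
  rcases WLoc.mem_or_mem_of_isIdempotentElem he p with h1 | h1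
  · exact Ideal.mul_mem_right _ p ((hiff p hp).2 h1)
  · exact Ideal.mul_mem_left p _ h1

end Groth.Agent.H1CAlg.Zar
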