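import Groth.Prelude.Def_ProEtW
import Groth.Prelude.Def_EtBase
import Groth.Agent.H13SchFin.EtAlg
import Mathlib.RingTheory.Spectrum.Prime.Chevalley
import Mathlib.RingTheory.Flat.FaithfullyFlat.Algebra
import Mathlib.RingTheory.Etale.StandardEtale
import Mathlib.RingTheory.Smooth.Flat
import Mathlib.FieldTheory.IsSepClosed

/-!
Rings all of whose faithfully flat etale algebras have retractions: partial sections of etale
algebras, and the local rings at maximal ideals.
-/

namespace Groth.Agent.H1CAlg.EtaleRetr

universe u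

open Polynomial

variable {A : Type u} [CommRing A]

/-- If the image of `Spec E` contains `V(I)`, then `E` maps to every algebra `T` in which the
elements congruent to `1` modulo `I` are units. -/
theorem exists_algHom_of_zeroLocus_subset (h : ProEtW.HasEtaleRetractions A) (I : Ideal A)
    (E : Type u) [CommRing E] [Algebra A E] [Algebra.Etale A E]
    (hI : PrimeSpectrum.zeroLocus (I : Set A) ⊆
      Set.range (PrimeSpectrum.comap (algebraMap A E)))
    (T : Type*) [CommRing T] [Algebra A T]
    (hT : ∀ a : A, a - 1 ∈ I → IsUnit (algebraMap A T a)) :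
    Nonempty (E →ₐ[A] T) := by
  classical
  haveI : Algebra.HasGoingDown A E := Algebra.HasGoingDown.of_flat
  obtain ⟨J, hJ⟩ := (PrimeSpectrum.isClosed_iff_zeroLocus_ideal
    (Set.range (PrimeSpectrum.comap (algebraMap A E)))ᶜ).1
    (PrimeSpectrum.isOpenMap_comap_of_hasGoingDown_of_finitePresentation.isOpen_range.isClosed_compl)
  have hIJ : I ⊔ J = ⊤ := by
    by_contra hne
    obtain ⟨m, hm, hle⟩ := Ideal.exists_le_maximal _ hne
    have h1 : (⟨m, hm.isPrime⟩ : PrimeSpectrum A) ∈ PrimeSpectrum.zeroLocus (I : Set A) :=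
      SetLike.coe_subset_coe.2 (le_sup_left.trans hle)
    have h2 : (⟨m, hm.isPrime⟩ : PrimeSpectrum A) ∈ PrimeSpectrum.zeroLocus (J : Set A) :=
      SetLike.coe_subset_coe.2 (le_sup_right.trans hle)
    exact (hJ ▸ h2) (hI h1)
  obtain ⟨i, hi, j, hj, hij⟩ := Submodule.mem_sup.1 (hIJ ▸ Submodule.mem_top : (1 : A) ∈ I ⊔ J)
  let L := Localization.Away i
  haveI : Algebra.Etale A (E × L) := H13SchFin.etale_prod
  haveI : Module.FaithfullyFlat A (E × L) := by
    refine Module.FaithfullyFlat.of_comap_surjective fun p => ?_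
    by_cases hp : p ∈ Set.range (PrimeSpectrum.comap (algebraMap A E))
    · obtain ⟨q, rfl⟩ := hp
      exact ⟨PrimeSpectrum.comap (RingHom.fst E L) q,
        (PrimeSpectrum.comap_comp_apply (algebraMap A (E × L)) (RingHom.fst E L) q).symm⟩
    · have hpJ : J ≤ p.asIdeal := by
        have : p ∈ PrimeSpectrum.zeroLocus (J : Set A) := hJ ▸ hp
        exact SetLike.coe_subset_coe.1 this
      have hpi : p ∈ Set.range (PrimeSpectrum.comap (algebraMap A L)) := by
        rw [PrimeSpectrum.localization_away_comap_range L i]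
        exact fun h' => p.isPrime.ne_top ((Ideal.eq_top_iff_one _).2
          (hij ▸ p.asIdeal.add_mem h' (hpJ hj)))
      obtain ⟨q, rfl⟩ := hpi
      exact ⟨PrimeSpectrum.comap (RingHom.snd E L) q,
        (PrimeSpectrum.comap_comp_apply (algebraMap A (E × L)) (RingHom.snd E L) q).symm⟩
  obtain ⟨r⟩ := h (E × L) inferInstance inferInstance
  have h1 : r (1, 0) - 1 ∈ I := by
    have hsum : r (1, 0) + r (0, 1) = 1 := by
      rw [← map_add, Prod.mk_add_mk, add_zero, zero_add, ← Prod.one_eq_mk, map_one]
    have hsnd : r (0, 1) = i * r (0, IsLocalization.Away.invSelf i) := by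
      have h2 : ((0 : E), (1 : L)) = algebraMap A (E × L) i * (0, IsLocalization.Away.invSelf i) := by
        refine Prod.ext ?_ ?_
        · simp
        · exact (IsLocalization.Away.mul_invSelf (S := L) i).symm
      rw [h2, map_mul, r.commutes, Algebra.algebraMap_self, RingHom.id_apply]
    rw [show r (1, 0) - 1 = -(r (0, 1)) by rw [← hsum]; ring, hsnd]
    exact I.neg_mem (I.mul_mem_right _ hi)
  have he : algebraMap A T (r (1, 0)) = 1 := by
    refine IsIdempotentElem.iff_eq_one_of_isUnit (hT _ h1) |>.1 ?_
    rw [IsIdempotentElem, ← map_mul, ← map_mul r, Prod.mk_mul_mk, mul_one, mul_zero]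
  refine ⟨{ toFun := fun x => algebraMap A T (r (x, 0))
            map_one' := he
            map_mul' := fun x y => by
              rw [← map_mul, ← map_mul r, Prod.mk_mul_mk, mul_zero]
            map_zero' := by
              rw [← Prod.zero_eq_mk, map_zero, map_zero]
            map_add' := fun x y => by
              rw [← map_add, ← map_add r, Prod.mk_add_mk, add_zero]
            commutes' := fun a => ?_ }⟩
  show algebraMap A T (r (algebraMap A E a, 0)) = algebraMap A T a
  have h3 : ((algebraMap A E a, 0) : E × L) = algebraMap A (E × L) a * (1, 0) := by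
    refine Prod.ext ?_ ?_ <;> simp
  rw [h3, map_mul, r.commutes, map_mul, he, mul_one, Algebra.algebraMap_self, RingHom.id_apply]

/-- Quotients inherit etale retractions, given that etale algebras lift. -/
theorem hasEtaleRetractions_quotient (h : ProEtW.HasEtaleRetractions A) (I : Ideal A)
    (lift : ∀ (D : Type u) [CommRing D] [Algebra (A ⧸ I) D], Algebra.Etale (A ⧸ I) D →
      ∃ (S : Type u) (_ : CommRing S) (_ : Algebra A S), Algebra.Etale A S ∧
        Nonempty ((TensorProduct A (A ⧸ I) S) ≃ₐ[A ⧸ I] D)) :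
    ProEtW.HasEtaleRetractions (A ⧸ I) := by
  intro D _ _ hff het
  obtain ⟨S, _, _, hS, ⟨e⟩⟩ := lift D het
  let := hS
  have hI : PrimeSpectrum.zeroLocus (I : Set A) ⊆
      Set.range (PrimeSpectrum.comap (algebraMap A S)) := fun p hp => by
    obtain ⟨q, hq⟩ : p ∈ Set.range (PrimeSpectrum.comap (Ideal.Quotient.mk I)) := by
      rw [range_comap_of_surjective _ _ Ideal.Quotient.mk_surjective, Ideal.mk_ker]
      exact hp
    obtain ⟨q', hq'⟩ := PrimeSpectrum.comap_surjective_of_faithfullyFlat (A := A ⧸ I) (B := D) q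
    let π : S →+* D := e.toRingEquiv.toRingHom.comp
      (Algebra.TensorProduct.includeRight : S →ₐ[A] TensorProduct A (A ⧸ I) S).toRingHom
    refine ⟨PrimeSpectrum.comap π q', ?_⟩
    rw [← hq, ← hq', ← PrimeSpectrum.comap_comp_apply, ← PrimeSpectrum.comap_comp_apply]
    refine congrArg (fun f => PrimeSpectrum.comap f q') (RingHom.ext fun a => ?_)
    show e (Algebra.TensorProduct.includeRight (algebraMap A S a)) =
      algebraMap (A ⧸ I) D (Ideal.Quotient.mk I a)
    rw [← e.commutes, AlgHom.commutes]
    rfl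
  obtain ⟨f⟩ := exists_algHom_of_zeroLocus_subset h I S hI (A ⧸ I) fun a ha => by
    rw [Ideal.Quotient.algebraMap_eq, Ideal.Quotient.eq.2 ha]
    exact isUnit_one
  exact ⟨(Algebra.TensorProduct.lift (Algebra.ofId (A ⧸ I) (A ⧸ I)) f
    fun _ _ => Commute.all _ _).comp e.symm.toAlgHom⟩

/-- In the local ring at a maximal ideal, a simple root modulo the ideal avoiding the zeros of `h`
lifts. -/
theorem exists_root (hA : ProEtW.HasEtaleRetractions A) (m : Ideal A) [m.IsMaximal]
    (f g : (Localization.AtPrime m)[X]) (hf : f.Monic) (K : Type u) [Field K]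
    [Algebra (Localization.AtPrime m) K]
    (hker : RingHom.ker (algebraMap (Localization.AtPrime m) K) =
      IsLocalRing.maximalIdeal (Localization.AtPrime m))
    (x : K) (hx : aeval x f = 0) (hx' : aeval x (derivative f * g) ≠ 0) :
    ∃ r : Localization.AtPrime m, f.eval r = 0 ∧ IsUnit ((derivative f * g).eval r) := by
  classical
  let M := Localization.AtPrime m
  -- a common denominator
  obtain ⟨⟨s, hs⟩, hint⟩ := IsLocalization.exist_integer_multiples_of_finset m.primeCompl
    (f.coeffs ∪ g.coeffs)
  let L := Localization.Away s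
  let ι : L →+* M := IsLocalization.Away.lift s
    (g := algebraMap A M) (IsLocalization.map_units M (⟨s, hs⟩ : m.primeCompl))
  have hι : ∀ a, ι (algebraMap A L a) = algebraMap A M a := IsLocalization.Away.lift_eq s _
  letI : Algebra L M := ι.toAlgebra
  haveI : IsScalarTower A L M := IsScalarTower.of_algebraMap_eq fun a => (hι a).symm
  have hmem : ∀ c ∈ f.coeffs ∪ g.coeffs, c ∈ Set.range ι := fun c hc => by
    obtain ⟨a, ha⟩ := hint c hc
    refine ⟨IsLocalization.Away.invSelf s * algebraMap A L a, ?_⟩
    have h1 : ι (IsLocalization.Away.invSelf s) * algebraMap A M s = 1 := by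
      rw [← hι, ← map_mul, mul_comm, IsLocalization.Away.mul_invSelf, map_one]
    rw [map_mul, hι, ha, Algebra.smul_def, ← mul_assoc, h1, one_mul]
  have hlift : ∀ p : M[X], p.coeffs ⊆ f.coeffs ∪ g.coeffs → p ∈ Polynomial.lifts ι := fun p hp =>
    (Polynomial.lifts_iff_coeffs_subset_range p).2 fun c hc => hmem c (hp hc)
  obtain ⟨f₁, hf₁, -, hf₁m⟩ := Polynomial.lifts_and_degree_eq_and_monic
    (hlift f Finset.subset_union_left) hf
  obtain ⟨g₁, hg₁⟩ := (Polynomial.mem_lifts _).1 (hlift g Finset.subset_union_right)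
  let P : StandardEtalePair L := ⟨f₁, hf₁m, derivative f₁ * g₁, ⟨g₁, 0, 1, by simp⟩⟩
  letI : Algebra A P.Ring := ((algebraMap L P.Ring).comp (algebraMap A L)).toAlgebra
  haveI : IsScalarTower A L P.Ring := IsScalarTower.of_algebraMap_eq fun _ => rfl
  haveI : Algebra.Etale A P.Ring := Algebra.Etale.comp A L P.Ring
  -- the point over `m`
  letI : Algebra L K := ((algebraMap M K).comp ι).toAlgebra
  have hLK : ∀ p : L[X], aeval x p = aeval x (p.map ι) := fun p => by
    rw [aeval_def, aeval_def, eval₂_map]
    rfl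
  have hP : P.HasMap x := by
    refine ⟨?_, ?_⟩
    · show aeval x f₁ = 0
      rw [hLK, hf₁, hx]
    · show IsUnit (aeval x (derivative f₁ * g₁))
      rw [hLK, Polynomial.map_mul, ← derivative_map, hf₁, hg₁]
      exact isUnit_iff_ne_zero.2 hx'
  have hI : PrimeSpectrum.zeroLocus (m : Set A) ⊆
      Set.range (PrimeSpectrum.comap (algebraMap A P.Ring)) := fun p hp => by
    refine ⟨⟨RingHom.ker (P.lift x hP), RingHom.ker_isPrime _⟩, PrimeSpectrum.ext ?_⟩
    have hpm : p.asIdeal = m :=
      ((‹m.IsMaximal›).eq_of_le p.isPrime.ne_top (SetLike.coe_subset_coe.1 hp)).symm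
    rw [hpm]
    ext a
    show P.lift x hP (algebraMap L P.Ring (algebraMap A L a)) = 0 ↔ a ∈ m
    rw [AlgHom.commutes]
    show algebraMap M K (ι (algebraMap A L a)) = 0 ↔ a ∈ m
    rw [hι, ← RingHom.mem_ker, hker, IsLocalization.AtPrime.to_map_mem_maximal_iff M m]
  obtain ⟨r⟩ := exists_algHom_of_zeroLocus_subset hA m P.Ring hI M fun a ha => by
    rw [IsLocalization.AtPrime.isUnit_to_map_iff M m]
    intro ham
    exact (‹m.IsMaximal›).ne_top ((Ideal.eq_top_iff_one _).2
      (by simpa using m.sub_mem ham ha))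
  let rL : P.Ring →ₐ[L] M :=
    { r.toRingHom with
      commutes' := fun l => by
        have h1 : (r.toRingHom.comp (algebraMap L P.Ring)) = ι :=
          IsLocalization.ringHom_ext (Submonoid.powers s) (RingHom.ext fun a => by
            show r (algebraMap L P.Ring (algebraMap A L a)) = ι (algebraMap A L a)
            rw [hι]
            exact r.commutes a)
        exact RingHom.congr_fun h1 l }
  have hroot := (StandardEtalePair.hasMap_X (P := P)).map rL
  refine ⟨rL P.X, ?_, ?_⟩
  · rw [← hf₁, eval_map]
    exact hroot.1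
  · have h2 : IsUnit (aeval (rL P.X) (derivative f₁ * g₁)) := hroot.2
    rw [aeval_def, ← eval_map, Polynomial.map_mul, ← derivative_map] at h2
    rw [← hf₁, ← hg₁]
    exact h2

/-- The local rings at maximal ideals are strictly henselian. -/
theorem isStrictlyHenselianLocalRing (hA : ProEtW.HasEtaleRetractions A) (m : Ideal A)
    [m.IsMaximal] : EtCoh.IsStrictlyHenselianLocalRing (Localization.AtPrime m) := by
  let M := Localization.AtPrime m
  let k := IsLocalRing.ResidueField M
  have hker : RingHom.ker (algebraMap M k) = IsLocalRing.maximalIdeal M :=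
    IsLocalRing.ker_residue
  have hk : ∀ a : M, algebraMap M k a = 0 ↔ a ∈ IsLocalRing.maximalIdeal M := fun a => by
    rw [← hker]; rfl
  have heval : ∀ (p : M[X]) (a : M), aeval (algebraMap M k a) p = algebraMap M k (p.eval a) :=
    fun p a => aeval_algebraMap_apply_eq_algebraMap_eval a p
  refine ⟨{ is_henselian := fun f hf a₀ h0 h1 => ?_ }, ?_⟩
  · let h := f /ₘ (X - C a₀)
    have hfh : C (f.eval a₀) + (X - C a₀) * h = f := by
      rw [← modByMonic_X_sub_C_eq_C_eval]
      exact modByMonic_add_div f (X - C a₀)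
    have hd : h.eval a₀ = (derivative f).eval a₀ := by
      conv_rhs => rw [← hfh]
      simp
    obtain ⟨r, hr, hr'⟩ := exists_root hA m f h hf k hker (algebraMap M k a₀)
      (by rw [heval, hk]; exact h0)
      (by
        rw [heval, Ne, hk, eval_mul, hd, IsLocalRing.mem_maximalIdeal, mem_nonunits_iff, not_not]
        exact h1.mul h1)
    refine ⟨r, hr, ?_⟩
    have h2 : (r - a₀) * h.eval r ∈ IsLocalRing.maximalIdeal M := by
      have := congrArg (Polynomial.eval r) hfh
      simp only [eval_add, eval_C, eval_mul, eval_sub, eval_X, hr] at this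
      rw [show (r - a₀) * h.eval r = -(f.eval a₀) from eq_neg_of_add_eq_zero_right this]
      exact neg_mem h0
    rw [eval_mul] at hr'
    exact ((IsLocalRing.maximalIdeal.isMaximal M).isPrime.mem_or_mem h2).resolve_right
      fun hc => hc (isUnit_of_mul_isUnit_right hr')
  · refine IsSepClosed.of_exists_root _ fun p hpm hpi hps => ?_
    obtain ⟨f, hf, hfd, hfm⟩ := Polynomial.lifts_and_degree_eq_and_monic
      ((Polynomial.mem_lifts p).2 (Polynomial.map_surjective _ IsLocalRing.residue_surjective p)) hpm
    let K := AlgebraicClosure k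
    obtain ⟨x, hx⟩ := IsAlgClosed.exists_aeval_eq_zero K p hpi.degree_pos.ne'
    letI : Algebra M K := ((algebraMap k K).comp (algebraMap M k)).toAlgebra
    have hK : ∀ q : M[X], aeval x q = aeval x (q.map (algebraMap M k)) := fun q => by
      rw [aeval_def, aeval_def, eval₂_map]; rfl
    obtain ⟨r, hr, -⟩ := exists_root hA m f 1 hfm K
      (by
        ext a
        rw [← hker]
        exact (map_eq_zero (algebraMap k K)))
      x (by rw [hK]; exact hf.symm ▸ hx)
      (by
        rw [mul_one, hK, ← derivative_map]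
        exact hf.symm ▸ hps.aeval_derivative_ne_zero hx)
    refine ⟨algebraMap M k r, ?_⟩
    rw [← hf]
    show eval (algebraMap M k r) (f.map (algebraMap M k)) = 0
    rw [eval_map, eval₂_at_apply, hr, map_zero]

end Groth.Agent.H1CAlg.EtaleRetr
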