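import Groth.Agent.H1CAlg.ZarColim
import Mathlib.RingTheory.Spectrum.Prime.Topology

/-!
Primes of colimits of pointed local isomorphisms with the same contraction are incomparable.
-/

namespace Groth.Agent.H1CAlg.Zar

universe u

variable {A : Type u} [CommRing A]

theorem eq_of_le_of_comap_eq {k : Type u} [CommRing k] [Algebra A k] {H : Type u} [CommRing H]
    [Algebra A H] {π : H →ₐ[A] k} (hH : IsZarColim π) {x m : Ideal H} [x.IsPrime] [m.IsPrime]
    (hle : x ≤ m) (hc : x.comap (algebraMap A H) = m.comap (algebraMap A H)) : x = m := by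
  refine le_antisymm hle fun d hd => ?_
  obtain ⟨E, _, _, _, φ, e, rfl⟩ := hH.exists_rep d
  obtain ⟨g, hg, hsoi⟩ :=
    Algebra.IsLocalIso.exists_notMem_isStandardOpenImmersion (R := A) (m.comap φ.toRingHom)
  obtain ⟨r, hr⟩ := hsoi.exists_away
  let L := Localization.Away g
  have key : ∀ q : Ideal E, q.IsPrime → g ∉ q → ∃ y : PrimeSpectrum L,
      (PrimeSpectrum.comap (algebraMap E L) y).asIdeal = q := fun q hq hgq => by
    have : (⟨q, hq⟩ : PrimeSpectrum E) ∈ Set.range (PrimeSpectrum.comap (algebraMap E L)) := by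
      rw [PrimeSpectrum.localization_away_comap_range L g]
      exact hgq
    obtain ⟨y, hy⟩ := this
    exact ⟨y, by rw [hy]⟩
  obtain ⟨y₁, hy₁⟩ := key (x.comap φ.toRingHom) (Ideal.comap_isPrime _ _) fun h => hg (hle h)
  obtain ⟨y₂, hy₂⟩ := key (m.comap φ.toRingHom) (Ideal.comap_isPrime _ _) hg
  have hy : y₁ = y₂ := by
    refine PrimeSpectrum.localization_comap_injective L (Submonoid.powers r) (PrimeSpectrum.ext ?_)
    rw [IsScalarTower.algebraMap_eq A E L, PrimeSpectrum.comap_comp_apply,
      PrimeSpectrum.comap_comp_apply, PrimeSpectrum.comap_asIdeal, PrimeSpectrum.comap_asIdeal (y := PrimeSpectrum.comap (algebraMap E L) y₂),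
      hy₁, hy₂, Ideal.comap_comap, Ideal.comap_comap,
      show φ.toRingHom.comp (algebraMap A E) = algebraMap A H from φ.comp_algebraMap, hc]
  have h1 : x.comap φ.toRingHom = m.comap φ.toRingHom := by rw [← hy₁, ← hy₂, hy]
  have h2 : e ∈ x.comap φ.toRingHom := by rw [h1]; exact hd
  exact h2

end Groth.Agent.H1CAlg.Zar
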