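import Mathlib.RingTheory.Finiteness.Basic
import Mathlib.LinearAlgebra.FreeModule.PID
import Mathlib.LinearAlgebra.Dual.Lemmas
import Mathlib.LinearAlgebra.LinearIndependent.Lemmas

/-! Finite modules over domains: maps to free modules that are injective up to torsion. -/

set_option autoImplicit false
universe u

namespace Groth.Agent.H1CAlg

variable {R : Type u} [CommRing R] [IsDomain R] {M : Type u} [AddCommGroup M] [Module R M] [Module.Finite R M]

/-- For a finite module over a domain there are `a ≠ 0` and `k` coordinate forms recovering `a • x`. -/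
theorem exists_coord_smul (R : Type u) [CommRing R] [IsDomain R] (M : Type u) [AddCommGroup M] [Module R M]
    [Module.Finite R M] :
    ∃ (a : R) (k : ℕ) (v : Fin k → M) (φ : M →ₗ[R] (Fin k → R)),
      a ≠ 0 ∧ ∀ x, a • x = ∑ i, φ x i • v i := by
  classical
  obtain ⟨n, s, hs⟩ := Module.Finite.exists_fin (R := R) (M := M)
  obtain ⟨I, indep, hI⟩ := exists_maximal_linearIndepOn R s
  have : ∀ i, ∃ a : R, a ≠ 0 ∧ a • s i ∈ Submodule.span R (Set.range fun j : I => s j) := by
    intro i
    by_cases hi : i ∈ I
    · exact ⟨1, one_ne_zero, by rw [one_smul]; exact Submodule.subset_span ⟨⟨i, hi⟩, rfl⟩⟩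
    · obtain ⟨a, ha, h⟩ := hI i hi
      exact ⟨a, ha, by simpa [Set.image_eq_range] using h⟩
  choose a ha ha' using this
  have hmem : ∀ x : M, (∏ i, a i) • x ∈ Submodule.span R (Set.range fun j : I => s j) := by
    intro x
    suffices ⊤ ≤ (Submodule.span R (Set.range fun j : I => s j)).comap (LinearMap.lsmul R M (∏ i, a i)) from
      this Submodule.mem_top
    rw [← hs, Submodule.span_le]
    rintro _ ⟨i, rfl⟩
    show (∏ i, a i) • s i ∈ Submodule.span R (Set.range fun j : I => s j)
    rw [Fintype.prod_eq_prod_compl_mul i, mul_smul]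
    exact Submodule.smul_mem _ _ (ha' i)
  let e : Fin (Fintype.card I) ≃ I := (Fintype.equivFin I).symm
  let b := (Module.Basis.span indep).reindex e.symm
  refine ⟨∏ i, a i, Fintype.card I, fun i => s (e i),
    b.equivFun.toLinearMap ∘ₗ LinearMap.codRestrict _ (LinearMap.lsmul R M (∏ i, a i)) hmem,
    Finset.prod_ne_zero_iff.mpr fun i _ => ha i, fun x => ?_⟩
  have := congrArg Subtype.val (b.sum_equivFun ⟨_, hmem x⟩)
  rw [Submodule.coe_sum] at this
  refine this.symm.trans (Finset.sum_congr rfl fun i _ => ?_)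
  simp only [Submodule.coe_smul, b, Module.Basis.reindex_apply, Module.Basis.span_apply,
    Equiv.symm_symm]
  rfl

theorem exists_injective_fin_of_torsionFree [Module.IsTorsionFree R M] :
    ∃ (n : ℕ) (f : M →ₗ[R] (Fin n → R)), Function.Injective f := by
  obtain ⟨a, k, v, φ, ha, h⟩ := exists_coord_smul R M
  refine ⟨k, φ, (injective_iff_map_eq_zero φ).mpr fun x hx => ?_⟩
  have : a • x = 0 := by rw [h]; simp [hx]
  exact (smul_eq_zero.mp this).resolve_left ha

end Groth.Agent.H1CAlg
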