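import Groth.Agent.H1CAlg.ArSing
import Mathlib.RingTheory.Henselian
import Mathlib.RingTheory.Nakayama
import Mathlib.RingTheory.AdicCompletion.Completeness
import Mathlib.RingTheory.PowerSeries.NoZeroDivisors

/-!
# Coordinates of `k[[x, y]]/(y ^ 2 - x ^ (r + 1))`, `r ≥ 2`, adapted to an involution
-/

set_option autoImplicit false
universe u

namespace Groth.Agent.H1CAlg.ArS

open ArSing
open scoped PowerSeries
open PowerSeries (coeff constantCoeff)

variable {k : Type u} [Field k] {r : ℕ}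

/-- first component of the normal form -/
noncomputable def fstL : ring k r →ₗ[k] k⟦X⟧ := (LinearMap.fst k k⟦X⟧ k⟦X⟧).comp (nfEquiv (r := r)).symm.toLinearMap
/-- second component of the normal form -/
noncomputable def sndL : ring k r →ₗ[k] k⟦X⟧ := (LinearMap.snd k k⟦X⟧ k⟦X⟧).comp (nfEquiv (r := r)).symm.toLinearMap

@[simp] lemma fstL_nf (A B : k⟦X⟧) : fstL (nf k r A B) = A := by
  show ((nfEquiv (r := r)).symm (nf k r A B)).1 = A
  rw [← nfEquiv_apply, LinearEquiv.symm_apply_apply]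

@[simp] lemma sndL_nf (A B : k⟦X⟧) : sndL (nf k r A B) = B := by
  show ((nfEquiv (r := r)).symm (nf k r A B)).2 = B
  rw [← nfEquiv_apply, LinearEquiv.symm_apply_apply]

/-- value at the closed point -/
noncomputable def ε : ring k r →ₗ[k] k := (coeff 0).comp fstL
/-- coefficient of `x` -/
noncomputable def L₁ : ring k r →ₗ[k] k := (coeff 1).comp fstL
/-- coefficient of `y` -/
noncomputable def L₂ : ring k r →ₗ[k] k := (coeff 0).comp sndL

@[simp] lemma ε_nf (A B : k⟦X⟧) : ε (nf k r A B) = constantCoeff A := by simp [ε]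
@[simp] lemma L₁_nf (A B : k⟦X⟧) : L₁ (nf k r A B) = coeff 1 A := by simp [L₁]
@[simp] lemma L₂_nf (A B : k⟦X⟧) : L₂ (nf k r A B) = constantCoeff B := by simp [L₂]

lemma one_eq_nf : (1 : ring k r) = nf k r 1 0 := by simp [nf]

@[simp] lemma ε_one : ε (1 : ring k r) = 1 := by rw [one_eq_nf, ε_nf, map_one]
@[simp] lemma L₁_one : L₁ (1 : ring k r) = 0 := by rw [one_eq_nf, L₁_nf]; simp
@[simp] lemma L₂_one : L₂ (1 : ring k r) = 0 := by rw [one_eq_nf, L₂_nf, map_zero]
@[simp] lemma ε_x : ε (x k r) = 0 := by rw [x_eq_nf, ε_nf, PowerSeries.constantCoeff_X]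
@[simp] lemma L₁_x : L₁ (x k r) = 1 := by rw [x_eq_nf, L₁_nf, PowerSeries.coeff_one_X]
@[simp] lemma L₂_x : L₂ (x k r) = 0 := by rw [x_eq_nf, L₂_nf, map_zero]
@[simp] lemma ε_y : ε (y k r) = 0 := by rw [y_eq_nf, ε_nf, map_zero]
@[simp] lemma L₁_y : L₁ (y k r) = 0 := by rw [y_eq_nf, L₁_nf, map_zero]
@[simp] lemma L₂_y : L₂ (y k r) = 1 := by rw [y_eq_nf, L₂_nf, map_one]

lemma coeff_one_mul (A C : k⟦X⟧) :
    coeff 1 (A * C) = constantCoeff A * coeff 1 C + coeff 1 A * constantCoeff C := by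
  rw [PowerSeries.coeff_mul, Finset.Nat.sum_antidiagonal_succ]
  simp

lemma ε_mul (a b : ring k r) : ε (a * b) = ε a * ε b := by
  obtain ⟨A, B, rfl⟩ := exists_nf a
  obtain ⟨C, D, rfl⟩ := exists_nf b
  simp [nf_mul]

lemma L₁_mul (hr : 1 ≤ r) (a b : ring k r) : L₁ (a * b) = ε a * L₁ b + ε b * L₁ a := by
  obtain ⟨A, B, rfl⟩ := exists_nf a
  obtain ⟨C, D, rfl⟩ := exists_nf b
  rw [nf_mul, L₁_nf, ε_nf, ε_nf, L₁_nf, L₁_nf, map_add, coeff_one_mul A C, PowerSeries.coeff_mul_X_pow',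
    if_neg (by omega)]
  ring

lemma L₂_mul (a b : ring k r) : L₂ (a * b) = ε a * L₂ b + ε b * L₂ a := by
  obtain ⟨A, B, rfl⟩ := exists_nf a
  obtain ⟨C, D, rfl⟩ := exists_nf b
  simp [nf_mul]; ring

lemma mem_iff_ε {a : ring k r} : a ∈ IsLocalRing.maximalIdeal (ring k r) ↔ ε a = 0 := by
  obtain ⟨A, B, rfl⟩ := exists_nf a
  rw [mem_maximalIdeal_iff, ε_nf]

lemma sub_ε_mem (a : ring k r) : a - algebraMap k (ring k r) (ε a) ∈ IsLocalRing.maximalIdeal (ring k r) := by
  rw [mem_iff_ε, map_sub, Algebra.algebraMap_eq_smul_one, map_smul, ε_one]; simp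

lemma apply_mem (σ : ring k r ≃ₐ[k] ring k r) {a : ring k r} (ha : a ∈ IsLocalRing.maximalIdeal (ring k r)) :
    σ a ∈ IsLocalRing.maximalIdeal (ring k r) := fun h => ha (by simpa using h.map σ.symm)

lemma ε_apply (σ : ring k r ≃ₐ[k] ring k r) (a : ring k r) : ε (σ a) = ε a := by
  have h := mem_iff_ε.mp (apply_mem σ (sub_ε_mem a))
  rw [map_sub σ, AlgEquiv.commutes, map_sub, sub_eq_zero, Algebra.algebraMap_eq_smul_one, map_smul, ε_one] at h
  simpa using h

/-! ### substituting an element of the maximal ideal -/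

lemma constantCoeff_rep {u : ring k r} (hu : u ∈ IsLocalRing.maximalIdeal (ring k r)) {U : MvPowerSeries (Fin 2) k}
    (hU : Ideal.Quotient.mk _ U = u) : MvPowerSeries.constantCoeff U = 0 := by
  by_contra h
  exact hu (hU ▸ (MvPowerSeries.isUnit_iff_constantCoeff.mpr (Ne.isUnit h)).map _)

theorem exists_ev (u : ring k r) (hu : u ∈ IsLocalRing.maximalIdeal (ring k r)) :
    ∃ e : k⟦X⟧ →ₐ[k] ring k r, e PowerSeries.X = u := by
  obtain ⟨U, hU⟩ := Ideal.Quotient.mk_surjective u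
  have hs : PowerSeries.HasSubst U := PowerSeries.HasSubst.of_constantCoeff_zero (constantCoeff_rep hu hU)
  exact ⟨(Ideal.Quotient.mkₐ k _).comp (PowerSeries.substAlgHom hs), by
    rw [AlgHom.comp_apply, PowerSeries.substAlgHom_X, Ideal.Quotient.mkₐ_eq_mk, hU]⟩

theorem exists_endo (u v : ring k r) (hu : u ∈ IsLocalRing.maximalIdeal (ring k r))
    (hv : v ∈ IsLocalRing.maximalIdeal (ring k r)) (h : v * v = u ^ (r + 1)) :
    ∃ φ : ring k r →ₐ[k] ring k r, φ (x k r) = u ∧ φ (y k r) = v := by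
  obtain ⟨U, hU⟩ := Ideal.Quotient.mk_surjective u
  obtain ⟨V, hV⟩ := Ideal.Quotient.mk_surjective v
  have hs : MvPowerSeries.HasSubst ![U, V] := MvPowerSeries.hasSubst_of_constantCoeff_zero fun i => by
    fin_cases i
    exacts [constantCoeff_rep hu hU, constantCoeff_rep hv hV]
  let g : MvPowerSeries (Fin 2) k →ₐ[k] ring k r := (Ideal.Quotient.mkₐ k _).comp (MvPowerSeries.substAlgHom hs)
  have h0 : g (MvPowerSeries.X 0) = u := by
    simp only [g, AlgHom.comp_apply, MvPowerSeries.substAlgHom_X, Ideal.Quotient.mkₐ_eq_mk]; exact hU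
  have h1 : g (MvPowerSeries.X 1) = v := by
    simp only [g, AlgHom.comp_apply, MvPowerSeries.substAlgHom_X, Ideal.Quotient.mkₐ_eq_mk]; exact hV
  refine ⟨Ideal.Quotient.liftₐ _ g (fun a ha => ?_), ?_, ?_⟩
  · obtain ⟨c, rfl⟩ := Ideal.mem_span_singleton.mp ha
    rw [map_mul, show g (ArSing.eqn k r) = 0 by
      show g (MvPowerSeries.X 1 ^ 2 - MvPowerSeries.X 0 ^ (r + 1)) = 0
      rw [map_sub, map_pow, map_pow, h0, h1, sq, h, sub_self], zero_mul]
  · exact h0
  · exact h1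

/-! ### frames -/

lemma exists_coeffs {u v : ring k r} (hgen : ∀ a, ∃ c d : k, ∃ w, a = algebraMap k _ c + algebraMap k _ d * v + u * w)
    (e : k⟦X⟧ →ₐ[k] ring k r) (he : e PowerSeries.X = u) (hum : u ∈ IsLocalRing.maximalIdeal (ring k r)) (a : ring k r) :
    ∃ P Q, a = e P + e Q * v := by
  choose c d w hw using hgen
  let z : ℕ → ring k r := fun n => Nat.rec a (fun _ b => w b) n
  have hz : ∀ n, z n = algebraMap k _ (c (z n)) + algebraMap k _ (d (z n)) * v + u * z (n + 1) := fun n => hw (z n)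
  let P : k⟦X⟧ := PowerSeries.mk fun n => c (z n)
  let Q : k⟦X⟧ := PowerSeries.mk fun n => d (z n)
  refine ⟨P, Q, sub_eq_zero.mp (IsHausdorff.haus (I := IsLocalRing.maximalIdeal (ring k r)) inferInstance _ fun n => ?_)⟩
  rw [SModEq.zero, smul_eq_mul, Ideal.mul_top]
  have hsum : ∀ n, a = (∑ i ∈ Finset.range n, algebraMap k _ (c (z i)) * u ^ i) +
      (∑ i ∈ Finset.range n, algebraMap k _ (d (z i)) * u ^ i) * v + u ^ n * z n := by
    intro n
    induction n with
    | zero => simp [z]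
    | succ n ih =>
      rw [Finset.sum_range_succ, Finset.sum_range_succ, add_mul]
      conv_lhs => rw [ih, hz n]
      ring
  have hapx : ∀ R : k⟦X⟧, e R - ∑ i ∈ Finset.range n, algebraMap k _ (coeff i R) * u ^ i ∈
      IsLocalRing.maximalIdeal (ring k r) ^ n := by
    intro R
    have h1 : (∑ i ∈ Finset.range n, algebraMap k (ring k r) (coeff i R) * u ^ i) =
        e (∑ i ∈ Finset.range n, algebraMap k k⟦X⟧ (coeff i R) * PowerSeries.X ^ i) := by
      rw [map_sum]
      refine Finset.sum_congr rfl fun i _ => ?_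
      rw [map_mul, map_pow, AlgHom.commutes, he]
    obtain ⟨S, hS⟩ : PowerSeries.X ^ n ∣ R - ∑ i ∈ Finset.range n, algebraMap k k⟦X⟧ (coeff i R) * PowerSeries.X ^ i := by
      refine PowerSeries.X_pow_dvd_iff.mpr fun m hm => ?_
      rw [map_sub, map_sum, Finset.sum_eq_single m, PowerSeries.algebraMap_eq, PowerSeries.coeff_C_mul_X_pow, if_pos rfl,
        sub_self]
      · intro i _ hi; rw [PowerSeries.algebraMap_eq, PowerSeries.coeff_C_mul_X_pow, if_neg (Ne.symm hi)]
      · intro h; exact absurd (Finset.mem_range.mpr hm) h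
    rw [h1, ← map_sub, hS, map_mul, map_pow, he]
    exact Ideal.mul_mem_right _ _ (Ideal.pow_mem_pow hum n)
  have hP := hapx P
  have hQ := hapx Q
  simp only [P, Q, PowerSeries.coeff_mk] at hP hQ
  rw [show a - (e P + e Q * v) = u ^ n * z n
      - (e P - ∑ i ∈ Finset.range n, algebraMap k _ (c (z i)) * u ^ i)
      - (e Q - ∑ i ∈ Finset.range n, algebraMap k _ (d (z i)) * u ^ i) * v by linear_combination hsum n]
  exact sub_mem (sub_mem (Ideal.mul_mem_right _ _ (Ideal.pow_mem_pow hum n)) hP) (Ideal.mul_mem_right _ _ hQ)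

/-- `u, v` are coordinates in which `ring k r` is free over `k[[u]]` with basis `1, v`. -/
structure IsFrame (u v : ring k r) : Prop where
  εu : ε u = 0
  εv : ε v = 0
  L₁u : L₁ u ≠ 0
  L₁v : L₁ v = 0
  L₂v : L₂ v ≠ 0

namespace IsFrame

variable {u v : ring k r}

lemma u_mem (h : IsFrame u v) : u ∈ IsLocalRing.maximalIdeal (ring k r) := mem_iff_ε.mpr h.εu
lemma v_mem (h : IsFrame u v) : v ∈ IsLocalRing.maximalIdeal (ring k r) := mem_iff_ε.mpr h.εv

lemma nzd (hr : 2 ≤ r) (h : IsFrame u v) {a : ring k r} (ha : u * a = 0) : a = 0 := by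
  obtain ⟨A, B, rfl⟩ := exists_nf u
  obtain ⟨C, D, rfl⟩ := exists_nf a
  have h0 : constantCoeff A = 0 := by simpa using h.εu
  rw [nf_mul] at ha
  obtain ⟨h1, h2⟩ := nf_eq_zero ha
  have hne : A * A - B * B * PowerSeries.X ^ (r + 1) ≠ 0 := by
    intro hz
    obtain ⟨A', rfl⟩ := PowerSeries.X_dvd_iff.mpr h0
    have := congrArg (coeff 2) hz
    rw [map_zero, map_sub, PowerSeries.coeff_mul_X_pow', if_neg (by omega), sub_zero,
      show PowerSeries.X * A' * (PowerSeries.X * A') = PowerSeries.X ^ 2 * (A' * A') by ring,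
      show (2 : ℕ) = 0 + 2 from rfl, PowerSeries.coeff_X_pow_mul] at this
    have hu' := h.L₁u
    rw [L₁_nf, PowerSeries.coeff_succ_X_mul] at hu'
    simp at this hu'
    exact hu' this
  have hC : C = 0 := (mul_eq_zero.mp (show (A * A - B * B * PowerSeries.X ^ (r + 1)) * C = 0 by
    linear_combination A * h1 - B * PowerSeries.X ^ (r + 1) * h2)).resolve_left hne
  have hD : D = 0 := (mul_eq_zero.mp (show (A * A - B * B * PowerSeries.X ^ (r + 1)) * D = 0 by
    linear_combination A * h2 - B * h1)).resolve_left hne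
  simp [hC, hD, nf]

lemma maximalIdeal_le (hr : 1 ≤ r) (h : IsFrame u v) :
    IsLocalRing.maximalIdeal (ring k r) ≤ Ideal.span {u, v} := by
  refine Submodule.le_of_le_smul_of_le_jacobson_bot (IsNoetherian.noetherian _)
    (IsLocalRing.maximalIdeal_le_jacobson _) ?_
  intro a ha
  let d : k := (L₂ a - L₁ a * (L₁ u)⁻¹ * L₂ u) * (L₂ v)⁻¹
  let c : k := L₁ a * (L₁ u)⁻¹
  have hmem : algebraMap k (ring k r) c * u + algebraMap k (ring k r) d * v ∈ Ideal.span {u, v} :=
    Ideal.mem_span_pair.mpr ⟨_, _, rfl⟩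
  rw [← add_sub_cancel (algebraMap k (ring k r) c * u + algebraMap k (ring k r) d * v) a]
  refine Submodule.add_mem_sup hmem ?_
  set b := a - (algebraMap k (ring k r) c * u + algebraMap k (ring k r) d * v) with hb
  have hb' : b = a - (c • u + d • v) := by rw [hb, Algebra.smul_def c u, Algebra.smul_def d v]
  have e1 : ε b = 0 := by rw [hb']; simp [h.εu, h.εv, mem_iff_ε.mp ha]
  have e2 : L₁ b = 0 := by rw [hb']; simp [h.L₁v, c, h.L₁u]
  have e3 : L₂ b = 0 := by rw [hb']; simp [c, d, h.L₂v]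
  obtain ⟨A, B, hAB⟩ := exists_nf b
  rw [hAB, ε_nf] at e1
  rw [hAB, L₁_nf] at e2
  rw [hAB, L₂_nf] at e3
  obtain ⟨A', rfl⟩ := PowerSeries.X_dvd_iff.mpr e1
  obtain ⟨A'', rfl⟩ := PowerSeries.X_dvd_iff.mpr (show constantCoeff A' = 0 by simpa [PowerSeries.coeff_succ_X_mul] using e2)
  obtain ⟨B', rfl⟩ := PowerSeries.X_dvd_iff.mpr e3
  rw [hAB, smul_eq_mul, nf, map_mul, map_mul, map_mul, xMap_X]
  refine add_mem (Ideal.mul_mem_mul x_mem (Ideal.mul_mem_right _ _ x_mem)) ?_
  rw [mul_assoc]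
  exact Ideal.mul_mem_mul x_mem (Ideal.mul_mem_left _ _ y_mem)

lemma sq_mem (hr : 2 ≤ r) (h : IsFrame u v) : v * v ∈ Ideal.span {u} := by
  obtain ⟨s, p, hp⟩ := Ideal.mem_span_pair.mp (h.maximalIdeal_le (by omega) x_mem)
  obtain ⟨t, q, hq⟩ := Ideal.mem_span_pair.mp (h.maximalIdeal_le (by omega) y_mem)
  have hq0 : ε q ≠ 0 := by
    intro hq0
    have e1 := congrArg L₁ hq
    have e2 := congrArg L₂ hq
    simp [L₁_mul (show 1 ≤ r by omega), h.εu, h.εv, h.L₁v, hq0, h.L₁u] at e1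
    simp [L₂_mul, h.εu, h.εv, hq0, e1] at e2
  set π := Ideal.Quotient.mk (Ideal.span {u})
  have hu : π u = 0 := Ideal.Quotient.eq_zero_iff_mem.mpr (Ideal.mem_span_singleton_self u)
  have hx : π (x k r) = π p * π v := by rw [← hp, map_add, map_mul, hu, map_mul]; ring
  have hy : π (y k r) = π q * π v := by rw [← hq, map_add, map_mul, hu, map_mul]; ring
  obtain ⟨n, rfl⟩ := Nat.exists_eq_add_of_le hr
  have hrel := congrArg π (y_sq (k := k) (r := 2 + n))
  rw [map_mul, map_pow, hx, hy] at hrel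
  have hunit : IsUnit (q * q - p ^ (2 + n + 1) * v ^ (n + 1)) := by
    by_contra hn
    have := mem_iff_ε.mp (show q * q - p ^ (2 + n + 1) * v ^ (n + 1) ∈ IsLocalRing.maximalIdeal _ from hn)
    rw [map_sub, ε_mul, pow_succ v n, ← mul_assoc, ε_mul, h.εv, mul_zero, sub_zero, mul_self_eq_zero] at this
    exact hq0 this
  obtain ⟨w, hw⟩ := (hunit.map π).exists_left_inv
  refine Ideal.Quotient.eq_zero_iff_mem.mp ?_
  simp only [map_mul, map_sub, map_pow] at hw ⊢
  linear_combination w * hrel - π v * π v * hw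

lemma gen (hr : 2 ≤ r) (h : IsFrame u v) (a : ring k r) :
    ∃ c d : k, ∃ w, a = algebraMap k _ c + algebraMap k _ d * v + u * w := by
  obtain ⟨s, q, hq⟩ := Ideal.mem_span_pair.mp (h.maximalIdeal_le (by omega) (sub_ε_mem a))
  obtain ⟨s', q', hq'⟩ := Ideal.mem_span_pair.mp (h.maximalIdeal_le (by omega) (sub_ε_mem q))
  obtain ⟨z, hz⟩ := Ideal.mem_span_singleton'.mp (h.sq_mem hr)
  exact ⟨ε a, ε q, s + s' * v + q' * z, by linear_combination -hq - v * hq' - q' * hz⟩

lemma indep (hr : 2 ≤ r) (h : IsFrame u v) {c d : k} {w : ring k r}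
    (he : algebraMap k _ c + algebraMap k _ d * v + u * w = 0) : c = 0 ∧ d = 0 := by
  rw [Algebra.algebraMap_eq_smul_one, ← Algebra.smul_def] at he
  have e0 := congrArg ε he
  have e1 := congrArg L₁ he
  have e2 := congrArg L₂ he
  simp [ε_mul, h.εu, h.εv] at e0
  simp [L₁_mul (show 1 ≤ r by omega), h.εu, h.L₁v, h.L₁u] at e1
  simp [L₂_mul, h.εu, e1, h.L₂v] at e2
  exact ⟨e0, e2⟩

theorem eq_zero (hr : 2 ≤ r) (h : IsFrame u v) (e : k⟦X⟧ →ₐ[k] ring k r) (he : e PowerSeries.X = u) {P Q : k⟦X⟧}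
    (hPQ : e P + e Q * v = 0) : P = 0 ∧ Q = 0 := by
  suffices ∀ n : ℕ, ∀ P Q : k⟦X⟧, e P + e Q * v = 0 → coeff n P = 0 ∧ coeff n Q = 0 from
    ⟨PowerSeries.ext fun n => by simp [(this n P Q hPQ).1], PowerSeries.ext fun n => by simp [(this n P Q hPQ).2]⟩
  intro n
  induction n with
  | zero =>
    intro P Q hPQ
    rw [PowerSeries.eq_X_mul_shift_add_const P, PowerSeries.eq_X_mul_shift_add_const Q, ← PowerSeries.algebraMap_eq,
      map_add, map_add, map_mul, map_mul, he, AlgHom.commutes, AlgHom.commutes] at hPQ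
    have := h.indep hr (c := constantCoeff P) (d := constantCoeff Q)
      (w := e (PowerSeries.mk fun p => coeff (p + 1) P) + e (PowerSeries.mk fun p => coeff (p + 1) Q) * v)
      (by linear_combination hPQ)
    simpa using this
  | succ n ih =>
    intro P Q hPQ
    rw [PowerSeries.eq_X_mul_shift_add_const P, PowerSeries.eq_X_mul_shift_add_const Q, ← PowerSeries.algebraMap_eq,
      map_add, map_add, map_mul, map_mul, he, AlgHom.commutes, AlgHom.commutes] at hPQ
    have h0 := h.indep hr (c := constantCoeff P) (d := constantCoeff Q)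
      (w := e (PowerSeries.mk fun p => coeff (p + 1) P) + e (PowerSeries.mk fun p => coeff (p + 1) Q) * v)
      (by linear_combination hPQ)
    rw [h0.1, h0.2] at hPQ
    have := ih _ _ (h.nzd hr (by simpa [add_mul, mul_add, mul_assoc] using hPQ))
    simpa using this

theorem exists_coeffs' (hr : 2 ≤ r) (h : IsFrame u v) (e : k⟦X⟧ →ₐ[k] ring k r) (he : e PowerSeries.X = u) (a : ring k r) :
    ∃ P Q, a = e P + e Q * v :=
  exists_coeffs (fun a => h.gen hr a) e he h.u_mem a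

end IsFrame

/-- square roots of power series with nonzero constant coefficient -/
lemma exists_sqrt [IsAlgClosed k] (h2 : (2 : k) ≠ 0) {W : k⟦X⟧} (hW : constantCoeff W ≠ 0) :
    ∃ s : k⟦X⟧, s * s = W ∧ constantCoeff s ≠ 0 := by
  obtain ⟨c, hc⟩ := IsAlgClosed.exists_pow_nat_eq (constantCoeff W) two_pos
  have hc0 : c ≠ 0 := fun h => hW (by rw [← hc, h]; simp)
  obtain ⟨s, hs, hsc⟩ := HenselianRing.is_henselian (R := k⟦X⟧) (I := Ideal.span {PowerSeries.X})
    (Polynomial.X ^ 2 - Polynomial.C W) (Polynomial.monic_X_pow_sub_C W two_ne_zero) (PowerSeries.C c)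
    (by
      rw [Ideal.mem_span_singleton, PowerSeries.X_dvd_iff]
      simp [hc])
    (by
      refine IsUnit.map _ (PowerSeries.isUnit_iff_constantCoeff.mpr ?_)
      simp [hc0, one_add_one_eq_two, h2, map_ofNat])
  refine ⟨s, ?_, ?_⟩
  · rw [← sub_eq_zero, ← sq]
    simpa [Polynomial.IsRoot] using hs
  · rw [Ideal.mem_span_singleton, PowerSeries.X_dvd_iff, map_sub, PowerSeries.constantCoeff_C, sub_eq_zero] at hsc
    rwa [hsc]

lemma exists_pow_nf (hr : 2 ≤ r) {u : ring k r} (hu : ε u = 0) (n : ℕ) :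
    ∃ a b : k⟦X⟧, u ^ (n + 1) = nf k r (PowerSeries.X ^ (n + 1) * a) (PowerSeries.X ^ n * b) ∧
      constantCoeff a = L₁ u ^ (n + 1) ∧ constantCoeff b = (n + 1 : ℕ) * L₁ u ^ n * L₂ u := by
  obtain ⟨A, B, rfl⟩ := exists_nf u
  obtain ⟨A', rfl⟩ := PowerSeries.X_dvd_iff.mpr (by simpa using hu)
  induction n with
  | zero => exact ⟨A', B, by simp, by simp [PowerSeries.coeff_succ_X_mul], by simp⟩
  | succ n ih =>
    obtain ⟨a, b, h1, h2, h3⟩ := ih
    obtain ⟨j, rfl⟩ := Nat.exists_eq_add_of_le hr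
    refine ⟨a * A' + PowerSeries.X ^ (j + 1) * b * B, a * B + b * A', ?_, ?_, ?_⟩
    · rw [pow_succ _ (n + 1), h1, nf_mul]
      congr 1 <;> ring
    · simp only [map_add, map_mul, h2, map_pow, PowerSeries.constantCoeff_X, L₁_nf, PowerSeries.coeff_succ_X_mul,
        PowerSeries.coeff_zero_eq_constantCoeff_apply]
      rw [zero_pow (Nat.succ_ne_zero j)]; ring
    · simp only [map_add, map_mul, h2, h3, L₁_nf, L₂_nf, PowerSeries.coeff_succ_X_mul,
        PowerSeries.coeff_zero_eq_constantCoeff_apply]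
      push_cast; ring

end Groth.Agent.H1CAlg.ArS
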