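import Groth.Agent.H1CAlg.ArFrame

/-!
# Linearisation of involutions of `k[[x, y]]/(y ^ 2 - x ^ (r + 1))`, `r ≥ 2`
-/

set_option autoImplicit false
universe u

namespace Groth.Agent.H1CAlg.ArS

open ArSing
open scoped PowerSeries
open PowerSeries (coeff constantCoeff)

variable {k : Type u} [Field k] {r : ℕ}

lemma L₁_apply_y_eq_zero (hr : 2 ≤ r) (σ : ring k r ≃ₐ[k] ring k r) : L₁ (σ (y k r)) = 0 := by
  have hy0 : ε (σ (y k r)) = 0 := by rw [ε_apply, ε_y]
  have hx0 : ε (σ (x k r)) = 0 := by rw [ε_apply, ε_x]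
  obtain ⟨C, D, hCD⟩ := exists_nf (σ (y k r))
  obtain ⟨j, hj⟩ := Nat.exists_eq_add_of_le hr
  obtain ⟨a, b, hab, -, -⟩ := exists_pow_nf hr hx0 r
  have h := congrArg σ (y_sq (k := k) (r := r))
  rw [map_mul, map_pow, hCD, hab, nf_mul] at h
  obtain ⟨C', rfl⟩ := PowerSeries.X_dvd_iff.mpr (show constantCoeff C = 0 by rw [hCD] at hy0; simpa using hy0)
  have h1 := congrArg (coeff 2) (nf_inj h).1
  rw [map_add, PowerSeries.coeff_mul_X_pow', if_neg (by omega), add_zero, PowerSeries.coeff_X_pow_mul', if_neg (by omega),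
    show PowerSeries.X * C' * (PowerSeries.X * C') = PowerSeries.X ^ 2 * (C' * C') by ring,
    show (2 : ℕ) = 0 + 2 from rfl, PowerSeries.coeff_X_pow_mul] at h1
  simp at h1
  rw [hCD, L₁_nf, PowerSeries.coeff_succ_X_mul]
  simpa using h1

lemma eq_affine_add (a : ring k r) (ha : ε a = 0) : ∃ c d e f : ring k r,
    a = algebraMap k _ (L₁ a) * x k r + algebraMap k _ (L₂ a) * y k r + (x k r * x k r) * c + (x k r * y k r) * d +
      e * 0 + f * 0 := by
  obtain ⟨A, B, rfl⟩ := exists_nf a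
  obtain ⟨A', rfl⟩ := PowerSeries.X_dvd_iff.mpr (by simpa using ha)
  obtain ⟨A'', hA''⟩ := PowerSeries.X_dvd_iff.mpr (show constantCoeff (A' - PowerSeries.C (constantCoeff A')) = 0 by simp)
  obtain ⟨B', hB'⟩ := PowerSeries.X_dvd_iff.mpr (show constantCoeff (B - PowerSeries.C (constantCoeff B)) = 0 by simp)
  refine ⟨xMap k r A'', xMap k r B', 0, 0, ?_⟩
  rw [L₁_nf, L₂_nf, PowerSeries.coeff_succ_X_mul, PowerSeries.coeff_zero_eq_constantCoeff_apply,
    ← (xMap k r).commutes, ← (xMap k r).commutes, PowerSeries.algebraMap_eq]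
  rw [sub_eq_iff_eq_add] at hA'' hB'
  conv_lhs => rw [hA'', hB']
  simp only [nf, map_add, map_mul, xMap_X]
  ring

lemma L_apply (hr : 2 ≤ r) (σ : ring k r ≃ₐ[k] ring k r) {a : ring k r} (ha : ε a = 0) :
    L₁ (σ a) = L₁ a * L₁ (σ (x k r)) ∧ L₂ (σ a) = L₁ a * L₂ (σ (x k r)) + L₂ a * L₂ (σ (y k r)) := by
  obtain ⟨c, d, e, f, he⟩ := eq_affine_add a ha
  have h1 : 1 ≤ r := by omega
  have hσ : σ a = L₁ a • σ (x k r) + L₂ a • σ (y k r) + σ (x k r) * σ (x k r) * σ c + σ (x k r) * σ (y k r) * σ d := by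
    conv_lhs => rw [he]
    simp only [map_add, map_mul, AlgEquiv.commutes, map_zero, mul_zero, add_zero]
    rw [Algebra.smul_def (L₁ a) (σ (x k r)), Algebra.smul_def (L₂ a) (σ (y k r))]
  have hx0 : ε (σ (x k r)) = 0 := by rw [ε_apply, ε_x]
  have hy0 : ε (σ (y k r)) = 0 := by rw [ε_apply, ε_y]
  rw [hσ]
  simp [L₁_mul h1, L₂_mul, ε_mul, hx0, hy0, L₁_apply_y_eq_zero hr σ]

/-- In suitable coordinates an involution is diagonal. -/
theorem linearise [IsAlgClosed k] (h2 : (2 : k) ≠ 0) (hr : 2 ≤ r) (σ : ring k r ≃ₐ[k] ring k r)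
    (hσ : ∀ a, σ (σ a) = a) :
    ∃ (φ : ring k r ≃ₐ[k] ring k r) (α β : k), (α = 1 ∨ α = -1) ∧ (β = 1 ∨ β = -1) ∧ α ^ (r + 1) = 1 ∧
      φ.symm (σ (φ (x k r))) = α • x k r ∧ φ.symm (σ (φ (y k r))) = β • y k r := by
  have h1r : 1 ≤ r := by omega
  set α := L₁ (σ (x k r))
  set β := L₂ (σ (y k r))
  set γ := L₂ (σ (x k r))
  have hy1 : L₁ (σ (y k r)) = 0 := L₁_apply_y_eq_zero hr σ
  have hα : α * α = 1 := by
    have := (L_apply hr σ (a := σ (x k r)) (by rw [ε_apply, ε_x])).1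
    rw [hσ, L₁_x] at this
    exact this.symm
  have hβ : β * β = 1 := by
    have := (L_apply hr σ (a := σ (y k r)) (by rw [ε_apply, ε_y])).2
    rw [hσ, L₂_y, hy1, zero_mul, zero_add] at this
    exact this.symm
  -- eigenvectors
  set u := (2⁻¹ : k) • (x k r + α • σ (x k r)) with hu
  set v := (2⁻¹ : k) • (y k r + β • σ (y k r)) with hv
  have hσu : σ u = α • u := by
    rw [hu, map_smul, map_add, map_smul, hσ, smul_comm α, smul_add, smul_add, smul_smul α α, hα, one_smul, smul_add, add_comm]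
  have hσv : σ v = β • v := by
    rw [hv, map_smul, map_add, map_smul, hσ, smul_comm β, smul_add, smul_add, smul_smul β β, hβ, one_smul, smul_add, add_comm]
  have heu : ε u = 0 := by rw [hu]; simp [ε_apply]
  have hev : ε v = 0 := by rw [hv]; simp [ε_apply]
  have hu1 : L₁ u = 1 := by
    rw [hu, map_smul, map_add, map_smul, L₁_x]
    show (2⁻¹ : k) • (1 + α • α) = 1
    rw [smul_eq_mul, smul_eq_mul, hα, one_add_one_eq_two, inv_mul_cancel₀ h2]
  have hv1 : L₁ v = 0 := by rw [hv]; simp [hy1]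
  have hv2 : L₂ v = 1 := by
    rw [hv, map_smul, map_add, map_smul, L₂_y]
    show (2⁻¹ : k) • (1 + β • β) = 1
    rw [smul_eq_mul, smul_eq_mul, hβ, one_add_one_eq_two, inv_mul_cancel₀ h2]
  have hF : IsFrame u v := ⟨heu, hev, by rw [hu1]; exact one_ne_zero, hv1, by rw [hv2]; exact one_ne_zero⟩
  obtain ⟨e, he⟩ := exists_ev u hF.u_mem
  have hσe : ∀ P, σ (e P) = e (PowerSeries.rescale α P) := fun P =>
    AlgHom.congr_fun (φ₁ := σ.toAlgHom.comp e) (φ₂ := e.comp (rescaleₐ α))
      (psAlgHom_ext (IsLocalRing.maximalIdeal (ring k r))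
        (show σ (e PowerSeries.X) ∈ _ by rw [he]; exact apply_mem σ hF.u_mem)
        (show σ (e PowerSeries.X) = e (PowerSeries.rescale α PowerSeries.X) by
          rw [rescale_apply_X, ← PowerSeries.smul_eq_C_mul, map_smul, he, hσu])) P
  -- completing the square
  obtain ⟨P, Q, hPQ⟩ := hF.exists_coeffs' hr e he (v * v)
  have hinv : PowerSeries.rescale α P = P ∧ β • PowerSeries.rescale α Q = Q := by
    have hl : σ (v * v) = v * v := by rw [map_mul, hσv, smul_mul_smul_comm, hβ, one_smul]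
    have hr' : σ (e P + e Q * v) = e (PowerSeries.rescale α P) + e (β • PowerSeries.rescale α Q) * v := by
      rw [map_add, map_mul, hσe, hσe, hσv, map_smul, mul_smul_comm, smul_mul_assoc]
    have h := congrArg σ hPQ
    rw [hl, hr'] at h
    have h' : e (PowerSeries.rescale α P - P) + e (β • PowerSeries.rescale α Q - Q) * v = 0 := by
      rw [map_sub, map_sub]; linear_combination hPQ - h
    obtain ⟨h1, h3⟩ := hF.eq_zero hr e he h'
    exact ⟨sub_eq_zero.mp h1, sub_eq_zero.mp h3⟩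
  have hC2 : PowerSeries.C (2⁻¹ : k) * 2 = (1 : k⟦X⟧) := by
    rw [← map_ofNat (PowerSeries.C (R := k)) 2, ← map_mul, inv_mul_cancel₀ h2, map_one]
  have hrC : ∀ c : k, PowerSeries.rescale α (PowerSeries.C c) = PowerSeries.C c := fun c =>
    (rescaleₐ α).commutes c
  set v₂ := v - e (PowerSeries.C 2⁻¹ * Q) with hv₂
  set P₂ := P + (PowerSeries.C 2⁻¹ * Q) * (PowerSeries.C 2⁻¹ * Q) with hP₂
  have hσv₂ : σ v₂ = β • v₂ := by
    have : PowerSeries.rescale α (PowerSeries.C 2⁻¹ * Q) = β • (PowerSeries.C 2⁻¹ * Q) := by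
      rw [map_mul, hrC]
      conv_rhs => rw [← hinv.2, mul_smul_comm, smul_smul, hβ, one_smul]
    rw [hv₂, map_sub, hσv, hσe, this, map_smul, smul_sub]
  have hv₂sq : v₂ * v₂ = e P₂ := by
    have : e Q = e (PowerSeries.C 2⁻¹ * Q) + e (PowerSeries.C 2⁻¹ * Q) := by
      rw [← map_add]; congr 1; linear_combination -Q * hC2
    rw [hv₂, hP₂, map_add, map_mul e (PowerSeries.C 2⁻¹ * Q) (PowerSeries.C 2⁻¹ * Q)]
    linear_combination hPQ + v * this
  have hP₂inv : PowerSeries.rescale α P₂ = P₂ := by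
    have h := congrArg σ hv₂sq
    rw [map_mul, hσv₂, smul_mul_smul_comm, hβ, one_smul, hσe, hv₂sq] at h
    exact (sub_eq_zero.mp (hF.eq_zero hr e he (Q := 0) (by rw [map_sub, map_zero, zero_mul, add_zero, h, sub_self])).1).symm
  -- first order behaviour of `v₂`
  have hεe : ∀ R, ε (e R) = constantCoeff R := by
    intro R
    conv_lhs => rw [PowerSeries.eq_X_mul_shift_add_const R, map_add, map_mul, he, ← PowerSeries.algebraMap_eq, AlgHom.commutes]
    simp [ε_mul, heu, Algebra.algebraMap_eq_smul_one]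
  have hLe : ∀ R, L₁ (e R) = coeff 1 R ∧ L₂ (e R) = coeff 1 R * L₂ u := by
    intro R
    have hR : e R = u * e (PowerSeries.mk fun p => coeff (p + 1) R) + algebraMap k _ (constantCoeff R) := by
      conv_lhs => rw [PowerSeries.eq_X_mul_shift_add_const R, map_add, map_mul, he, ← PowerSeries.algebraMap_eq, AlgHom.commutes]
    rw [hR]
    simp [L₁_mul h1r, L₂_mul, hεe, heu, hu1, Algebra.algebraMap_eq_smul_one]
  have hQ0 : constantCoeff Q = 0 := by
    have e1 := congrArg L₁ hPQ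
    have e2 := congrArg L₂ hPQ
    rw [L₁_mul h1r, map_add, L₁_mul h1r, (hLe P).1, hεe, hev, hv1] at e1
    rw [L₂_mul, map_add, L₂_mul, (hLe P).2, hεe, hev, hv2] at e2
    linear_combination -e2 + L₂ u * e1
  have hεv₂ : ε v₂ = 0 := by
    rw [hv₂, map_sub ε, hεe, hev, map_mul constantCoeff, hQ0, mul_zero, sub_zero]
  have hP0 : constantCoeff P₂ = 0 := by rw [← hεe, ← hv₂sq, ε_mul, hεv₂, mul_zero]
  have hP1 : coeff 1 P₂ = 0 := by rw [← (hLe P₂).1, ← hv₂sq, L₁_mul h1r, hεv₂]; simp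
  obtain ⟨C, D, hCD⟩ := exists_nf v₂
  have hC0 : constantCoeff C = 0 := by rw [hCD] at hεv₂; simpa using hεv₂
  have hC1D : coeff 1 C = -(2⁻¹ * coeff 1 Q) ∧ constantCoeff D = 1 + coeff 1 C * L₂ u := by
    have e1 := congrArg L₁ hCD
    have e2 := congrArg L₂ hCD
    rw [hv₂, map_sub L₁, (hLe _).1, hv1, PowerSeries.coeff_C_mul, L₁_nf] at e1
    rw [hv₂, map_sub L₂, (hLe _).2, hv2, PowerSeries.coeff_C_mul, L₂_nf] at e2
    exact ⟨by linear_combination -e1, by linear_combination -e2 + L₂ u * e1⟩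
  obtain ⟨P', hP'⟩ := PowerSeries.X_dvd_iff.mpr hP0
  obtain ⟨P'', hP''⟩ := PowerSeries.X_dvd_iff.mpr (show constantCoeff P' = 0 by
    rw [hP'] at hP1; simpa [PowerSeries.coeff_succ_X_mul] using hP1)
  have heP : e P₂ = u ^ 2 * e P'' := by rw [hP', hP'', map_mul, map_mul, he]; ring
  have hC1 : coeff 1 C = 0 := by
    obtain ⟨a, b, hab, ha0, hb0⟩ := exists_pow_nf hr heu 1
    obtain ⟨E, G, hEG⟩ := exists_nf (e P'')
    have h := hv₂sq.trans heP
    rw [hCD, hab, hEG, nf_mul, nf_mul] at h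
    obtain ⟨hh1, hh2⟩ := nf_inj h
    obtain ⟨C', rfl⟩ := PowerSeries.X_dvd_iff.mpr hC0
    have k1 := congrArg (coeff 2) hh1
    have k2 := congrArg (coeff 1) hh2
    rw [map_add, map_add, PowerSeries.coeff_mul_X_pow', if_neg (by omega), PowerSeries.coeff_mul_X_pow', if_neg (by omega),
      add_zero, add_zero, show PowerSeries.X * C' * (PowerSeries.X * C') = PowerSeries.X ^ 2 * (C' * C') by ring,
      mul_assoc (PowerSeries.X ^ (1 + 1)), show (2 : ℕ) = 0 + 2 from rfl, PowerSeries.coeff_X_pow_mul,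
      PowerSeries.coeff_X_pow_mul] at k1
    rw [map_add, map_add, coeff_one_mul (PowerSeries.X * C') D, coeff_one_mul D (PowerSeries.X * C'), pow_one,
      mul_assoc PowerSeries.X b E, PowerSeries.coeff_succ_X_mul, mul_assoc (PowerSeries.X ^ (1 + 1)) a G,
      PowerSeries.coeff_X_pow_mul', if_neg (by omega)] at k2
    simp [hu1] at k1 k2 ha0 hb0
    rw [ha0, one_mul] at k1
    rw [hb0] at k2
    rw [PowerSeries.coeff_succ_X_mul] at hC1D ⊢
    simp at hC1D ⊢
    by_contra hne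
    have : constantCoeff D = constantCoeff C' * L₂ u := by
      refine mul_left_cancel₀ (mul_ne_zero h2 hne) ?_
      linear_combination k2 - 2 * L₂ u * k1
    exact one_ne_zero (show (1 : k) = 0 by linear_combination this - hC1D.2)
  have hD : constantCoeff D = 1 := by rw [hC1D.2, hC1, zero_mul, add_zero]
  -- the order of `P₂`
  have hP₂ne : P₂ ≠ 0 := by
    intro h0
    have h := hv₂sq
    rw [h0, map_zero, hCD, nf_mul] at h
    obtain ⟨hh1, hh2⟩ := nf_eq_zero h
    have hD' : D ≠ 0 := fun h => by simp [h] at hD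
    have hC : C = 0 := by
      have : 2 * D * C = 0 := by linear_combination hh2
      refine (mul_eq_zero.mp this).resolve_left (mul_ne_zero ?_ hD')
      rw [← map_ofNat (PowerSeries.C (R := k)) 2]
      exact fun h => h2 (by simpa using congrArg constantCoeff h)
    rw [hC, zero_mul, zero_add, mul_eq_zero, mul_self_eq_zero] at hh1
    exact hh1.elim hD' (pow_ne_zero _ PowerSeries.X_ne_zero)
  obtain ⟨n, W, hW, hP₂W⟩ : ∃ (n : ℕ) (W : k⟦X⟧), constantCoeff W ≠ 0 ∧ P₂ = PowerSeries.X ^ n * W := by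
    obtain ⟨W, hW⟩ := P₂.X_pow_order_dvd
    refine ⟨P₂.order.toNat, W, fun h0 => ?_, hW⟩
    refine PowerSeries.coeff_order hP₂ne ?_
    refine (congrArg (coeff P₂.order.toNat) hW).trans ?_
    rw [PowerSeries.coeff_X_pow_mul', if_pos le_rfl, Nat.sub_self]
    simpa using h0
  obtain ⟨C'', rfl⟩ : PowerSeries.X ^ 2 ∣ C := PowerSeries.X_pow_dvd_iff.mpr fun m hm => by
    interval_cases m
    exacts [by simpa using hC0, hC1]
  have hn : n = r + 1 := by
    have h := hv₂sq
    rcases n with _ | n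
    · rw [hP₂W] at hP0; simp [hW] at hP0
    obtain ⟨a, b, hab, ha0, -⟩ := exists_pow_nf hr heu n
    obtain ⟨E, G, hEG⟩ := exists_nf (e W)
    have hE : constantCoeff E = constantCoeff W := by have h' := hεe W; rwa [hEG, ε_nf] at h'
    rw [hP₂W, map_mul, map_pow, he, hab, hEG, hCD, nf_mul, nf_mul] at h
    obtain ⟨hh1, hh2⟩ := nf_inj h
    have hn1 : n ≠ 0 := by
      rintro rfl
      rw [hP₂W, zero_add, pow_one, PowerSeries.coeff_succ_X_mul] at hP1
      exact hW (by simpa using hP1)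
    have hDu : IsUnit D := PowerSeries.isUnit_iff_constantCoeff.mpr (by rw [hD]; exact isUnit_one)
    have h2D : IsUnit (2 * D) := by
      refine IsUnit.mul ?_ hDu
      rw [← map_ofNat (PowerSeries.C (R := k)) 2]
      exact h2.isUnit.map _
    obtain ⟨F, hF'⟩ : PowerSeries.X ^ n ∣ PowerSeries.X ^ 2 * C'' := by
      rw [← h2D.dvd_mul_right]
      exact ⟨PowerSeries.X * a * G + b * E, by linear_combination hh2⟩
    rcases lt_trichotomy (n + 1) (r + 1) with hlt | heq | hgt
    · exfalso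
      have k1 := congrArg (coeff (n + 1)) hh1
      rw [map_add, map_add, PowerSeries.coeff_mul_X_pow', if_neg (by omega), PowerSeries.coeff_mul_X_pow',
        if_neg (by omega), add_zero, add_zero, mul_assoc (PowerSeries.X ^ (n + 1)),
        show coeff (n + 1) (PowerSeries.X ^ (n + 1) * (a * E)) = constantCoeff a * constantCoeff E by
          rw [← map_mul, ← PowerSeries.coeff_zero_eq_constantCoeff_apply]
          simpa using PowerSeries.coeff_X_pow_mul (a * E) (n + 1) 0, ha0, hu1, one_pow, one_mul, hE] at k1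
      rcases eq_or_ne n 1 with rfl | hn2
      · rw [show PowerSeries.X ^ 2 * C'' * (PowerSeries.X ^ 2 * C'') = PowerSeries.X ^ 4 * (C'' * C'') by ring,
          PowerSeries.coeff_X_pow_mul', if_neg (by omega)] at k1
        exact hW k1.symm
      · rw [hF', show PowerSeries.X ^ n * F * (PowerSeries.X ^ n * F) = PowerSeries.X ^ (2 * n) * (F * F) by ring,
          PowerSeries.coeff_X_pow_mul', if_neg (by omega)] at k1
        exact hW k1.symm
    · omega
    · exfalso
      have k1 := congrArg (coeff (r + 1)) hh1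
      rw [map_add, map_add, hF', show PowerSeries.X ^ n * F * (PowerSeries.X ^ n * F) = PowerSeries.X ^ (2 * n) * (F * F) by ring,
        PowerSeries.coeff_X_pow_mul', if_neg (by omega), zero_add, mul_assoc (PowerSeries.X ^ (n + 1)),
        PowerSeries.coeff_X_pow_mul', if_neg (by omega), zero_add,
        show PowerSeries.X ^ n * b * G * PowerSeries.X ^ (r + 1) = PowerSeries.X ^ (n + (r + 1)) * (b * G) by ring,
        PowerSeries.coeff_X_pow_mul' (b * G), if_neg (by omega), PowerSeries.coeff_mul_X_pow', if_pos le_rfl, Nat.sub_self] at k1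
      simp [hD] at k1
  subst hn
  have hαn : α ^ (r + 1) = 1 := by
    have h := congrArg (coeff (r + 1)) hP₂inv
    rw [PowerSeries.coeff_rescale] at h
    have hne : coeff (r + 1) P₂ ≠ 0 := by
      rw [hP₂W, PowerSeries.coeff_X_pow_mul', if_pos le_rfl, Nat.sub_self]
      simpa using hW
    exact mul_right_cancel₀ hne (by rw [h, one_mul])
  have hWinv : PowerSeries.rescale α W = W := by
    have h := hP₂inv
    rw [hP₂W, map_mul, map_pow, rescale_apply_X, mul_pow, ← map_pow, hαn, map_one, one_mul] at h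
    exact mul_left_cancel₀ (pow_ne_zero _ PowerSeries.X_ne_zero) h
  obtain ⟨s, hs, hs0⟩ := exists_sqrt h2 hW
  have hsinv : PowerSeries.rescale α s = s := by
    have h := congrArg (PowerSeries.rescale α) hs
    rw [map_mul, hWinv, ← hs, mul_self_eq_mul_self_iff] at h
    refine h.resolve_right fun h' => ?_
    have h3 := congrArg constantCoeff h'
    rw [← PowerSeries.coeff_zero_eq_constantCoeff_apply, PowerSeries.coeff_rescale, pow_zero, one_mul,
      PowerSeries.coeff_zero_eq_constantCoeff_apply, map_neg, eq_neg_iff_add_eq_zero, ← two_mul] at h3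
    exact hs0 ((mul_eq_zero.mp h3).resolve_left h2)
  obtain ⟨t, ht⟩ := (PowerSeries.isUnit_iff_constantCoeff.mpr hs0.isUnit).exists_right_inv
  have htinv : PowerSeries.rescale α t = t := by
    have h := congrArg (PowerSeries.rescale α) ht
    rw [map_mul, hsinv, map_one] at h
    calc PowerSeries.rescale α t = (s * t) * PowerSeries.rescale α t := by rw [ht, one_mul]
      _ = t * (s * PowerSeries.rescale α t) := by ring
      _ = t := by rw [h, mul_one]
  set v₃ := v₂ * e t with hv₃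
  have hsq : v₃ * v₃ = u ^ (r + 1) := by
    rw [hv₃, show v₂ * e t * (v₂ * e t) = (v₂ * v₂) * (e t * e t) by ring, hv₂sq, ← map_mul, ← map_mul, hP₂W, ← hs,
      show PowerSeries.X ^ (r + 1) * (s * s) * (t * t) = PowerSeries.X ^ (r + 1) * ((s * t) * (s * t)) by ring,
      ht, mul_one, mul_one, map_pow, he]
  have hσv₃ : σ v₃ = β • v₃ := by rw [hv₃, map_mul, hσv₂, hσe, htinv, smul_mul_assoc]
  have ht0 : constantCoeff t ≠ 0 := fun h0 => by simpa [h0] using congrArg constantCoeff ht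
  have hF₃ : IsFrame u v₃ := by
    refine ⟨heu, ?_, by rw [hu1]; exact one_ne_zero, ?_, ?_⟩
    · rw [hv₃, ε_mul, hεv₂, zero_mul]
    · rw [hv₃, L₁_mul h1r, hεv₂, hCD, L₁_nf, hC1]; simp
    · rw [hv₃, L₂_mul, hεv₂, hεe, hCD, L₂_nf, hD]; simpa using ht0
  obtain ⟨φ, hφx, hφy⟩ := exists_endo u v₃ hF₃.u_mem hF₃.v_mem hsq
  have hφe : φ.comp (xMap k r) = e :=
    psAlgHom_ext (IsLocalRing.maximalIdeal (ring k r))
      (show φ (xMap k r PowerSeries.X) ∈ _ by rw [xMap_X, hφx]; exact hF₃.u_mem)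
      (show φ (xMap k r PowerSeries.X) = e PowerSeries.X by rw [xMap_X, hφx, he])
  have hφnf : ∀ A B, φ (nf k r A B) = e A + e B * v₃ := fun A B => by
    rw [nf, map_add, map_mul, hφy, ← hφe]; rfl
  have hbij : Function.Bijective φ := by
    refine ⟨(injective_iff_map_eq_zero φ).mpr fun a ha => ?_, fun a => ?_⟩
    · obtain ⟨A, B, rfl⟩ := exists_nf a
      rw [hφnf] at ha
      obtain ⟨rfl, rfl⟩ := hF₃.eq_zero hr e he ha
      simp [nf]
    · obtain ⟨A, B, rfl⟩ := hF₃.exists_coeffs' hr e he a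
      exact ⟨nf k r A B, hφnf A B⟩
  refine ⟨AlgEquiv.ofBijective φ hbij, α, β, mul_self_eq_one_iff.mp hα, mul_self_eq_one_iff.mp hβ, hαn, ?_, ?_⟩
  · rw [AlgEquiv.symm_apply_eq]
    show σ (φ (x k r)) = φ (α • x k r)
    rw [map_smul, hφx, hσu]
  · rw [AlgEquiv.symm_apply_eq]
    show σ (φ (y k r)) = φ (β • y k r)
    rw [map_smul, hφy, hσv₃]

/-- A nontrivial involution is not the identity in linearised coordinates. -/
theorem linearise' [IsAlgClosed k] (h2 : (2 : k) ≠ 0) (hr : 2 ≤ r) (σ : ring k r ≃ₐ[k] ring k r)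
    (hσ : ∀ a, σ (σ a) = a) (hne : σ ≠ AlgEquiv.refl) :
    ∃ (φ : ring k r ≃ₐ[k] ring k r) (α β : k),
      ((α = 1 ∧ β = -1) ∨ (α = -1 ∧ β = 1 ∧ Odd r) ∨ (α = -1 ∧ β = -1 ∧ Odd r)) ∧
      φ.symm (σ (φ (x k r))) = α • x k r ∧ φ.symm (σ (φ (y k r))) = β • y k r := by
  obtain ⟨φ, α, β, hα, hβ, hαn, hx, hy⟩ := linearise h2 hr σ hσ
  have hodd : α = -1 → Odd r := fun h => by
    rw [h] at hαn
    rcases Nat.even_or_odd r with he | ho
    · rw [Odd.neg_one_pow he.add_one] at hαn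
      exact absurd (show (2 : k) = 0 by linear_combination -hαn) h2
    · exact ho
  refine ⟨φ, α, β, ?_, hx, hy⟩
  rcases hα with rfl | rfl <;> rcases hβ with rfl | rfl
  · exfalso
    refine hne (AlgEquiv.ext fun a => ?_)
    have h : ((φ.trans σ).trans φ.symm).toAlgHom = AlgHom.id k (ring k r) := by
      refine algHom_ext (IsLocalRing.maximalIdeal (ring k r)) ?_ ?_ ?_ ?_
      · show φ.symm (σ (φ (x k r))) ∈ _
        rw [hx, one_smul]; exact x_mem
      · show φ.symm (σ (φ (y k r))) ∈ _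
        rw [hy, one_smul]; exact y_mem
      · show φ.symm (σ (φ (x k r))) = x k r
        rw [hx, one_smul]
      · show φ.symm (σ (φ (y k r))) = y k r
        rw [hy, one_smul]
    have := AlgHom.congr_fun h (φ.symm a)
    show σ a = a
    have h' : φ.symm (σ (φ (φ.symm a))) = φ.symm a := this
    rw [AlgEquiv.apply_symm_apply] at h'
    exact φ.symm.injective h'
  · exact Or.inl ⟨rfl, rfl⟩
  · exact Or.inr (Or.inl ⟨rfl, rfl, hodd rfl⟩)
  · exact Or.inr (Or.inr ⟨rfl, rfl, hodd rfl⟩)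

end Groth.Agent.H1CAlg.ArS
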