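import Groth.Agent.H1CAlg.ArSing
import Mathlib.RingTheory.PowerSeries.NoZeroDivisors

/-!
# The two branches of the node `k[[x, y]]/(y ^ 2 - x ^ 2)`
-/

set_option autoImplicit false
universe u

namespace Groth.Agent.H1CAlg.ArS

open ArSing
open scoped PowerSeries

variable {k : Type u} [Field k]

/-- the linear map underlying a branch -/
noncomputable def brL (ε : k) : ring k 1 →ₗ[k] k⟦X⟧ :=
  (LinearMap.fst k k⟦X⟧ k⟦X⟧ + (LinearMap.mulLeft k (PowerSeries.C ε * PowerSeries.X)).comp (LinearMap.snd k k⟦X⟧ k⟦X⟧)).comp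
    (nfEquiv (r := 1)).symm.toLinearMap

lemma brL_nf (ε : k) (A B : k⟦X⟧) : brL ε (nf k 1 A B) = A + PowerSeries.C ε * PowerSeries.X * B := by
  show ((nfEquiv (r := 1)).symm (nf k 1 A B)).1 + PowerSeries.C ε * PowerSeries.X * ((nfEquiv (r := 1)).symm (nf k 1 A B)).2 = _
  rw [← nfEquiv_apply, LinearEquiv.symm_apply_apply]

/-- the branch `y = ε x` -/
noncomputable def br (ε : k) (hε : ε ^ 2 = 1) : ring k 1 →ₐ[k] k⟦X⟧ :=
  AlgHom.ofLinearMap (brL ε)
    (by rw [show (1 : ring k 1) = nf k 1 1 0 by simp [nf], brL_nf]; ring)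
    (fun a b => by
      obtain ⟨A, B, rfl⟩ := exists_nf a
      obtain ⟨C, D, rfl⟩ := exists_nf b
      have hsq : PowerSeries.C ε * PowerSeries.C ε = (1 : k⟦X⟧) := by rw [← map_mul, ← sq, hε, map_one]
      rw [nf_mul, brL_nf, brL_nf, brL_nf]
      linear_combination -(PowerSeries.X ^ 2 * B * D) * hsq)

/-- the branch `y = x` -/
noncomputable abbrev brp : ring k 1 →ₐ[k] k⟦X⟧ := br 1 (one_pow 2)
/-- the branch `y = -x` -/
noncomputable abbrev brm : ring k 1 →ₐ[k] k⟦X⟧ := br (-1) (neg_one_sq)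

lemma brp_nf (A B : k⟦X⟧) : brp (nf k 1 A B) = A + PowerSeries.X * B :=
  (brL_nf 1 A B).trans (by rw [map_one, one_mul])

lemma brm_nf (A B : k⟦X⟧) : brm (nf k 1 A B) = A - PowerSeries.X * B :=
  (brL_nf (-1) A B).trans (by rw [map_neg, map_one]; ring)

@[simp] lemma brp_x : brp (x k 1) = PowerSeries.X := by rw [x_eq_nf, brp_nf, mul_zero, add_zero]
@[simp] lemma brm_x : brm (x k 1) = PowerSeries.X := by rw [x_eq_nf, brm_nf, mul_zero, sub_zero]
@[simp] lemma brp_y : brp (y k 1) = PowerSeries.X := by rw [y_eq_nf, brp_nf, mul_one, zero_add]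
@[simp] lemma brm_y : brm (y k 1) = -PowerSeries.X := by rw [y_eq_nf, brm_nf, mul_one, zero_sub]

lemma brp_xMap (A : k⟦X⟧) : brp (xMap k 1 A) = A := by rw [xMap_eq_nf, brp_nf, mul_zero, add_zero]
lemma brm_xMap (A : k⟦X⟧) : brm (xMap k 1 A) = A := by rw [xMap_eq_nf, brm_nf, mul_zero, sub_zero]

lemma constantCoeff_brp_eq (a : ring k 1) :
    PowerSeries.constantCoeff (brp a) = PowerSeries.constantCoeff (brm a) := by
  obtain ⟨A, B, rfl⟩ := exists_nf a
  simp [brp_nf, brm_nf]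

lemma br_inj (h2 : (2 : k) ≠ 0) {a b : ring k 1} (hp : brp a = brp b) (hm : brm a = brm b) : a = b := by
  obtain ⟨A, B, rfl⟩ := exists_nf a
  obtain ⟨C, D, rfl⟩ := exists_nf b
  rw [brp_nf, brp_nf] at hp
  rw [brm_nf, brm_nf] at hm
  have hA : A = C := sub_eq_zero.mp (eq_zero_of_self_eq_neg h2 (by linear_combination hp + hm))
  subst hA
  rw [mul_left_cancel₀ PowerSeries.X_ne_zero (add_left_cancel hp)]

lemma exists_pair (h2 : (2 : k) ≠ 0) {P Q : k⟦X⟧} (h : PowerSeries.constantCoeff P = PowerSeries.constantCoeff Q) :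
    ∃ a : ring k 1, brp a = P ∧ brm a = Q := by
  obtain ⟨B, hB⟩ := PowerSeries.X_dvd_iff.mpr (show PowerSeries.constantCoeff (P - Q) = 0 by rw [map_sub, h, sub_self])
  have h2' : PowerSeries.C (2⁻¹ : k) * 2 = (1 : k⟦X⟧) := by
    rw [← map_ofNat (PowerSeries.C (R := k)) 2, ← map_mul, inv_mul_cancel₀ h2, map_one]
  refine ⟨nf k 1 (PowerSeries.C 2⁻¹ * (P + Q)) (PowerSeries.C 2⁻¹ * B), ?_, ?_⟩
  · rw [brp_nf]; linear_combination (-PowerSeries.C (2⁻¹ : k)) * hB + P * h2'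
  · rw [brm_nf]; linear_combination (PowerSeries.C (2⁻¹ : k)) * hB + Q * h2'

/-- The map to the node with given branches. -/
theorem exists_lift (h2 : (2 : k) ≠ 0) {A : Type*} [CommRing A] [Algebra k A] (f g : A →ₐ[k] k⟦X⟧)
    (h : ∀ a, PowerSeries.constantCoeff (f a) = PowerSeries.constantCoeff (g a)) :
    ∃ φ : A →ₐ[k] ring k 1, (∀ a, brp (φ a) = f a) ∧ ∀ a, brm (φ a) = g a := by
  choose φ hp hm using fun a => exists_pair h2 (h a)
  exact ⟨{ toFun := φ
           map_one' := br_inj h2 (by simp [hp]) (by simp [hm])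
           map_mul' := fun a b => br_inj h2 (by simp [hp]) (by simp [hm])
           map_zero' := br_inj h2 (by simp [hp]) (by simp [hm])
           map_add' := fun a b => br_inj h2 (by simp [hp]) (by simp [hm])
           commutes' := fun c => br_inj h2 (by simp [hp]) (by simp [hm]) }, hp, hm⟩

lemma constantCoeff_algEquiv (g : k⟦X⟧ →ₐ[k] k⟦X⟧) (hg : PowerSeries.constantCoeff (g PowerSeries.X) = 0) (A : k⟦X⟧) :
    PowerSeries.constantCoeff (g A) = PowerSeries.constantCoeff A := by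
  conv_lhs => rw [PowerSeries.eq_X_mul_shift_add_const A]
  rw [map_add, map_mul, ← PowerSeries.algebraMap_eq, AlgHom.commutes]
  simp [hg, PowerSeries.algebraMap_eq]

lemma constantCoeff_algEquiv_X (g : k⟦X⟧ ≃ₐ[k] k⟦X⟧) : PowerSeries.constantCoeff (g PowerSeries.X) = 0 := by
  by_contra h
  have h1 := (PowerSeries.isUnit_iff_constantCoeff.mpr (Ne.isUnit h)).map g.symm
  rw [AlgEquiv.symm_apply_apply] at h1
  simpa using PowerSeries.isUnit_iff_constantCoeff.mp h1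

lemma constantCoeff_algEquiv' (g : k⟦X⟧ ≃ₐ[k] k⟦X⟧) (A : k⟦X⟧) :
    PowerSeries.constantCoeff (g A) = PowerSeries.constantCoeff A :=
  constantCoeff_algEquiv g.toAlgHom (constantCoeff_algEquiv_X g) A

/-- An automorphism of each branch gives one of the node. -/
theorem exists_equiv (h2 : (2 : k) ≠ 0) (g g' : k⟦X⟧ ≃ₐ[k] k⟦X⟧) :
    ∃ φ : ring k 1 ≃ₐ[k] ring k 1, (∀ a, brp (φ a) = g (brp a)) ∧ ∀ a, brm (φ a) = g' (brm a) := by
  have hc : ∀ (e e' : k⟦X⟧ ≃ₐ[k] k⟦X⟧) (a : ring k 1),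
      PowerSeries.constantCoeff (e (brp a)) = PowerSeries.constantCoeff (e' (brm a)) := fun e e' a => by
    rw [constantCoeff_algEquiv', constantCoeff_algEquiv', constantCoeff_brp_eq]
  obtain ⟨φ, hp, hm⟩ := exists_lift h2 (g.toAlgHom.comp brp) (g'.toAlgHom.comp brm) (hc g g')
  obtain ⟨ψ, hp', hm'⟩ := exists_lift h2 (g.symm.toAlgHom.comp brp) (g'.symm.toAlgHom.comp brm) (hc g.symm g'.symm)
  refine ⟨AlgEquiv.ofAlgHom φ ψ ?_ ?_, hp, hm⟩
  · exact AlgHom.ext fun a => br_inj h2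
      ((hp (ψ a)).trans ((congrArg g (hp' a)).trans (g.apply_symm_apply _)))
      ((hm (ψ a)).trans ((congrArg g' (hm' a)).trans (g'.apply_symm_apply _)))
  · exact AlgHom.ext fun a => br_inj h2
      ((hp' (φ a)).trans ((congrArg g.symm (hp a)).trans (g.symm_apply_apply _)))
      ((hm' (φ a)).trans ((congrArg g'.symm (hm a)).trans (g'.symm_apply_apply _)))

/-- exchanging the branches -/
theorem exists_flip (h2 : (2 : k) ≠ 0) :
    ∃ φ : ring k 1 ≃ₐ[k] ring k 1, (∀ a, brp (φ a) = brm a) ∧ ∀ a, brm (φ a) = brp a := by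
  obtain ⟨φ, hp, hm⟩ := exists_lift h2 (brm (k := k)) brp (fun a => (constantCoeff_brp_eq a).symm)
  refine ⟨AlgEquiv.ofAlgHom φ φ ?_ ?_, hp, hm⟩ <;>
    exact AlgHom.ext fun a => br_inj h2 ((hp (φ a)).trans (hm a)) ((hm (φ a)).trans (hp a))

end Groth.Agent.H1CAlg.ArS
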