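import Groth.Prelude.Def_W4c1arstab1appArSing
import Groth.Agent.H02CA.PowerSeries
import Mathlib.RingTheory.PowerSeries.Expand
import Mathlib.RingTheory.PowerSeries.Inverse
import Mathlib.RingTheory.PowerSeries.Ideal
import Mathlib.RingTheory.MvPowerSeries.Equiv
import Mathlib.RingTheory.LocalRing.Length
import Mathlib.RingTheory.Filtration
import Mathlib.RingTheory.AdicCompletion.Noetherian
import Mathlib.Tactic.LinearCombination

/-!
# Normal forms in `k[[x, y]]/(y ^ 2 - x ^ (r + 1))`

Every element is uniquely `A(x) + B(x) y`.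
-/

set_option autoImplicit false
universe u v

namespace Groth.Agent.H1CAlg.ArS

open MvPowerSeries Finsupp
open ArSing

variable {k : Type u} [Field k] {r : ℕ}

/-- the exponent `(n, j)` -/
noncomputable abbrev e (n j : ℕ) : Fin 2 →₀ ℕ := single 0 n + single 1 j

@[simp] lemma e_zero (n j : ℕ) : e n j 0 = n := by simp [e]
@[simp] lemma e_one (n j : ℕ) : e n j 1 = j := by simp [e]

lemma e_eta (d : Fin 2 →₀ ℕ) : e (d 0) (d 1) = d := by
  ext i; fin_cases i <;> simp [e]

lemma ext_co {f g : MvPowerSeries (Fin 2) k} (h : ∀ n j, coeff (e n j) f = coeff (e n j) g) : f = g := by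
  ext d; rw [← e_eta d]; exact h _ _

lemma coeff_X0_pow_mul (p n j : ℕ) (g : MvPowerSeries (Fin 2) k) :
    coeff (e n j) (X 0 ^ p * g) = if p ≤ n then coeff (e (n - p) j) g else 0 := by
  rw [X_pow_eq, coeff_monomial_mul, one_mul]
  simp only [single_le_iff, e_zero]
  split_ifs with h
  · congr 2; ext i; fin_cases i <;> simp [e]
  · rfl

lemma coeff_X1_pow_mul (p n j : ℕ) (g : MvPowerSeries (Fin 2) k) :
    coeff (e n j) (X 1 ^ p * g) = if p ≤ j then coeff (e n (j - p)) g else 0 := by
  rw [X_pow_eq, coeff_monomial_mul, one_mul]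
  simp only [single_le_iff, e_one]
  split_ifs with h
  · congr 2; ext i; fin_cases i <;> simp [e]
  · rfl

lemma coeff_subst_X0 (A : PowerSeries k) (n j : ℕ) :
    coeff (e n j) (PowerSeries.subst (X 0 : MvPowerSeries (Fin 2) k) A) = if j = 0 then PowerSeries.coeff n A else 0 := by
  rw [PowerSeries.coeff_subst_single, e_zero]
  have : e n j = single 0 n ↔ j = 0 := by
    constructor
    · intro h; simpa [e] using congrArg (fun d => d 1) h
    · rintro rfl; simp [e]
  simp [this]

lemma coeff_eqn_mul (n j : ℕ) (g : MvPowerSeries (Fin 2) k) :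
    coeff (e n j) (eqn k r * g) = (if 2 ≤ j then coeff (e n (j - 2)) g else 0) -
      (if r + 1 ≤ n then coeff (e (n - (r + 1)) j) g else 0) := by
  rw [eqn, sub_mul, map_sub, coeff_X1_pow_mul, coeff_X0_pow_mul]

lemma xMap_apply (A : PowerSeries k) :
    xMap k r A = Ideal.Quotient.mk (Ideal.span {eqn k r}) (PowerSeries.subst (X 0 : MvPowerSeries (Fin 2) k) A) := by
  rw [xMap, AlgHom.comp_apply, PowerSeries.coe_substAlgHom]; rfl

/-- the element `A(x) + B(x) y` -/
noncomputable def nf (k : Type u) [Field k] (r : ℕ) (A B : PowerSeries k) : ring k r :=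
  xMap k r A + xMap k r B * y k r

@[simp] lemma xMap_X : xMap k r PowerSeries.X = x k r := by
  rw [xMap_apply, PowerSeries.subst_X (PowerSeries.HasSubst.X 0)]

lemma y_sq : y k r * y k r = x k r ^ (r + 1) := by
  rw [← map_mul, ← map_pow, Ideal.Quotient.eq, ← sq]
  exact Ideal.mem_span_singleton_self _

lemma exists_nf (a : ring k r) : ∃ A B, a = nf k r A B := by
  obtain ⟨f, rfl⟩ := Ideal.Quotient.mk_surjective a
  -- quotient
  let g : MvPowerSeries (Fin 2) k := fun d =>
    ∑ i ∈ Finset.range (d 0 / (r + 1) + 1), coeff (e (d 0 - (r + 1) * i) (d 1 + 2 + 2 * i)) f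
  have hg : ∀ n j, coeff (e n j) g = ∑ i ∈ Finset.range (n / (r + 1) + 1), coeff (e (n - (r + 1) * i) (j + 2 + 2 * i)) f := by
    intro n j
    show g (e n j) = _
    simp only [g, e_zero, e_one]
  let C : ℕ → PowerSeries k := fun j => PowerSeries.mk fun n =>
    ∑ i ∈ Finset.range (n / (r + 1) + 1), coeff (e (n - (r + 1) * i) (j + 2 * i)) f
  refine ⟨C 0, C 1, ?_⟩
  rw [nf, xMap_apply, xMap_apply, ← map_mul, ← map_add, Ideal.Quotient.eq, Ideal.mem_span_singleton]
  refine ⟨g, ext_co fun n j => ?_⟩
  have hstep : ∀ j, ∑ i ∈ Finset.range (n / (r + 1) + 1), coeff (e (n - (r + 1) * i) (j + 2 * i)) f =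
      coeff (e n j) f + (if r + 1 ≤ n then coeff (e (n - (r + 1)) j) g else 0) := by
    intro j
    rw [Finset.sum_range_succ', add_comm]
    simp only [Nat.mul_zero, Nat.sub_zero, Nat.add_zero]
    congr 1
    split_ifs with h
    · rw [hg, Nat.div_eq_sub_div (Nat.succ_pos r) h]
      refine Finset.sum_congr rfl fun i _ => ?_
      congr 2
      rw [show (r + 1) * (i + 1) = (r + 1) + (r + 1) * i by ring, ← Nat.sub_sub,
        show j + 2 * (i + 1) = j + 2 + 2 * i by ring]
    · rw [Nat.div_eq_of_lt (not_le.mp h), Finset.sum_range_zero]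
  rw [map_sub, map_add, coeff_eqn_mul, coeff_subst_X0, mul_comm (PowerSeries.subst _ (C 1)),
    ← pow_one (X (1 : Fin 2) : MvPowerSeries (Fin 2) k), coeff_X1_pow_mul, coeff_subst_X0]
  rcases j with _ | _ | j
  · have h0 := hstep 0
    simp only [Nat.zero_add] at h0
    simp [C, h0]
  · simp [C, hstep]
  · simp only [show 2 ≤ j + 1 + 1 by omega, if_true, show j + 1 + 1 - 2 = j by omega,
      show 1 ≤ j + 1 + 1 by omega, show j + 1 + 1 - 1 ≠ 0 by omega, show j + 1 + 1 ≠ 0 by omega, if_false, zero_add, sub_zero]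
    rw [hg, eq_sub_iff_add_eq]
    exact (hstep (j + 2)).symm

lemma nf_eq_zero {A B : PowerSeries k} (h : nf k r A B = 0) : A = 0 ∧ B = 0 := by
  rw [nf, xMap_apply, xMap_apply, ← map_mul, ← map_add, Ideal.Quotient.eq_zero_iff_mem, Ideal.mem_span_singleton] at h
  obtain ⟨g, hg⟩ := h
  have hco : ∀ n j, (if j = 0 then PowerSeries.coeff n A else 0) + (if j = 1 then PowerSeries.coeff n B else 0) =
      (if 2 ≤ j then coeff (e n (j - 2)) g else 0) - (if r + 1 ≤ n then coeff (e (n - (r + 1)) j) g else 0) := by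
    intro n j
    have h1 := congrArg (coeff (e n j)) hg
    rw [map_add, coeff_eqn_mul, coeff_subst_X0, mul_comm (PowerSeries.subst _ B),
      ← pow_one (X (1 : Fin 2) : MvPowerSeries (Fin 2) k), coeff_X1_pow_mul, coeff_subst_X0] at h1
    rw [← h1]
    congr 1
    rcases j with _ | _ | j <;> simp
  have hg0 : ∀ n j, coeff (e n j) g = 0 := by
    intro n
    induction n using Nat.strong_induction_on with
    | h n ih =>
      intro j
      have := hco n (j + 2)
      simp only [show j + 2 ≠ 0 by omega, show j + 2 ≠ 1 by omega, if_false, add_zero, show 2 ≤ j + 2 by omega, if_true,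
        show j + 2 - 2 = j by omega] at this
      split_ifs at this with hn
      · rw [ih _ (by omega) (j + 2), sub_zero] at this; exact this.symm
      · rw [sub_zero] at this; exact this.symm
  constructor <;> ext n
  · simpa [hg0] using hco n 0
  · simpa [hg0] using hco n 1

lemma nf_add (A B C D : PowerSeries k) : nf k r A B + nf k r C D = nf k r (A + C) (B + D) := by
  simp only [nf, map_add]; ring

lemma nf_sub (A B C D : PowerSeries k) : nf k r A B - nf k r C D = nf k r (A - C) (B - D) := by
  simp only [nf, map_sub]; ring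

lemma nf_mul (A B C D : PowerSeries k) :
    nf k r A B * nf k r C D = nf k r (A * C + B * D * PowerSeries.X ^ (r + 1)) (A * D + B * C) := by
  simp only [nf, map_add, map_mul, map_pow, xMap_X, ← y_sq]; ring

lemma nf_inj {A B C D : PowerSeries k} (h : nf k r A B = nf k r C D) : A = C ∧ B = D := by
  have := nf_eq_zero (r := r) (k := k) (A := A - C) (B := B - D) (by rw [← nf_sub, h, sub_self])
  exact ⟨sub_eq_zero.mp this.1, sub_eq_zero.mp this.2⟩

lemma xMap_eq_nf (A : PowerSeries k) : xMap k r A = nf k r A 0 := by simp [nf]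

lemma x_eq_nf : x k r = nf k r PowerSeries.X 0 := by simp [nf]

lemma y_eq_nf : y k r = nf k r 0 1 := by simp [nf]

lemma xMap_injective : Function.Injective (xMap k r) := fun A B h => by
  rw [xMap_eq_nf, xMap_eq_nf] at h; exact (nf_inj h).1

instance : Nontrivial (ring k r) :=
  ⟨⟨xMap k r 1, xMap k r 0, fun h => one_ne_zero (xMap_injective h)⟩⟩

instance : IsLocalRing (ring k r) := IsLocalRing.of_surjective' _ Ideal.Quotient.mk_surjective

lemma not_isUnit_x : ¬ IsUnit (x k r) := fun h => by
  obtain ⟨b, hb⟩ := h.exists_right_inv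
  obtain ⟨A, B, rfl⟩ := exists_nf b
  rw [x_eq_nf, nf_mul, show (1 : ring k r) = nf k r 1 0 by simp [nf]] at hb
  simpa using congrArg PowerSeries.constantCoeff (nf_inj hb).1

lemma not_isUnit_y : ¬ IsUnit (y k r) := fun h => by
  have : IsUnit (x k r ^ (r + 1)) := y_sq (k := k) (r := r) ▸ h.mul h
  exact not_isUnit_x ((isUnit_pow_iff (Nat.succ_ne_zero r)).mp this)

lemma x_mem : x k r ∈ IsLocalRing.maximalIdeal (ring k r) := not_isUnit_x
lemma y_mem : y k r ∈ IsLocalRing.maximalIdeal (ring k r) := not_isUnit_y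

lemma isUnit_nf_iff {A B : PowerSeries k} : IsUnit (nf k r A B) ↔ PowerSeries.constantCoeff A ≠ 0 := by
  have hy : xMap k r B * y k r ∈ IsLocalRing.maximalIdeal (ring k r) := Ideal.mul_mem_left _ _ y_mem
  constructor
  · intro h h0
    obtain ⟨A', rfl⟩ := PowerSeries.X_dvd_iff.mpr h0
    refine (show nf k r (PowerSeries.X * A') B ∈ IsLocalRing.maximalIdeal (ring k r) from add_mem ?_ hy) h
    rw [map_mul, xMap_X]
    exact Ideal.mul_mem_right _ _ x_mem
  · intro h
    by_contra hn
    have : xMap k r A ∈ IsLocalRing.maximalIdeal (ring k r) := by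
      have := sub_mem (show nf k r A B ∈ IsLocalRing.maximalIdeal (ring k r) from hn) hy
      simpa [nf] using this
    exact this ((PowerSeries.isUnit_iff_constantCoeff.mpr h.isUnit).map _)

lemma mem_maximalIdeal_iff {A B : PowerSeries k} :
    nf k r A B ∈ IsLocalRing.maximalIdeal (ring k r) ↔ PowerSeries.constantCoeff A = 0 := by
  rw [IsLocalRing.mem_maximalIdeal, mem_nonunits_iff, isUnit_nf_iff, not_not]

lemma maximalIdeal_eq : IsLocalRing.maximalIdeal (ring k r) = Ideal.span {x k r, y k r} := by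
  refine le_antisymm (fun a ha => ?_) (Ideal.span_le.mpr ?_)
  · obtain ⟨A, B, rfl⟩ := exists_nf a
    obtain ⟨A', rfl⟩ := PowerSeries.X_dvd_iff.mpr (mem_maximalIdeal_iff.mp ha)
    rw [nf, map_mul, xMap_X]
    exact add_mem (Ideal.mul_mem_right _ _ (Ideal.subset_span (by simp))) (Ideal.mul_mem_left _ _ (Ideal.subset_span (by simp)))
  · intro a ha
    rcases ha with rfl | rfl
    exacts [x_mem, y_mem]

lemma residue_surjective :
    Function.Surjective (algebraMap k (IsLocalRing.ResidueField (ring k r))) := by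
  intro z
  obtain ⟨a, rfl⟩ := IsLocalRing.residue_surjective z
  obtain ⟨A, B, rfl⟩ := exists_nf a
  refine ⟨PowerSeries.constantCoeff A, ?_⟩
  rw [IsScalarTower.algebraMap_apply k (ring k r) (IsLocalRing.ResidueField (ring k r))]
  refine (Ideal.Quotient.eq.mpr ?_)
  rw [← (xMap k r).commutes, xMap_eq_nf, nf_sub, mem_maximalIdeal_iff]
  simp [PowerSeries.algebraMap_eq]

/-- Over `ring k r`, length is dimension over `k`. -/
lemma length_eq_length {M : Type v} [AddCommGroup M] [Module (ring k r) M] [Module k M] [IsScalarTower k (ring k r) M] :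
    Module.length (ring k r) M = Module.length k M := by
  haveI : IsLocalHom (algebraMap k (ring k r)) := ⟨fun a ha => by
    by_contra h
    rw [isUnit_iff_ne_zero, not_not] at h
    simp [h] at ha⟩
  rw [IsLocalRing.length_restrictScalars k (ring k r) M]
  suffices Module.length (IsLocalRing.ResidueField k) (IsLocalRing.ResidueField (ring k r)) = 1 by rw [this, mul_one]
  have hs : Function.Surjective (algebraMap (IsLocalRing.ResidueField k) (IsLocalRing.ResidueField (ring k r))) := fun z => by
    obtain ⟨c, hc⟩ := residue_surjective (k := k) (r := r) z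
    exact ⟨algebraMap k _ c, by rw [← IsScalarTower.algebraMap_apply]; exact hc⟩
  rw [Module.length_eq_of_surjective (R := IsLocalRing.ResidueField (ring k r)) hs, Module.length_eq_one]

/-- Algebra maps out of `ring k r` are determined by `x` and `y`. -/
theorem algHom_ext {S : Type v} [CommRing S] [Algebra k S] (I : Ideal S) [IsHausdorff I S]
    {f g : ring k r →ₐ[k] S} (hx0 : f (x k r) ∈ I) (hy0 : f (y k r) ∈ I) (hx : f (x k r) = g (x k r))
    (hy : f (y k r) = g (y k r)) : f = g := by
  apply Ideal.Quotient.algHom_ext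
  refine H02CA.PS.algHom_ext I (fun i => ?_) (fun i => ?_)
  · fin_cases i
    exacts [hx0, hy0]
  · fin_cases i
    exacts [hx, hy]

/-- Algebra maps out of `k[[t]]` are determined by `t`. -/
theorem psAlgHom_ext {S : Type v} [CommRing S] [Algebra k S] (I : Ideal S) [IsHausdorff I S]
    {f g : PowerSeries k →ₐ[k] S} (h0 : f PowerSeries.X ∈ I) (h : f PowerSeries.X = g PowerSeries.X) : f = g :=
  H02CA.PS.algHom_ext (σ := Unit) I (fun _ => h0) (fun _ => h)

instance isHausdorff : IsHausdorff (IsLocalRing.maximalIdeal (ring k r)) (ring k r) :=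
  IsHausdorff.of_isLocalRing _ _ (IsLocalRing.maximalIdeal.isMaximal _).ne_top

lemma rescale_apply_X (c : k) :
    PowerSeries.rescale c (PowerSeries.X : PowerSeries k) = PowerSeries.C c * PowerSeries.X := by
  ext n
  rw [PowerSeries.coeff_rescale, PowerSeries.coeff_C_mul, PowerSeries.coeff_X]
  split_ifs with h <;> simp [h]

/-- rescaling as an algebra map -/
noncomputable def rescaleₐ (c : k) : PowerSeries k →ₐ[k] PowerSeries k :=
  { PowerSeries.rescale c with
    commutes' := fun a => by
      show PowerSeries.rescale c (algebraMap k _ a) = _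
      ext n
      rw [PowerSeries.coeff_rescale, PowerSeries.algebraMap_eq, PowerSeries.coeff_C]
      split_ifs with h <;> simp [PowerSeries.algebraMap_eq, PowerSeries.coeff_C, h] }

/-- A map fixing the line of `x` acts on normal forms through `rescale`. -/
lemma apply_nf {F : Type*} [FunLike F (ring k r) (ring k r)] [AlgHomClass F k (ring k r) (ring k r)]
    (σ : F) (c d : k) (hx : σ (x k r) = c • x k r) (hy : σ (y k r) = d • y k r) (A B : PowerSeries k) :
    σ (nf k r A B) = nf k r (PowerSeries.rescale c A) (d • PowerSeries.rescale c B) := by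
  have hcomp : (AlgHomClass.toAlgHom σ).comp (xMap k r) = (xMap k r).comp (rescaleₐ c) := by
    refine psAlgHom_ext (IsLocalRing.maximalIdeal (ring k r)) ?_ ?_
    · show σ (xMap k r PowerSeries.X) ∈ _
      rw [xMap_X, hx]
      exact Submodule.smul_of_tower_mem _ c x_mem
    · show σ (xMap k r PowerSeries.X) = xMap k r (PowerSeries.rescale c PowerSeries.X)
      rw [rescale_apply_X, ← PowerSeries.smul_eq_C_mul, map_smul, xMap_X, hx]
  have h := fun A => AlgHom.congr_fun hcomp A
  rw [nf, map_add, map_mul, show σ (xMap k r A) = xMap k r (PowerSeries.rescale c A) from h A,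
    show σ (xMap k r B) = xMap k r (PowerSeries.rescale c B) from h B, hy, nf, map_smul, smul_mul_assoc, mul_smul_comm]

lemma coeff_rescale_neg (A : PowerSeries k) (n : ℕ) :
    PowerSeries.coeff n (PowerSeries.rescale (-1 : k) A) = (-1) ^ n * PowerSeries.coeff n A :=
  PowerSeries.coeff_rescale A (-1) n

/-- parity splitting -/
lemma exists_parity (A : PowerSeries k) : ∃ A₀ A₁ : PowerSeries k,
    A = PowerSeries.expand 2 two_ne_zero A₀ + PowerSeries.X * PowerSeries.expand 2 two_ne_zero A₁ := by
  refine ⟨PowerSeries.mk fun n => PowerSeries.coeff (2 * n) A, PowerSeries.mk fun n => PowerSeries.coeff (2 * n + 1) A, ?_⟩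
  ext n
  rcases Nat.even_or_odd' n with ⟨m, rfl | rfl⟩
  · rw [map_add, PowerSeries.coeff_expand_mul, PowerSeries.coeff_mk]
    rcases m with _ | m
    · simp
    · rw [show 2 * (m + 1) = 2 * m + 1 + 1 by ring, PowerSeries.coeff_succ_X_mul,
        PowerSeries.coeff_expand_of_not_dvd _ _ _ (by omega), add_zero]
  · rw [map_add, PowerSeries.coeff_expand_of_not_dvd _ _ _ (by omega), zero_add, PowerSeries.coeff_succ_X_mul,
      PowerSeries.coeff_expand_mul, PowerSeries.coeff_mk]

lemma rescale_neg_expand (A : PowerSeries k) :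
    PowerSeries.rescale (-1 : k) (PowerSeries.expand 2 two_ne_zero A) = PowerSeries.expand 2 two_ne_zero A := by
  ext n
  rw [coeff_rescale_neg, PowerSeries.coeff_expand]
  split_ifs with h
  · rw [(even_iff_two_dvd.mpr h).neg_one_pow, one_mul]
  · rw [mul_zero]

lemma parity_unique {A₀ A₁ B₀ B₁ : PowerSeries k}
    (h : PowerSeries.expand 2 two_ne_zero A₀ + PowerSeries.X * PowerSeries.expand 2 two_ne_zero A₁ =
      PowerSeries.expand 2 two_ne_zero B₀ + PowerSeries.X * PowerSeries.expand 2 two_ne_zero B₁) :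
    A₀ = B₀ ∧ A₁ = B₁ := by
  constructor <;> ext n
  · have h1 := congrArg (PowerSeries.coeff (2 * n)) h
    rcases n with _ | m
    · simpa using h1
    · have h2 : ∀ C : PowerSeries k, PowerSeries.coeff (2 * (m + 1)) (PowerSeries.X * PowerSeries.expand 2 two_ne_zero C) = 0 := fun C => by
        rw [show 2 * (m + 1) = 2 * m + 1 + 1 by ring, PowerSeries.coeff_succ_X_mul,
          PowerSeries.coeff_expand_of_not_dvd _ _ _ (by omega)]
      simpa [map_add, h2, PowerSeries.coeff_expand_mul] using h1
  · have h1 := congrArg (PowerSeries.coeff (2 * n + 1)) h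
    simpa [map_add, PowerSeries.coeff_succ_X_mul, PowerSeries.coeff_expand_mul,
      PowerSeries.coeff_expand_of_not_dvd 2 two_ne_zero _ (show ¬ 2 ∣ 2 * n + 1 by omega)] using h1

lemma rescale_parity (A₀ A₁ : PowerSeries k) :
    PowerSeries.rescale (-1 : k) (PowerSeries.expand 2 two_ne_zero A₀ + PowerSeries.X * PowerSeries.expand 2 two_ne_zero A₁) =
      PowerSeries.expand 2 two_ne_zero A₀ - PowerSeries.X * PowerSeries.expand 2 two_ne_zero A₁ := by
  rw [map_add, map_mul, rescale_neg_expand, rescale_neg_expand, rescale_apply_X, map_neg, map_one]; ring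

lemma eq_zero_of_self_eq_neg (h2 : (2 : k) ≠ 0) {A : PowerSeries k} (h : A = -A) : A = 0 := by
  ext n
  have := congrArg (PowerSeries.coeff n) h
  rw [map_neg, eq_neg_iff_add_eq_zero, ← two_mul] at this
  simpa [h2] using this

/-- `k`-coordinates of `A` below `R`. -/
noncomputable def low (R : ℕ) : PowerSeries k →ₗ[k] (Fin R → k) :=
  LinearMap.pi fun i => PowerSeries.coeff (i : ℕ)

lemma low_surjective (R : ℕ) : Function.Surjective (low (k := k) R) := fun v =>
  ⟨PowerSeries.mk fun n => if h : n < R then v ⟨n, h⟩ else 0, funext fun i => by simp [low]⟩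

lemma low_eq_zero {R : ℕ} {A : PowerSeries k} : low R A = 0 ↔ PowerSeries.X ^ R ∣ A := by
  rw [PowerSeries.X_pow_dvd_iff, funext_iff, Fin.forall_iff]
  rfl

/-- `nf` as a linear equivalence. -/
noncomputable def nfEquiv : (PowerSeries k × PowerSeries k) ≃ₗ[k] ring k r :=
  LinearEquiv.ofBijective
    ((xMap k r).toLinearMap.coprod ((LinearMap.mulRight k (y k r)).comp (xMap k r).toLinearMap))
    ⟨fun a b h => Prod.ext (nf_inj h).1 (nf_inj h).2, fun a => by
      obtain ⟨A, B, rfl⟩ := exists_nf a
      exact ⟨(A, B), rfl⟩⟩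

lemma nfEquiv_apply (A B : PowerSeries k) : nfEquiv (r := r) (A, B) = nf k r A B := rfl

end Groth.Agent.H1CAlg.ArS

namespace Groth.Agent.H1CAlg.ArS

open ArSing

variable {k : Type u} [Field k] {r m : ℕ}

/-- A map sending `x` to `x ^ 2` acts on `k[[x]]` through `expand 2`. -/
lemma sq_comp_xMap (φ : ring k m →ₐ[k] ring k r) (hφx : φ (x k m) = x k r ^ 2) (A : PowerSeries k) :
    φ (xMap k m A) = xMap k r (PowerSeries.expand 2 two_ne_zero A) := by
  refine AlgHom.congr_fun (φ₁ := φ.comp (xMap k m)) (φ₂ := (xMap k r).comp (PowerSeries.expand 2 two_ne_zero))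
    (psAlgHom_ext (IsLocalRing.maximalIdeal (ring k r)) ?_ ?_) A
  · show φ (xMap k m PowerSeries.X) ∈ _
    rw [xMap_X, hφx]
    exact Ideal.pow_mem_of_mem _ x_mem 2 two_pos
  · show φ (xMap k m PowerSeries.X) = xMap k r (PowerSeries.expand 2 two_ne_zero PowerSeries.X)
    rw [xMap_X, hφx, PowerSeries.expand_X, map_pow, xMap_X]

lemma expand_injective {A B : PowerSeries k}
    (h : PowerSeries.expand 2 two_ne_zero A = PowerSeries.expand 2 two_ne_zero B) : A = B :=
  (parity_unique (k := k) (A₁ := 0) (B₁ := 0) (by simpa using h)).1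

lemma constantCoeff_X_mul (A : PowerSeries k) : PowerSeries.constantCoeff (PowerSeries.X * A) = 0 := by simp

end Groth.Agent.H1CAlg.ArS
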