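import Groth.Agent.H3CAlg.BuchsbaumEisenbud
import Groth.Agent.H4Depth.LocDepth
import Groth.Agent.S9278
import Groth.Agent.S19962
import Mathlib

/-!
# Exactness forces the rank and depth conditions (Buchsbaum–Eisenbud)
-/

set_option autoImplicit false
set_option linter.style.haveILetI false
set_option linter.unusedSectionVars false

universe u

open IsLocalRing RingTheory.Sequence CAlgX
open Groth.Agent.H3CAlg.BuchsbaumEisenbud
open scoped Pointwise

namespace Groth.Agent.H1CAlg.BE

/-- The complex of matrices is exact. -/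
def Exact {S : Type u} [CommRing S] (e : ℕ) (n : ℕ → ℕ)
    (A : (i : ℕ) → Matrix (Fin (n i)) (Fin (n (i + 1))) S) : Prop :=
  (∀ i, i + 2 ≤ e → ∀ w, (A i).mulVecLin ((A (i + 1)).mulVecLin w) = 0) ∧
  (∀ i, i + 1 = e → ∀ v, (A i).mulVecLin v = 0 → v = 0) ∧
  (∀ i, i + 2 ≤ e → ∀ v, (A i).mulVecLin v = 0 → v ∈ LinearMap.range (A (i + 1)).mulVecLin)

/-- The cokernel of a matrix. -/
abbrev Coker {S : Type u} [CommRing S] {a b : ℕ} (M : Matrix (Fin a) (Fin b) S) : Type u :=
  (Fin a → S) ⧸ LinearMap.range M.mulVecLin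

section Local

variable {S : Type u} [CommRing S] [IsLocalRing S] [IsNoetherianRing S]

theorem projective_coker_of_injective (hd : ∀ y ∈ maximalIdeal S, ¬ IsRegular y) {a b : ℕ}
    (M : Matrix (Fin a) (Fin b) S) (hinj : Function.Injective M.mulVecLin) :
    Module.Projective S (Coker M) := by
  obtain ⟨hr, hdet⟩ := (S9278.result S b a M).1 hinj
  have hb : minorIdeal M b = ⊤ := by
    have h' : CAlgX.detIdeal M = ⊤ := by
      rcases hdet with h | ⟨y, hy, hreg⟩
      · exact h
      · by_contra hne
        exact hd y (IsLocalRing.le_maximalIdeal hne hy) hreg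
    rwa [CAlgX.detIdeal, hr] at h'
  exact projective_coker M hb (H3CAlg.McCoy.minorIdeal_eq_bot M (Nat.lt_succ_self b))

theorem projective_coker_of_depth_zero (e : ℕ) (n : ℕ → ℕ)
    (A : (i : ℕ) → Matrix (Fin (n i)) (Fin (n (i + 1))) S)
    (hd : ∀ y ∈ maximalIdeal S, ¬ IsRegular y) (hex : Exact e n A) :
    ∀ j i, i + 1 + j = e → Module.Projective S (Coker (A i))
  | 0, i, h => projective_coker_of_injective hd _
      ((injective_iff_map_eq_zero _).2 fun v hv => hex.2.1 i h v hv)
  | j + 1, i, h => by
    haveI := projective_coker_of_depth_zero e n A hd hex j (i + 1) (by omega)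
    haveI : Module.Free S (Coker (A (i + 1))) := Module.free_of_flat_of_isLocalRing
    have hle : LinearMap.range (A (i + 1)).mulVecLin ≤ LinearMap.ker (A i).mulVecLin := by
      rintro _ ⟨w, rfl⟩
      exact hex.1 i (by omega) w
    let g : Coker (A (i + 1)) →ₗ[S] (Fin (n i) → S) := Submodule.liftQ _ (A i).mulVecLin hle
    have hg : Function.Injective g := by
      rw [← LinearMap.ker_eq_bot, Submodule.ker_liftQ_eq_bot' _ _ _]
      exact le_antisymm hle fun v hv => hex.2.2 i (by omega) v hv
    let e' := (Module.finBasis S (Coker (A (i + 1)))).equivFun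
    let g' : (Fin (Module.finrank S (Coker (A (i + 1)))) → S) →ₗ[S] (Fin (n i) → S) :=
      g ∘ₗ e'.symm.toLinearMap
    let N := LinearMap.toMatrix' g'
    have hN : N.mulVecLin = g' := (Matrix.toLin'_apply' N).symm.trans (Matrix.toLin'_toMatrix' g')
    haveI := projective_coker_of_injective hd N (by rw [hN]; exact hg.comp e'.symm.injective)
    refine Module.Projective.of_equiv' (Submodule.quotEquivOfEq _ _ (?_ :
      LinearMap.range N.mulVecLin = LinearMap.range (A i).mulVecLin))
    rw [hN, LinearMap.range_comp, LinearEquiv.range, Submodule.map_top, Submodule.range_liftQ]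

theorem projective_coker_of_quotient {x : S} {a b : ℕ} (M : Matrix (Fin a) (Fin b) S)
    (hx : x ∈ maximalIdeal S) (hreg : IsSMulRegular (Coker M) x)
    [IsLocalRing (S ⧸ Ideal.span {x})]
    (h : Module.Projective (S ⧸ Ideal.span {x})
      (Coker (M.map (Ideal.Quotient.mk (Ideal.span {x}))))) :
    Module.Projective S (Coker M) := by
  let S' := S ⧸ Ideal.span {x}
  let π : S →+* S' := Ideal.Quotient.mk (Ideal.span {x})
  let M' := M.map π
  let C' := Coker M'
  haveI := h
  haveI : Module.Free S' C' := Module.free_of_flat_of_isLocalRing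
  let red : (Fin a → S) →ₗ[S] (Fin a → S') :=
    (Algebra.linearMap S S').compLeft (Fin a)
  have hred : ∀ v i, red v i = π (v i) := fun v i => rfl
  let red' : (Fin a → S) →ₗ[S] C' := (LinearMap.range M'.mulVecLin).mkQ.restrictScalars S ∘ₗ red
  have hle : LinearMap.range M.mulVecLin ≤ LinearMap.ker red' := by
    rintro _ ⟨w, rfl⟩
    refine (Submodule.Quotient.mk_eq_zero _).2 ⟨fun j => π (w j), funext fun i => ?_⟩
    exact (RingHom.map_mulVec π M w i).symm
  let ψ : Coker M →ₗ[S] C' := Submodule.liftQ _ red' hle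
  have hψ : Function.Surjective ψ := by
    intro c
    obtain ⟨v, rfl⟩ := Submodule.Quotient.mk_surjective _ c
    choose u hu using fun i => Ideal.Quotient.mk_surjective (v i)
    exact ⟨Submodule.Quotient.mk u, congrArg _ (funext fun i => hu i)⟩
  have hker : LinearMap.ker ψ = x • (⊤ : Submodule S (Coker M)) := by
    refine le_antisymm (fun c hc => ?_) ?_
    · obtain ⟨v, rfl⟩ := Submodule.Quotient.mk_surjective _ c
      obtain ⟨w', hw'⟩ := (Submodule.Quotient.mk_eq_zero _).1 (LinearMap.mem_ker.1 hc)
      choose w hw using fun j => Ideal.Quotient.mk_surjective (w' j)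
      have hdiv : ∀ i, ∃ t, t * x = v i - M.mulVecLin w i := fun i => by
        refine Ideal.mem_span_singleton'.1 (Ideal.Quotient.eq_zero_iff_mem.1 ?_)
        have e1 : π (M.mulVecLin w i) = M'.mulVecLin (fun j => π (w j)) i := RingHom.map_mulVec π M w i
        have e2 : π (v i) = M'.mulVecLin w' i := (congrFun hw' i).symm
        show π (v i - M.mulVecLin w i) = 0
        rw [map_sub, e1, e2, show (fun j => π (w j)) = w' from funext hw, sub_self]
      choose t ht using hdiv
      rw [Submodule.mem_smul_pointwise_iff_exists]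
      refine ⟨Submodule.Quotient.mk t, Submodule.mem_top, ?_⟩
      rw [← Submodule.Quotient.mk_smul, Submodule.Quotient.eq]
      refine ⟨-w, funext fun i => ?_⟩
      rw [map_neg, Pi.neg_apply, Pi.sub_apply, Pi.smul_apply, smul_eq_mul, mul_comm, ht i]
      ring
    · rintro c hc
      rw [Submodule.mem_smul_pointwise_iff_exists] at hc
      obtain ⟨d, -, rfl⟩ := hc
      obtain ⟨v, rfl⟩ := Submodule.Quotient.mk_surjective _ d
      rw [LinearMap.mem_ker, ← Submodule.Quotient.mk_smul]
      refine (Submodule.Quotient.mk_eq_zero _).2 ?_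
      have : red (x • v) = 0 := funext fun i => by
        rw [hred, Pi.smul_apply, smul_eq_mul, map_mul,
          show π x = 0 from Ideal.Quotient.eq_zero_iff_mem.2 (Ideal.mem_span_singleton_self x), zero_mul]
        rfl
      rw [this]
      exact zero_mem _
  let eqv : QuotSMulTop x (Coker M) ≃ₗ[S] C' :=
    (Submodule.quotEquivOfEq _ _ hker.symm).trans (ψ.quotKerEquivOfSurjective hψ)
  haveI : Module.Free S' (QuotSMulTop x (Coker M)) :=
    Module.Free.of_equiv (eqv.symm.extendScalarsOfSurjective Ideal.Quotient.mk_surjective)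
  haveI : Module.FinitePresentation S (Coker M) := Module.finitePresentation_of_finite S _
  haveI : Module.Free S (Coker M) :=
    (Module.free_quotSMulTop_iff_free (R := S) (M := Coker M)
      (by rw [IsLocalRing.jacobson_eq_maximalIdeal ⊥ bot_ne_top]; exact hx) hreg).1 inferInstance
  infer_instance

theorem isSMulRegular_coker (e : ℕ) (n : ℕ → ℕ)
    (A : (i : ℕ) → Matrix (Fin (n i)) (Fin (n (i + 1))) S) (hex : Exact e n A) {x : S}
    (hx : IsSMulRegular S x) (i : ℕ) (hi : i + 2 ≤ e) : IsSMulRegular (Coker (A (i + 1))) x := by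
  intro c c' h
  obtain ⟨v, rfl⟩ := Submodule.Quotient.mk_surjective _ c
  obtain ⟨v', rfl⟩ := Submodule.Quotient.mk_surjective _ c'
  simp only [← Submodule.Quotient.mk_smul, Submodule.Quotient.eq, ← smul_sub] at h ⊢
  obtain ⟨w, hw⟩ := h
  have h1 : (A i).mulVecLin (x • (v - v')) = 0 := hw ▸ hex.1 i hi w
  rw [map_smul] at h1
  exact hex.2.2 i hi _ (funext fun j => hx (by
    show x • _ = x • (0 : S)
    rw [smul_zero]; exact congrFun h1 j))

end Local

theorem idealDepth_quot {S : Type u} [CommRing S] [IsLocalRing S] [IsNoetherianRing S] {x : S}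
    [IsLocalRing (S ⧸ Ideal.span {x})]
    (hx : x ∈ maximalIdeal S) (hreg : IsRegular x) {d : ℕ}
    (hd : LocCoh.depth S S ≤ ((d + 1 : ℕ) : ℕ∞)) :
    LocCoh.depth (S ⧸ Ideal.span {x}) (S ⧸ Ideal.span {x}) ≤ (d : ℕ∞) := by
  let S' := S ⧸ Ideal.span {x}
  by_contra hlt
  rw [not_le] at hlt
  have h1 : ((d + 1 : ℕ) : ℕ∞) ≤ LocCoh.depth S' S' := by
    have := Order.add_one_le_of_lt hlt
    exact_mod_cast this
  obtain ⟨rs, hl, hmem, hr⟩ :=
    H4Depth.exists_isWeaklyRegular_of_le_idealDepth (H4Depth.maximalIdeal_smul_top_ne_top) h1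
  choose f hf using fun r : S' => Ideal.Quotient.mk_surjective r
  let rs0 := rs.map f
  have hrs : rs0.map (Ideal.Quotient.mk (Ideal.span {x})) = rs := by
    simp [rs0, Function.comp_def, hf]
  have hw : IsWeaklyRegular S (x :: rs0) := by
    rw [isWeaklyRegular_cons_iff]
    refine ⟨fun u v h => hreg.left h, ?_⟩
    have e : QuotSMulTop x S ≃ₗ[S] S' := Submodule.quotEquivOfEq _ _ (by
      rw [← Submodule.ideal_span_singleton_smul, smul_eq_mul, Ideal.mul_top])
    rw [LinearEquiv.isWeaklyRegular_congr e, ← isWeaklyRegular_map_algebraMap_iff S' S' rs0]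
    rw [show rs0.map (algebraMap S S') = rs from hrs]
    exact hr
  have h2 := H4Depth.length_le_idealDepth (I := maximalIdeal S) hw (fun r hr' => by
    rcases List.mem_cons.1 hr' with rfl | hr'
    · exact hx
    · obtain ⟨q, hq, rfl⟩ := List.mem_map.1 hr'
      have := hmem q hq
      rw [← hf q] at this
      exact (IsLocalRing.mem_maximalIdeal _).2 fun hu =>
        (IsLocalRing.mem_maximalIdeal _).1 this (hu.map (Ideal.Quotient.mk _)))
  have h3 := h2.trans hd
  rw [List.length_cons, List.length_map, hl] at h3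
  have : d + 1 + 1 ≤ d + 1 := by exact_mod_cast h3
  omega

/-- Beyond the depth an exact complex of free modules is split. -/
theorem projective_coker_of_depth : ∀ (d : ℕ) (S : Type u) [CommRing S] [IsLocalRing S] [IsNoetherianRing S]
    (e : ℕ) (n : ℕ → ℕ) (A : (i : ℕ) → Matrix (Fin (n i)) (Fin (n (i + 1))) S),
    LocCoh.depth S S ≤ (d : ℕ∞) → Exact e n A → ∀ i, d ≤ i → i < e → Module.Projective S (Coker (A i))
  | d, S, _, _, _, e, n, A, hd, hex, i, hdi, hie => by
    by_cases hz : ∀ y ∈ maximalIdeal S, ¬ IsRegular y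
    · exact projective_coker_of_depth_zero e n A hz hex (e - (i + 1)) i (by omega)
    push Not at hz
    obtain ⟨x, hx, hreg⟩ := hz
    have hxs : IsSMulRegular S x := fun u v h => hreg.left h
    obtain ⟨d', rfl⟩ : ∃ d', d = d' + 1 := by
      refine ⟨d - 1, ?_⟩
      have h1 : IsWeaklyRegular S [x] := by
        rw [isWeaklyRegular_cons_iff]; exact ⟨hxs, IsWeaklyRegular.nil S _⟩
      have h2 := (H4Depth.length_le_idealDepth (I := maximalIdeal S) h1 (by simpa using hx)).trans hd
      have : 1 ≤ d := by exact_mod_cast h2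
      omega
    obtain ⟨i', rfl⟩ : ∃ i', i = i' + 1 := ⟨i - 1, by omega⟩
    obtain ⟨e', rfl⟩ : ∃ e', e = e' + 1 := ⟨e - 1, by omega⟩
    let S' := S ⧸ Ideal.span {x}
    haveI : Nontrivial S' := Ideal.Quotient.nontrivial_iff.2 fun h => (maximalIdeal.isMaximal S).ne_top
      (top_unique (h ▸ (Ideal.span_singleton_le_iff_mem _).2 hx))
    haveI : IsLocalRing S' := IsLocalRing.of_surjective' _ Ideal.Quotient.mk_surjective
    let π : S →+* S' := Ideal.Quotient.mk (Ideal.span {x})
    let A' : (j : ℕ) → Matrix (Fin (n (j + 1))) (Fin (n (j + 1 + 1))) S' := fun j => (A (j + 1)).map π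
    have hmap : ∀ j (v : Fin (n (j + 1 + 1)) → S) (r : Fin (n (j + 1))),
        π ((A (j + 1)).mulVecLin v r) = (A' j).mulVecLin (fun c => π (v c)) r :=
      fun j v r => RingHom.map_mulVec π _ v r
    -- lifts of cycles differ from cycles by multiples of `x`
    have hlift : ∀ j, j + 1 ≤ e' → ∀ w : Fin (n (j + 1 + 1)) → S', (A' j).mulVecLin w = 0 →
        ∃ v : Fin (n (j + 1 + 1)) → S, (A (j + 1)).mulVecLin v = 0 ∧ (fun c => π (v c)) = w := by
      intro j hj w hw
      choose v hv using fun c => Ideal.Quotient.mk_surjective (w c)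
      have hdiv : ∀ r, ∃ t, t * x = (A (j + 1)).mulVecLin v r := fun r => by
        refine Ideal.mem_span_singleton'.1 (Ideal.Quotient.eq_zero_iff_mem.1 ?_)
        show π _ = 0
        rw [hmap, show (fun c => π (v c)) = w from funext hv, hw]
        rfl
      choose t ht using hdiv
      have ht' : (A (j + 1)).mulVecLin v = x • t := funext fun r => by
        rw [Pi.smul_apply, smul_eq_mul, mul_comm, ht r]
      have h1 : x • (A j).mulVecLin t = 0 := by
        rw [← map_smul, ← ht']; exact hex.1 j (by omega) v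
      obtain ⟨u, hu⟩ := hex.2.2 j (by omega) t (funext fun r => hxs (by
        show x • _ = x • (0 : S)
        rw [smul_zero]; exact congrFun h1 r))
      refine ⟨v - x • u, by rw [map_sub, map_smul, hu, ← ht', sub_self], funext fun c => ?_⟩
      show π ((v - x • u) c) = w c
      rw [Pi.sub_apply, map_sub, Pi.smul_apply, smul_eq_mul, map_mul,
        show π x = 0 from Ideal.Quotient.eq_zero_iff_mem.2 (Ideal.mem_span_singleton_self x),
        zero_mul, sub_zero]
      exact hv c
    have hex' : Exact e' (fun j => n (j + 1)) A' := by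
      refine ⟨fun j hj w => ?_, fun j hj w hw => ?_, fun j hj w hw => ?_⟩
      · choose v hv using fun c => Ideal.Quotient.mk_surjective (w c)
        have e1 : (A' (j + 1)).mulVecLin w = fun r => π ((A (j + 1 + 1)).mulVecLin v r) :=
          funext fun r => by rw [hmap, show (fun c => π (v c)) = w from funext hv]
        funext r
        rw [e1, ← hmap, hex.1 (j + 1) (by omega) v]
        exact map_zero π
      · obtain ⟨v, hv, rfl⟩ := hlift j (by omega) w hw
        rw [hex.2.1 (j + 1) (by omega) v hv]
        exact funext fun c => map_zero π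
      · obtain ⟨v, hv, rfl⟩ := hlift j (by omega) w hw
        obtain ⟨z, hz⟩ := hex.2.2 (j + 1) (by omega) v hv
        exact ⟨fun c => π (z c), funext fun r => by rw [← hmap (j + 1) z r, hz]⟩
    have hIH := projective_coker_of_depth d' S' e' (fun j => n (j + 1)) A'
      (idealDepth_quot hx hreg hd) hex' i' (by omega) (by omega)
    exact projective_coker_of_quotient (A (i' + 1)) hx
      (isSMulRegular_coker (e' + 1) n A hex hxs i' (by omega)) hIH

section Rank

variable {S : Type u} [CommRing S] [IsLocalRing S]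

theorem exists_minor_of_split {a r : ℕ} (U : Matrix (Fin a) (Fin r) S) (Q : Matrix (Fin r) (Fin a) S)
    (h : Q * U = 1) : ∃ f : Fin r → Fin a, IsUnit (U.submatrix f id).det := by
  classical
  have hinj : Function.Injective (U.map (IsLocalRing.residue S)).mulVecLin := by
    intro v w hvw
    have hQ : Q.map (IsLocalRing.residue S) * U.map (IsLocalRing.residue S) = 1 := by
      rw [← Matrix.map_mul, h, Matrix.map_one _ (map_zero _) (map_one _)]
    have := congrArg (Q.map (IsLocalRing.residue S)).mulVecLin hvw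
    simp only [Matrix.mulVecLin_apply, Matrix.mulVec_mulVec, hQ, Matrix.one_mulVec] at this
    exact this
  have hann := H3CAlg.McCoy.annihilator_of_injective _ hinj
  by_contra hall
  push Not at hall
  have : minorIdeal (U.map (IsLocalRing.residue S)) r = ⊥ := by
    rw [minorIdeal, Ideal.span_eq_bot]
    rintro _ ⟨⟨f, g⟩, rfl⟩
    change ((U.map _).submatrix f g).det = 0
    by_cases hg : Function.Injective g
    · let σ : Equiv.Perm (Fin r) := Equiv.ofBijective g (Finite.injective_iff_bijective.1 hg)
      rw [show (U.map (IsLocalRing.residue S)).submatrix f g =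
        ((U.submatrix f id).map (IsLocalRing.residue S)).submatrix id σ from rfl, Matrix.det_permute']
      rw [← RingHom.mapMatrix_apply, ← RingHom.map_det,
        show IsLocalRing.residue S (U.submatrix f id).det = 0 from
          Ideal.Quotient.eq_zero_iff_mem.2 ((mem_maximalIdeal _).2 (hall f)), mul_zero]
    · simp only [Function.Injective] at hg
      push Not at hg
      obtain ⟨i, j, hij, hne⟩ := hg
      exact Matrix.det_zero_of_column_eq hne fun k => by simp [hij]
  rw [this, Submodule.annihilator_bot] at hann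
  exact top_ne_bot hann

theorem rank_spec {a b : ℕ} (M : Matrix (Fin a) (Fin b) S) [Module.Projective S (Coker M)] :
    minorIdeal M (Module.finrank S (LinearMap.range M.mulVecLin)) = ⊤ ∧
      minorIdeal M (Module.finrank S (LinearMap.range M.mulVecLin) + 1) = ⊥ ∧
      ∀ (c : ℕ) (N : Matrix (Fin b) (Fin c) S),
        LinearMap.range N.mulVecLin = LinearMap.ker M.mulVecLin →
        Module.finrank S (LinearMap.range M.mulVecLin) + Module.finrank S (LinearMap.range N.mulVecLin) = b := by
  classical
  let P := LinearMap.range M.mulVecLin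
  obtain ⟨s, hs⟩ := Module.projective_lifting_property P.mkQ LinearMap.id P.mkQ_surjective
  let q : (Fin a → S) →ₗ[S] P := (LinearMap.id - s ∘ₗ P.mkQ).codRestrict P fun v => by
    rw [← Submodule.Quotient.mk_eq_zero, LinearMap.sub_apply, Submodule.Quotient.mk_sub]
    have := LinearMap.congr_fun hs (P.mkQ v)
    simp only [LinearMap.coe_comp, Function.comp_apply, LinearMap.id_apply] at this ⊢
    exact sub_eq_zero.2 this.symm
  have hq : ∀ v : P, q v = v := fun v => Subtype.ext (by
    show (v : Fin a → S) - s (P.mkQ v) = v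
    rw [Submodule.mkQ_apply, (Submodule.Quotient.mk_eq_zero P).2 v.2, map_zero, sub_zero])
  haveI : Module.Projective S P := Module.Projective.of_split P.subtype q (LinearMap.ext hq)
  haveI : Module.Finite S P := Module.Finite.range _
  haveI : Module.Free S P := Module.free_of_flat_of_isLocalRing
  let r := Module.finrank S P
  let e := (Module.finBasis S P).equivFun
  let U := LinearMap.toMatrix' (P.subtype ∘ₗ e.symm.toLinearMap)
  let Q := LinearMap.toMatrix' (e.toLinearMap ∘ₗ q)
  let V := LinearMap.toMatrix' (e.toLinearMap ∘ₗ M.mulVecLin.rangeRestrict)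
  obtain ⟨t, ht⟩ := Module.projective_lifting_property M.mulVecLin.rangeRestrict LinearMap.id
    M.mulVecLin.surjective_rangeRestrict
  let W := LinearMap.toMatrix' (t ∘ₗ e.symm.toLinearMap)
  have hQU : Q * U = 1 := by
    rw [← LinearMap.toMatrix'_comp, ← LinearMap.toMatrix'_id]
    congr 1
    ext v
    simp [hq]
  have hM : M = U * V := by
    rw [← LinearMap.toMatrix'_comp]
    conv_lhs => rw [← LinearMap.toMatrix'_toLin' M]
    congr 1
    ext v
    simp
  have hVW : V * W = 1 := by
    rw [← LinearMap.toMatrix'_comp, ← LinearMap.toMatrix'_id]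
    congr 1
    refine LinearMap.ext fun v => ?_
    have := LinearMap.congr_fun ht (e.symm v)
    simp only [LinearMap.coe_comp, Function.comp_apply, LinearMap.id_apply, LinearEquiv.coe_coe] at this ⊢
    rw [this, e.apply_symm_apply]
  refine ⟨?_, ?_, fun c N hN => ?_⟩
  · obtain ⟨f, hf⟩ := exists_minor_of_split U Q hQU
    obtain ⟨g, hg⟩ := exists_minor_of_split V.transpose W.transpose (by
      rw [← Matrix.transpose_mul, hVW, Matrix.transpose_one])
    refine Ideal.eq_top_of_isUnit_mem _ (Ideal.subset_span ⟨(f, g), rfl⟩) ?_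
    show IsUnit (M.submatrix f g).det
    rw [hM, Matrix.submatrix_mul U V f (id : Fin r → Fin r) g Function.bijective_id, Matrix.det_mul]
    refine hf.mul ?_
    rwa [← Matrix.det_transpose]
  · rw [minorIdeal, Ideal.span_eq_bot]
    rintro _ ⟨⟨f, g⟩, rfl⟩
    change (M.submatrix f g).det = 0
    let U' : Matrix (Fin (r + 1)) (Fin (r + 1)) S := fun i => Fin.snoc (fun j => U (f i) j) 0
    let V' : Matrix (Fin (r + 1)) (Fin (r + 1)) S := Fin.snoc (fun j c => V j (g c)) 0
    have : M.submatrix f g = U' * V' := by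
      ext i c
      rw [Matrix.mul_apply, Fin.sum_univ_castSucc, Matrix.submatrix_apply, hM, Matrix.mul_apply]
      simp [U', V']
      rfl
    rw [this, Matrix.det_mul, Matrix.det_eq_zero_of_column_eq_zero (A := U') (Fin.last r)
      fun i => by simp [U'], zero_mul]
  · have hsplit : Function.LeftInverse M.mulVecLin.rangeRestrict t := fun v => LinearMap.congr_fun ht v
    have hk : LinearMap.ker M.mulVecLin.rangeRestrict = LinearMap.ker M.mulVecLin :=
      LinearMap.ker_rangeRestrict _
    let E : (Fin b → S) ≃ₗ[S] P × LinearMap.range N.mulVecLin :=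
      { toFun := fun v => (M.mulVecLin.rangeRestrict v, ⟨v - t (M.mulVecLin.rangeRestrict v), by
          rw [hN, ← hk, LinearMap.mem_ker, map_sub, hsplit, sub_self]⟩)
        map_add' := fun v w => Prod.ext (map_add _ _ _) (Subtype.ext (by simp; abel))
        map_smul' := fun c v => Prod.ext (map_smul _ _ _) (Subtype.ext (by simp [smul_sub]))
        invFun := fun p => t p.1 + p.2
        left_inv := fun v => by simp
        right_inv := fun p => by
          have h2 : M.mulVecLin.rangeRestrict (p.2 : Fin b → S) = 0 := by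
            rw [← LinearMap.mem_ker, hk, ← hN]; exact p.2.2
          refine Prod.ext ?_ (Subtype.ext ?_)
          · simp only [map_add, h2, add_zero]; exact hsplit p.1
          · simp only [map_add, h2, add_zero]; rw [hsplit p.1, add_sub_cancel_left] }
    haveI : Module.Projective S (LinearMap.range N.mulVecLin) :=
      Module.Projective.of_split ((E.symm.toLinearMap ∘ₗ LinearMap.inr S _ _))
        (LinearMap.snd S _ _ ∘ₗ E.toLinearMap) (LinearMap.ext fun z => by simp)
    haveI : Module.Finite S (LinearMap.range N.mulVecLin) := Module.Finite.range _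
    haveI : Module.Free S (LinearMap.range N.mulVecLin) := Module.free_of_flat_of_isLocalRing
    have := E.finrank_eq
    rw [Module.finrank_prod, Module.finrank_pi, Fintype.card_fin] at this
    exact this.symm

theorem rank_eq_alternating (e : ℕ) (n : ℕ → ℕ)
    (A : (i : ℕ) → Matrix (Fin (n i)) (Fin (n (i + 1))) S) (hex : Exact e n A)
    (hp : ∀ i, i < e → Module.Projective S (Coker (A i))) :
    ∀ j i, i + 1 + j = e → (Module.finrank S (LinearMap.range (A i).mulVecLin) : ℤ) =
      ∑ t ∈ Finset.Icc (i + 1) e, (-1 : ℤ) ^ (t - (i + 1)) * (n t : ℤ)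
  | 0, i, h => by
    subst h
    haveI := hp i (by omega)
    have := (LinearEquiv.ofInjective (A i).mulVecLin
      ((injective_iff_map_eq_zero _).2 fun v hv => hex.2.1 i rfl v hv)).finrank_eq
    rw [Module.finrank_pi, Fintype.card_fin] at this
    simp [← this]
  | j + 1, i, h => by
    haveI := hp i (by omega)
    have h1 := (rank_spec (A i)).2.2 (n (i + 1 + 1)) (A (i + 1)) (le_antisymm
      (by rintro _ ⟨w, rfl⟩; exact hex.1 i (by omega) w) fun v hv => hex.2.2 i (by omega) v hv)
    have h2 := rank_eq_alternating e n A hex hp j (i + 1) (by omega)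
    have hset : Finset.Icc (i + 1) e = insert (i + 1) (Finset.Icc (i + 2) e) := by
      ext t; simp only [Finset.mem_insert, Finset.mem_Icc]; omega
    rw [hset, Finset.sum_insert (by simp), Nat.sub_self, pow_zero, one_mul]
    have h3 : ∑ t ∈ Finset.Icc (i + 2) e, (-1 : ℤ) ^ (t - (i + 1)) * (n t : ℤ) =
        - ∑ t ∈ Finset.Icc (i + 1 + 1) e, (-1 : ℤ) ^ (t - (i + 1 + 1)) * (n t : ℤ) := by
      rw [← Finset.sum_neg_distrib]
      refine Finset.sum_congr rfl fun t ht => ?_
      rw [Finset.mem_Icc] at ht
      rw [show t - (i + 1) = t - (i + 1 + 1) + 1 by omega, pow_succ]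
      ring
    rw [h3, ← h2]
    omega

end Rank

theorem exact_localization {R : Type u} [CommRing R] (T : Submonoid R) (L : Type u) [CommRing L]
    [Algebra R L] [IsLocalization T L] (e : ℕ) (n : ℕ → ℕ)
    (A : (i : ℕ) → Matrix (Fin (n i)) (Fin (n (i + 1))) R) (hex : Exact e n A) :
    Exact e n (fun i => (A i).map (algebraMap R L)) := by
  let φ := algebraMap R L
  have hu : ∀ t ∈ T, IsUnit (φ t) := fun t ht => IsLocalization.map_units L (⟨t, ht⟩ : T)
  have hker : ∀ i (w : Fin (n (i + 1)) → L), ((A i).map φ).mulVecLin w = 0 →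
      ∃ (v : Fin (n (i + 1)) → R) (t : R), t ∈ T ∧ (A i).mulVecLin v = 0 ∧
        (fun j => φ (v j)) = φ t • w := by
    intro i w hw
    obtain ⟨t, ht, u, hu⟩ := exists_lift_smul T w
    obtain ⟨t', ht', h0⟩ := exists_smul_eq_zero (S := L) T ((A i).mulVecLin u) fun j => by
      rw [algebraMap_mulVecLin, show (fun j => algebraMap R L (u j)) = φ t • w from funext hu,
        map_smul, hw, smul_zero]
      rfl
    exact ⟨t' • u, t' * t, T.mul_mem ht' ht, by rw [map_smul, h0], funext fun j => by
      rw [Pi.smul_apply, smul_eq_mul, map_mul, hu j, Pi.smul_apply, smul_eq_mul, map_mul, mul_assoc]⟩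
  refine ⟨fun i hi w => ?_, fun i hi w hw => ?_, fun i hi w hw => ?_⟩
  · obtain ⟨t, ht, u, hu'⟩ := exists_lift_smul T w
    refine (hu t ht).smul_eq_zero.1 ?_
    rw [← map_smul, ← map_smul, show φ t • w = fun j => φ (u j) from (funext hu').symm]
    funext j
    have e1 : ((A (i + 1)).map φ).mulVecLin (fun j => φ (u j)) =
        fun k => φ ((A (i + 1)).mulVecLin u k) := funext fun k => (algebraMap_mulVecLin _ u k).symm
    rw [e1, ← algebraMap_mulVecLin, hex.1 i hi u]
    exact map_zero φ
  · obtain ⟨v, t, ht, hv, hvw⟩ := hker i w hw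
    refine (hu t ht).smul_eq_zero.1 ?_
    rw [← hvw, hex.2.1 i hi v hv]
    exact funext fun j => map_zero φ
  · obtain ⟨v, t, ht, hv, hvw⟩ := hker i w hw
    obtain ⟨z, hz⟩ := hex.2.2 i hi v hv
    have hmem : φ t • w ∈ LinearMap.range ((A (i + 1)).map φ).mulVecLin :=
      ⟨fun j => φ (z j), by rw [← hvw]; funext k; rw [← algebraMap_mulVecLin, hz]⟩
    exact (Submodule.smul_mem_iff_of_isUnit _ (hu t ht)).1 hmem

theorem rank_and_depth {R : Type u} [CommRing R] [IsLocalRing R] [IsNoetherianRing R] (e : ℕ) (n : ℕ → ℕ)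
    (A : (i : ℕ) → Matrix (Fin (n i)) (Fin (n (i + 1))) R) (hex : Exact e n A) (j : ℕ) (hj : 1 ≤ j)
    (hje : j ≤ e) :
    (CAlgX.matrixRank (A (j - 1)) : ℤ) = ∑ t ∈ Finset.Icc j e, (-1 : ℤ) ^ (t - j) * (n t : ℤ) ∧
      (CAlgX.detIdeal (A (j - 1)) = ⊤ ∨
        ∃ rs : List R, rs.length = j ∧ (∀ r ∈ rs, r ∈ CAlgX.detIdeal (A (j - 1))) ∧
          RingTheory.Sequence.IsRegular R rs) := by
  classical
  obtain ⟨i, rfl⟩ : ∃ i, j = i + 1 := ⟨j - 1, by omega⟩
  rw [show i + 1 - 1 = i from rfl]
  let s : ℤ := ∑ t ∈ Finset.Icc (i + 1) e, (-1 : ℤ) ^ (t - (i + 1)) * (n t : ℤ)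
  have hass : ∀ (p : Ideal R) [p.IsPrime], p ∈ associatedPrimes R R →
      ∃ r : ℕ, (r : ℤ) = s ∧ (minorIdeal (A i) r).map (algebraMap R (Localization.AtPrime p)) = ⊤ ∧
        (minorIdeal (A i) (r + 1)).map (algebraMap R (Localization.AtPrime p)) = ⊥ := by
    intro p _ hp
    let L := Localization.AtPrime p
    have hdL : ∀ y ∈ maximalIdeal L, ¬ IsRegular y := by
      intro y hy hreg
      have hm : maximalIdeal L ∈ associatedPrimes L L := by
        apply Module.associatedPrimes.mem_associatedPrimes_of_comap_mem_associatedPrimes_of_isLocalizedModule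
          p.primeCompl (Algebra.linearMap R L)
        rw [show Ideal.comap (algebraMap R L) (maximalIdeal L) = p from IsLocalization.AtPrime.under_maximalIdeal L p]; exact hp
      exact H4Depth.not_isSMulRegular_of_mem_associatedPrimes hm hy fun u v h => hreg.left h
    have hexL := exact_localization p.primeCompl L e n A hex
    have hproj : ∀ k, k < e → Module.Projective L (Coker ((A k).map (algebraMap R L))) := fun k hk =>
      projective_coker_of_depth_zero e n _ hdL hexL (e - (k + 1)) k (by omega)
    haveI := hproj i (by omega)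
    obtain ⟨h1, h2, -⟩ := rank_spec ((A i).map (algebraMap R L))
    refine ⟨_, rank_eq_alternating e n _ hexL hproj (e - (i + 1)) i (by omega), ?_, ?_⟩
    · rw [← minorIdeal_map]; exact h1
    · rw [← minorIdeal_map]; exact h2
  obtain ⟨P₀, hP₀⟩ := associatedPrimes.nonempty R R
  haveI := hP₀.isPrime
  obtain ⟨r, hr, -, -⟩ := hass P₀ hP₀
  have hbot : minorIdeal (A i) (r + 1) = ⊥ := by
    rw [Submodule.eq_bot_iff]
    intro z hz
    by_contra hne
    obtain ⟨P, hP, hle⟩ := exists_le_isAssociatedPrime_of_isNoetherianRing R z hne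
    haveI := hP.isPrime
    obtain ⟨r', hr', -, h2⟩ := hass P hP
    obtain rfl : r' = r := by omega
    have h0 : algebraMap R (Localization.AtPrime P) z = 0 := by
      have := Ideal.mem_map_of_mem (algebraMap R (Localization.AtPrime P)) hz
      rwa [h2] at this
    obtain ⟨t, ht⟩ := (IsLocalization.map_eq_zero_iff P.primeCompl _ _).1 h0
    exact t.2 (hle (by rw [Submodule.mem_colon_singleton, Submodule.mem_bot]; exact ht))
  have hnotle : ∀ P ∈ associatedPrimes R R, ¬ minorIdeal (A i) r ≤ P := by
    intro P hP hle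
    haveI := hP.isPrime
    obtain ⟨r', hr', h1, -⟩ := hass P hP
    obtain rfl : r' = r := by omega
    have := Ideal.map_mono (f := algebraMap R (Localization.AtPrime P)) hle
    rw [h1, Localization.AtPrime.map_eq_maximalIdeal, top_le_iff] at this
    exact (maximalIdeal.isMaximal _).ne_top this
  have hne : minorIdeal (A i) r ≠ ⊥ := fun h => hnotle P₀ hP₀ (h ▸ bot_le)
  have habove : ∀ k, r + 1 ≤ k → minorIdeal (A i) k = ⊥ := by
    intro k hk
    induction k, hk using Nat.le_induction with
    | base => exact hbot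
    | succ k _ ih => exact minorIdeal_succ_le_of_lt (A i) ih
  have hrank : CAlgX.matrixRank (A i) = r :=
    csSup_eq_of_forall_le_of_forall_lt_exists_gt (s := {k : ℕ | minorIdeal (A i) k ≠ ⊥}) ⟨r, hne⟩
      (fun k hk => not_lt.mp fun hlt => hk (habove k hlt)) fun w hw => ⟨r, hne, hw⟩
  refine ⟨by rw [hrank]; exact hr, ?_⟩
  rw [CAlgX.detIdeal, hrank]
  by_cases htop : minorIdeal (A i) r = ⊤
  · exact Or.inl htop
  refine Or.inr ?_
  have hIM : minorIdeal (A i) r • (⊤ : Submodule R R) ≠ ⊤ := by
    rwa [smul_eq_mul, Ideal.mul_top]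
  have hdep : ((i + 1 : ℕ) : ℕ∞) ≤ LocCoh.idealDepth (minorIdeal (A i) r) R := by
    rw [H4Depth.idealDepth_eq_iInf_depth_localization]
    refine le_iInf₂ fun p hp => ?_
    let L := Localization.AtPrime p.asIdeal
    have hdepth : LocCoh.depth L (LocalizedModule p.asIdeal.primeCompl R) = LocCoh.depth L L :=
      H4Depth.depth_congr (LinearEquiv.extendScalarsOfIsLocalization p.asIdeal.primeCompl L
        ((IsLocalizedModule.iso p.asIdeal.primeCompl (Algebra.linearMap R L))))
    rw [hdepth]
    by_contra hlt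
    rw [not_le] at hlt
    have hle : LocCoh.depth L L ≤ (i : ℕ∞) := by
      rw [Nat.cast_add, Nat.cast_one] at hlt
      exact (ENat.lt_add_one_iff (ENat.coe_ne_top i)).1 hlt
    haveI := projective_coker_of_depth i L e n _ hle
      (exact_localization p.asIdeal.primeCompl L e n A hex) i le_rfl (by omega)
    obtain ⟨h1, -, -⟩ := rank_spec ((A i).map (algebraMap R L))
    rw [minorIdeal_map] at h1
    let r' := Module.finrank L (LinearMap.range ((A i).map (algebraMap R L)).mulVecLin)
    rcases Nat.lt_or_ge r r' with hlt' | hge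
    · rw [habove r' hlt', Ideal.map_bot] at h1
      exact bot_ne_top h1
    · have hmono : minorIdeal (A i) r ≤ p.asIdeal → (r' = r → False) := fun hle' e' => by
        have := Ideal.map_mono (f := algebraMap R L) hle'
        rw [← e'] at this
        rw [h1, Localization.AtPrime.map_eq_maximalIdeal, top_le_iff] at this
        exact (maximalIdeal.isMaximal _).ne_top this
      refine hmono hp (le_antisymm hge ?_)
      -- the rank at `p` is at least the rank at an associated prime below it
      obtain ⟨q, hq⟩ := associatedPrimes.nonempty L L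
      have hq' := Module.associatedPrimes.comap_mem_associatedPrimes_of_mem_associatedPrimes_of_isLocalizedModule_of_fg
        p.asIdeal.primeCompl (Algebra.linearMap R L) q hq (IsNoetherian.noetherian _)
      by_contra hlt''
      push Not at hlt''
      haveI := hq'.isPrime
      refine hnotle _ hq' fun z hz => ?_
      haveI : Module.Projective L (Coker ((A i).map (algebraMap R L))) := inferInstance
      obtain ⟨-, h2, -⟩ := rank_spec ((A i).map (algebraMap R L))
      have h3 : ∀ k, r' + 1 ≤ k → minorIdeal ((A i).map (algebraMap R L)) k = ⊥ := by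
        intro k hk
        induction k, hk using Nat.le_induction with
        | base => exact h2
        | succ k _ ih => exact minorIdeal_succ_le_of_lt _ ih
      have h4 := Ideal.mem_map_of_mem (algebraMap R L) hz
      rw [← minorIdeal_map, h3 r hlt''] at h4
      show algebraMap R L z ∈ q
      rw [(Submodule.mem_bot L).1 h4]
      exact zero_mem _
  obtain ⟨rs, hl, hmem, hreg⟩ := H4Depth.exists_isWeaklyRegular_of_le_idealDepth hIM hdep
  exact ⟨rs, hl, hmem, H4Depth.isRegular_of_mem hIM hmem hreg⟩

end Groth.Agent.H1CAlg.BE
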