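import Groth.Agent.H1CAlg.LocalFree
import Mathlib.RingTheory.LocalProperties.Projective
import Mathlib.RingTheory.Noetherian.Basic
import Mathlib.RingTheory.Jacobson.Ideal
import Mathlib.LinearAlgebra.Matrix.NonsingularInverse
import Mathlib.Algebra.Module.StablyFree.Basic

/-!
# Big projective modules (Bass)

`R` with `R ⧸ J` Noetherian (`J` the Jacobson radical), `P` projective of infinite rank at every
maximal ideal.
-/

set_option autoImplicit false

universe u

namespace Groth.Agent.H1CAlg.BigProjective

variable {R : Type u} [CommRing R] {P : Type u} [AddCommGroup P] [Module R P]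

/-- A projective module with finitely many generators modulo a maximal ideal is finite there. -/
theorem finite_localized [Module.Projective R P] (m : Ideal R) [m.IsMaximal] (G : Finset P)
    (hG : Submodule.span R (G : Set P) ⊔ m • ⊤ = ⊤) :
    Module.Finite (Localization.AtPrime m) (LocalizedModule m.primeCompl P) := by
  classical
  let Rm := Localization.AtPrime m
  let Pm := LocalizedModule m.primeCompl P
  let f := LocalizedModule.mkLinearMap m.primeCompl P
  haveI : Module.Free Rm Pm := free_of_projective_isLocalRing (R := Rm) Pm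
  let b := Module.Free.chooseBasis Rm Pm
  let mm := IsLocalRing.maximalIdeal Rm
  let N : Submodule Rm Pm := Submodule.span Rm (f '' (G : Set P)) ⊔ mm • ⊤
  have hN : ∀ z : Pm, z ∈ N := by
    have h1 : ∀ p : P, f p ∈ N := by
      intro p
      have hp : p ∈ Submodule.span R (G : Set P) ⊔ m • (⊤ : Submodule R P) := by rw [hG]; trivial
      have hle : Submodule.span R (G : Set P) ⊔ m • (⊤ : Submodule R P) ≤ (N.restrictScalars R).comap f := by
        refine sup_le (Submodule.span_le.mpr fun g hg => ?_) (Submodule.smul_le.mpr fun r hr x _ => ?_)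
        · exact Submodule.mem_sup_left (Submodule.subset_span (Set.mem_image_of_mem f hg))
        · show f (r • x) ∈ N
          rw [map_smul, ← algebraMap_smul Rm r (f x)]
          refine Submodule.mem_sup_right (Submodule.smul_mem_smul ?_ trivial)
          show algebraMap R Rm r ∈ IsLocalRing.maximalIdeal Rm
          rw [← Localization.AtPrime.map_eq_maximalIdeal]
          exact Ideal.mem_map_of_mem _ hr
      exact hle hp
    intro z
    obtain ⟨⟨p, t⟩, ht⟩ := IsLocalizedModule.surj m.primeCompl f z
    have hu := IsLocalization.map_units Rm t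
    rw [Submonoid.smul_def, ← algebraMap_smul Rm] at ht
    obtain ⟨w, hw⟩ := hu.exists_left_inv
    rw [show z = w • f p by rw [← ht, smul_smul, hw, one_smul]]
    exact N.smul_mem w (h1 p)
  let U : Finset (Module.Free.ChooseBasisIndex Rm Pm) := G.biUnion fun g => (b.repr (f g)).support
  have hU : ∀ i, i ∈ U := by
    intro i
    by_contra hi
    have hle : N ≤ Submodule.comap (b.coord i) mm := by
      refine sup_le (Submodule.span_le.mpr ?_) (Submodule.smul_le.mpr fun r hr x _ => ?_)
      · rintro _ ⟨g, hg, rfl⟩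
        show b.repr (f g) i ∈ mm
        rw [Finsupp.notMem_support_iff.mp fun h => hi (Finset.mem_biUnion.mpr ⟨g, hg, h⟩)]
        exact zero_mem _
      · show b.coord i (r • x) ∈ mm
        rw [map_smul, smul_eq_mul]
        exact Ideal.mul_mem_right _ _ hr
    have := hle (hN (b i))
    rw [Submodule.mem_comap, Module.Basis.coord_apply, Module.Basis.repr_self, Finsupp.single_eq_same] at this
    exact (IsLocalRing.maximalIdeal.isMaximal Rm).ne_top ((Ideal.eq_top_iff_one _).mpr this)
  haveI : Finite (Module.Free.ChooseBasisIndex Rm Pm) :=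
    Finite.of_injective (fun i => (⟨i, hU i⟩ : U)) fun a c h => congrArg Subtype.val h
  exact Module.Finite.of_basis b

theorem isNoetherian_quotient_self (J : Ideal R) [IsNoetherianRing (R ⧸ J)] : IsNoetherian R (R ⧸ J) := by
  refine ⟨fun N => ?_⟩
  let N' : Ideal (R ⧸ J) :=
    { carrier := N
      add_mem' := N.add_mem
      zero_mem' := N.zero_mem
      smul_mem' := fun c x hx => by
        obtain ⟨r, rfl⟩ := Ideal.Quotient.mk_surjective c
        rw [smul_eq_mul, ← Ideal.Quotient.algebraMap_eq, ← Algebra.smul_def]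
        exact N.smul_mem r hx }
  have := Submodule.FG.restrictScalars_of_surjective (R := R) (IsNoetherian.noetherian N')
    Ideal.Quotient.mk_surjective
  rw [show N = N'.restrictScalars R from rfl]
  exact this

variable [IsNoetherianRing (R ⧸ (⊥ : Ideal R).jacobson)] [Module.Projective R P]
  (hP : ∀ (m : Ideal R) [m.IsMaximal],
    ¬ Module.Finite (Localization.AtPrime m) (LocalizedModule m.primeCompl P))

include hP in
/-- The key lemma: inside a big submodule, modify `y₀` to have a functional with value `1`
vanishing on finitely many given elements. -/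
theorem exists_unimodular (M : Submodule R P) (hM : Module.Finite R (P ⧸ M)) (xs : Finset P) (y₀ : P) :
    ∃ m ∈ M, ∃ φ : P →ₗ[R] R, φ (y₀ + m) = 1 ∧ ∀ x ∈ xs, φ x = 0 := by
  classical
  obtain ⟨sec, hsec⟩ := Module.projective_def'.mp ‹Module.Projective R P›
  set J := (⊥ : Ideal R).jacobson
  have hrec : ∀ p : P, ∑ j ∈ (sec p).support, sec p j • j = p := fun p => by
    have := LinearMap.congr_fun hsec p
    simp only [LinearMap.comp_apply, Finsupp.linearCombination_apply, Finsupp.sum, LinearMap.id_apply] at this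
    exact this
  let S : Finset P := xs.biUnion fun x => (sec x).support
  let C : P → Ideal R := fun y => Ideal.span ((fun j => sec y j) '' {j | j ∉ S})
  let π := Ideal.Quotient.mk J
  obtain ⟨I', ⟨m, hm, rfl⟩, hmax⟩ := set_has_maximal_iff_noetherian.mpr ‹IsNoetherianRing (R ⧸ J)›
    {I' | ∃ m ∈ M, I' = (C (y₀ + m)).map π} ⟨_, 0, zero_mem _, rfl⟩
  set y := y₀ + m
  set I := C y ⊔ J
  have hI : I = ⊤ := by
    by_contra hne
    obtain ⟨mx, hmx, hImx⟩ := Ideal.exists_le_maximal I hne
    let S' : Finset P := (sec y).support ∪ S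
    let q : P →ₗ[R] (S' → R ⧸ J) := LinearMap.pi fun j =>
      (Algebra.linearMap R (R ⧸ J)).comp ((Finsupp.lapply j.1).comp sec)
    let M0 : Submodule R P := M ⊓ LinearMap.ker q
    haveI : IsNoetherian R (R ⧸ J) :=
      isNoetherian_quotient_self J
    obtain ⟨g₁, hg₁⟩ := (Module.Finite.fg_top : (⊤ : Submodule R (P ⧸ M)).FG)
    obtain ⟨g₂, hg₂⟩ := (IsNoetherian.noetherian (M.map q))
    have h2 : ∀ a ∈ g₂, ∃ p ∈ M, q p = a := fun a ha => by
      have : a ∈ M.map q := hg₂ ▸ Submodule.subset_span ha
      exact this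
    choose! l₂ hl₂ hl₂' using h2
    let G : Finset P := g₁.image Quotient.out ∪ g₂.image l₂
    have hspan : Submodule.span R (G : Set P) ⊔ M0 = ⊤ := by
      rw [eq_top_iff]
      intro p _
      have hA : ∀ a ∈ Submodule.span R (g₁ : Set (P ⧸ M)), ∃ w ∈ Submodule.span R (G : Set P), M.mkQ w = a := by
        intro a ha
        have hle : Submodule.span R (g₁ : Set (P ⧸ M)) ≤ (Submodule.span R (G : Set P)).map M.mkQ :=
          Submodule.span_le.mpr fun c hc => ⟨Quotient.out c,
            Submodule.subset_span (Finset.mem_union_left _ (Finset.mem_image_of_mem _ hc)), Quotient.out_eq c⟩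
        exact hle ha
      obtain ⟨w, hw, hwp⟩ := hA (M.mkQ p) (hg₁ ▸ trivial)
      have hpw : p - w ∈ M := (Submodule.Quotient.eq M).mp hwp.symm
      have hB : Submodule.span R (g₂ : Set (S' → R ⧸ J)) ≤
          (Submodule.span R (G : Set P) ⊓ M).map q := Submodule.span_le.mpr fun c hc =>
        ⟨l₂ c, ⟨Submodule.subset_span (Finset.mem_union_right _ (Finset.mem_image_of_mem _ hc)), hl₂ c hc⟩,
          hl₂' c hc⟩
      obtain ⟨v, ⟨hv, hvM⟩, hvq⟩ := hB (hg₂.symm ▸ Submodule.mem_map_of_mem hpw)
      rw [Submodule.mem_sup]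
      refine ⟨w + v, add_mem hw hv, p - w - v, ⟨sub_mem hpw hvM, ?_⟩, by abel⟩
      rw [SetLike.mem_coe, LinearMap.mem_ker, map_sub, hvq, sub_self]
    by_cases hz : ∀ z ∈ M0, ∀ j, sec z j ∈ I
    · refine hP mx (finite_localized mx G ?_)
      rw [eq_top_iff]
      refine hspan.ge.trans (sup_le_sup_left (fun z hz' => ?_) _)
      rw [← hrec z]
      exact sum_mem fun j _ => Submodule.smul_mem_smul (hImx (hz z hz' j)) Submodule.mem_top
    · push Not at hz
      obtain ⟨z, ⟨hzM, hzq⟩, j, hj⟩ := hz
      have hzS : ∀ i ∈ S', sec z i ∈ J := fun i hi => by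
        have := congrFun (LinearMap.mem_ker.mp hzq) ⟨i, hi⟩
        exact Ideal.Quotient.eq_zero_iff_mem.mp this
      have hjS : j ∉ S' := fun h => hj (Submodule.mem_sup_right (hzS j h))
      have hy : ∀ i, i ∉ S' → sec y i = 0 := fun i hi =>
        Finsupp.notMem_support_iff.mp fun h => hi (Finset.mem_union_left _ h)
      have hadd : y₀ + (m + z) = y + z := (add_assoc _ _ _).symm
      have hgt : (C y).map π < (C (y + z)).map π := by
        refine lt_of_le_of_ne (Ideal.map_le_iff_le_comap.mpr (Ideal.span_le.mpr ?_)) fun heq => hj ?_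
        · rintro _ ⟨i, hi, rfl⟩
          show π (sec y i) ∈ (C (y + z)).map π
          by_cases hi' : i ∈ S'
          · have : π (sec y i) = π (sec (y + z) i) := by
              rw [map_add sec y z, Finsupp.add_apply, map_add π, Ideal.Quotient.eq_zero_iff_mem.mpr (hzS i hi'),
                add_zero]
            rw [this]
            exact Ideal.mem_map_of_mem _ (Ideal.subset_span ⟨i, hi, rfl⟩)
          · rw [hy i hi', map_zero]
            exact zero_mem _
        · have hzj : sec (y + z) j ∈ C (y + z) :=
            Ideal.subset_span ⟨j, fun h => hjS (Finset.mem_union_right _ h), rfl⟩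
          rw [map_add sec y z, Finsupp.add_apply, hy j hjS, zero_add] at hzj
          have : π (sec z j) ∈ (C y).map π := heq ▸ Ideal.mem_map_of_mem π hzj
          rw [← Ideal.mem_comap, Ideal.comap_map_of_surjective π Ideal.Quotient.mk_surjective,
            ← RingHom.ker_eq_comap_bot, Ideal.mk_ker] at this
          exact this
      exact hmax _ ⟨m + z, add_mem hm hzM, by rw [hadd]⟩ hgt
  have hC : C y = ⊤ := by
    obtain ⟨a, ha, c, hc, hac⟩ := Submodule.mem_sup.mp (show (1 : R) ∈ C y ⊔ J by rw [show C y ⊔ J = ⊤ from hI]; trivial)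
    refine Ideal.eq_top_of_isUnit_mem _ ha ?_
    have hu := Ideal.mem_jacobson_bot.mp (neg_mem hc) 1
    rwa [mul_one, show -c + 1 = a by rw [← hac]; ring] at hu
  have h1 : (1 : R) ∈ Submodule.span R ((fun j => sec y j) '' {j | j ∉ S}) := by
    show (1 : R) ∈ C y
    rw [hC]; trivial
  obtain ⟨l, hl, hl1⟩ := (Finsupp.mem_span_image_iff_linearCombination R).mp h1
  refine ⟨m, hm, (Finsupp.linearCombination R fun j : P => l j).comp sec, ?_, fun x hx => ?_⟩
  · rw [LinearMap.comp_apply, ← hl1, Finsupp.linearCombination_apply, Finsupp.linearCombination_apply,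
      Finsupp.sum, Finsupp.sum]
    rw [Finset.sum_subset (Finset.subset_union_left (s₂ := l.support)),
      Finset.sum_subset (Finset.subset_union_right (s₁ := (sec y).support)) (s₂ := (sec y).support ∪ l.support)]
    · exact Finset.sum_congr rfl fun j _ => by rw [smul_eq_mul, smul_eq_mul, mul_comm]
    · intro j _ hj
      rw [Finsupp.notMem_support_iff.mp hj, zero_smul]
    · intro j _ hj
      rw [Finsupp.notMem_support_iff.mp hj, zero_smul]
  · rw [LinearMap.comp_apply, Finsupp.linearCombination_apply, Finsupp.sum]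
    refine Finset.sum_eq_zero fun j hj => ?_
    have hjS : j ∈ S := Finset.mem_biUnion.mpr ⟨x, hx, hj⟩
    have : l j = 0 := by
      by_contra h
      exact (hl (Finsupp.mem_support_iff.mpr h)) hjS
    rw [this, smul_zero]

include hP in
/-- Finitely many independent elements in the common kernel, with a dual system killing given ones. -/
theorem exists_system (n : ℕ) (f : Fin n → (P →ₗ[R] R)) (xs : Finset P) :
    ∀ k : ℕ, ∃ (y : Fin k → P) (φ : Fin k → (P →ₗ[R] R)),
      (∀ i j, f j (y i) ∈ (⊥ : Ideal R).jacobson) ∧ (∀ i, ∀ x ∈ xs, φ i x = 0) ∧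
      ∀ i j, φ i (y j) - (if i = j then 1 else 0) ∈ (⊥ : Ideal R).jacobson := by
  classical
  set J := (⊥ : Ideal R).jacobson
  intro k
  induction k with
  | zero => exact ⟨Fin.elim0, Fin.elim0, fun i => i.elim0, fun i => i.elim0, fun i => i.elim0⟩
  | succ k ih =>
    obtain ⟨y, φ, hy, hφ, hyφ⟩ := ih
    let q : P →ₗ[R] (Fin n ⊕ Fin k → R ⧸ J) := LinearMap.pi fun j =>
      (Algebra.linearMap R (R ⧸ J)).comp (Sum.elim f φ j)
    haveI : IsNoetherian R (R ⧸ J) :=
      isNoetherian_quotient_self J
    haveI : Module.Finite R (P ⧸ LinearMap.ker q) := Module.Finite.equiv q.quotKerEquivRange.symm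
    obtain ⟨z, hz, ψ, hψ, hψx⟩ := exists_unimodular hP (LinearMap.ker q) inferInstance
      (xs ∪ Finset.univ.image y) 0
    rw [zero_add] at hψ
    have hzq : ∀ j, Sum.elim f φ j z ∈ J := fun j =>
      Ideal.Quotient.eq_zero_iff_mem.mp (congrFun (LinearMap.mem_ker.mp hz) j)
    refine ⟨Fin.cons z y, Fin.cons ψ φ, fun i j => ?_, fun i x hx => ?_, fun i j => ?_⟩
    · refine Fin.cases ?_ (fun i => ?_) i
      · rw [Fin.cons_zero]; exact hzq (Sum.inl j)
      · rw [Fin.cons_succ]; exact hy i j
    · refine Fin.cases ?_ (fun i => ?_) i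
      · rw [Fin.cons_zero]; exact hψx x (Finset.mem_union_left _ hx)
      · rw [Fin.cons_succ]; exact hφ i x hx
    · refine Fin.cases ?_ (fun i => ?_) i <;> refine Fin.cases ?_ (fun j => ?_) j
      · simp only [Fin.cons_zero, if_pos, hψ, sub_self]; exact zero_mem _
      · simp only [Fin.cons_zero, Fin.cons_succ]
        rw [hψx _ (Finset.mem_union_right _ (Finset.mem_image_of_mem y (Finset.mem_univ j))),
          if_neg (Fin.succ_ne_zero j).symm, sub_zero]
        exact zero_mem _
      · simp only [Fin.cons_zero, Fin.cons_succ]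
        rw [if_neg (Fin.succ_ne_zero i), sub_zero]
        exact hzq (Sum.inr i)
      · simp only [Fin.cons_succ, Fin.succ_inj]
        exact hyφ i j

include hP in
/-- Every element lies in a finite free direct summand. -/
theorem exists_free_summand (s : P) :
    ∃ K K' : Submodule R P, IsCompl K K' ∧ Module.Finite R K ∧ Module.Free R K ∧ s ∈ K := by
  classical
  obtain ⟨sec, hsec⟩ := Module.projective_def'.mp ‹Module.Projective R P›
  let T := (sec s).support
  let n := T.card
  let x : Fin n → P := fun i => (T.equivFin.symm i).1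
  let f : Fin n → (P →ₗ[R] R) := fun i => (Finsupp.lapply (T.equivFin.symm i).1).comp sec
  have hs : ∑ i, f i s • x i = s := by
    have h := LinearMap.congr_fun hsec s
    simp only [LinearMap.comp_apply, Finsupp.linearCombination_apply, Finsupp.sum, LinearMap.id_apply] at h
    rw [← Finset.sum_coe_sort] at h
    exact (Equiv.sum_comp T.equivFin.symm (fun t : T => sec s t.1 • t.1)).trans h
  obtain ⟨y, φ, hy, hφ, hyφ⟩ := exists_system hP n f (Finset.univ.image x) n
  -- dilation
  let c : Fin n → Fin n → R := fun i k => (if i = k then 1 else 0) - f i (x k)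
  let v : Fin n → P := fun k => x k + ∑ i, c i k • y i
  let g : Fin n → (P →ₗ[R] R) := fun i => f i + φ i
  have hv : ∑ k, f k s • v k = s := by
    simp only [v, smul_add, Finset.sum_add_distrib, hs, Finset.smul_sum, smul_smul]
    rw [Finset.sum_comm, Finset.sum_eq_zero, add_zero]
    intro i _
    rw [← Finset.sum_smul]
    have : ∑ k, f k s * c i k = 0 := by
      simp only [c, mul_sub, mul_ite, mul_one, mul_zero, Finset.sum_sub_distrib, Finset.sum_ite_eq,
        Finset.mem_univ, if_true]
      rw [sub_eq_zero]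
      conv_lhs => rw [← hs, map_sum]
      exact Finset.sum_congr rfl fun k _ => by rw [map_smul, smul_eq_mul]
    rw [this, zero_smul]
  let E : Matrix (Fin n) (Fin n) R := fun i k => g i (v k)
  set J := (⊥ : Ideal R).jacobson
  have hE : E.map (Ideal.Quotient.mk J) = 1 := by
    ext i k
    have h0 : ∀ j, Ideal.Quotient.mk J (f i (y j)) = 0 := fun j =>
      Ideal.Quotient.eq_zero_iff_mem.mpr (hy j i)
    have h1 : ∀ j, Ideal.Quotient.mk J (φ i (y j)) = if i = j then 1 else 0 := fun j => by
      rw [Ideal.Quotient.eq.mpr (hyφ i j), apply_ite (Ideal.Quotient.mk J), map_one, map_zero]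
    simp only [Matrix.map_apply, E, g, v, c, LinearMap.add_apply, map_add, map_sum, map_smul, smul_eq_mul,
      map_mul, map_sub, hφ i (x k) (Finset.mem_image_of_mem x (Finset.mem_univ k)), h0, h1, mul_zero,
      Finset.sum_const_zero, mul_ite, mul_one, Finset.sum_ite_eq, Finset.mem_univ, if_true, map_zero]
    simp [Matrix.one_apply, apply_ite (Ideal.Quotient.mk J), map_one, map_zero]
  have hdet : IsUnit E.det := by
    have h : Ideal.Quotient.mk J E.det = 1 := by rw [RingHom.map_det, RingHom.mapMatrix_apply, hE, Matrix.det_one]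
    rw [← map_one (Ideal.Quotient.mk J), Ideal.Quotient.eq] at h
    have := Ideal.mem_jacobson_bot.mp h 1
    rwa [mul_one, sub_add_cancel] at this
  let α : (Fin n → R) →ₗ[R] P := Fintype.linearCombination R v
  let β : P →ₗ[R] (Fin n → R) := LinearMap.pi g
  have hαβ : ∀ a, β (α a) = E.mulVec a := fun a => by
    funext i
    simp [α, β, E, Fintype.linearCombination_apply, Matrix.mulVec, dotProduct, mul_comm, map_sum]
  have hinj : Function.Injective α := fun a a' h => by
    have := congrArg β h
    rw [hαβ, hαβ] at this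
    exact Matrix.mulVec_injective_of_isUnit ((Matrix.isUnit_iff_isUnit_det E).mpr hdet) this
  let ρ : P →ₗ[R] P := α ∘ₗ (Matrix.toLin' E⁻¹) ∘ₗ β
  have hρ : ∀ a, ρ (α a) = α a := fun a => by
    simp only [ρ, LinearMap.comp_apply, hαβ, Matrix.toLin'_apply, Matrix.mulVec_mulVec,
      Matrix.nonsing_inv_mul E hdet, Matrix.one_mulVec]
  let ρ' : P →ₗ[R] LinearMap.range α := ρ.codRestrict _ fun p => ⟨_, rfl⟩
  refine ⟨LinearMap.range α, LinearMap.ker ρ', LinearMap.isCompl_of_proj ?_, inferInstance,
    Module.Free.of_equiv (LinearEquiv.ofInjective α hinj), ⟨fun k => f k s, ?_⟩⟩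
  · rintro ⟨_, a, rfl⟩
    exact Subtype.ext (hρ a)
  · rw [Fintype.linearCombination_apply]; exact hv

end Groth.Agent.H1CAlg.BigProjective
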