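import Mathlib.CategoryTheory.Limits.Types.Filtered
import Mathlib.Algebra.Category.ModuleCat.Colimits
import Mathlib.Algebra.Module.FinitePresentation
import Mathlib.CategoryTheory.Limits.Preserves.Filtered

/-!
# Modules `N` for which `Hom(N, -)` commutes with filtered colimits
-/

set_option autoImplicit false

open CategoryTheory CategoryTheory.Limits Opposite

universe u

namespace Groth.Agent.H1CAlg.CompactModule

variable {R : Type u} [CommRing R] {M : Type u} [AddCommGroup M] [Module R M]

/-- Finitely generated submodules of a given submodule. -/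
abbrev FGSub (K : Submodule R M) : Type u := {S : Submodule R M // S.FG ∧ S ≤ K}

instance (K : Submodule R M) : Nonempty (FGSub K) := ⟨⟨⊥, Submodule.fg_bot, bot_le⟩⟩

instance (K : Submodule R M) : IsDirectedOrder (FGSub K) :=
  ⟨fun S T => ⟨⟨S.1 ⊔ T.1, S.2.1.sup T.2.1, sup_le S.2.2 T.2.2⟩,
    show S.1 ≤ S.1 ⊔ T.1 from le_sup_left, show T.1 ≤ S.1 ⊔ T.1 from le_sup_right⟩⟩

/-- The quotients by finitely generated submodules of `K`. -/
noncomputable def diagram (K : Submodule R M) : FGSub K ⥤ ModuleCat.{u} R where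
  obj S := ModuleCat.of R (M ⧸ S.1)
  map {S T} h := ModuleCat.ofHom (Submodule.factor (show S.1 ≤ T.1 from leOfHom h))
  map_id S := by
    refine ModuleCat.hom_ext (LinearMap.ext fun x => ?_)
    obtain ⟨x, rfl⟩ := Submodule.Quotient.mk_surjective _ x
    rfl
  map_comp {S T U} f g := by
    refine ModuleCat.hom_ext (LinearMap.ext fun x => ?_)
    obtain ⟨x, rfl⟩ := Submodule.Quotient.mk_surjective _ x
    rfl

theorem post_apply {J : Type u} [SmallCategory J] (F : J ⥤ ModuleCat.{u} R) (N : ModuleCat.{u} R) (j : J)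
    (φ : N ⟶ F.obj j) :
    colimit.post F (coyoneda.obj (op N)) (colimit.ι (F ⋙ coyoneda.obj (op N)) j φ) = φ ≫ colimit.ι F j :=
  ConcreteCategory.congr_hom (colimit.ι_post F (coyoneda.obj (op N)) j) φ

/-- The cocone map from the first stage to the colimit kills `K`. -/
theorem colimit_ι_eq_zero (K : Submodule R M) (S : FGSub K) {x : M} (hx : x ∈ K) :
    colimit.ι (diagram K) S (Submodule.Quotient.mk x) = 0 := by
  let T : FGSub K := ⟨S.1 ⊔ Submodule.span R {x}, S.2.1.sup (Submodule.fg_span_singleton x),
    sup_le S.2.2 ((Submodule.span_singleton_le_iff_mem _ _).mpr hx)⟩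
  have hST : S ≤ T := show S.1 ≤ T.1 from le_sup_left
  rw [← colimit.w (diagram K) (homOfLE hST)]
  have h0 : (diagram K).map (homOfLE hST) (Submodule.Quotient.mk x) = 0 :=
    (Submodule.Quotient.mk_eq_zero T.1).mpr (Submodule.mem_sup_right (Submodule.mem_span_singleton_self x))
  rw [ModuleCat.comp_apply, h0, map_zero]

end Groth.Agent.H1CAlg.CompactModule
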