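import Mathlib.RingTheory.AdicCompletion.Functoriality
import Mathlib.RingTheory.Filtration
import Mathlib.RingTheory.Flat.EquationalCriterion

/-!
# Completions of free modules over Noetherian rings
-/

set_option autoImplicit false

universe u

open AdicCompletion

namespace Groth.Agent.H1CAlg.CompletionFree

variable {R : Type u} [CommRing R]

theorem mem_smul_top_finsupp {α : Type u} (J : Ideal R) (v : α →₀ R) :
    v ∈ J • (⊤ : Submodule R (α →₀ R)) ↔ ∀ a, v a ∈ J := by
  constructor
  · intro hv a
    have h := Submodule.mem_map_of_mem (f := (Finsupp.lapply a : (α →₀ R) →ₗ[R] R)) hv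
    rw [Submodule.map_smul''] at h
    exact (Ideal.mul_top J).le (Submodule.smul_mono le_rfl le_top h)
  · intro h
    rw [← Finsupp.sum_single v]
    refine Submodule.sum_mem _ fun a _ => ?_
    rw [show Finsupp.single a (v a) = v a • Finsupp.single a (1 : R) by rw [Finsupp.smul_single, smul_eq_mul, mul_one]]
    exact Submodule.smul_mem_smul (h a) trivial

theorem mem_smul_top_fin {n : ℕ} (J : Ideal R) (v : Fin n → R) :
    v ∈ J • (⊤ : Submodule R (Fin n → R)) ↔ ∀ i, v i ∈ J := by
  constructor
  · intro hv i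
    have h := Submodule.mem_map_of_mem (f := (LinearMap.proj i : (Fin n → R) →ₗ[R] R)) hv
    rw [Submodule.map_smul''] at h
    exact (Ideal.mul_top J).le (Submodule.smul_mono le_rfl le_top h)
  · intro h
    rw [← (Pi.basisFun R (Fin n)).sum_repr v]
    exact Submodule.sum_mem _ fun i _ => Submodule.smul_mem_smul (by simpa using h i) trivial

variable [IsNoetherianRing R] (I : Ideal R)

/-- Artin–Rees for a map between finite free modules, in coordinates. -/
theorem exists_artinRees {m n : ℕ} (a : Fin m → Fin n → R) :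
    ∃ c : ℕ, ∀ (k : ℕ) (u : Fin n → R), u ∈ LinearMap.range (Fintype.linearCombination R a) → (∀ i, u i ∈ I ^ k) →
      ∃ w : Fin m → R, (∀ l, w l ∈ I ^ (k - c)) ∧ Fintype.linearCombination R a w = u := by
  obtain ⟨c, hc⟩ := I.exists_pow_inf_eq_pow_smul (M := Fin n → R) (LinearMap.range (Fintype.linearCombination R a))
  refine ⟨c, fun k u hu hk => ?_⟩
  have hsub : u ∈ I ^ (k - c) • LinearMap.range (Fintype.linearCombination R a) := by
    rcases le_or_gt c k with hck | hck
    · exact Submodule.smul_mono le_rfl inf_le_right ((hc k hck).le ⟨(mem_smul_top_fin _ u).mpr hk, hu⟩)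
    · rw [Nat.sub_eq_zero_of_le hck.le, pow_zero, Ideal.one_eq_top, Submodule.top_smul]
      exact hu
  rw [← Submodule.map_top, ← Submodule.map_smul''] at hsub
  obtain ⟨w, hw, hwu⟩ := hsub
  exact ⟨w, (mem_smul_top_fin _ w).mp hw, hwu⟩

variable {α : Type u}

/-- Coordinatewise lifting along a map of finite free modules. -/
theorem exists_lift {m n : ℕ} (a : Fin m → Fin n → R) {c : ℕ}
    (hc : ∀ (k : ℕ) (u : Fin n → R), u ∈ LinearMap.range (Fintype.linearCombination R a) → (∀ i, u i ∈ I ^ k) →
      ∃ w : Fin m → R, (∀ l, w l ∈ I ^ (k - c)) ∧ Fintype.linearCombination R a w = u)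
    (k : ℕ) (v : Fin n → (α →₀ R)) (hv : ∀ b, (fun i => v i b) ∈ LinearMap.range (Fintype.linearCombination R a))
    (hk : ∀ i, v i ∈ I ^ k • (⊤ : Submodule R (α →₀ R))) :
    ∃ w : Fin m → (α →₀ R), (∀ l, w l ∈ I ^ (k - c) • (⊤ : Submodule R (α →₀ R))) ∧ ∀ i, v i = ∑ l, a l i • w l := by
  classical
  choose w hw hwv using fun b => hc k _ (hv b) fun i => (mem_smul_top_finsupp _ _).mp (hk i) b
  let S := Finset.univ.biUnion fun i => (v i).support
  let w' : Fin m → (α →₀ R) := fun l => Finsupp.onFinset S (fun b => if b ∈ S then w b l else 0)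
    (fun b hb => by by_contra h; exact hb (if_neg h))
  refine ⟨w', fun l => (mem_smul_top_finsupp _ _).mpr fun b => ?_, fun i => ?_⟩
  · show (if b ∈ S then w b l else 0) ∈ _
    split
    · exact hw b l
    · exact zero_mem _
  · ext b
    rw [Finsupp.finset_sum_apply]
    simp only [Finsupp.smul_apply, w', Finsupp.onFinset_apply, smul_eq_mul]
    by_cases hb : b ∈ S
    · simp only [if_pos hb]
      have h := congrFun (hwv b) i
      rw [Fintype.linearCombination_apply, Finset.sum_apply] at h
      rw [← h]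
      exact Finset.sum_congr rfl fun l _ => by rw [Pi.smul_apply, smul_eq_mul, mul_comm]
    · simp only [if_neg hb, mul_zero, Finset.sum_const_zero]
      by_contra h0
      exact hb (Finset.mem_biUnion.mpr ⟨i, Finset.mem_univ _, Finsupp.mem_support_iff.mpr h0⟩)

/-- A vector of elements of the completion which at every level lies coordinatewise in the range of a map of
finite free modules is the image of a vector of elements of the completion. -/
theorem exists_preimage {m n : ℕ} (a : Fin m → Fin n → R) (x : Fin n → AdicCompletion I (α →₀ R))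
    (X : Fin n → AdicCauchySequence I (α →₀ R)) (hX : ∀ i, AdicCompletion.mk I _ (X i) = x i)
    (h : ∀ k, ∃ v : Fin n → (α →₀ R), (∀ b, (fun i => v i b) ∈ LinearMap.range (Fintype.linearCombination R a)) ∧
      ∀ i, v i - (X i).1 k ∈ I ^ k • (⊤ : Submodule R (α →₀ R))) :
    ∃ y : Fin m → AdicCompletion I (α →₀ R), ∀ i, x i = ∑ l, a l i • y l := by
  classical
  obtain ⟨c, hc⟩ := exists_artinRees I a
  choose v hv hvX using h
  have hXX : ∀ i j k, j ≤ k → (X i).1 j - (X i).1 k ∈ I ^ j • (⊤ : Submodule R (α →₀ R)) :=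
    fun i j k hjk => SModEq.sub_mem.mp ((X i).2 hjk)
  have hdiff : ∀ k i, v (k + 1) i - v k i ∈ I ^ k • (⊤ : Submodule R (α →₀ R)) := by
    intro k i
    have h1 : v (k + 1) i - (X i).1 (k + 1) ∈ I ^ k • (⊤ : Submodule R (α →₀ R)) :=
      Submodule.smul_mono (Ideal.pow_le_pow_right k.le_succ) le_rfl (hvX (k + 1) i)
    have h2 := sub_mem h1 (add_mem (hvX k i) (hXX i k (k + 1) k.le_succ))
    rwa [show v (k + 1) i - (X i).1 (k + 1) - (v k i - (X i).1 k + ((X i).1 k - (X i).1 (k + 1))) = v (k + 1) i - v k i by abel] at h2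
  obtain ⟨w₀, -, hw₀⟩ := exists_lift I a hc 0 (v 0) (hv 0) fun i => by
    rw [pow_zero, Ideal.one_eq_top, Submodule.top_smul]; trivial
  choose δ hδmem hδ using fun k => exists_lift I a hc k (fun i => v (k + 1) i - v k i)
    (fun b => sub_mem (hv (k + 1) b) (hv k b)) (hdiff k)
  let Y : Fin m → ℕ → (α →₀ R) := fun l k => w₀ l + ∑ j ∈ Finset.range k, δ j l
  have hY : ∀ k i, v k i = ∑ l, a l i • Y l k := by
    intro k
    induction k with
    | zero => intro i; simpa [Y] using hw₀ i
    | succ k ih =>
      intro i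
      have h1 := hδ k i
      simp only [Y, Finset.sum_range_succ, ← add_assoc] at ih ⊢
      simp only [smul_add, Finset.sum_add_distrib] at ih ⊢
      rw [← ih i, ← h1, add_sub_cancel]
  let Z : Fin m → AdicCauchySequence I (α →₀ R) := fun l =>
    AdicCauchySequence.mk I _ (fun k => Y l (k + c)) fun k => by
      rw [SModEq.sub_mem, show k + 1 + c = k + c + 1 by omega]
      simp only [Y, Finset.sum_range_succ]
      rw [← neg_mem_iff]
      have h := hδmem (k + c) l
      rw [Nat.add_sub_cancel] at h
      convert h using 1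
      abel
  refine ⟨fun l => AdicCompletion.mk I _ (Z l), fun i => ?_⟩
  rw [← hX i]
  refine AdicCompletion.ext fun k => ?_
  simp only [← map_smul, ← map_sum]
  refine (Submodule.Quotient.eq _).mpr ?_
  have hval : (∑ l, a l i • Z l : AdicCauchySequence I (α →₀ R)).1 k = v (k + c) i := by
    rw [hY (k + c) i]
    change (AdicCauchySequence.submodule I (α →₀ R)).subtype (∑ l, a l i • Z l) k = _
    rw [map_sum, Finset.sum_apply]
    rfl
  rw [hval, ← neg_mem_iff, neg_sub]
  have h1 : v (k + c) i - (X i).1 (k + c) ∈ I ^ k • (⊤ : Submodule R (α →₀ R)) :=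
    Submodule.smul_mono (Ideal.pow_le_pow_right (Nat.le_add_right k c)) le_rfl (hvX (k + c) i)
  have h2 := sub_mem h1 (hXX i k (k + c) (Nat.le_add_right k c))
  rwa [show v (k + c) i - (X i).1 (k + c) - ((X i).1 k - (X i).1 (k + c)) = v (k + c) i - (X i).1 k by abel] at h2

theorem flat (I : Ideal R) (α : Type u) : Module.Flat R (AdicCompletion I (α →₀ R)) := by
  classical
  refine Module.Flat.iff_forall_isTrivialRelation.mpr fun {l f x} hfx => ?_
  let φ := Fintype.linearCombination R f
  obtain ⟨m, a, ha⟩ := Submodule.fg_iff_exists_fin_generating_family.mp (IsNoetherian.noetherian (LinearMap.ker φ))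
  have hrange : LinearMap.range (Fintype.linearCombination R a) = LinearMap.ker φ := by
    rw [Fintype.range_linearCombination, ha]
  choose X hX using fun i => AdicCompletion.mk_surjective I (α →₀ R) (x i)
  -- Artin–Rees for `φ`
  obtain ⟨c, hc⟩ := exists_artinRees I (fun i => fun _ : Fin 1 => f i)
  have hlevel : ∀ k, ∃ v : Fin l → (α →₀ R), (∀ b, (fun i => v i b) ∈ LinearMap.range (Fintype.linearCombination R a)) ∧
      ∀ i, v i - (X i).1 k ∈ I ^ k • (⊤ : Submodule R (α →₀ R)) := by
    intro k
    have h0 : ∑ i, f i • (X i).1 (k + c) ∈ I ^ (k + c) • (⊤ : Submodule R (α →₀ R)) := by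
      have h1 := congrArg (AdicCompletion.eval I (α →₀ R) (k + c)) hfx
      rw [map_sum, _root_.map_zero] at h1
      simp only [map_smul, ← hX] at h1
      rw [← Submodule.Quotient.mk_eq_zero, ← Submodule.mkQ_apply, map_sum]
      simp only [map_smul]
      exact h1
    obtain ⟨w, hw, hwv⟩ := exists_lift I (fun i => fun _ : Fin 1 => f i) hc (k + c)
      (fun _ : Fin 1 => ∑ i, f i • (X i).1 (k + c))
      (fun b => ⟨fun i => (X i).1 (k + c) b, funext fun _ => by
        rw [Fintype.linearCombination_apply, Finset.sum_apply, Finsupp.finset_sum_apply]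
        exact Finset.sum_congr rfl fun i _ => by
          rw [Pi.smul_apply, Finsupp.smul_apply, smul_eq_mul, smul_eq_mul, mul_comm]⟩) fun _ => h0
    refine ⟨fun i => (X i).1 (k + c) - w i, fun b => ?_, fun i => ?_⟩
    · rw [hrange, LinearMap.mem_ker, Fintype.linearCombination_apply]
      have h2 := congrArg (fun g => g b) (hwv 0)
      simp only [Finsupp.finset_sum_apply, Finsupp.smul_apply, smul_eq_mul] at h2
      simp only [Finsupp.sub_apply, smul_eq_mul, sub_mul, Finset.sum_sub_distrib]
      rw [sub_eq_zero]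
      exact (Finset.sum_congr rfl fun i _ => mul_comm _ _).trans (h2.trans (Finset.sum_congr rfl fun i _ => mul_comm _ _))
    · have h3 := hw i
      rw [Nat.add_sub_cancel] at h3
      have h4 := SModEq.sub_mem.mp ((X i).2 (Nat.le_add_right k c))
      have h5 := neg_mem (add_mem h3 h4)
      rwa [show -(w i + ((X i).1 k - (X i).1 (k + c))) = (X i).1 (k + c) - w i - (X i).1 k by abel] at h5
  obtain ⟨y, hy⟩ := exists_preimage I a x X hX hlevel
  refine ⟨m, fun i j => a j i, y, hy, fun j => ?_⟩
  have hj : a j ∈ LinearMap.ker φ := ha ▸ Submodule.subset_span ⟨j, rfl⟩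
  rw [LinearMap.mem_ker, Fintype.linearCombination_apply] at hj
  rw [← hj]
  exact Finset.sum_congr rfl fun i _ => by rw [smul_eq_mul, mul_comm]

end Groth.Agent.H1CAlg.CompletionFree
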