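import Groth.Prelude.Def_CycDet
import Mathlib

/-! Symbols of admissible tuples generate a space of dimension at most one. -/

set_option autoImplicit false
universe u v

namespace Groth.Agent.H1CAlg.CycSym

open IsLocalRing CycDet

variable {R : Type u} [CommRing R] [IsLocalRing R] {M : Type v} [AddCommGroup M] [Module R M]

theorem mem_spanBefore {l : ℕ} (e : Fin l → M) {i : ℕ} {a : Fin l} (ha : (a : ℕ) < i) :
    e a ∈ spanBefore R M e i := Submodule.subset_span ⟨a, ha, rfl⟩

theorem spanBefore_mono {l : ℕ} (e : Fin l → M) {i j : ℕ} (h : i ≤ j) :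
    spanBefore R M e i ≤ spanBefore R M e j :=
  Submodule.span_mono (Set.image_mono fun _ hx => lt_of_lt_of_le hx h)

theorem spanBefore_succ {l : ℕ} (e : Fin l → M) (a : Fin l) :
    spanBefore R M e ((a : ℕ) + 1) = spanBefore R M e a ⊔ Submodule.span R {e a} := by
  rw [spanBefore, spanBefore, ← Submodule.span_union, ← Set.image_singleton, ← Set.image_union]
  congr 2
  ext j
  simp only [Set.mem_setOf_eq, Set.mem_union, Set.mem_singleton_iff, Fin.ext_iff]
  omega

theorem spanBefore_congr {l : ℕ} {e e' : Fin l → M} {i : ℕ} (h : ∀ a : Fin l, (a : ℕ) < i → e a = e' a) :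
    spanBefore R M e i = spanBefore R M e' i :=
  congrArg _ (Set.image_congr fun a ha => h a ha)

theorem spanBefore_of_le {l : ℕ} (e : Fin l → M) {i : ℕ} (h : l ≤ i) :
    spanBefore R M e i = Submodule.span R (Set.range e) := by
  rw [spanBefore, ← Set.image_univ]
  congr 2
  exact Set.eq_univ_of_forall fun a => lt_of_lt_of_le a.2 h

/-- No entry lies in the span of the earlier ones. -/
def NonDeg {l : ℕ} (e : Fin l → M) : Prop := ∀ i : Fin l, e i ∉ spanBefore R M e i

theorem smul_unit_of_notMem {P : Submodule R M} {x : M} (hx : ∀ r ∈ maximalIdeal R, r • x ∈ P) {r : R}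
    (h : r • x ∉ P) : IsUnit r := by
  by_contra hr
  exact h (hx r ((mem_maximalIdeal r).2 hr))

theorem covBy_sup_span {P : Submodule R M} {x : M} (hx : ∀ r ∈ maximalIdeal R, r • x ∈ P) (h : x ∉ P) :
    P ⋖ P ⊔ Submodule.span R {x} := by
  refine ⟨lt_of_le_of_ne le_sup_left fun e => h (e ▸ Submodule.mem_sup_right (Submodule.mem_span_singleton_self x)),
    fun N hPN hN => ?_⟩
  obtain ⟨y, hyN, hyP⟩ := SetLike.exists_of_lt hPN
  obtain ⟨p, hp, q, hq, rfl⟩ := Submodule.mem_sup.1 (hN.le hyN)
  obtain ⟨r, rfl⟩ := Submodule.mem_span_singleton.1 hq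
  obtain ⟨u, rfl⟩ := smul_unit_of_notMem hx (r := r) (fun h' => hyP (add_mem hp h'))
  have hxN : (u : R) • x ∈ N := by
    have := sub_mem hyN (hPN.le hp)
    rwa [add_sub_cancel_left] at this
  refine hN.not_ge (sup_le hPN.le ((Submodule.span_singleton_le_iff_mem _ _).2 ?_))
  exact (Submodule.smul_mem_iff_of_isUnit _ u.isUnit).1 hxN

theorem height_spanBefore {l : ℕ} (e : Adm R M l) (he : NonDeg (R := R) e.1) :
    ∀ i : ℕ, i ≤ l → (i : ℕ∞) ≤ Order.height (spanBefore R M e.1 i) := by
  intro i hi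
  induction i with
  | zero => exact zero_le'
  | succ i ih =>
    have hc := covBy_sup_span (e.2 ⟨i, hi⟩) (he ⟨i, hi⟩)
    have h2 := spanBefore_succ (R := R) e.1 ⟨i, hi⟩
    rw [← h2] at hc
    refine le_trans ?_ (Order.height_add_one_le hc.lt)
    exact_mod_cast add_le_add (ih (Nat.le_of_succ_le hi)) le_rfl

theorem span_eq_top_of_nonDeg [IsArtinian R M] [IsNoetherian R M] {l : ℕ}
    (hl : (l : ℕ∞) = Module.length R M) (e : Adm R M l) (he : NonDeg (R := R) e.1) :
    spanBefore R M e.1 l = ⊤ := by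
  by_contra h
  have h1 := Submodule.height_strictMono (R := R) (M := M) (lt_top_iff_ne_top.2 h)
  rw [← Module.length_eq_height, ← hl] at h1
  exact absurd (height_spanBefore e he l le_rfl) (not_le.2 h1)

/-- The class of a tuple. -/
noncomputable def cls {l : ℕ} (e : Adm R M l) : DetOfLen R M l := Submodule.Quotient.mk (sym R M e)

theorem cls_eq_zero {l : ℕ} {e : Adm R M l} (h : ¬ NonDeg (R := R) e.1) : cls e = 0 := by
  simp only [NonDeg, not_forall, not_not] at h
  obtain ⟨a, ha⟩ := h
  exact (Submodule.Quotient.mk_eq_zero _).2 (Submodule.subset_span (Or.inl (Or.inl ⟨e, a, ha, rfl⟩)))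

theorem cls_change {l : ℕ} {e e' : Adm R M l} {a : Fin l} {c : Rˣ} (h : ∀ j, j ≠ a → e.1 j = e'.1 j)
    (h' : e.1 a - (c : R) • e'.1 a ∈ spanBefore R M e.1 a) :
    cls e = residue R (c : R) • cls e' :=
  (Submodule.Quotient.eq _).2 (Submodule.subset_span (Or.inl (Or.inr ⟨e, e', a, c, h, h', rfl⟩)))

theorem cls_swap {l : ℕ} {e e' : Adm R M l} {a b : Fin l} (hab : (b : ℕ) + 1 = a)
    (h : ∀ r ∈ maximalIdeal R, r • e.1 a ∈ spanBefore R M e.1 b) (h' : e'.1 = e.1 ∘ Equiv.swap a b) :
    cls e = -cls e' :=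
  eq_neg_of_add_eq_zero_left
    ((Submodule.Quotient.mk_eq_zero _).2 (Submodule.subset_span (Or.inr ⟨e, e', a, b, hab, h, h', rfl⟩)))

/-- Swapping two adjacent entries preserves admissibility. -/
theorem admissible_swap {l : ℕ} (e : Adm R M l) {a b : Fin l} (hab : (b : ℕ) + 1 = a)
    (h : ∀ r ∈ maximalIdeal R, r • e.1 a ∈ spanBefore R M e.1 b) :
    IsAdmissible R M (e.1 ∘ Equiv.swap a b) := by
  have hsame : ∀ j : Fin l, (j : ℕ) < b → (e.1 ∘ Equiv.swap a b) j = e.1 j := fun j hj => by
    rw [Function.comp_apply, Equiv.swap_apply_of_ne_of_ne] <;> intro hh <;> subst hh <;> omega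
  intro i r hr
  by_cases hib : i = b
  · subst hib
    rw [spanBefore_congr hsame, Function.comp_apply, Equiv.swap_apply_right]
    exact h r hr
  by_cases hia : i = a
  · subst hia
    rw [Function.comp_apply, Equiv.swap_apply_left]
    refine spanBefore_mono _ (i := (b : ℕ)) (by omega) ?_
    rw [spanBefore_congr hsame]
    exact e.2 b r hr
  rw [Function.comp_apply, Equiv.swap_apply_of_ne_of_ne hia hib]
  suffices heq : spanBefore R M (e.1 ∘ Equiv.swap a b) i = spanBefore R M e.1 i by
    rw [heq]; exact e.2 i r hr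
  rw [spanBefore, spanBefore, Set.image_comp]
  congr 2
  rcases lt_or_ge (i : ℕ) b with hlt | hge
  · ext j
    simp only [Set.mem_setOf_eq, Set.mem_image]
    refine ⟨?_, fun hj => ⟨j, hj, Equiv.swap_apply_of_ne_of_ne ?_ ?_⟩⟩
    · rintro ⟨k, hk, rfl⟩
      rwa [Equiv.swap_apply_of_ne_of_ne] <;> intro hh <;> subst hh <;> omega
    · intro hh; subst hh; omega
    · intro hh; subst hh; omega
  · have hi : (a : ℕ) < i := by
      have h1 : (i : ℕ) ≠ b := fun hh => hib (Fin.ext hh)
      have h2 : (i : ℕ) ≠ a := fun hh => hia (Fin.ext hh)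
      omega
    ext j
    simp only [Set.mem_setOf_eq, Set.mem_image]
    have key : ∀ k : Fin l, (k : ℕ) < i → ((Equiv.swap a b k : Fin l) : ℕ) < i := fun k hk => by
      rw [Equiv.swap_apply_def]; split_ifs <;> omega
    exact ⟨by rintro ⟨k, hk, rfl⟩; exact key k hk, fun hj => ⟨_, key j hj, Equiv.swap_apply_self _ _ _⟩⟩

/-- An element can be moved into position `j`. -/
theorem exists_move {l : ℕ} {j : ℕ} (x : M) :
    ∀ (n : ℕ) (e : Adm R M l) (k : Fin l), (k : ℕ) = j + n →
      (∀ r ∈ maximalIdeal R, r • x ∈ spanBefore R M e.1 j) → e.1 k = x →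
      ∃ e' : Adm R M l, (∀ i : Fin l, (i : ℕ) < j → e'.1 i = e.1 i) ∧
        (∀ i : Fin l, (i : ℕ) = j → e'.1 i = x) ∧
        cls e ∈ Submodule.span (ResidueField R) {cls e'}
  | 0, e, k, hk, _, hek => ⟨e, fun _ _ => rfl, fun i hi => by rw [show i = k from Fin.ext (by omega), hek],
      Submodule.mem_span_singleton_self _⟩
  | n + 1, e, k, hk, hx, hek => by
    let b : Fin l := ⟨j + n, by omega⟩
    have hb : (b : ℕ) + 1 = k := hk.symm
    have h : ∀ r ∈ maximalIdeal R, r • e.1 k ∈ spanBefore R M e.1 b := fun r hr =>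
      spanBefore_mono _ (Nat.le_add_right j n) (hek ▸ hx r hr)
    let e₁ : Adm R M l := ⟨_, admissible_swap e hb h⟩
    have h1 : ∀ i : Fin l, (i : ℕ) < j → e₁.1 i = e.1 i := fun i hi => by
      show e.1 (Equiv.swap k b i) = _
      rw [Equiv.swap_apply_of_ne_of_ne] <;> intro hh <;> subst hh
      · omega
      · simp only [b] at hi; omega
    obtain ⟨e', he', hex, hspan⟩ := exists_move x n e₁ b rfl
      (fun r hr => by rw [spanBefore_congr h1]; exact hx r hr)
      (by show e.1 (Equiv.swap k b b) = x; rw [Equiv.swap_apply_right, hek])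
    refine ⟨e', fun i hi => (he' i hi).trans (h1 i hi), hex, ?_⟩
    rw [cls_swap hb h (e' := e₁) rfl]
    exact neg_mem hspan

theorem exists_replace {l : ℕ} (e : Adm R M l) (k : Fin l) {x : M}
    (hxm : ∀ r ∈ maximalIdeal R, r • x ∈ spanBefore R M e.1 k)
    (hx : x ∈ spanBefore R M e.1 ((k : ℕ) + 1)) (hx' : x ∉ spanBefore R M e.1 k) :
    ∃ e' : Adm R M l, (∀ i : Fin l, (i : ℕ) < k → e'.1 i = e.1 i) ∧ e'.1 k = x ∧
      cls e ∈ Submodule.span (ResidueField R) {cls e'} := by
  classical
  rw [spanBefore_succ, Submodule.mem_sup] at hx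
  obtain ⟨p, hp, q, hq, rfl⟩ := hx
  obtain ⟨r, rfl⟩ := Submodule.mem_span_singleton.1 hq
  obtain ⟨u, rfl⟩ := smul_unit_of_notMem (e.2 k) (r := r) (fun h' => hx' (add_mem hp h'))
  have hlt : ∀ i : Fin l, (i : ℕ) < k → Function.update e.1 k (p + (u : R) • e.1 k) i = e.1 i :=
    fun i hi => Function.update_of_ne (fun hh => by rw [hh] at hi; omega) _ _
  have hle : ∀ i : Fin l, spanBefore R M e.1 i ≤ spanBefore R M (Function.update e.1 k (p + (u : R) • e.1 k)) i := by
    intro i
    refine Submodule.span_le.2 ?_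
    rintro _ ⟨j, hj, rfl⟩
    by_cases hjk : j = k
    · rw [hjk] at hj ⊢
      have h1 : e.1 k = (↑u⁻¹ : R) • ((p + (u : R) • e.1 k) - p) := by
        rw [add_sub_cancel_left, smul_smul, Units.inv_mul, one_smul]
      refine (congrArg (· ∈ (spanBefore R M (Function.update e.1 k (p + (u : R) • e.1 k)) i : Set M)) h1).mpr
        (Submodule.smul_mem _ _ (sub_mem (Submodule.subset_span ⟨k, hj, Function.update_self _ _ _⟩) ?_))
      refine spanBefore_mono _ (le_of_lt (show (k : ℕ) < i from hj)) ?_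
      rw [spanBefore_congr hlt]
      exact hp
    · exact Submodule.subset_span ⟨j, hj, Function.update_of_ne hjk _ _⟩
  have hadm : IsAdmissible R M (Function.update e.1 k (p + (u : R) • e.1 k)) := by
    intro i r hr
    by_cases hik : i = k
    · subst hik
      rw [Function.update_self, spanBefore_congr hlt]
      exact hxm r hr
    · rw [Function.update_of_ne hik]
      exact hle i (e.2 i r hr)
  refine ⟨⟨_, hadm⟩, hlt, Function.update_self _ _ _, ?_⟩
  rw [cls_change (e' := ⟨_, hadm⟩) (a := k) (c := u⁻¹) (fun j hj => (Function.update_of_ne hj _ _).symm) (by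
    show e.1 k - (↑u⁻¹ : R) • Function.update e.1 k (p + (u : R) • e.1 k) k ∈ _
    rw [Function.update_self, smul_add, smul_smul, Units.inv_mul, one_smul, sub_add_cancel_right]
    exact neg_mem (Submodule.smul_mem _ _ hp))]
  exact Submodule.smul_mem _ _ (Submodule.mem_span_singleton_self _)

variable [IsArtinian R M] [IsNoetherian R M]

theorem cls_mem_span {l : ℕ} (hl : (l : ℕ∞) = Module.length R M) (f : Adm R M l)
    (hf : NonDeg (R := R) f.1) :
    ∀ (n j : ℕ), j + n = l → ∀ e : Adm R M l, (∀ i : Fin l, (i : ℕ) < j → e.1 i = f.1 i) →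
      cls e ∈ Submodule.span (ResidueField R) {cls f}
  | 0, j, hj, e, he => by
    rw [show e = f from Subtype.ext (funext fun i => he i (by omega))]
    exact Submodule.mem_span_singleton_self _
  | n + 1, j, hj, e, he => by
    classical
    by_cases hd : NonDeg (R := R) e.1
    swap
    · rw [cls_eq_zero hd]; exact zero_mem _
    have hjl : j < l := by omega
    let x := f.1 ⟨j, hjl⟩
    have hxj : x ∉ spanBefore R M e.1 j := by
      rw [spanBefore_congr he]; exact hf ⟨j, hjl⟩
    have hxm : ∀ r ∈ maximalIdeal R, r • x ∈ spanBefore R M e.1 j := by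
      rw [spanBefore_congr he]; exact f.2 ⟨j, hjl⟩
    have hex : ∃ k, x ∈ spanBefore R M e.1 (k + 1) :=
      ⟨l, spanBefore_mono _ (Nat.le_succ l) (span_eq_top_of_nonDeg hl e hd ▸ Submodule.mem_top)⟩
    let k := Nat.find hex
    have hk : x ∈ spanBefore R M e.1 (k + 1) := Nat.find_spec hex
    have hkl : k < l := by
      have : k ≤ l - 1 := Nat.find_le (by
        rw [Nat.sub_add_cancel (by omega), span_eq_top_of_nonDeg hl e hd]; exact Submodule.mem_top)
      omega
    have hjk : j ≤ k := by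
      by_contra hlt
      exact hxj (spanBefore_mono _ (by omega) hk)
    have hk' : x ∉ spanBefore R M e.1 k := by
      rcases Nat.eq_or_lt_of_le hjk with hh | hh
      · rwa [← hh]
      · have := Nat.find_min hex (show k - 1 < k by omega)
        rwa [Nat.sub_add_cancel (by omega)] at this
    obtain ⟨e₁, he₁, hx₁, hs₁⟩ := exists_replace e ⟨k, hkl⟩
      (fun r hr => spanBefore_mono _ hjk (hxm r hr)) hk hk'
    have h1 : ∀ i : Fin l, (i : ℕ) < j → e₁.1 i = e.1 i := fun i hi => he₁ i (by simp only; omega)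
    obtain ⟨e₂, he₂, hx₂, hs₂⟩ := exists_move x (k - j) e₁ ⟨k, hkl⟩ (j := j) (by simp only; omega)
      (fun r hr => by rw [spanBefore_congr h1]; exact hxm r hr) hx₁
    have h3 := cls_mem_span hl f hf n (j + 1) (by omega) e₂ (fun i hi => by
      rcases Nat.lt_succ_iff_lt_or_eq.1 hi with h | h
      · rw [he₂ i h, h1 i h, he i h]
      · rw [hx₂ i h, show i = ⟨j, hjl⟩ from Fin.ext h])
    exact (Submodule.span_le.2 (Set.singleton_subset_iff.2
      ((Submodule.span_le.2 (Set.singleton_subset_iff.2 h3)) hs₂))) hs₁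

theorem exists_generator {l : ℕ} (hl : (l : ℕ∞) = Module.length R M) :
    ∃ v₀ : DetOfLen R M l, Submodule.span (ResidueField R) {v₀} = ⊤ := by
  have hgen : Submodule.span (ResidueField R) (Set.range (cls (R := R) (M := M) (l := l))) = ⊤ := by
    rw [eq_top_iff]
    rintro x -
    obtain ⟨y, rfl⟩ := Submodule.Quotient.mk_surjective _ x
    induction y using Finsupp.induction_linear with
    | zero => exact zero_mem _
    | add a b ha hb => exact add_mem ha hb
    | single e c =>
      rw [show Finsupp.single e c = c • sym R M e by simp [sym], Submodule.Quotient.mk_smul]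
      exact Submodule.smul_mem _ _ (Submodule.subset_span ⟨e, rfl⟩)
  by_cases hex : ∃ f : Adm R M l, NonDeg (R := R) f.1
  · obtain ⟨f, hf⟩ := hex
    refine ⟨cls f, top_le_iff.1 (hgen.symm.le.trans (Submodule.span_le.2 ?_))⟩
    rintro _ ⟨e, rfl⟩
    exact cls_mem_span hl f hf l 0 (Nat.zero_add l) e fun i hi => absurd hi (Nat.not_lt_zero _)
  · refine ⟨0, top_le_iff.1 (hgen.symm.le.trans (Submodule.span_le.2 ?_))⟩
    rintro _ ⟨e, rfl⟩
    rw [cls_eq_zero fun h => hex ⟨e, h⟩]
    exact zero_mem _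

theorem rank_det_le_one : Module.rank (ResidueField R) (Det R M) ≤ 1 := by
  obtain ⟨v₀, hv⟩ := exists_generator (R := R) (M := M) (l := (Module.length R M).toNat)
    (ENat.natCast_toNat Module.length_ne_top)
  exact (rank_le_one_iff).2 ⟨v₀, fun v => Submodule.mem_span_singleton.1 (hv ▸ Submodule.mem_top)⟩

end Groth.Agent.H1CAlg.CycSym
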