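import Groth.Agent.H4Depth.SkFree

/-!
Depth and Serre conditions of Hom modules.
-/

set_option autoImplicit false
universe u

open LocCoh

namespace Groth.Agent.H1CAlg

variable {R : Type u} [CommRing R] [IsNoetherianRing R] {N : Type u} [AddCommGroup N] [Module R N] [Module.Finite R N]

theorem idealDepth_le_idealDepth_pi (I : Ideal R) : ∀ n : ℕ, idealDepth I N ≤ idealDepth I (Fin n → N)
  | 0 => le_of_le_of_eq le_top (H4Depth.idealDepth_eq_top (Subsingleton.elim _ _)).symm
  | n + 1 => by
    let f : N →ₗ[R] (Fin (n + 1) → N) := LinearMap.single R (fun _ => N) 0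
    let g : (Fin (n + 1) → N) →ₗ[R] (Fin n → N) := LinearMap.funLeft R N Fin.succ
    have hfg : Function.Exact f g := by
      intro x
      refine ⟨fun h => ⟨x 0, funext fun i => ?_⟩, ?_⟩
      · refine Fin.cases ?_ (fun j => ?_) i
        · simp [f]
        · simpa [f, g, eq_comm, Fin.succ_ne_zero] using congrFun h j
      · rintro ⟨a, rfl⟩
        funext j
        simp [f, g, Fin.succ_ne_zero]
    exact le_trans (le_min le_rfl (idealDepth_le_idealDepth_pi I n))
      (H4Depth.min_le_idealDepth_mid I (f := f) (g := g) (Pi.single_injective (M := fun _ : Fin (n + 1) => N) 0)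
        (LinearMap.funLeft_surjective_of_injective R N Fin.succ (Fin.succ_injective n)) hfg)

omit [IsNoetherianRing R] [Module.Finite R N] in
theorem support_pi_le (n : ℕ) : Module.support R (Fin n → N) ⊆ Module.support R N := by
  intro p hp
  rw [Module.mem_support_iff'] at hp ⊢
  obtain ⟨x, hx⟩ := hp
  by_contra h
  push Not at h
  choose r hr hr' using fun i => h (x i)
  refine hx (∏ i, r i) (fun hmem => ?_) (funext fun i => ?_)
  · obtain ⟨i, -, hi⟩ := p.isPrime.prod_mem_iff.mp hmem
    exact hr i hi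
  · rw [Pi.smul_apply, ← Finset.prod_erase_mul _ _ (Finset.mem_univ i), mul_smul, hr', smul_zero, Pi.zero_apply]

theorem hasSk_pi {k : ℕ} (h : HasSk k R N) (n : ℕ) : HasSk k R (Fin n → N) := by
  intro p _
  let e : LocalizedModule p.primeCompl (Fin n → N) ≃ₗ[Localization.AtPrime p]
      (Fin n → LocalizedModule p.primeCompl N) :=
    LinearEquiv.extendScalarsOfIsLocalization p.primeCompl _
      (IsLocalizedModule.linearEquiv p.primeCompl (LocalizedModule.mkLinearMap p.primeCompl (Fin n → N))
        (LinearMap.pi fun i => LocalizedModule.mkLinearMap p.primeCompl N ∘ₗ LinearMap.proj i))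
  refine le_trans ?_ (WithBot.coe_le_coe.mpr ((idealDepth_le_idealDepth_pi _ n).trans (H4Depth.depth_congr e).ge))
  exact le_trans (min_le_min le_rfl (H4Depth.supportDim_mono
    (H4Depth.support_localizedModule_subset p.primeCompl (support_pi_le n)))) (h p)

/-- `Hom(M, N)` is the kernel of a map `Nⁿ → Nᵐ⁺¹`. -/
theorem exists_hom_presentation (M : Type u) [AddCommGroup M] [Module R M] [Module.Finite R M] :
    ∃ (n m : ℕ) (f : (M →ₗ[R] N) →ₗ[R] (Fin n → N)) (g : (Fin n → N) →ₗ[R] (Fin (m + 1) → N)),
      Function.Injective f ∧ Function.Exact f g := by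
  obtain ⟨n, π, hπ⟩ := Module.Finite.exists_fin' R M
  obtain ⟨m, v, hv⟩ := Submodule.fg_iff_exists_fin_generating_family.mp
    (IsNoetherian.noetherian (LinearMap.ker π))
  let f : (M →ₗ[R] N) →ₗ[R] (Fin n → N) := LinearMap.pi fun i => LinearMap.applyₗ (π (Pi.single i 1))
  let g : (Fin n → N) →ₗ[R] (Fin (m + 1) → N) :=
    LinearMap.pi fun j => ∑ i, (Fin.cons 0 v : Fin (m + 1) → (Fin n → R)) j i • LinearMap.proj i
  refine ⟨n, m, f, g, fun φ ψ h => LinearMap.ext fun x => ?_, fun c => ⟨fun h => ?_, ?_⟩⟩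
  · obtain ⟨x, rfl⟩ := hπ x
    exact LinearMap.congr_fun (f := φ.comp π) (g := ψ.comp π)
      (LinearMap.pi_ext' fun i => LinearMap.ext_ring (congrFun h i)) x
  · let L : (Fin n → R) →ₗ[R] N := Fintype.linearCombination R c
    have hle : LinearMap.ker π ≤ LinearMap.ker L := by
      rw [← hv, Submodule.span_le]
      rintro _ ⟨j, rfl⟩
      simpa [L, g, Fintype.linearCombination_apply] using congrFun h j.succ
    refine ⟨(LinearMap.ker π).liftQ L hle ∘ₗ (π.quotKerEquivOfSurjective hπ).symm.toLinearMap, funext fun i => ?_⟩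
    show (LinearMap.ker π).liftQ L hle ((π.quotKerEquivOfSurjective hπ).symm (π (Pi.single i 1))) = c i
    rw [show (π.quotKerEquivOfSurjective hπ).symm (π (Pi.single i 1)) = Submodule.Quotient.mk (Pi.single i 1) from
      (LinearEquiv.symm_apply_eq _).mpr rfl]
    simp [L]
  · rintro ⟨φ, rfl⟩
    funext j
    have hj : π ((Fin.cons 0 v : Fin (m + 1) → (Fin n → R)) j) = 0 := by
      refine Fin.cases ?_ (fun j => ?_) j
      · simp
      · rw [Fin.cons_succ]
        exact LinearMap.mem_ker.mp (hv ▸ Submodule.subset_span ⟨j, rfl⟩)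
    generalize hw : (Fin.cons 0 v : Fin (m + 1) → (Fin n → R)) j = w at hj
    simp only [g, f, LinearMap.pi_apply, LinearMap.sum_apply, LinearMap.smul_apply, LinearMap.proj_apply,
      LinearMap.applyₗ_apply_apply, hw, ← map_smul, ← map_sum, Pi.zero_apply]
    rw [← pi_eq_sum_univ' w, hj, map_zero]

theorem one_le_idealDepth_hom (I : Ideal R) (M : Type u) [AddCommGroup M] [Module R M] [Module.Finite R M]
    (h : 1 ≤ idealDepth I N) : 1 ≤ idealDepth I (M →ₗ[R] N) := by
  obtain ⟨n, m, f, g, hf, -⟩ := exists_hom_presentation (R := R) (N := N) M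
  haveI := Module.Finite.of_injective f hf
  exact H4Depth.one_le_idealDepth_of_injective I hf (h.trans (idealDepth_le_idealDepth_pi I n))

theorem two_le_idealDepth_hom (I : Ideal R) (M : Type u) [AddCommGroup M] [Module R M] [Module.Finite R M]
    (h : 2 ≤ idealDepth I N) : 2 ≤ idealDepth I (M →ₗ[R] N) := by
  obtain ⟨n, m, f, g, hf, hfg⟩ := exists_hom_presentation (R := R) (N := N) M
  haveI := Module.Finite.of_injective f hf
  exact H4Depth.two_le_idealDepth_of_exact I hf hfg (h.trans (idealDepth_le_idealDepth_pi I n))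
    (((by norm_num : (1 : ℕ∞) ≤ 2).trans h).trans (idealDepth_le_idealDepth_pi I _))

theorem hasSk_one_hom (M : Type u) [AddCommGroup M] [Module R M] [Module.Finite R M]
    (h : HasSk 1 R N) : HasSk 1 R (M →ₗ[R] N) := by
  obtain ⟨n, m, f, g, hf, -⟩ := exists_hom_presentation (R := R) (N := N) M
  haveI := Module.Finite.of_injective f hf
  exact H4Depth.hasSk_one_of_injective hf (hasSk_pi h n)

theorem hasSk_two_hom (M : Type u) [AddCommGroup M] [Module R M] [Module.Finite R M]
    (h : HasSk 2 R N) : HasSk 2 R (M →ₗ[R] N) := by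
  obtain ⟨n, m, f, g, hf, hfg⟩ := exists_hom_presentation (R := R) (N := N) M
  haveI := Module.Finite.of_injective f hf
  refine H4Depth.hasSk_two_of_exact hf hfg ?_ (hasSk_pi (H4Depth.hasSk_mono (by norm_num) h) _) (hasSk_pi h n)
  refine (Module.support_subset_of_injective f hf).trans ((support_pi_le n).trans ?_)
  exact Module.support_subset_of_injective (LinearMap.single R (fun _ : Fin (m + 1) => N) 0)
    (Pi.single_injective (M := fun _ : Fin (m + 1) => N) 0)

end Groth.Agent.H1CAlg
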