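import Groth.Agent.H1CAlg.MittagLeffler
import Mathlib.LinearAlgebra.TensorProduct.DirectLimit

/-!
Maps from finitely presented modules into direct limits factor through a finite stage.
-/

set_option autoImplicit false
universe u

namespace Groth.Agent.H1CAlg

section
variable {R : Type u} [CommRing R] {ι : Type u} [Preorder ι] [IsDirected ι (· ≤ ·)] [Nonempty ι] [DecidableEq ι]
  {G : ι → Type u} [∀ i, AddCommGroup (G i)] [∀ i, Module R (G i)]
  {f : ∀ i j, i ≤ j → G i →ₗ[R] G j}

theorem exists_ge_of_fin_eq [DirectedSystem G fun i j h => f i j h] {i : ι} {n : ℕ} (x : Fin n → G i)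
    (hx : ∀ a, Module.DirectLimit.of R ι G f i (x a) = 0) : ∃ (j : ι) (h : i ≤ j), ∀ a, f i j h (x a) = 0 := by
  choose js hjs hz using fun a => Module.DirectLimit.of.zero_exact (hx a)
  obtain ⟨j, hj⟩ := Finite.exists_le (fun o : Option (Fin n) => o.elim i js)
  refine ⟨j, hj none, fun a => ?_⟩
  have := DirectedSystem.map_map' (f := f) (hjs a) (hj (some a)) (x a)
  rw [← this, hz a, map_zero]

/-- Equality of maps out of a finitely generated module into the limit holds at a finite stage. -/
theorem exists_ge_comp_eq [DirectedSystem G fun i j h => f i j h] {P : Type u} [AddCommGroup P] [Module R P]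
    [Module.Finite R P] {i : ι} (a b : P →ₗ[R] G i)
    (h : Module.DirectLimit.of R ι G f i ∘ₗ a = Module.DirectLimit.of R ι G f i ∘ₗ b) :
    ∃ (j : ι) (hij : i ≤ j), f i j hij ∘ₗ a = f i j hij ∘ₗ b := by
  obtain ⟨n, p, hp⟩ := Module.Finite.exists_fin' R P
  obtain ⟨j, hij, hj⟩ := exists_ge_of_fin_eq (f := f) (fun k => (a - b) (p (Pi.single k 1)))
    fun k => by
      have := LinearMap.congr_fun h (p (Pi.single k 1))
      simp only [LinearMap.comp_apply] at this
      simp [map_sub, this]
  refine ⟨j, hij, (LinearMap.cancel_right hp).mp (LinearMap.pi_ext' fun k => LinearMap.ext_ring ?_)⟩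
  have := hj k
  simp only [LinearMap.sub_apply, map_sub, sub_eq_zero] at this
  simpa using this

/-- A map from a finitely presented module into a direct limit factors through a stage. -/
theorem exists_factor_directLimit [DirectedSystem G fun i j h => f i j h] {P : Type u} [AddCommGroup P] [Module R P]
    [Module.FinitePresentation R P] (c : P →ₗ[R] Module.DirectLimit G f) :
    ∃ (i : ι) (c' : P →ₗ[R] G i), Module.DirectLimit.of R ι G f i ∘ₗ c' = c := by
  classical
  obtain ⟨n, K, e, hK⟩ := Module.FinitePresentation.exists_fin R P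
  choose ix x hx using fun k : Fin n => Module.DirectLimit.exists_of (c (e.symm (K.mkQ (Pi.single k 1))))
  obtain ⟨i, hi⟩ := Finite.exists_le ix
  let L : (Fin n → R) →ₗ[R] G i := Fintype.linearCombination R fun k => f _ _ (hi k) (x k)
  have hL : Module.DirectLimit.of R ι G f i ∘ₗ L = c ∘ₗ e.symm.toLinearMap ∘ₗ K.mkQ :=
    LinearMap.pi_ext' fun k => LinearMap.ext_ring (by simp [L, hx, Module.DirectLimit.of_f])
  obtain ⟨m, r, hr⟩ := Submodule.fg_iff_exists_fin_generating_family.mp hK
  obtain ⟨j, hij, hj⟩ := exists_ge_of_fin_eq (f := f) (fun a => L (r a)) fun a => by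
    rw [← LinearMap.comp_apply, hL]
    simp [show K.mkQ (r a) = 0 from (Submodule.Quotient.mk_eq_zero K).mpr (hr ▸ Submodule.subset_span ⟨a, rfl⟩)]
  have hK' : K ≤ LinearMap.ker (f i j hij ∘ₗ L) := by
    rw [← hr, Submodule.span_le]
    rintro _ ⟨a, rfl⟩
    exact hj a
  refine ⟨j, K.liftQ _ hK' ∘ₗ e.toLinearMap, ?_⟩
  apply (LinearMap.cancel_right e.symm.surjective).mp
  apply Submodule.linearMap_qext
  refine LinearMap.ext fun z => ?_
  have := LinearMap.congr_fun hL z
  simp only [LinearMap.comp_apply] at this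
  simp [Module.DirectLimit.of_f, this]

end

end Groth.Agent.H1CAlg
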