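import Groth.Agent.H1CAlg.ZarCover

/-!
The absolutely flat envelope of a ring inside the product of its residue fields, and the
w-localisation built from it.
-/

namespace Groth.Agent.H1CAlg.Env

universe u

variable (A : Type u) [CommRing A]

/-- The residue field at a point of the spectrum. -/
abbrev Res (p : PrimeSpectrum A) : Type u := p.asIdeal.ResidueField

/-- The product of all residue fields. -/
abbrev Big : Type u := (p : PrimeSpectrum A) → Res A p

variable {A}

/-- The pointwise quasi-inverse. -/
noncomputable def qinv (x : Big A) : Big A := fun p => (x p)⁻¹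

variable (A) in
/-- The subalgebras closed under quasi-inverses. -/
def closedSubalgebras : Set (Subalgebra A (Big A)) := {S | ∀ x ∈ S, qinv x ∈ S}

variable (A) in
/-- The absolutely flat envelope of `A`. -/
noncomputable def env : Subalgebra A (Big A) := sInf (closedSubalgebras A)

theorem qinv_mem_env {x : Big A} (hx : x ∈ env A) : qinv x ∈ env A := by
  rw [env, Algebra.mem_sInf] at hx ⊢
  exact fun S hS => hS x (hx S hS)

theorem env_le {S : Subalgebra A (Big A)} (hS : ∀ x ∈ S, qinv x ∈ S) : env A ≤ S :=
  sInf_le hS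

theorem mul_qinv_mul (x : Big A) : x * qinv x * x = x := funext fun p => by
  show x p * (x p)⁻¹ * x p = x p
  by_cases h : x p = 0 <;> simp [h]

theorem qinv_mul_qinv (x : Big A) : qinv x * x * qinv x = qinv x := funext fun p => by
  show (x p)⁻¹ * x p * (x p)⁻¹ = (x p)⁻¹
  by_cases h : x p = 0 <;> simp [h]

/-- Elements of the envelope are units times idempotents. -/
theorem exists_unit_idem (x : env A) :
    ∃ e y : env A, IsIdempotentElem e ∧ x * y = e ∧ IsNilpotent (x * (1 - e)) := by
  let y : env A := ⟨qinv x.1, qinv_mem_env x.2⟩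
  have h1 : x * y * x = x := Subtype.ext (mul_qinv_mul x.1)
  refine ⟨x * y, y, ?_, rfl, 1, ?_⟩
  · show x * y * (x * y) = x * y
    rw [← mul_assoc, h1]
  · rw [pow_one, mul_sub, mul_one, ← mul_assoc, mul_right_comm, h1, sub_self]

theorem isMaximal_of_isPrime (Q : Ideal (env A)) [hQ : Q.IsPrime] : Q.IsMaximal := by
  obtain ⟨m, hm, hle⟩ := Ideal.exists_le_maximal Q hQ.ne_top
  refine (le_antisymm hle fun x hx => ?_) ▸ hm
  obtain ⟨e, y, he, hxy, hn⟩ := exists_unit_idem x
  by_contra hxQ
  have h1 : 1 - e ∈ Q := by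
    obtain ⟨n, hn⟩ := hn
    exact (hQ.mem_or_mem (hQ.mem_of_pow_mem n (hn ▸ Q.zero_mem))).resolve_left hxQ
  haveI := hm.isPrime
  exact WLoc.notMem_of_one_sub_mem m (hle h1) (hxy ▸ m.mul_mem_right y hx)

/-- Maps from the envelope to a field are determined by their restriction to `A`. -/
theorem hom_ext {F : Type*} [Field F] [Algebra A F] (f g : env A →ₐ[A] F) : f = g := by
  let S : Subalgebra A (Big A) := (AlgHom.equalizer f g).map (env A).val
  have hS : env A ≤ S := by
    refine env_le ?_
    rintro _ ⟨x, hx, rfl⟩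
    let y : env A := ⟨qinv x.1, qinv_mem_env x.2⟩
    refine ⟨y, ?_, rfl⟩
    show f y = g y
    have hxy : x * y * x = x := Subtype.ext (mul_qinv_mul x.1)
    have hyx : y * x * y = y := Subtype.ext (qinv_mul_qinv x.1)
    have key : ∀ h : env A →ₐ[A] F, h y = (h x)⁻¹ := fun h => by
      have h1 := congrArg h hxy
      have h2 := congrArg h hyx
      rw [map_mul, map_mul] at h1 h2
      by_cases hx0 : h x = 0
      · rw [hx0] at h2 ⊢
        simpa using h2.symm
      · exact eq_inv_of_mul_eq_one_left (mul_right_cancel₀ hx0 (by rw [one_mul, mul_comm (h y)]; exact h1))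
    rw [key f, key g, show f x = g x from hx]
  refine AlgHom.ext fun x => ?_
  obtain ⟨x', hx', hxx⟩ := hS x.2
  rw [← show x' = x from Subtype.ext hxx]
  exact hx'

/-- The projection to a residue field. -/
noncomputable def pr (p : PrimeSpectrum A) : env A →ₐ[A] Res A p :=
  (Pi.evalAlgHom A (Res A) p).comp (env A).val

section Colim

open Zar (IsZarColim)

variable {H : Type u} [CommRing H] [Algebra A H] {π : H →ₐ[A] env A}

theorem surjective (hH : IsZarColim π) : Function.Surjective π := by
  let S : Subalgebra A (Big A) := π.range.map (env A).val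
  have hS : env A ≤ S := by
    refine env_le ?_
    rintro _ ⟨_, ⟨h, rfl⟩, rfl⟩
    let x : env A := π h
    let y : env A := ⟨qinv x.1, qinv_mem_env x.2⟩
    have hxy : x * y * x = x := Subtype.ext (mul_qinv_mul x.1)
    have hyx : y * x * y = y := Subtype.ext (qinv_mul_qinv x.1)
    have he : IsIdempotentElem (x * y) := by
      show x * y * (x * y) = x * y
      rw [← mul_assoc, hxy]
    obtain ⟨ε, -, hεe⟩ := hH.exists_idem_lift he
    have hu : IsUnit (h * ε + (1 - ε)) := hH.isUnit_of_isUnit (by
      rw [map_add, map_mul, map_sub, map_one, hεe]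
      refine IsUnit.of_mul_eq_one (y + (1 - x * y)) ?_
      show (x * (x * y) + (1 - x * y)) * (y + (1 - x * y)) = 1
      linear_combination (2 * y - x * y) * hxy - hyx)
    obtain ⟨v, hv⟩ := hu.exists_right_inv
    refine ⟨y, ⟨v * ε, ?_⟩, rfl⟩
    show π (v * ε) = y
    have h2 := congrArg π hv
    rw [map_mul, map_add, map_mul, map_sub, map_one, hεe] at h2
    rw [map_mul, hεe]
    change (x * (x * y) + (1 - x * y)) * π v = 1 at h2
    linear_combination y * h2 - (π v * y) * hxy + π v * hyx
  intro z
  obtain ⟨z', ⟨h, hh⟩, hz⟩ := hS z.2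
  exact ⟨h, hh.trans (Subtype.ext hz)⟩

theorem split (hH : IsZarColim π) : WLoc.Split H (RingHom.ker π) :=
  hH.split fun _ => exists_unit_idem _

theorem bijOn (hH : IsZarColim π) :
    Set.BijOn (PrimeSpectrum.comap (algebraMap A H)) (ProEtW.closedPoints (PrimeSpectrum H))
      Set.univ := by
  rw [(split hH).closedPoints_eq]
  let pt : PrimeSpectrum A → PrimeSpectrum H := fun p =>
    ⟨RingHom.ker ((pr p).comp π), RingHom.ker_isPrime _⟩
  have hpt : ∀ p, pt p ∈ PrimeSpectrum.zeroLocus (RingHom.ker π : Set H) := fun p x hx => by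
    show pr p (π x) = 0
    rw [show π x = 0 from hx, map_zero]
  have hcomap : ∀ p, PrimeSpectrum.comap (algebraMap A H) (pt p) = p := fun p => by
    refine PrimeSpectrum.ext ((Ideal.ext fun a => ?_).trans (Ideal.ker_algebraMap_residueField p.asIdeal))
    show ((pr p).comp π) (algebraMap A H a) = 0 ↔ algebraMap A (Res A p) a = 0
    rw [AlgHom.commutes]
  -- the inverse
  have huniq : ∀ x ∈ PrimeSpectrum.zeroLocus (RingHom.ker π : Set H),
      x = pt (PrimeSpectrum.comap (algebraMap A H) x) := by
    intro x hx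
    have hsurj := surjective hH
    let Q : Ideal (env A) := x.asIdeal.map π.toRingHom
    haveI hQp : Q.IsPrime := Ideal.map_isPrime_of_surjective hsurj hx
    haveI := isMaximal_of_isPrime Q
    letI := Ideal.Quotient.field Q
    have hQ : Q.comap π.toRingHom = x.asIdeal := by
      refine (Ideal.comap_map_of_surjective π.toRingHom hsurj x.asIdeal).trans ?_
      rw [sup_eq_left]
      exact hx
    let p := PrimeSpectrum.comap (algebraMap A H) x
    have hker : RingHom.ker (algebraMap A (env A ⧸ Q)) = p.asIdeal := by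
      ext a
      show Ideal.Quotient.mk Q (algebraMap A (env A) a) = 0 ↔ algebraMap A H a ∈ x.asIdeal
      rw [← hQ, Ideal.Quotient.eq_zero_iff_mem, Ideal.mem_comap, ← π.commutes]
      rfl
    let τ : Res A p →ₐ[A] env A ⧸ Q := Ideal.ResidueField.liftₐ p.asIdeal (Algebra.ofId A _)
      (fun a ha => show algebraMap A (env A ⧸ Q) a = 0 from RingHom.mem_ker.1 (hker.ge ha))
      (fun a ha => show IsUnit (algebraMap A (env A ⧸ Q) a) from
        isUnit_iff_ne_zero.2 fun h0 => ha (hker.le (RingHom.mem_ker.2 h0)))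
    have h1 : Ideal.Quotient.mkₐ A Q = τ.comp (pr p) := hom_ext _ _
    refine PrimeSpectrum.ext (hQ.symm.trans (Ideal.ext fun y => ?_))
    show π y ∈ Q ↔ pr p (π y) = 0
    rw [← Ideal.Quotient.eq_zero_iff_mem,
      show Ideal.Quotient.mk Q (π y) = τ (pr p (π y)) from DFunLike.congr_fun h1 (π y)]
    exact map_eq_zero τ
  refine ⟨fun _ _ => Set.mem_univ _, fun x hx y hy hxy => ?_, fun p _ => ⟨pt p, hpt p, hcomap p⟩⟩
  rw [huniq x hx, huniq y hy, hxy]

theorem faithfullyFlat (hH : IsZarColim π) : Module.FaithfullyFlat A H :=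
  haveI : Module.Flat A H := hH.flat
  Zar.faithfullyFlat_of_image_closedPoints (bijOn hH).image_eq

end Colim

end Groth.Agent.H1CAlg.Env
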