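import Groth.Prelude.Def_Found
import Mathlib

/-!
# Finite subalgebras become eventually bijective on reductions after a flat base change

If `A` is a domain, `B` a flat Noetherian `A`-algebra with N-2 quotients by minimal primes and
`K'` a finite extension of `Frac A`, then the reductions of `C ⊗ B`, for `C` finite over `A` with
fraction field `K'`, sit inside a finite `B`-module, so become eventually constant.
-/

set_option autoImplicit false
set_option linter.style.haveILetI false
set_option linter.unusedSectionVars false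

universe u

open TensorProduct AlgebraicGeometry

namespace Groth.Agent.H1CAlg

/-- A ring map with nilpotent `a ⊗ 1 - 1 ⊗ a` is radicial. -/
theorem universallyInjective_of_isNilpotent {R S : Type u} [CommRing R] [CommRing S] [Algebra R S]
    (h : ∀ a : S, IsNilpotent (a ⊗ₜ[R] (1 : S) - (1 : S) ⊗ₜ[R] a)) :
    UniversallyInjective (Spec.map (CommRingCat.ofHom (algebraMap R S))) := by
  rw [UniversallyInjective.iff_diagonal, diagonal_SpecMap,
    CategoryTheory.MorphismProperty.cancel_right_of_respectsIso (P := @Surjective)]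
  refine ⟨fun (p : PrimeSpectrum (S ⊗[R] S)) => ?_⟩
  let μ : S ⊗[R] S →+* S := (Algebra.TensorProduct.lmul' R (S := S)).toRingHom
  have hμ : Function.Surjective μ := fun x => ⟨x ⊗ₜ 1, by
    show Algebra.TensorProduct.lmul' R (x ⊗ₜ[R] (1 : S)) = x
    simp⟩
  have hker : RingHom.ker μ ≤ p.asIdeal := by
    show KaehlerDifferential.ideal R S ≤ p.asIdeal
    rw [← KaehlerDifferential.span_range_eq_ideal, Ideal.span_le]
    rintro _ ⟨a, rfl⟩
    have h1 : IsNilpotent ((1 : S) ⊗ₜ[R] a - a ⊗ₜ[R] (1 : S)) := by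
      rw [← neg_sub, isNilpotent_neg_iff]; exact h a
    obtain ⟨n, hn⟩ := h1
    exact p.isPrime.mem_of_pow_mem n (by rw [hn]; exact zero_mem _)
  refine ⟨⟨p.asIdeal.map μ, Ideal.map_isPrime_of_surjective hμ hker⟩, ?_⟩
  show PrimeSpectrum.comap μ ⟨p.asIdeal.map μ, Ideal.map_isPrime_of_surjective hμ hker⟩ = p
  ext1
  show (p.asIdeal.map μ).comap μ = p.asIdeal
  rw [Ideal.comap_map_of_surjective μ hμ, ← RingHom.ker_eq_comap_bot, sup_eq_left]
  exact hker

/-- Radiciality descends along a faithfully flat base change. -/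
theorem isNilpotent_of_faithfullyFlat {A B C0 C : Type u} [CommRing A] [CommRing B] [Algebra A B]
    [CommRing C0] [Algebra A C0] [CommRing C] [Algebra A C] [Algebra C0 C] [IsScalarTower A C0 C]
    [Module.FaithfullyFlat A B]
    (h : ∀ y : C ⊗[A] B, ∃ x : C0 ⊗[A] B, IsNilpotent
      (Algebra.TensorProduct.map (IsScalarTower.toAlgHom A C0 C) (AlgHom.id A B) x - y)) (a : C) :
    IsNilpotent (a ⊗ₜ[C0] (1 : C) - (1 : C) ⊗ₜ[C0] a) := by
  let iL : C →ₐ[A] C ⊗[C0] C :=
    (Algebra.TensorProduct.includeLeft (R := C0) (S := C0) (A := C) (B := C)).restrictScalars A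
  let iR : C →ₐ[A] C ⊗[C0] C :=
    (Algebra.TensorProduct.includeRight (R := C0) (A := C) (B := C)).restrictScalars A
  let l := Algebra.TensorProduct.map iL (AlgHom.id A B)
  let r := Algebra.TensorProduct.map iR (AlgHom.id A B)
  let ι := Algebra.TensorProduct.map (IsScalarTower.toAlgHom A C0 C) (AlgHom.id A B)
  have hlr' : ∀ x, l (ι x) = r (ι x) := by
    intro x
    induction x using TensorProduct.induction_on with
    | zero => simp
    | tmul c b =>
      simp only [l, r, ι, Algebra.TensorProduct.map_tmul, AlgHom.id_apply, IsScalarTower.toAlgHom_apply]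
      congr 1
      show algebraMap C0 C c ⊗ₜ[C0] (1 : C) = (1 : C) ⊗ₜ[C0] algebraMap C0 C c
      rw [Algebra.algebraMap_eq_smul_one, TensorProduct.smul_tmul]
    | add u v hu hv => simp only [map_add, hu, hv]
  obtain ⟨x, hx⟩ := h (a ⊗ₜ 1)
  have hlr := hlr' x
  have h2 : IsNilpotent (r (ι x - a ⊗ₜ 1) - l (ι x - a ⊗ₜ 1)) :=
    (Commute.all _ _).isNilpotent_sub (hx.map r) (hx.map l)
  rw [map_sub, map_sub, hlr, sub_sub_sub_cancel_left] at h2
  have h3 : l (a ⊗ₜ 1) - r (a ⊗ₜ 1) =
      Algebra.TensorProduct.includeLeft (R := A) (S := A) (B := B)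
        (a ⊗ₜ[C0] (1 : C) - (1 : C) ⊗ₜ[C0] a) := by
    rw [map_sub]
    rfl
  rw [h3] at h2
  refine (IsNilpotent.map_iff ?_).1 h2
  intro u v huv
  apply Module.FaithfullyFlat.tensorProduct_mk_injective (A := A) (B := B) (C ⊗[C0] C)
  exact (TensorProduct.comm A (C ⊗[C0] C) B).injective.eq_iff.2 huv

section

variable {A B K' : Type u} [CommRing A] [IsDomain A] [CommRing B] [Algebra A B] [IsNoetherianRing B]
  [Field K'] [Algebra A K'] [Algebra (FractionRing A) K'] [IsScalarTower A (FractionRing A) K']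
  [FiniteDimensional (FractionRing A) K']

variable (A K') in
theorem exists_integral_spanning :
    ∃ s : Finset K', (∀ c ∈ s, IsIntegral A c) ∧
      Submodule.span (FractionRing A) (s : Set K') = ⊤ := by
  classical
  let v := Module.finBasis (FractionRing A) K'
  choose m hm using fun i => IsIntegral.exists_multiple_integral_of_isLocalization
    (nonZeroDivisors A) (v i) (Algebra.IsIntegral.isIntegral (R := FractionRing A) (v i))
  refine ⟨Finset.univ.image fun i => (m i : A) • v i, fun c hc => ?_, ?_⟩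
  · obtain ⟨i, -, rfl⟩ := Finset.mem_image.1 hc
    exact hm i
  · refine top_unique (v.span_eq ▸ Submodule.span_le.2 ?_)
    rintro _ ⟨i, rfl⟩
    have hu : IsUnit (algebraMap A (FractionRing A) (m i)) := IsLocalization.map_units _ (m i)
    obtain ⟨u, hu⟩ := hu
    have e : v i = (↑u⁻¹ : FractionRing A) • ((m i : A) • v i) := by
      rw [← IsScalarTower.algebraMap_smul (FractionRing A) (m i : A) (v i), smul_smul, ← hu,
        Units.inv_mul, one_smul]
    rw [e]
    exact Submodule.smul_mem _ _ (Submodule.subset_span (by simp))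

variable (A K') in
theorem exists_finite_subalgebra :
    ∃ C : Subalgebra A K', Module.Finite A C ∧
      ∀ x : K', ∃ a b : C, (b : K') ≠ 0 ∧ x * b = a := by
  classical
  obtain ⟨s, hs, hspan⟩ := exists_integral_spanning A K'
  let C := Algebra.adjoin A (s : Set K')
  refine ⟨C, Module.Finite.iff_fg.2 (fg_adjoin_of_finite s.finite_toSet hs), fun x => ?_⟩
  have hx : x ∈ Submodule.span (FractionRing A) (s : Set K') := hspan ▸ Submodule.mem_top
  induction hx using Submodule.span_induction with
  | mem c hc => exact ⟨⟨c, Algebra.subset_adjoin hc⟩, 1, one_ne_zero, by simp⟩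
  | zero => exact ⟨0, 1, one_ne_zero, by simp⟩
  | add x y _ _ ihx ihy =>
    obtain ⟨a, b, hb, e⟩ := ihx
    obtain ⟨a', b', hb', e'⟩ := ihy
    refine ⟨a * b' + a' * b, b * b', ?_, ?_⟩
    · rw [MulMemClass.coe_mul]; exact mul_ne_zero hb hb'
    · push_cast; rw [← e, ← e']; ring
  | smul r x _ ih =>
    obtain ⟨a, b, hb, e⟩ := ih
    obtain ⟨n, d, hd, rfl⟩ := IsFractionRing.div_surjective (A := A) r
    have hd0 : algebraMap A K' d ≠ 0 := by
      rw [IsScalarTower.algebraMap_apply A (FractionRing A) K']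
      exact (map_ne_zero_iff _ (algebraMap (FractionRing A) K').injective).2
        (IsFractionRing.to_map_ne_zero_of_mem_nonZeroDivisors hd)
    refine ⟨algebraMap A C n * a, algebraMap A C d * b, ?_, ?_⟩
    · rw [MulMemClass.coe_mul, Subalgebra.coe_algebraMap]
      exact mul_ne_zero hd0 hb
    · push_cast
      rw [Algebra.smul_def, map_div₀, ← IsScalarTower.algebraMap_apply, ← IsScalarTower.algebraMap_apply,
        ← e]
      field_simp

theorem finite_integralClosure_of_generated (q : Ideal B) [q.IsPrime] (hq : CAlg.IsN2 (B ⧸ q))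
    {L : Type u} [Field L] [Algebra B L] (ψ : B ⊗[A] K' →ₐ[B] L)
    (hgen : ∀ l : L, ∃ n d, ψ n / ψ d = l) (hker : RingHom.ker (algebraMap B L) = q) :
    Module.Finite B (integralClosure B L) := by
  classical
  letI : Algebra (B ⧸ q) L := (Ideal.Quotient.lift q (algebraMap B L) hker.ge).toAlgebra
  haveI : FaithfulSMul (B ⧸ q) L := (faithfulSMul_iff_algebraMap_injective _ _).2
    (RingHom.lift_injective_of_ker_le_ideal q hker.ge hker.le)
  haveI : IsScalarTower B (B ⧸ q) L := IsScalarTower.of_algebraMap_eq' rfl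
  let F := FractionRing (B ⧸ q)
  letI : Algebra F L := FractionRing.liftAlgebra (B ⧸ q) L
  haveI : IsScalarTower (B ⧸ q) F L := FractionRing.isScalarTower_liftAlgebra (B ⧸ q) L
  have halg : ∀ b : B, algebraMap (B ⧸ q) L (Ideal.Quotient.mk q b) =
      algebraMap B L b := fun b => rfl
  let φ : K' →+* L := ψ.toRingHom.comp
    (Algebra.TensorProduct.includeRight (R := A) (A := B) (B := K')).toRingHom
  have hφA : ∀ a : A, φ (algebraMap A K' a) =
      algebraMap (B ⧸ q) L (Ideal.Quotient.mk q (algebraMap A B a)) := by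
    intro a
    rw [halg, ← ψ.commutes]
    show ψ ((1 : B) ⊗ₜ[A] algebraMap A K' a) = ψ (algebraMap A B a ⊗ₜ[A] (1 : K'))
    rw [Algebra.algebraMap_eq_smul_one, Algebra.algebraMap_eq_smul_one, TensorProduct.smul_tmul]
  obtain ⟨s, hs, hspan⟩ := exists_integral_spanning A K'
  let E : IntermediateField F L := IntermediateField.adjoin F (φ '' (s : Set K'))
  have hint : ∀ x ∈ φ '' (s : Set K'), IsIntegral F x := by
    rintro _ ⟨c, hc, rfl⟩
    have h1 : IsIntegral (B ⧸ q) (φ c) :=
      (hs c hc).map_of_comp_eq ((Ideal.Quotient.mk q).comp (algebraMap A B)) φ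
        (RingHom.ext fun a => (hφA a).symm)
    exact h1.tower_top
  haveI : Finite (φ '' (s : Set K')) := (s.finite_toSet.image φ).to_subtype
  haveI : FiniteDimensional F E := IntermediateField.finiteDimensional_adjoin
    (S := φ '' (s : Set K')) fun x hx => hint x hx
  have hφE : ∀ x : K', φ x ∈ E := by
    intro x
    have hx : x ∈ Submodule.span (FractionRing A) (s : Set K') := hspan ▸ Submodule.mem_top
    induction hx using Submodule.span_induction with
    | mem c hc => exact IntermediateField.subset_adjoin F _ ⟨c, hc, rfl⟩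
    | zero => rw [map_zero]; exact zero_mem _
    | add x y _ _ hx hy => rw [map_add]; exact add_mem hx hy
    | smul r x _ ih =>
      obtain ⟨n, d, hd, rfl⟩ := IsFractionRing.div_surjective (A := A) r
      rw [Algebra.smul_def, map_div₀, ← IsScalarTower.algebraMap_apply, ← IsScalarTower.algebraMap_apply,
        map_mul, map_div₀, hφA, hφA, IsScalarTower.algebraMap_apply (B ⧸ q) F L,
        IsScalarTower.algebraMap_apply (B ⧸ q) F L]
      exact mul_mem (div_mem (E.algebraMap_mem _) (E.algebraMap_mem _)) ih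
  have hψE : ∀ t, ψ t ∈ E := by
    intro t
    induction t using TensorProduct.induction_on with
    | zero => rw [map_zero]; exact zero_mem _
    | tmul b x =>
      have e : b ⊗ₜ[A] x = algebraMap B (B ⊗[A] K') b * (1 : B) ⊗ₜ[A] x := by
        simp [Algebra.TensorProduct.algebraMap_apply]
      rw [e, map_mul, ψ.commutes, ← halg, IsScalarTower.algebraMap_apply (B ⧸ q) F L]
      exact mul_mem (E.algebraMap_mem _) (hφE x)
    | add u v hu hv => rw [map_add]; exact add_mem hu hv
  haveI : FiniteDimensional F L := by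
    refine Module.Finite.of_surjective E.val.toLinearMap fun l => ?_
    obtain ⟨n, d, rfl⟩ := hgen l
    exact ⟨⟨_, div_mem (hψE n) (hψE d)⟩, rfl⟩
  haveI : Module.Finite (B ⧸ q) (integralClosure (B ⧸ q) L) := hq L inferInstance
  haveI : Module.Finite B (B ⧸ q) :=
    Module.Finite.of_surjective (Algebra.linearMap B (B ⧸ q)) Ideal.Quotient.mk_surjective
  haveI : Module.Finite B (integralClosure (B ⧸ q) L) := Module.Finite.trans (B ⧸ q) _
  haveI : IsNoetherian B (integralClosure (B ⧸ q) L) := isNoetherian_of_isNoetherianRing_of_finite B _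
  let i : integralClosure B L →ₗ[B] integralClosure (B ⧸ q) L :=
    { toFun := fun x => ⟨x, x.2.tower_top⟩
      map_add' := fun x y => rfl
      map_smul' := fun b x => rfl }
  exact Module.Finite.of_injective i fun x y hxy => Subtype.ext (congrArg Subtype.val hxy :)

variable [Module.Flat A B]

theorem finite_integralClosure_quotient
    (hJ : ∀ (q : Ideal B) [q.IsPrime], q ∈ minimalPrimes B → CAlg.IsN2 (B ⧸ q))
    (Q : Ideal (B ⊗[A] K')) (hQ : Q ∈ minimalPrimes (B ⊗[A] K')) :
    Module.Finite B (integralClosure B ((B ⊗[A] K') ⧸ Q)) := by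
  classical
  haveI : Q.IsPrime := hQ.1.1
  let q : Ideal B := Q.comap (algebraMap B (B ⊗[A] K'))
  haveI : Module.Flat A K' := Module.Flat.trans A (FractionRing A) K'
  have hq : q ∈ minimalPrimes B := by
    refine ⟨⟨inferInstance, bot_le⟩, fun p hp hle => ?_⟩
    haveI := hp.1
    haveI : Q.LiesOver q := ⟨rfl⟩
    obtain ⟨P, hPQ, hP, hPp⟩ := Ideal.exists_ideal_le_liesOver_of_le (S := B ⊗[A] K') Q hle
    have hQP : Q ≤ P := hQ.2 ⟨hP, bot_le⟩ hPQ
    rw [hPp.over]
    exact Ideal.comap_mono hQP
  let D := (B ⊗[A] K') ⧸ Q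
  let L := FractionRing D
  let ψ : B ⊗[A] K' →ₐ[B] L := (IsScalarTower.toAlgHom B D L).comp (Ideal.Quotient.mkₐ B Q)
  haveI : Module.Finite B (integralClosure B L) := by
    refine finite_integralClosure_of_generated q (hJ q hq) ψ (fun l => ?_) ?_
    · obtain ⟨n, d, -, rfl⟩ := IsFractionRing.div_surjective (A := D) l
      obtain ⟨n, rfl⟩ := Ideal.Quotient.mk_surjective n
      obtain ⟨d, rfl⟩ := Ideal.Quotient.mk_surjective d
      exact ⟨n, d, rfl⟩
    · ext b
      rw [RingHom.mem_ker, IsScalarTower.algebraMap_apply B D L,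
        map_eq_zero_iff _ (IsFractionRing.injective D L)]
      exact Ideal.Quotient.eq_zero_iff_mem
  haveI : IsNoetherian B (integralClosure B L) := isNoetherian_of_isNoetherianRing_of_finite B _
  let g : D →ₐ[B] L := IsScalarTower.toAlgHom B D L
  let i : integralClosure B D →ₗ[B] integralClosure B L :=
    { toFun := fun x => ⟨g x, x.2.map g⟩
      map_add' := fun x y => Subtype.ext (map_add g _ _)
      map_smul' := fun b x => Subtype.ext (map_smul g b _) }
  refine Module.Finite.of_injective i fun x y hxy => Subtype.ext ?_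
  exact IsFractionRing.injective D L (congrArg Subtype.val hxy)

theorem finite_integralClosure_reduced
    (hJ : ∀ (q : Ideal B) [q.IsPrime], q ∈ minimalPrimes B → CAlg.IsN2 (B ⧸ q)) :
    Module.Finite B (integralClosure B ((B ⊗[A] K') ⧸ nilradical (B ⊗[A] K'))) := by
  classical
  let T := B ⊗[A] K'
  haveI : Algebra.EssFiniteType A (FractionRing A) :=
    Algebra.EssFiniteType.of_isLocalization _ (nonZeroDivisors A)
  haveI : Algebra.EssFiniteType A K' := Algebra.EssFiniteType.comp A (FractionRing A) K'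
  haveI : IsNoetherianRing T := Algebra.EssFiniteType.isNoetherianRing B T
  haveI : Fintype (minimalPrimes T) := (Ideal.finite_minimalPrimes_of_isNoetherianRing T ⊥).fintype
  haveI : ∀ Q : minimalPrimes T, Module.Finite B (integralClosure B (T ⧸ (Q : Ideal T))) :=
    fun Q => finite_integralClosure_quotient hJ Q.1 Q.2
  haveI : IsNoetherian B (∀ Q : minimalPrimes T, integralClosure B (T ⧸ (Q : Ideal T))) :=
    isNoetherian_of_isNoetherianRing_of_finite B _
  let π : ∀ Q : minimalPrimes T, T ⧸ nilradical T →ₐ[B] T ⧸ (Q : Ideal T) := fun Q =>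
    Ideal.Quotient.factorₐ B (by
      rw [nilradical_eq_sInf]; exact sInf_le Q.2.1.1)
  let i : integralClosure B (T ⧸ nilradical T) →ₗ[B]
      ∀ Q : minimalPrimes T, integralClosure B (T ⧸ (Q : Ideal T)) :=
    { toFun := fun x Q => ⟨π Q x, x.2.map (π Q)⟩
      map_add' := fun x y => funext fun Q => Subtype.ext (map_add (π Q) _ _)
      map_smul' := fun b x => funext fun Q => Subtype.ext (map_smul (π Q) b _) }
  refine Module.Finite.of_injective i ((injective_iff_map_eq_zero i).2 fun x hx => Subtype.ext ?_)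
  obtain ⟨t, ht⟩ := Ideal.Quotient.mk_surjective (x : T ⧸ nilradical T)
  have hmem : ∀ Q ∈ minimalPrimes T, t ∈ Q := fun Q hQ => by
    have h := congrArg Subtype.val (congrFun hx ⟨Q, hQ⟩)
    change π ⟨Q, hQ⟩ x = 0 at h
    rw [← ht] at h
    exact Ideal.Quotient.eq_zero_iff_mem.1 h
  rw [← ht, ZeroMemClass.coe_zero, Ideal.Quotient.eq_zero_iff_mem, nilradical,
    ← Ideal.sInf_minimalPrimes]
  exact Submodule.mem_sInf.2 hmem

theorem eventually_bijective
    (hJ : ∀ (q : Ideal B) [q.IsPrime], q ∈ minimalPrimes B → CAlg.IsN2 (B ⧸ q)) :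
    let P : Subalgebra A K' → Prop := fun C : Subalgebra A K' =>
      Module.Finite A C ∧ ∀ x : K', ∃ a b : C, (b : K') ≠ 0 ∧ x * b = a
    ∃ Cα : Subalgebra A K', P Cα ∧
      (∀ C : Subalgebra A K', P C → ∀ hle : Cα ≤ C,
        (∀ x : ↥Cα ⊗[A] B, IsNilpotent (Algebra.TensorProduct.map (Subalgebra.inclusion hle) (AlgHom.id A B) x) →
          IsNilpotent x) ∧
        (∀ y : ↥C ⊗[A] B, ∃ x : ↥Cα ⊗[A] B,
          IsNilpotent (Algebra.TensorProduct.map (Subalgebra.inclusion hle) (AlgHom.id A B) x - y))) ∧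
      (Module.FaithfullyFlat A B → ∀ hint : Cα ≤ integralClosure A K',
        UniversallyInjective (Spec.map (CommRingCat.ofHom (Subalgebra.inclusion hint).toRingHom))) := by
  classical
  intro P
  let T := B ⊗[A] K'
  let T' := T ⧸ nilradical T
  let G : Submodule B T' := Subalgebra.toSubmodule (integralClosure B T')
  haveI hG : Module.Finite B G := finite_integralClosure_reduced hJ
  haveI : IsNoetherian B G := isNoetherian_of_isNoetherianRing_of_finite B _
  let j : ∀ C : Subalgebra A K', B ⊗[A] C →ₐ[B] T' := fun C =>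
    (Ideal.Quotient.mkₐ B (nilradical T)).comp (Algebra.TensorProduct.map (AlgHom.id B B) C.val)
  let N : Subalgebra A K' → Submodule B G := fun C =>
    (LinearMap.range (j C).toLinearMap).comap G.subtype
  have hne : {M | ∃ C, P C ∧ N C = M}.Nonempty := by
    obtain ⟨C, hC⟩ := exists_finite_subalgebra A K'
    exact ⟨N C, C, hC, rfl⟩
  obtain ⟨_, ⟨Cα, hCα, rfl⟩, hmax⟩ := set_has_maximal_iff_noetherian.2 ‹IsNoetherian B G› _ hne
  have main : ∀ C : Subalgebra A K', P C → ∀ hle : Cα ≤ C,
      (∀ y : ↥C ⊗[A] B, ∃ x : ↥Cα ⊗[A] B,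
        IsNilpotent (Algebra.TensorProduct.map (Subalgebra.inclusion hle) (AlgHom.id A B) x - y)) := by
    intro C hC hle y
    haveI := hC.1
    let ιC := Algebra.TensorProduct.map (Subalgebra.inclusion hle) (AlgHom.id A B)
    let c : ∀ D : Subalgebra A K', ↥D ⊗[A] B →ₐ[A] B ⊗[A] D := fun D =>
      (Algebra.TensorProduct.comm A D B).toAlgHom
    let e : ∀ D : Subalgebra A K', B ⊗[A] D →ₐ[B] T := fun D =>
      Algebra.TensorProduct.map (AlgHom.id B B) D.val
    have hcomm : ∀ x : ↥Cα ⊗[A] B, e C (c C (ιC x)) = e Cα (c Cα x) := by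
      intro x
      induction x using TensorProduct.induction_on with
      | zero => simp
      | tmul a b =>
        simp [e, c, ιC]
        rfl
      | add u v hu hv => simp only [map_add, hu, hv]
    have hNle : N Cα ≤ N C := by
      rintro z ⟨x, hx⟩
      refine ⟨c C (ιC ((Algebra.TensorProduct.comm A Cα B).symm x)), ?_⟩
      rw [← hx]
      show Ideal.Quotient.mk _ (e C (c C (ιC _))) = Ideal.Quotient.mk _ (e Cα x)
      rw [hcomm]
      simp [c]
    have hNeq : N C = N Cα :=
      ((hNle.lt_or_eq).resolve_left fun hlt => hmax _ ⟨C, hC, rfl⟩ hlt).symm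
    haveI : Algebra.IsIntegral B (B ⊗[A] C) := Algebra.IsIntegral.of_finite B _
    have hyG : j C (c C y) ∈ G := (Algebra.IsIntegral.isIntegral (c C y)).map (j C)
    have hy : (⟨j C (c C y), hyG⟩ : G) ∈ N C := ⟨c C y, rfl⟩
    rw [hNeq] at hy
    obtain ⟨x, hx⟩ := hy
    refine ⟨(Algebra.TensorProduct.comm A Cα B).symm x, ?_⟩
    have he : Function.Injective (e C) :=
      Module.Flat.lTensor_preserves_injective_linearMap (M := B) C.val.toLinearMap Subtype.val_injective
    have hinj : Function.Injective (((e C).toRingHom).comp (c C).toRingHom) :=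
      fun u v h => (Algebra.TensorProduct.comm A C B).injective (he h)
    refine (IsNilpotent.map_iff hinj).1 ?_
    show IsNilpotent (e C (c C (ιC ((Algebra.TensorProduct.comm A Cα B).symm x) - y)))
    rw [map_sub, map_sub, hcomm, ← mem_nilradical, ← Ideal.Quotient.eq,
      show c Cα ((Algebra.TensorProduct.comm A Cα B).symm x) = x by simp [c]]
    exact hx
  refine ⟨Cα, hCα, fun C hC hle => ⟨fun x hx => ?_, main C hC hle⟩, fun hff hint => ?_⟩
  · refine (IsNilpotent.map_iff ?_).1 hx
    exact Module.Flat.rTensor_preserves_injective_linearMap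
      (Subalgebra.inclusion hle).toLinearMap (Subalgebra.inclusion_injective hle)
  letI : Algebra Cα (integralClosure A K') := (Subalgebra.inclusion hint).toRingHom.toAlgebra
  refine universallyInjective_of_isNilpotent (R := Cα) (S := integralClosure A K') fun a => ?_
  let C : Subalgebra A K' := Cα ⊔ Algebra.adjoin A {(a : K')}
  have hle : Cα ≤ C := le_sup_left
  haveI := hCα.1
  haveI : Module.Finite A (Algebra.adjoin A {(a : K')}) :=
    Module.Finite.iff_fg.2 (IsIntegral.fg_adjoin_singleton a.2)
  haveI hCfin : Module.Finite A C := Subalgebra.finite_sup _ _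
  have hC : P C := ⟨hCfin, fun x => by
    obtain ⟨n, d, hd, e⟩ := hCα.2 x
    exact ⟨⟨n, hle n.2⟩, ⟨d, hle d.2⟩, hd, e⟩⟩
  have hCint : C ≤ integralClosure A K' :=
    sup_le hint (Algebra.adjoin_le (Set.singleton_subset_iff.2 a.2))
  letI : Algebra Cα C := (Subalgebra.inclusion hle).toRingHom.toAlgebra
  haveI : IsScalarTower A Cα C := IsScalarTower.of_algebraMap_eq' rfl
  have haC : (a : K') ∈ C := (le_sup_right : _ ≤ C) (Algebra.self_mem_adjoin_singleton A _)
  have h1 := isNilpotent_of_faithfullyFlat (A := A) (B := B) (C0 := Cα) (C := C)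
    (fun y => main C hC hle y) ⟨a, haC⟩
  let g : C →ₐ[Cα] integralClosure A K' :=
    { (Subalgebra.inclusion hCint).toRingHom with commutes' := fun r => rfl }
  have h2 := h1.map (Algebra.TensorProduct.map g g)
  rw [map_sub] at h2
  exact h2

end

end Groth.Agent.H1CAlg
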