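import Groth.Agent.H1CAlg.DirectLimit
import Mathlib.RingTheory.Flat.EquationalCriterion
import Mathlib.Algebra.Module.FinitePresentation
import Mathlib.LinearAlgebra.Finsupp.Supported

/-!
# Every module is a directed colimit of finitely presented modules; Lazard's theorem
-/

universe u

namespace Groth.Agent.H1CAlg.FPColimit

variable (R : Type u) [CommRing R] (M : Type u) [AddCommGroup M] [Module R M]

/-- the tautological map from the free module on `M × ℕ` -/
noncomputable def π : ((M × ℕ) →₀ R) →ₗ[R] M := Finsupp.linearCombination R Prod.fst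

/-- finitely many labels and finitely many relations among them -/
abbrev Idx : Type u :=
  {i : Finset (M × ℕ) × Finset ((M × ℕ) →₀ R) // ∀ x ∈ i.2, x.support ⊆ i.1 ∧ π R M x = 0}

variable {R M}

/-- generators of a stage -/
abbrev Gen (i : Idx R M) : Type u := {a : M × ℕ // a ∈ i.1.1}

/-- the embedding of the generators of a stage -/
noncomputable def emb (i : Idx R M) : (Gen i →₀ R) →ₗ[R] ((M × ℕ) →₀ R) :=
  Finsupp.lmapDomain R R Subtype.val

theorem mem_range_emb (i : Idx R M) {x : (M × ℕ) →₀ R} (hx : x.support ⊆ i.1.1) :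
    x ∈ LinearMap.range (emb i) := by
  have h : x.sum Finsupp.single ∈ LinearMap.range (emb i) :=
    Submodule.sum_mem _ fun a ha => ⟨Finsupp.single ⟨a, hx ha⟩ (x a), by simp [emb]⟩
  rwa [Finsupp.sum_single] at h

/-- relations of a stage -/
noncomputable def rel (i : Idx R M) : Submodule R (Gen i →₀ R) :=
  (Submodule.span R (i.1.2 : Set ((M × ℕ) →₀ R))).comap (emb i)

/-- a stage of the system -/
abbrev Stage (i : Idx R M) : Type u := (Gen i →₀ R) ⧸ rel i

/-- inclusion of generators -/
noncomputable def incl (i j : Idx R M) (h : i ≤ j) : (Gen i →₀ R) →ₗ[R] (Gen j →₀ R) :=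
  Finsupp.lmapDomain R R fun a => ⟨a.1, h.1 a.2⟩

theorem emb_incl (i j : Idx R M) (h : i ≤ j) (x : Gen i →₀ R) : emb j (incl i j h x) = emb i x :=
  Finsupp.mapDomain_comp.symm

/-- transition maps -/
noncomputable def trans (i j : Idx R M) (h : i ≤ j) : Stage i →ₗ[R] Stage j :=
  Submodule.mapQ _ _ (incl i j h) fun x hx => by
    show emb j (incl i j h x) ∈ Submodule.span R _
    rw [emb_incl]
    exact Submodule.span_mono (Finset.coe_subset.mpr h.2) hx

theorem trans_mk (i j : Idx R M) (h : i ≤ j) (x : Gen i →₀ R) :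
    trans i j h (Submodule.Quotient.mk x) = Submodule.Quotient.mk (incl i j h x) := rfl

/-- the map of a stage to `M` -/
noncomputable def toM (i : Idx R M) : Stage i →ₗ[R] M :=
  (rel i).liftQ (π R M ∘ₗ emb i) fun x hx => by
    have : Submodule.span R (i.1.2 : Set ((M × ℕ) →₀ R)) ≤ LinearMap.ker (π R M) :=
      Submodule.span_le.mpr fun y hy => (i.2 y hy).2
    exact this hx

theorem toM_mk (i : Idx R M) (x : Gen i →₀ R) :
    toM i (Submodule.Quotient.mk x) = π R M (emb i x) := rfl

theorem toM_trans (i j : Idx R M) (h : i ≤ j) (z : Stage i) : toM j (trans i j h z) = toM i z := by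
  obtain ⟨x, rfl⟩ := Submodule.Quotient.mk_surjective _ z
  rw [trans_mk, toM_mk, toM_mk, emb_incl]

instance finitePresentation_stage (i : Idx R M) : Module.FinitePresentation R (Stage i) := by
  refine Module.finitePresentation_of_free_of_surjective (rel i).mkQ (Submodule.mkQ_surjective _) ?_
  rw [Submodule.ker_mkQ]
  refine Submodule.fg_of_fg_map_injective (emb i) (Finsupp.mapDomain_injective Subtype.val_injective) ?_
  rw [rel, Submodule.map_comap_eq,
    inf_eq_right.mpr (Submodule.span_le.mpr fun y hy => mem_range_emb i (i.2 y hy).1)]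
  exact ⟨i.1.2, rfl⟩

theorem exists_ge (i j : Idx R M) : ∃ k : Idx R M, i ≤ k ∧ j ≤ k := by
  classical
  refine ⟨⟨(i.1.1 ∪ j.1.1, i.1.2 ∪ j.1.2), fun x hx => ?_⟩,
    ⟨Finset.subset_union_left, Finset.subset_union_left⟩,
    ⟨Finset.subset_union_right, Finset.subset_union_right⟩⟩
  rcases Finset.mem_union.mp hx with h | h
  · exact ⟨(i.2 x h).1.trans Finset.subset_union_left, (i.2 x h).2⟩
  · exact ⟨(j.2 x h).1.trans Finset.subset_union_right, (j.2 x h).2⟩

instance (P : Idx R M → Prop) : DirectedSystem (fun i : {i // P i} => Stage i.1)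
    (fun i j h => trans i.1 j.1 h) where
  map_self i x := by
    obtain ⟨x, rfl⟩ := Submodule.Quotient.mk_surjective _ x
    rw [trans_mk]
    exact congrArg _ (Finsupp.mapDomain_id (v := x))
  map_map k j i hij hjk x := by
    obtain ⟨x, rfl⟩ := Submodule.Quotient.mk_surjective _ x
    rw [trans_mk, trans_mk, trans_mk]
    exact congrArg _ Finsupp.mapDomain_comp.symm

theorem isDirected_subtype {P : Idx R M → Prop} (hP : ∀ i, ∃ j, i ≤ j ∧ P j) :
    IsDirected {i // P i} (· ≤ ·) := ⟨fun a b => by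
  obtain ⟨k, hak, hbk⟩ := exists_ge a.1 b.1
  obtain ⟨l, hkl, hl⟩ := hP k
  exact ⟨⟨l, hl⟩, show a.1 ≤ l from le_trans hak hkl, show b.1 ≤ l from le_trans hbk hkl⟩⟩

theorem nonempty_subtype {P : Idx R M → Prop} (hP : ∀ i, ∃ j, i ≤ j ∧ P j) : Nonempty {i // P i} := by
  obtain ⟨j, -, hj⟩ := hP ⟨(∅, ∅), by simp⟩
  exact ⟨⟨j, hj⟩⟩

/-- The colimit over any cofinal set of stages is `M`. -/
theorem exists_linearEquiv (P : Idx R M → Prop) [DecidableEq {i // P i}]
    (hP : ∀ i, ∃ j, i ≤ j ∧ P j) :
    Nonempty (Module.DirectLimit (fun i : {i // P i} => Stage i.1) (fun i j h => trans i.1 j.1 h) ≃ₗ[R] M) := by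
  classical
  haveI := isDirected_subtype hP
  haveI := nonempty_subtype hP
  let Φ := Module.DirectLimit.lift R {i // P i} (fun i => Stage i.1) (fun i j h => trans i.1 j.1 h)
    (fun i => toM i.1) (fun i j h x => toM_trans i.1 j.1 h x)
  refine ⟨LinearEquiv.ofBijective Φ ⟨?_, ?_⟩⟩
  · letI : AddCommGroup (Module.DirectLimit (fun i : {i // P i} => Stage i.1) (fun i j h => trans i.1 j.1 h)) :=
      Module.DirectLimit.addCommGroup (fun i : {i // P i} => Stage i.1) (fun i j h => trans i.1 j.1 h)
    rw [injective_iff_map_eq_zero]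
    intro z hz
    obtain ⟨i, x, rfl⟩ := Module.DirectLimit.exists_of z
    rw [Module.DirectLimit.lift_of] at hz
    obtain ⟨x, rfl⟩ := Submodule.Quotient.mk_surjective _ x
    rw [toM_mk] at hz
    let k : Idx R M := ⟨(i.1.1.1, insert (emb i.1 x) i.1.1.2), fun y hy => by
      rcases Finset.mem_insert.mp hy with rfl | h
      · refine ⟨Finsupp.mapDomain_support.trans ?_, hz⟩
        intro a ha
        obtain ⟨b, -, rfl⟩ := Finset.mem_image.mp ha
        exact b.2
      · exact i.1.2 y h⟩
    obtain ⟨j, hkj, hj⟩ := hP k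
    have hij : i.1 ≤ j := le_trans (show i.1 ≤ k from ⟨subset_rfl, Finset.subset_insert _ _⟩) hkj
    rw [← Module.DirectLimit.of_f (hij := (show i ≤ ⟨j, hj⟩ from hij)), trans_mk]
    have h0 : incl i.1 j hij x ∈ rel j := by
      show emb j (incl i.1 j hij x) ∈ Submodule.span R _
      rw [emb_incl]
      exact Submodule.subset_span (hkj.2 (Finset.mem_insert_self _ _))
    rw [(Submodule.Quotient.mk_eq_zero _).mpr h0, map_zero]
  · intro m
    obtain ⟨j, hj, hjP⟩ := hP ⟨({(m, 0)}, ∅), by simp⟩
    refine ⟨Module.DirectLimit.of R _ _ _ ⟨j, hjP⟩ (Submodule.Quotient.mk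
      (Finsupp.single ⟨(m, 0), hj.1 (Finset.mem_singleton_self _)⟩ 1)), ?_⟩
    rw [Module.DirectLimit.lift_of, toM_mk]
    simp [π, emb]

/-- For flat modules the free stages are cofinal. -/
theorem exists_free_ge [Module.Flat R M] (i : Idx R M) :
    ∃ j : Idx R M, i ≤ j ∧ Module.Free R (Stage j) := by
  classical
  obtain ⟨k, h₂, h₃, hh⟩ := Module.Flat.exists_factorization_of_finitePresentation (toM i)
  obtain ⟨N, hN⟩ : ∃ N : ℕ, ∀ a ∈ i.1.1, a.2 < N :=
    ⟨i.1.1.sup (fun a => a.2 + 1), fun a ha => Finset.le_sup (f := fun a : M × ℕ => a.2 + 1) ha⟩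
  let new : Fin k → M × ℕ := fun j => (h₃ (Finsupp.single j 1), N + j)
  have hnew : Function.Injective new := fun a b h => Fin.ext (by
    have := congrArg Prod.snd h; simp only [new] at this; omega)
  have hnot : ∀ j, new j ∉ i.1.1 := fun j h => by have := hN _ h; simp [new] at this
  let cls : Gen i → (Fin k →₀ R) := fun a => h₂ (Submodule.Quotient.mk (Finsupp.single a 1))
  let r : Gen i → ((M × ℕ) →₀ R) := fun a =>
    Finsupp.single a.1 1 - Finsupp.lmapDomain R R new (cls a)
  let s' : Finset (M × ℕ) := i.1.1 ∪ Finset.univ.image new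
  have hπnew : π R M ∘ₗ Finsupp.lmapDomain R R new = h₃ := by
    apply Finsupp.lhom_ext'; intro j; apply LinearMap.ext_ring
    simp [π, new]
  let j₀ : Idx R M := ⟨(s', i.1.2 ∪ i.1.1.attach.image r), fun x hx => by
    rcases Finset.mem_union.mp hx with h | h
    · exact ⟨(i.2 x h).1.trans Finset.subset_union_left, (i.2 x h).2⟩
    · obtain ⟨a, -, rfl⟩ := Finset.mem_image.mp h
      refine ⟨Finsupp.support_sub.trans (Finset.union_subset
        (Finsupp.support_single_subset.trans (Finset.singleton_subset_iff.mpr (Finset.mem_union_left _ a.2)))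
        (Finsupp.mapDomain_support.trans ((Finset.image_subset_image (Finset.subset_univ _)).trans Finset.subset_union_right))), ?_⟩
      have h1 := LinearMap.congr_fun hπnew (cls a)
      simp only [LinearMap.comp_apply] at h1
      rw [map_sub, h1, ← LinearMap.comp_apply, ← hh, toM_mk]
      simp [π, emb]⟩
  refine ⟨j₀, ⟨Finset.subset_union_left, Finset.subset_union_left⟩, ?_⟩
  let v : M × ℕ → (Fin k →₀ R) := fun a =>
    if h : a ∈ i.1.1 then cls ⟨a, h⟩ else
      if h' : ∃ j, new j = a then Finsupp.single h'.choose 1 else 0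
  let Ψ : ((M × ℕ) →₀ R) →ₗ[R] (Fin k →₀ R) := Finsupp.linearCombination R v
  have hΨnew : Ψ ∘ₗ Finsupp.lmapDomain R R new = LinearMap.id := by
    apply Finsupp.lhom_ext'; intro j; apply LinearMap.ext_ring
    have h' : ∃ j', new j' = new j := ⟨j, rfl⟩
    simp [Ψ, v, hnot j, hnew h'.choose_spec]
  have hΨold : Ψ ∘ₗ emb i = h₂ ∘ₗ (rel i).mkQ := by
    apply Finsupp.lhom_ext'; intro a; apply LinearMap.ext_ring
    simp [Ψ, v, cls, emb, a.2]
  have hΨrel : rel j₀ ≤ LinearMap.ker (Ψ ∘ₗ emb j₀) := by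
    intro x hx
    refine (Submodule.span_le (p := LinearMap.ker Ψ)).mpr (fun y hy => ?_) hx
    rcases Finset.mem_union.mp hy with h | h
    · obtain ⟨z, rfl⟩ := mem_range_emb i (i.2 y h).1
      have h1 : Submodule.Quotient.mk z = (0 : Stage i) :=
        (Submodule.Quotient.mk_eq_zero _).mpr (Submodule.subset_span h)
      show (Ψ ∘ₗ emb i) z = 0
      rw [hΨold, LinearMap.comp_apply, Submodule.mkQ_apply, h1, map_zero]
    · obtain ⟨a, -, rfl⟩ := Finset.mem_image.mp h
      show Ψ (r a) = 0
      have h1 := LinearMap.congr_fun hΨnew (cls a)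
      simp only [LinearMap.comp_apply, LinearMap.id_apply] at h1
      rw [map_sub, h1]
      simp [Ψ, v, a.2]
  let newG : Fin k → Gen j₀ := fun j =>
    ⟨new j, Finset.mem_union_right _ (Finset.mem_image_of_mem _ (Finset.mem_univ j))⟩
  let Φ : (Fin k →₀ R) →ₗ[R] Stage j₀ := (rel j₀).mkQ ∘ₗ Finsupp.lmapDomain R R newG
  have hembnew : ∀ c, emb j₀ (Finsupp.lmapDomain R R newG c) = Finsupp.lmapDomain R R new c :=
    fun c => Finsupp.mapDomain_comp.symm
  have hleft : ∀ c, (rel j₀).liftQ _ hΨrel (Φ c) = c := fun c => by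
    show Ψ (emb j₀ (Finsupp.lmapDomain R R newG c)) = c
    rw [hembnew]; exact LinearMap.congr_fun hΨnew c
  have hsurj : Function.Surjective Φ := by
    rw [← LinearMap.range_eq_top, eq_top_iff]
    rintro z -
    obtain ⟨z, rfl⟩ := Submodule.Quotient.mk_surjective _ z
    induction z using Finsupp.induction_linear with
    | zero => exact Submodule.zero_mem _
    | add f g hf hg => exact Submodule.add_mem _ hf hg
    | single a b =>
      rw [← Finsupp.smul_single_one, Submodule.Quotient.mk_smul]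
      refine Submodule.smul_mem _ _ ?_
      rcases Finset.mem_union.mp a.2 with h | h
      · refine ⟨cls ⟨a.1, h⟩, (Submodule.Quotient.eq _).mpr ?_⟩
        show emb j₀ (Finsupp.lmapDomain R R newG (cls ⟨a.1, h⟩) - Finsupp.single a 1) ∈ Submodule.span R _
        rw [map_sub, hembnew, ← neg_sub,
          show emb j₀ (Finsupp.single a 1) = Finsupp.single a.1 1 by simp [emb]]
        exact Submodule.neg_mem _ (Submodule.subset_span
          (Finset.mem_union_right _ (Finset.mem_image.mpr ⟨⟨a.1, h⟩, Finset.mem_attach _ _, rfl⟩)))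
      · obtain ⟨j, -, hj⟩ := Finset.mem_image.mp h
        refine ⟨Finsupp.single j 1, ?_⟩
        show Submodule.Quotient.mk _ = Submodule.Quotient.mk _
        congr 1
        simp [newG, hj]
  exact Module.Free.of_equiv (LinearEquiv.ofBijective Φ ⟨Function.LeftInverse.injective hleft, hsurj⟩)

end Groth.Agent.H1CAlg.FPColimit

namespace Groth.Agent.H1CAlg

/-- A directed colimit of flat modules is flat. -/
theorem flat_directLimit {R : Type u} [CommRing R] {ι : Type u} [Preorder ι] [IsDirected ι (· ≤ ·)]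
    [Nonempty ι] [DecidableEq ι] {G : ι → Type u} [∀ i, AddCommGroup (G i)] [∀ i, Module R (G i)]
    {f : ∀ i j, i ≤ j → G i →ₗ[R] G j} [DirectedSystem G fun i j h => f i j h]
    [∀ i, Module.Flat R (G i)] : Module.Flat R (Module.DirectLimit G f) := by
  refine Module.Flat.of_forall_exists_factorization fun {l} {c} {x} hx => ?_
  obtain ⟨i, x', rfl⟩ := exists_factor_directLimit x
  obtain ⟨j, hij, hj⟩ := Module.DirectLimit.of.zero_exact hx
  obtain ⟨k, a, y, hya, hac⟩ := Module.Flat.exists_factorization_of_apply_eq_zero_of_free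
    (x := f i j hij ∘ₗ x') hj
  refine ⟨k, a, Module.DirectLimit.of R ι G f j ∘ₗ y, ?_, hac⟩
  rw [LinearMap.comp_assoc, ← hya, ← LinearMap.comp_assoc]
  congr 1
  exact LinearMap.ext fun z => (Module.DirectLimit.of_f).symm

end Groth.Agent.H1CAlg
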