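import Mathlib.Algebra.Module.FinitePresentation
import Mathlib.RingTheory.FinitePresentation
import Mathlib.RingTheory.IsTensorProduct

/-! Finite presentation of modules along surjections of polynomial presentations. -/

set_option autoImplicit false
universe u
open scoped TensorProduct

namespace Groth.Agent.H1CAlg

theorem fp_of_fp_compHom {P Q : Type u} [CommRing P] [CommRing Q] (φ : P →+* Q) (hφ : Function.Surjective φ)
    (M : Type u) [AddCommGroup M] [Module Q M]
    (h : @Module.FinitePresentation P M _ _ (Module.compHom M φ)) : Module.FinitePresentation Q M := by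
  letI := φ.toAlgebra
  letI : Module P M := Module.compHom M φ
  haveI : IsScalarTower P Q M := IsScalarTower.of_algebraMap_smul fun _ _ => rfl
  haveI := h
  let F : Q ⊗[P] M →ₗ[Q] M := LinearMap.liftBaseChange Q (LinearMap.id : M →ₗ[P] M)
  let G : M →ₗ[P] Q ⊗[P] M := TensorProduct.mk P Q M 1
  have hbij : Function.Bijective F := by
    refine ⟨?_, fun m => ⟨1 ⊗ₜ m, by simp [F]⟩⟩
    have : ∀ x, G (F x) = x := by
      intro x
      induction x using TensorProduct.induction_on with
      | zero => simp
      | add a b ha hb => rw [map_add, map_add, ha, hb]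
      | tmul q m =>
        obtain ⟨p, rfl⟩ := hφ q
        show G (φ p • m) = φ p ⊗ₜ m
        change G (p • m) = _
        rw [map_smul]
        show p • ((1 : Q) ⊗ₜ[P] m) = φ p ⊗ₜ m
        rw [TensorProduct.smul_tmul', Algebra.smul_def, mul_one]
        rfl
    exact Function.LeftInverse.injective this
  exact FinitePresentation.of_isBaseChange (LinearMap.id : M →ₗ[P] M)
    (IsBaseChange.of_equiv (LinearEquiv.ofBijective F hbij) (fun m => by simp [F]))

theorem fp_compHom_comp {P Q : Type u} [CommRing P] [CommRing Q] {A : Type u} [CommRing A] (π : P →+* Q)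
    (hπ : Function.Surjective π) (hker : (RingHom.ker π).FG) (α : Q →+* A) (M : Type u) [AddCommGroup M]
    [Module A M] :
    @Module.FinitePresentation Q M _ _ (Module.compHom M α) ↔
      @Module.FinitePresentation P M _ _ (Module.compHom M (α.comp π)) := by
  letI : Module Q M := Module.compHom M α
  constructor
  · intro h
    haveI := h
    letI := π.toAlgebra
    letI : Module P M := Module.compHom M (α.comp π)
    haveI : IsScalarTower P Q M := IsScalarTower.of_algebraMap_smul fun _ _ => rfl
    haveI : Module.FinitePresentation P Q :=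
      Module.finitePresentation_of_surjective (Algebra.linearMap P Q) hπ hker
    exact Module.FinitePresentation.trans (R := P) M Q
  · intro h
    exact fp_of_fp_compHom π hπ M h

theorem fp_compHom_presentation {R A : Type u} [CommRing R] [CommRing A] [Algebra R A] (M : Type u)
    [AddCommGroup M] [Module A M] {ι κ : Type} [Finite ι] [Finite κ]
    (α : MvPolynomial ι R →ₐ[R] A) (hα : Function.Surjective α)
    (β : MvPolynomial κ R →ₐ[R] A) (hβ : Function.Surjective β)
    (h : @Module.FinitePresentation (MvPolynomial ι R) M _ _ (Module.compHom M α.toRingHom)) :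
    @Module.FinitePresentation (MvPolynomial κ R) M _ _ (Module.compHom M β.toRingHom) := by
  choose g hg using fun j : κ => hα (β (MvPolynomial.X j))
  choose g' hg' using fun i : ι => hβ (α (MvPolynomial.X i))
  let πα : MvPolynomial (ι ⊕ κ) R →ₐ[R] MvPolynomial ι R :=
    MvPolynomial.aeval (Sum.elim MvPolynomial.X g)
  let πβ : MvPolynomial (ι ⊕ κ) R →ₐ[R] MvPolynomial κ R :=
    MvPolynomial.aeval (Sum.elim g' MvPolynomial.X)
  have heq : α.comp πα = β.comp πβ := by
    refine MvPolynomial.algHom_ext fun v => ?_
    rcases v with i | j <;> simp [πα, πβ, hg, hg']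
  have hsα : Function.Surjective πα := fun p => ⟨MvPolynomial.rename Sum.inl p, by
    simp [πα, MvPolynomial.aeval_rename, MvPolynomial.aeval_X_left_apply]⟩
  have hsβ : Function.Surjective πβ := fun p => ⟨MvPolynomial.rename Sum.inr p, by
    simp [πβ, MvPolynomial.aeval_rename, MvPolynomial.aeval_X_left_apply]⟩
  have h1 := (fp_compHom_comp πα.toRingHom hsα (Algebra.FinitePresentation.ker_fG_of_surjective πα hsα)
    α.toRingHom M).mp h
  rw [show α.toRingHom.comp πα.toRingHom = β.toRingHom.comp πβ.toRingHom from congrArg AlgHom.toRingHom heq] at h1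
  exact (fp_compHom_comp πβ.toRingHom hsβ (Algebra.FinitePresentation.ker_fG_of_surjective πβ hsβ)
    β.toRingHom M).mpr h1

end Groth.Agent.H1CAlg
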