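import Groth.Agent.S0586
import Groth.Agent.H1CAlg.FerrandDescent
import Mathlib.RingTheory.Ideal.GoingUp
import Mathlib.RingTheory.TensorProduct.Finite

/-!
# Descent of the Mittag-Leffler property for flat modules along finite injective maps
-/

set_option autoImplicit false

universe u

open TensorProduct

namespace Groth.Agent.H1CAlg.Ferrand

variable {R : Type u} [CommRing R] {M : Type u} [AddCommGroup M] [Module R M]

theorem piRightHom_natural_right {ι : Type u} {Q Q' : ι → Type u} [∀ i, AddCommGroup (Q i)] [∀ i, Module R (Q i)]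
    [∀ i, AddCommGroup (Q' i)] [∀ i, Module R (Q' i)] (f : ∀ i, Q i →ₗ[R] Q' i) (z : M ⊗[R] (∀ i, Q i)) (i : ι) :
    TensorProduct.piRightHom R R M Q'
        ((LinearMap.pi fun i => f i ∘ₗ LinearMap.proj i : (∀ i, Q i) →ₗ[R] (∀ i, Q' i)).lTensor M z) i =
      (f i).lTensor M (TensorProduct.piRightHom R R M Q z i) := by
  induction z using TensorProduct.induction_on with
  | zero => simp
  | tmul m q => simp
  | add a b ha hb => simp only [map_add, Pi.add_apply, ha, hb]

variable [Module.Flat R M]

theorem inj_of_sub {ι : Type u} {K Q : ι → Type u} [∀ i, AddCommGroup (K i)] [∀ i, Module R (K i)]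
    [∀ i, AddCommGroup (Q i)] [∀ i, Module R (Q i)] (f : ∀ i, K i →ₗ[R] Q i) (hf : ∀ i, Function.Injective (f i))
    (hQ : Function.Injective (TensorProduct.piRightHom R R M Q)) :
    Function.Injective (TensorProduct.piRightHom R R M K) := by
  rw [injective_iff_map_eq_zero]
  intro z hz
  refine Module.Flat.lTensor_preserves_injective_linearMap (M := M)
    (LinearMap.pi fun i => f i ∘ₗ LinearMap.proj i) (fun a b h => funext fun i => hf i (congrFun h i)) ?_
  rw [map_zero]
  apply hQ
  rw [map_zero]
  funext i
  rw [piRightHom_natural_right, hz, Pi.zero_apply, map_zero, Pi.zero_apply]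

theorem inj_of_ext {ι : Type u} {K Q I : ι → Type u} [∀ i, AddCommGroup (K i)] [∀ i, Module R (K i)]
    [∀ i, AddCommGroup (Q i)] [∀ i, Module R (Q i)] [∀ i, AddCommGroup (I i)] [∀ i, Module R (I i)]
    (f : ∀ i, K i →ₗ[R] Q i) (g : ∀ i, Q i →ₗ[R] I i) (hf : ∀ i, Function.Injective (f i))
    (hg : ∀ i, Function.Surjective (g i)) (hex : ∀ i, Function.Exact (f i) (g i))
    (hK : Function.Injective (TensorProduct.piRightHom R R M K))
    (hI : Function.Injective (TensorProduct.piRightHom R R M I)) :
    Function.Injective (TensorProduct.piRightHom R R M Q) := by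
  rw [injective_iff_map_eq_zero]
  intro z hz
  let F : (∀ i, K i) →ₗ[R] (∀ i, Q i) := LinearMap.pi fun i => f i ∘ₗ LinearMap.proj i
  let G : (∀ i, Q i) →ₗ[R] (∀ i, I i) := LinearMap.pi fun i => g i ∘ₗ LinearMap.proj i
  have hG : Function.Surjective G := fun y => by
    choose x hx using fun i => hg i (y i)
    exact ⟨x, funext hx⟩
  have hFG : Function.Exact F G := fun x => by
    constructor
    · intro h
      choose y hy using fun i => (hex i (x i)).mp (congrFun h i)
      exact ⟨y, funext hy⟩
    · rintro ⟨y, rfl⟩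
      exact funext fun i => (hex i).apply_apply_eq_zero _
  have h1 : G.lTensor M z = 0 := hI (by
    rw [map_zero]
    funext i
    rw [piRightHom_natural_right, hz, Pi.zero_apply, map_zero, Pi.zero_apply])
  obtain ⟨w, rfl⟩ := (lTensor_exact M hFG hG z).mp h1
  have h2 : w = 0 := hK (by
    rw [map_zero]
    funext i
    refine Module.Flat.lTensor_preserves_injective_linearMap (M := M) (f i) (hf i) ?_
    rw [Pi.zero_apply, map_zero, ← piRightHom_natural_right f w i]
    exact congrFun hz i)
  rw [h2, map_zero]

/-- The Mittag-Leffler property of a flat module descends along finite injective maps. -/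
theorem isMittagLeffler_descent (R S : Type u) [CommRing R] [IsNoetherianRing R] [CommRing S] [Algebra R S]
    [Module.Finite R S] (hinj : Function.Injective (algebraMap R S)) (M : Type u) [AddCommGroup M] [Module R M]
    [Module.Flat R M] (h : CAlg.IsMittagLeffler S (S ⊗[R] M)) : CAlg.IsMittagLeffler R M := by
  suffices H : ∀ (J : Ideal R) (ι : Type u) (Q : ι → Type u) [∀ i, AddCommGroup (Q i)] [∀ i, Module R (Q i)],
      (∀ a ∈ J, ∀ i (x : Q i), a • x = 0) → Function.Injective (TensorProduct.piRightHom R R M Q) from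
    fun ι Q _ _ => H ⊥ ι Q (fun a ha i x => by rw [(Ideal.mem_bot).mp ha, zero_smul])
  intro J
  induction J using WellFoundedGT.induction with
  | _ J IH =>
  intro ι Q _ _ hQ
  by_cases hJ : J.IsPrime
  · obtain ⟨P, -, hPp, hP⟩ := Ideal.exists_ideal_over_prime_of_isIntegral (S := S) J ⊥ (by
      rw [← RingHom.ker_eq_comap_bot, (RingHom.injective_iff_ker_eq_bot _).mp hinj]; exact bot_le)
    haveI : P.LiesOver J := ⟨hP.symm⟩
    haveI := hJ
    haveI := hPp
    let D := R ⧸ J
    let B := S ⧸ P
    haveI : Module.Finite R B := Module.Finite.of_surjective (Ideal.Quotient.mkₐ R P).toLinearMap Ideal.Quotient.mk_surjective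
    haveI : Module.Finite D B := Module.Finite.of_restrictScalars_finite R D B
    have hinjD : Function.Injective (algebraMap D B) := by
      rw [injective_iff_map_eq_zero]
      intro a ha
      obtain ⟨a, rfl⟩ := Ideal.Quotient.mk_surjective a
      have ha' : Ideal.Quotient.mk P (algebraMap R S a) = 0 := ha
      rw [Ideal.Quotient.eq_zero_iff_mem, ← hP]
      show algebraMap R S a ∈ P
      exact Ideal.Quotient.eq_zero_iff_mem.mp ha'
    obtain ⟨lam, hlam⟩ := exists_functional (A := D) (B := B) hinjD
    obtain ⟨c, hc⟩ := Ideal.Quotient.mk_surjective (lam 1)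
    have hcJ : c ∉ J := fun hcJ => hlam (by rw [← hc]; exact Ideal.Quotient.eq_zero_iff_mem.mpr hcJ)
    let T : ι → Type u := fun i => B ⊗[R] Q i
    let j : ∀ i, Q i →ₗ[R] T i := fun i => TensorProduct.mk R B (Q i) 1
    have hker : ∀ i (y : Q i), j i y = 0 → c • y = 0 := by
      intro i y hy
      let act : D →ₗ[R] Q i →ₗ[R] Q i := Submodule.liftQ J (LinearMap.lsmul R (Q i)) fun a ha =>
        LinearMap.ext fun x => hQ a ha i x
      let back : T i →ₗ[R] Q i := TensorProduct.lift (act ∘ₗ lam.restrictScalars R)
      have h1 : act (lam 1) y = 0 := (congrArg back hy).trans (map_zero back)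
      rw [← hc] at h1
      exact h1
    have hT : Function.Injective (TensorProduct.piRightHom R R M T) := by
      rw [injective_iff_map_eq_zero]
      intro z hz
      have h1 := Groth.Agent.S0586.rTensor_eq_zero_of_components (P₀ := M) h T LinearMap.id z fun a => by
        rw [hz, Pi.zero_apply, map_zero]
      rwa [LinearMap.rTensor_id, LinearMap.id_apply] at h1
    refine inj_of_ext (K := fun i => ↥(LinearMap.ker (j i))) (I := fun i => ↥(LinearMap.range (j i)))
      (fun i => (LinearMap.ker (j i)).subtype) (fun i => (j i).rangeRestrict)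
      (fun i => Submodule.injective_subtype _) (fun i => (j i).surjective_rangeRestrict)
      (fun i => LinearMap.exact_iff.mpr (by rw [LinearMap.ker_rangeRestrict, Submodule.range_subtype]))
      ?_ (inj_of_sub (fun i => (LinearMap.range (j i)).subtype) (fun i => Submodule.injective_subtype _) hT)
    refine IH (J ⊔ Ideal.span {c}) (left_lt_sup.mpr fun hle => hcJ (hle (Ideal.mem_span_singleton_self c))) ι _ ?_
    intro a ha i y
    obtain ⟨b, hb, d, hd, rfl⟩ := Submodule.mem_sup.mp ha
    obtain ⟨d, rfl⟩ := Ideal.mem_span_singleton'.mp hd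
    refine Subtype.ext ?_
    show (b + d * c) • (y : Q i) = 0
    rw [add_smul, mul_smul, hQ b hb i y, hker i y y.2, smul_zero, add_zero]
  · by_cases htop : J = ⊤
    · haveI : ∀ i, Subsingleton (Q i) := fun i => subsingleton_of_forall_eq 0 fun x => by
        rw [← one_smul R x]; exact hQ 1 (htop ▸ trivial) i x
      intro x y _
      have h0 : ∀ w : M ⊗[R] (∀ i, Q i), w = 0 := fun w => by
        induction w using TensorProduct.induction_on with
        | zero => rfl
        | tmul m q => rw [Subsingleton.elim q 0, TensorProduct.tmul_zero]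
        | add x y hx hy => rw [hx, hy, add_zero]
      rw [h0 x, h0 y]
    · obtain ⟨a, ha, b, hb, hab⟩ := (Ideal.not_isPrime_iff.mp hJ).resolve_left htop
      let L : ∀ i, Q i →ₗ[R] Q i := fun i => LinearMap.lsmul R (Q i) b
      refine inj_of_ext (fun i => (LinearMap.range (L i)).subtype) (fun i => (LinearMap.range (L i)).mkQ)
        (fun i => Submodule.injective_subtype _) (fun i => Submodule.mkQ_surjective _)
        (fun i => LinearMap.exact_subtype_mkQ _) ?_ ?_
      · refine IH (J ⊔ Ideal.span {a}) (left_lt_sup.mpr fun hle => ha (hle (Ideal.mem_span_singleton_self a))) ι _ ?_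
        intro r hr i y
        obtain ⟨u, hu, d, hd, rfl⟩ := Submodule.mem_sup.mp hr
        obtain ⟨d, rfl⟩ := Ideal.mem_span_singleton'.mp hd
        obtain ⟨_, x, rfl⟩ := y
        refine Subtype.ext ?_
        show (u + d * a) • (b • x) = 0
        rw [smul_smul, add_mul, mul_assoc, add_smul, hQ _ (J.mul_mem_right b hu) i x,
          hQ _ (J.mul_mem_left d hab) i x, add_zero]
      · refine IH (J ⊔ Ideal.span {b}) (left_lt_sup.mpr fun hle => hb (hle (Ideal.mem_span_singleton_self b))) ι _ ?_
        intro r hr i y
        obtain ⟨y, rfl⟩ := Submodule.Quotient.mk_surjective _ y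
        obtain ⟨u, hu, d, hd, rfl⟩ := Submodule.mem_sup.mp hr
        obtain ⟨d, rfl⟩ := Ideal.mem_span_singleton'.mp hd
        rw [← Submodule.Quotient.mk_smul, Submodule.Quotient.mk_eq_zero]
        exact ⟨d • y, by show b • d • y = _; rw [add_smul, hQ u hu i y, zero_add, mul_comm, mul_smul]⟩

end Groth.Agent.H1CAlg.Ferrand
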