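import Groth.Prelude.Def_CAlgX
import Mathlib

/-!
# A smooth local cover of an essentially finitely presented local algebra

`R → S → S'` with `S`, `S'` essentially of finite presentation over `R`: `S'` is a quotient by a
finitely generated ideal of a local ring of a polynomial ring over `S`.
-/

set_option autoImplicit false
set_option linter.style.haveILetI false
universe u

namespace Groth.Agent.H1CAlg.FibreFlat

open IsLocalRing

/-- The local ring of a polynomial algebra over a local ring has Noetherian closed fibre. -/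
theorem isNoetherianRing_quotient {S T : Type u} [CommRing S] [IsLocalRing S] {n : ℕ} [CommRing T]
    [Algebra S T] [Algebra (MvPolynomial (Fin n) S) T] [IsScalarTower S (MvPolynomial (Fin n) S) T]
    (M : Submonoid (MvPolynomial (Fin n) S)) [IsLocalization M T] :
    IsNoetherianRing (T ⧸ (maximalIdeal S).map (algebraMap S T)) := by
  let T₀ := MvPolynomial (Fin n) S
  let J₀ : Ideal T₀ := (maximalIdeal S).map (MvPolynomial.C : S →+* T₀)
  let J := (maximalIdeal S).map (algebraMap S T)
  haveI : IsNoetherianRing (S ⧸ maximalIdeal S) :=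
    (inferInstance : IsNoetherianRing (ResidueField S))
  haveI : IsNoetherianRing (T₀ ⧸ J₀) :=
    isNoetherianRing_of_surjective (MvPolynomial (Fin n) (S ⧸ maximalIdeal S)) _
      (MvPolynomial.quotientEquivQuotientMvPolynomial (maximalIdeal S)).toRingEquiv.toRingHom
      (MvPolynomial.quotientEquivQuotientMvPolynomial (maximalIdeal S)).surjective
  have hJ : J₀ ≤ J.comap (algebraMap T₀ T) := by
    refine Ideal.map_le_iff_le_comap.mpr fun a ha => ?_
    show algebraMap T₀ T (algebraMap S T₀ a) ∈ J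
    rw [← IsScalarTower.algebraMap_apply]
    exact Ideal.mem_map_of_mem _ ha
  let h : T₀ ⧸ J₀ →+* T ⧸ J := Ideal.quotientMap J (algebraMap T₀ T) hJ
  refine ⟨fun I => ?_⟩
  have hI : I = Ideal.map h (Ideal.comap h I) := by
    refine le_antisymm (fun x hx => ?_) Ideal.map_comap_le
    obtain ⟨t, rfl⟩ := Ideal.Quotient.mk_surjective x
    obtain ⟨a, s, rfl⟩ := IsLocalization.exists_mk'_eq M t
    have h1 : Ideal.Quotient.mk J₀ a ∈ Ideal.comap h I := by
      rw [Ideal.mem_comap]
      show Ideal.Quotient.mk J (algebraMap T₀ T a) ∈ I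
      rw [← IsLocalization.mk'_spec T a s, map_mul]
      exact Ideal.mul_mem_right _ I hx
    have h2 := Ideal.mem_map_of_mem h h1
    rw [show h (Ideal.Quotient.mk J₀ a) = Ideal.Quotient.mk J (IsLocalization.mk' T a s) *
      Ideal.Quotient.mk J (algebraMap T₀ T s) from by rw [← map_mul, IsLocalization.mk'_spec]; rfl] at h2
    exact (Ideal.mul_unit_mem_iff_mem _ ((IsLocalization.map_units T s).map _)).mp h2
  rw [hI]
  exact Ideal.FG.map (IsNoetherian.noetherian (Ideal.comap h I)) h

/-- `S'` is a quotient, by a finitely generated ideal, of a local ring of a polynomial ring over `S`. -/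
theorem exists_cover {R S S' : Type u} [CommRing R] [CommRing S] [CommRing S'] [IsLocalRing S] [IsLocalRing S']
    [Algebra R S] [Algebra S S'] [Algebra R S'] [IsScalarTower R S S'] [IsLocalHom (algebraMap S S')]
    (hS : CAlgX.IsEssFinitePresentation R S) (hS' : CAlgX.IsEssFinitePresentation R S') :
    ∃ (T : Type u) (_ : CommRing T) (_ : IsLocalRing T) (_ : Algebra S T) (_ : IsLocalHom (algebraMap S T))
      (π : T →ₐ[S] S'), CAlgX.IsEssFinitePresentation S T ∧ Module.Flat S T ∧
        IsNoetherianRing (T ⧸ (maximalIdeal S).map (algebraMap S T)) ∧ Function.Surjective π ∧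
        (RingHom.ker π.toRingHom).FG := by
  classical
  obtain ⟨S₀, _, _, _, _, M, hfp, hloc⟩ := hS
  obtain ⟨S₀', _, _, _, _, M', hfp', hloc'⟩ := hS'
  haveI := hfp; haveI := hloc; haveI := hfp'; haveI := hloc'
  obtain ⟨n, f, hf, hkf⟩ := Algebra.FinitePresentation.out (R := R) (A := S₀')
  let T₀ := MvPolynomial (Fin n) S
  let y : Fin n → S' := fun i => algebraMap S₀' S' (f (MvPolynomial.X i))
  let e₀ : T₀ →ₐ[S] S' := MvPolynomial.aeval y
  let j : MvPolynomial (Fin n) R →+* T₀ := MvPolynomial.map (algebraMap R S)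
  have he₀ : ∀ a, e₀ (j a) = algebraMap S₀' S' (f a) := fun a => by
    refine RingHom.congr_fun (MvPolynomial.ringHom_ext (f := e₀.toRingHom.comp j)
      (g := (algebraMap S₀' S').comp f.toRingHom) (fun r => ?_) (fun i => ?_)) a
    · show e₀ (j (MvPolynomial.C r)) = algebraMap S₀' S' (f (MvPolynomial.C r))
      rw [show j (MvPolynomial.C r) = algebraMap S T₀ (algebraMap R S r) from MvPolynomial.map_C _ r, AlgHom.commutes,
        show f (MvPolynomial.C r) = algebraMap R S₀' r from f.commutes r,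
        ← IsScalarTower.algebraMap_apply, ← IsScalarTower.algebraMap_apply]
    · show e₀ (j (MvPolynomial.X i)) = _
      rw [show j (MvPolynomial.X i) = MvPolynomial.X i from MvPolynomial.map_X _ i]
      exact MvPolynomial.aeval_X y i
  let Q : Ideal T₀ := (maximalIdeal S').comap e₀.toRingHom
  haveI : Q.IsPrime := Ideal.comap_isPrime _ _
  let T := Localization.AtPrime Q
  have hunit : ∀ q : Q.primeCompl, IsUnit (e₀ q) := fun q => by
    have hq : (q : T₀) ∉ Q := q.2
    rw [Ideal.mem_comap, mem_maximalIdeal, mem_nonunits_iff, not_not] at hq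
    exact hq
  let π₀ : T →+* S' := IsLocalization.lift (g := e₀.toRingHom) hunit
  have hπ₀ : ∀ t : T₀, π₀ (algebraMap T₀ T t) = e₀ t := fun t => IsLocalization.lift_eq _ t
  let π : T →ₐ[S] S' := { π₀ with
    commutes' := fun s => by
      show π₀ (algebraMap S T s) = _
      rw [IsScalarTower.algebraMap_apply S T₀ T, hπ₀, AlgHom.commutes] }
  haveI : IsLocalHom (algebraMap S T) := ⟨fun s hs => by
    have := hs.map π
    rw [AlgHom.commutes] at this
    exact (isUnit_map_iff (algebraMap S S') s).mp this⟩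
  haveI : Module.Flat T₀ T := IsLocalization.flat T Q.primeCompl
  have hnotQ : ∀ m : M', ∀ b, f b = m → j b ∉ Q := fun m b hb h => by
    rw [Ideal.mem_comap] at h
    exact h (by rw [show e₀.toRingHom (j b) = algebraMap S₀' S' m from by rw [← hb]; exact he₀ b]
                exact IsLocalization.map_units S' m)
  have hπ : Function.Surjective π := fun x => by
    obtain ⟨c, m, rfl⟩ := IsLocalization.exists_mk'_eq M' x
    obtain ⟨a, ha⟩ := hf c
    obtain ⟨b, hb⟩ := hf (m : S₀')
    refine ⟨IsLocalization.mk' T (j a) (⟨j b, hnotQ m b hb⟩ : Q.primeCompl), ?_⟩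
    refine (IsLocalization.map_units S' m).mul_left_inj.mp ?_
    rw [IsLocalization.mk'_spec, ← hb, ← he₀, ← hπ₀ (j b)]
    show π _ * π _ = _
    rw [← map_mul, IsLocalization.mk'_spec]
    show π₀ (algebraMap T₀ T (j a)) = _
    rw [hπ₀, he₀, ha]
  refine ⟨T, inferInstance, inferInstance, inferInstance, inferInstance, π,
    ⟨T₀, inferInstance, inferInstance, inferInstance, inferInstance, Q.primeCompl, inferInstance, inferInstance⟩,
    Module.Flat.trans S T₀ T, isNoetherianRing_quotient Q.primeCompl, hπ, ?_⟩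
  obtain ⟨GI, hGI⟩ := hkf
  let ψ : MvPolynomial (Fin n) R →+* T := (algebraMap T₀ T).comp j
  let L₁ : Ideal T := Ideal.span ↑(GI.image ψ)
  have hπψ : ∀ a, π (ψ a) = algebraMap S₀' S' (f a) := fun a => by
    show π₀ (algebraMap T₀ T (j a)) = _
    rw [hπ₀, he₀]
  have hL₁ : ∀ x ∈ L₁, π x = 0 := fun x hx => by
    refine (Ideal.span_le.mpr ?_ hx : x ∈ RingHom.ker π.toRingHom)
    intro z hz
    obtain ⟨g, hg, rfl⟩ := Finset.mem_image.mp hz
    show π (ψ g) = 0
    rw [hπψ, show f g = 0 from (hGI ▸ Submodule.subset_span hg : g ∈ RingHom.ker f.toRingHom), map_zero]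
  have hfac : RingHom.ker f.toRingHom ≤ RingHom.ker ((Ideal.Quotient.mk L₁).comp ψ) := by
    rw [← hGI]
    refine Submodule.span_le.mpr fun g hg => ?_
    exact Ideal.Quotient.eq_zero_iff_mem.mpr (Submodule.subset_span (Finset.mem_image_of_mem _ hg))
  let g₁ : S₀' →+* T ⧸ L₁ := RingHom.liftOfSurjective f.toRingHom hf ⟨(Ideal.Quotient.mk L₁).comp ψ, hfac⟩
  have hg₁ : ∀ a, g₁ (f a) = Ideal.Quotient.mk L₁ (ψ a) := fun a =>
    RingHom.liftOfSurjective_comp_apply f.toRingHom hf ⟨_, hfac⟩ a
  have hu₁ : ∀ m : M', IsUnit (g₁ m) := fun m => by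
    obtain ⟨b, hb⟩ := hf (m : S₀')
    rw [← hb, hg₁]
    exact (IsLocalization.map_units T (⟨j b, hnotQ m b hb⟩ : Q.primeCompl)).map _
  let σ₁ : S' →+* T ⧸ L₁ := IsLocalization.lift (M := M') (S := S') (P := T ⧸ L₁) (g := g₁) hu₁
  have hσ₁ : ∀ a, σ₁ (algebraMap S₀' S' (f a)) = Ideal.Quotient.mk L₁ (ψ a) := fun a => by
    rw [IsLocalization.lift_eq, hg₁]
  let πb : T ⧸ L₁ →+* S' := Ideal.Quotient.lift L₁ π.toRingHom hL₁
  have hsec : ∀ x, πb (σ₁ x) = x := by
    refine RingHom.congr_fun (f := πb.comp σ₁) (g := RingHom.id S') (IsLocalization.ringHom_ext M' ?_)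
    refine RingHom.ext fun c => ?_
    obtain ⟨a, rfl⟩ := hf c
    show πb (σ₁ (algebraMap S₀' S' (f a))) = _
    rw [hσ₁]
    exact hπψ a
  obtain ⟨GS, hGS⟩ := (Algebra.FiniteType.out : (⊤ : Subalgebra R S₀).FG)
  choose t ht using fun s : S₀ => Ideal.Quotient.mk_surjective (σ₁ (algebraMap S S' (algebraMap S₀ S s)))
  let d : S₀ → T := fun s => algebraMap S T (algebraMap S₀ S s) - t s
  let L : Ideal T := L₁ ⊔ Ideal.span ↑(GS.image d)
  suffices RingHom.ker π.toRingHom = L by
    rw [this]; exact Submodule.FG.sup ⟨_, rfl⟩ ⟨_, rfl⟩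
  have hd : ∀ s, π (d s) = 0 := fun s => by
    have h1 : π (t s) = πb (Ideal.Quotient.mk L₁ (t s)) := rfl
    rw [map_sub, AlgHom.commutes, h1, ht, hsec, sub_self]
  refine le_antisymm ?_ (sup_le (fun x hx => hL₁ x hx) (Ideal.span_le.mpr fun z hz => ?_))
  swap
  · obtain ⟨s, -, rfl⟩ := Finset.mem_image.mp hz
    exact hd s
  let σ : S' →+* T ⧸ L := (Ideal.Quotient.factor (le_sup_left : L₁ ≤ L)).comp σ₁
  have hσ : ∀ a, σ (algebraMap S₀' S' (f a)) = Ideal.Quotient.mk L (ψ a) := fun a => by
    show Ideal.Quotient.factor (le_sup_left : L₁ ≤ L) (σ₁ _) = _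
    rw [hσ₁, Ideal.Quotient.factor_mk]
  have hR : ∀ r : R, σ (algebraMap R S' r) = Ideal.Quotient.mk L (algebraMap S T (algebraMap R S r)) := fun r => by
    rw [IsScalarTower.algebraMap_apply R S₀' S', ← f.commutes, hσ]
    congr 1
    show algebraMap T₀ T (MvPolynomial.map (algebraMap R S) (MvPolynomial.C r)) = _
    rw [MvPolynomial.map_C, ← MvPolynomial.algebraMap_eq, ← IsScalarTower.algebraMap_apply]
  have hSeq : σ.comp (algebraMap S S') = (Ideal.Quotient.mk L).comp (algebraMap S T) := by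
    refine IsLocalization.ringHom_ext M ?_
    let qR : R →+* T ⧸ L := (Ideal.Quotient.mk L).comp ((algebraMap S T).comp (algebraMap R S))
    letI : Algebra R (T ⧸ L) := qR.toAlgebra' fun c x => Commute.all (qR c) x
    let a₁ : S₀ →ₐ[R] T ⧸ L := { (σ.comp (algebraMap S S')).comp (algebraMap S₀ S) with
      commutes' := fun r => by
        show σ (algebraMap S S' (algebraMap S₀ S (algebraMap R S₀ r))) = _
        rw [← IsScalarTower.algebraMap_apply R S₀ S, ← IsScalarTower.algebraMap_apply R S S', hR]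
        rfl }
    let a₂ : S₀ →ₐ[R] T ⧸ L := { ((Ideal.Quotient.mk L).comp (algebraMap S T)).comp (algebraMap S₀ S) with
      commutes' := fun r => by
        show Ideal.Quotient.mk L (algebraMap S T (algebraMap S₀ S (algebraMap R S₀ r))) = _
        rw [← IsScalarTower.algebraMap_apply R S₀ S]
        rfl }
    refine congrArg AlgHom.toRingHom (AlgHom.ext_of_adjoin_eq_top (φ₁ := a₁) (φ₂ := a₂) hGS fun s hs => ?_)
    show σ (algebraMap S S' (algebraMap S₀ S s)) = Ideal.Quotient.mk L (algebraMap S T (algebraMap S₀ S s))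
    show Ideal.Quotient.factor (le_sup_left : L₁ ≤ L) (σ₁ _) = _
    rw [← ht, Ideal.Quotient.factor_mk, eq_comm, Ideal.Quotient.eq]
    exact Ideal.mem_sup_right (Submodule.subset_span (Finset.mem_image_of_mem d hs))
  have hfin : σ.comp π.toRingHom = Ideal.Quotient.mk L := by
    refine IsLocalization.ringHom_ext Q.primeCompl (MvPolynomial.ringHom_ext (fun s => ?_) (fun i => ?_))
    · show σ (π₀ (algebraMap T₀ T (algebraMap S T₀ s))) = Ideal.Quotient.mk L (algebraMap T₀ T (algebraMap S T₀ s))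
      rw [hπ₀, AlgHom.commutes, ← IsScalarTower.algebraMap_apply]
      exact RingHom.congr_fun hSeq s
    · show σ (π₀ (algebraMap T₀ T (MvPolynomial.X i))) = _
      rw [hπ₀, MvPolynomial.aeval_X, hσ]
      show Ideal.Quotient.mk L (algebraMap T₀ T (MvPolynomial.map _ (MvPolynomial.X i))) = _
      rw [MvPolynomial.map_X]
      rfl
  intro x hx
  rw [← Ideal.Quotient.eq_zero_iff_mem, ← hfin, RingHom.comp_apply, RingHom.mem_ker.mp hx, map_zero]

end Groth.Agent.H1CAlg.FibreFlat
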