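import Groth.Agent.H29Fitt.LocFree
import Mathlib.RingTheory.LocalRing.Module
import Mathlib.RingTheory.LocalProperties.Projective
import Mathlib.RingTheory.Spectrum.Prime.FreeLocus

/-!
# Fitting ideals and projective modules of constant rank
-/

set_option autoImplicit false
universe u

namespace Groth.Agent.H1CAlg.FittProj

open Groth.Agent.H29Fitt TensorProduct

variable {R : Type u} [CommRing R] {M : Type u} [AddCommGroup M] [Module R M] [Module.Finite R M]

/-- Fitting ideals of localised modules. -/
theorem ideal_localized (S : Submonoid R) (k : ℕ) :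
    Fitt.ideal (Localization S) (LocalizedModule S M) k =
      (Fitt.ideal R M k).map (algebraMap R (Localization S)) := by
  let e := ((isLocalizedModule_iff_isBaseChange S (Localization S)
    (LocalizedModule.mkLinearMap S M)).mp inferInstance).equiv
  rw [← ideal_baseChange k]
  exact le_antisymm (ideal_mono_of_surjective e.symm.toLinearMap e.symm.surjective k)
    (ideal_mono_of_surjective e.toLinearMap e.surjective k)

/-- A finite projective module of rank `r` has trivial Fitting ideals. -/
theorem ideal_of_projective [Module.Projective R M] {r : ℕ}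
    (hr : ∀ p : PrimeSpectrum R, Module.rankAtStalk M p = r) (k : ℕ) :
    Fitt.ideal R M k = if r ≤ k then ⊤ else ⊥ := by
  have key : ∀ p : PrimeSpectrum R,
      (Fitt.ideal R M k).map (algebraMap R (Localization.AtPrime p.asIdeal)) = if r ≤ k then ⊤ else ⊥ := by
    intro p
    haveI : Module.Free (Localization.AtPrime p.asIdeal) (LocalizedModule p.asIdeal.primeCompl M) :=
      Module.free_of_flat_of_isLocalRing
    haveI : Module.Finite (Localization.AtPrime p.asIdeal) (LocalizedModule p.asIdeal.primeCompl M) :=
      Module.Finite.of_isLocalizedModule p.asIdeal.primeCompl (LocalizedModule.mkLinearMap p.asIdeal.primeCompl M)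
    have hfr : Module.finrank (Localization.AtPrime p.asIdeal) (LocalizedModule p.asIdeal.primeCompl M) = r := hr p
    let b := (Module.finBasis (Localization.AtPrime p.asIdeal) (LocalizedModule p.asIdeal.primeCompl M))
    rw [← ideal_localized]
    split_ifs with hk
    · exact ideal_eq_top_of_span b b.span_eq (hfr.trans_le hk)
    · exact ideal_eq_bot_of_independent b b.span_eq
        (fun c hc => funext (Fintype.linearIndependent_iff.1 b.linearIndependent c hc)) (by omega)
  split_ifs with hk
  · by_contra hne
    obtain ⟨m, hm, hle⟩ := Ideal.exists_le_maximal _ hne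
    have h1 := key ⟨m, hm.isPrime⟩
    rw [if_pos hk] at h1
    exact (IsLocalRing.maximalIdeal.isMaximal (Localization.AtPrime m)).ne_top
      (top_le_iff.1 ((h1.ge.trans (Ideal.map_mono hle)).trans Localization.AtPrime.map_eq_maximalIdeal.le))
  · refine eq_bot_iff.2 fun x hx => ?_
    refine eq_zero_of_localization x fun m hm => ?_
    have h1 := key ⟨m, hm.isPrime⟩
    rw [if_neg hk] at h1
    exact (Ideal.mem_bot).1 (h1.le (Ideal.mem_map_of_mem _ hx))

theorem projective_iff [Module.FinitePresentation R M] (r : ℕ) :
    (Module.Projective R M ∧ ∀ p : PrimeSpectrum R, Module.rankAtStalk M p = r) ↔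
      ((∀ k < r, Fitt.ideal R M k = ⊥) ∧ Fitt.ideal R M r = ⊤) := by
  refine ⟨fun ⟨h, hr⟩ => ?_, fun ⟨h0, h1⟩ => ?_⟩
  · haveI := h
    exact ⟨fun k hk => by rw [ideal_of_projective hr, if_neg (by omega)],
      by rw [ideal_of_projective hr, if_pos le_rfl]⟩
  have key : ∀ p : PrimeSpectrum R,
      Module.Free (Localization.AtPrime p.asIdeal) (LocalizedModule p.asIdeal.primeCompl M) ∧
        Module.rankAtStalk M p = r := by
    intro p
    obtain ⟨f, hf, m, hm⟩ := exists_spansUpTo_powers (M := M) (k := r) (p := p.asIdeal)
      fun h => p.isPrime.ne_top (top_le_iff.1 (h1.ge.trans h))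
    have hm' : SpansUpTo p.asIdeal.primeCompl m := fun x => by
      obtain ⟨s, hs, hsx⟩ := hm x
      obtain ⟨n, rfl⟩ := hs
      exact ⟨f ^ n, fun hn => hf (p.isPrime.mem_of_pow_mem n hn), hsx⟩
    let x : Fin r → LocalizedModule p.asIdeal.primeCompl M := fun j => LocalizedModule.mk (m j) 1
    have hx := span_localized_of_spansUpTo hm'
    haveI : Module.Finite (Localization.AtPrime p.asIdeal) (LocalizedModule p.asIdeal.primeCompl M) :=
      Module.Finite.of_isLocalizedModule p.asIdeal.primeCompl (LocalizedModule.mkLinearMap p.asIdeal.primeCompl M)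
    have hind : LinearIndependent (Localization.AtPrime p.asIdeal) x :=
      Fintype.linearIndependent_iff.2 fun c hc => congrFun (eq_zero_of_ideal_eq_bot x hx
        (fun k hk => by rw [ideal_localized, h0 k hk, Ideal.map_bot]) c hc)
    let b := Module.Basis.mk hind hx.ge
    exact ⟨Module.Free.of_basis b, (Module.finrank_eq_card_basis b).trans (Fintype.card_fin r)⟩
  refine ⟨Module.projective_of_localization_maximal fun I hI => ?_, fun p => (key p).2⟩
  haveI := (key ⟨I, hI.isPrime⟩).1
  infer_instance

end Groth.Agent.H1CAlg.FittProj
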