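import Groth.Agent.H7Flat.FibreCriterion
import Mathlib.RingTheory.Flat.Stability
import Mathlib.RingTheory.Ideal.Quotient.Operations
import Mathlib.LinearAlgebra.TensorProduct.Tower

/-!
# Dévissage for flatness
-/

set_option autoImplicit false

universe u

open TensorProduct

namespace Groth.Agent.H1CAlg.FlatDev

variable {R : Type u} [CommRing R] {M : Type u} [AddCommGroup M] [Module R M]

/-- Injectivity of `f ⊗_S (S ⊗_R M)` in terms of `f ⊗_R M`. -/
theorem rTensor_baseChange_injective_iff {S : Type u} [CommRing S] [Algebra R S] {P Q : Type u}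
    [AddCommGroup P] [Module R P] [Module S P] [IsScalarTower R S P]
    [AddCommGroup Q] [Module R Q] [Module S Q] [IsScalarTower R S Q] (f : P →ₗ[S] Q) :
    Function.Injective (f.rTensor (S ⊗[R] M)) ↔
      Function.Injective ((f.restrictScalars R).rTensor M) := by
  let eP := AlgebraTensorModule.cancelBaseChange R S S P M
  let eQ := AlgebraTensorModule.cancelBaseChange R S S Q M
  have key : (f.rTensor (S ⊗[R] M) : _ → _) = eQ.symm ∘ ((f.restrictScalars R).rTensor M) ∘ eP := by
    funext x
    apply eQ.injective
    rw [Function.comp_apply, Function.comp_apply, eQ.apply_symm_apply]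
    induction x with
    | zero => simp
    | tmul p q =>
      induction q with
      | zero => simp
      | tmul a m => simp [eP, eQ]
      | add q q' hq hq' => simp only [tmul_add, map_add, hq, hq']
    | add x y hx hy => simp only [map_add, hx, hy]
  rw [key]
  exact (EquivLike.comp_injective _ eQ.symm).trans (EquivLike.injective_comp eP _)

/-- If `M/IM` is flat over `R/I`, so is `T ⊗ M` over any `R/I`-algebra `T`. -/
theorem flat_baseChange_of_killed (I : Ideal R) [Module.Flat (R ⧸ I) ((R ⧸ I) ⊗[R] M)]
    (T : Type u) [CommRing T] [Algebra R T] (hI : ∀ a ∈ I, algebraMap R T a = 0) :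
    Module.Flat T (T ⊗[R] M) := by
  letI : Algebra (R ⧸ I) T := (Ideal.Quotient.lift I (algebraMap R T) hI).toAlgebra
  haveI : IsScalarTower R (R ⧸ I) T := IsScalarTower.of_algebraMap_eq fun _ => rfl
  exact Module.Flat.of_linearEquiv (AlgebraTensorModule.cancelBaseChange R (R ⧸ I) T T M).symm

/-- If `M/JM` is flat over `R/J` and `J ⊗ M → M` is injective, then tensoring with `M` preserves
injectivity into `N` as soon as it does so into `J N`. -/
theorem lTensor_injective_step (J : Ideal R) (h : Function.Injective (J.subtype.lTensor M))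
    [Module.Flat (R ⧸ J) ((R ⧸ J) ⊗[R] M)] {N : Type u} [AddCommGroup N] [Module R N]
    (hN : ∀ P : Submodule R ↥(J • (⊤ : Submodule R N)), Function.Injective (P.subtype.lTensor M))
    (N' : Submodule R N) : Function.Injective (N'.subtype.lTensor M) := by
  rw [injective_iff_map_eq_zero]
  intro x hx
  let P : Submodule R N := J • ⊤
  let q : N' →ₗ[R] N ⧸ P := P.mkQ ∘ₗ N'.subtype
  have hex : Function.Exact (Submodule.inclusion (inf_le_left : N' ⊓ P ≤ N')) q.rangeRestrict := by
    intro z
    refine ⟨fun hz => ?_, ?_⟩
    · exact ⟨⟨z.1, z.2, (Submodule.Quotient.mk_eq_zero _).mp (congrArg Subtype.val hz)⟩,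
        Subtype.ext rfl⟩
    · rintro ⟨v, rfl⟩
      exact Subtype.ext ((Submodule.Quotient.mk_eq_zero _).mpr v.2.2)
  obtain ⟨y, rfl⟩ := (lTensor_exact M hex q.surjective_rangeRestrict x).mp
    (H7Flat.lTensor_subtype_injective_of_flat_quotient (M := M) (Q := N ⧸ (J • ⊤ : Submodule R N))
      J (LinearMap.range q) (by
      rw [map_zero, ← LinearMap.lTensor_comp_apply,
        show (LinearMap.range q).subtype ∘ₗ q.rangeRestrict = P.mkQ ∘ₗ N'.subtype from rfl,
        LinearMap.lTensor_comp_apply, hx, map_zero]))
  let ι : ↥(N' ⊓ P) →ₗ[R] P := Submodule.inclusion inf_le_right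
  have hι : Function.Injective (ι.lTensor M) := by
    have e : ι = (LinearMap.range ι).subtype ∘ₗ
        (LinearEquiv.ofInjective ι (Submodule.inclusion_injective _)).toLinearMap := rfl
    rw [e, LinearMap.lTensor_comp]
    exact (hN _).comp (LinearEquiv.lTensor M _).injective
  have : y = 0 := hι <| H7Flat.lTensor_smul_top_injective J h N <| by
    rw [map_zero, map_zero, ← hx, ← LinearMap.lTensor_comp_apply, ← LinearMap.lTensor_comp_apply]
    rfl
  rw [this, map_zero]

/-- A submodule of a module killed by an ideal modulo which `M` is flat stays injective after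
tensoring. -/
theorem lTensor_injective_of_killed (I : Ideal R) [Module.Flat (R ⧸ I) ((R ⧸ I) ⊗[R] M)]
    {Q : Type u} [AddCommGroup Q] [Module R Q] (hQ : ∀ a ∈ I, ∀ x : Q, a • x = 0)
    (P : Submodule R Q) : Function.Injective (P.subtype.lTensor M) := by
  have ht : Module.IsTorsionBySet R Q I := fun x a => hQ a a.2 x
  letI : Module (R ⧸ I) Q := ht.module
  haveI : IsScalarTower R (R ⧸ I) Q := ht.isScalarTower
  exact H7Flat.lTensor_subtype_injective_of_flat_quotient (M := M) (Q := Q) I P

end Groth.Agent.H1CAlg.FlatDev
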