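import Groth.Agent.H06EGA11.Loc
import Groth.Agent.H8Props.FlatLocus.Module
import Mathlib.Algebra.Module.LocalizedModule.Submodule
import Mathlib.RingTheory.Spectrum.Prime.Topology
import Mathlib.RingTheory.Finiteness.Basic
import Mathlib.RingTheory.Flat.Basic

/-!
# Finite presentation of flat finite type modules

A flat, finite module over a finitely presented `R`-algebra `P` which is finitely presented
locally on `Spec R` is finitely presented as soon as `R` embeds in finitely many of its local rings.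
-/

set_option autoImplicit false

universe u

open TensorProduct

namespace Groth.Agent.H1CAlg.FlatFiniteType

variable {R : Type u} [CommRing R]

/-- An element of a flat module killed, for each of the primes `s`, by an element outside it is zero. -/
theorem eq_zero_of_flat (s : Finset (PrimeSpectrum R))
    (hs : Function.Injective fun r : R => fun p : s => algebraMap R (Localization.AtPrime p.1.asIdeal) r)
    {N : Type u} [AddCommGroup N] [Module R N] [Module.Flat R N] (z : N)
    (h : ∀ p ∈ s, ∃ r : R, r ∉ p.asIdeal ∧ r • z = 0) : z = 0 := by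
  classical
  let u : R →ₗ[R] (∀ p : s, Localization.AtPrime p.1.asIdeal) :=
    LinearMap.pi fun p => Algebra.linearMap R _
  have hu : Function.Injective u := hs
  have h1 := Module.Flat.lTensor_preserves_injective_linearMap (M := N) u hu
  have h2 : u.lTensor N (z ⊗ₜ[R] (1 : R)) = 0 := by
    rw [LinearMap.lTensor_tmul, show u 1 = ∑ p, Pi.single p (u 1 p) from
      (Finset.univ_sum_single (u 1)).symm, tmul_sum]
    refine Finset.sum_eq_zero fun p _ => ?_
    obtain ⟨r, hr, hrz⟩ := h p.1 p.2
    obtain ⟨w, hw⟩ := (IsLocalization.map_units (Localization.AtPrime p.1.asIdeal)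
      (⟨r, hr⟩ : p.1.asIdeal.primeCompl)).exists_right_inv
    have he : (Pi.single p (u 1 p) : ∀ q : s, Localization.AtPrime q.1.asIdeal) =
        r • Pi.single p (w * u 1 p) := by
      funext q
      rcases eq_or_ne q p with rfl | hq
      · rw [Pi.smul_apply, Pi.single_eq_same, Pi.single_eq_same, Algebra.smul_def, ← mul_assoc, hw,
          one_mul]
      · rw [Pi.smul_apply, Pi.single_eq_of_ne hq, Pi.single_eq_of_ne hq, smul_zero]
    rw [he, tmul_smul, smul_tmul', hrz, zero_tmul]
  have h3 : z ⊗ₜ[R] (1 : R) = 0 := h1 (by rw [h2, map_zero])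
  simpa using congrArg (TensorProduct.rid R N) h3

variable {P : Type u} [CommRing P] [Algebra R P] {F M : Type u}
  [AddCommGroup F] [Module R F] [Module P F] [IsScalarTower R P F]
  [AddCommGroup M] [Module R M] [Module P M] [IsScalarTower R P M]

/-- `F ⧸ J` is flat at a prime where it agrees with the flat quotient `M`. -/
theorem flat_localized_quotient (π : F →ₗ[P] M) (hπ : Function.Surjective π) [Module.Flat R M] (J : Submodule P F)
    (hJ : J ≤ LinearMap.ker π) (Q : Ideal P) [Q.IsPrime]
    (h : ∀ x ∈ LinearMap.ker π, ∃ t : P, t ∉ Q ∧ t • x ∈ J) :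
    Module.Flat R (LocalizedModule Q.primeCompl (F ⧸ J)) := by
  refine H06EGA11.flat_localizedModule Q.primeCompl fun a x hx => ?_
  let πb : (F ⧸ J) →ₗ[P] M := J.liftQ π hJ
  let κ : LinearMap.ker π →ₗ[P] F ⧸ J := J.mkQ.comp (LinearMap.ker π).subtype
  have hex : Function.Exact (κ.restrictScalars R) (πb.restrictScalars R) := by
    intro y
    obtain ⟨y, rfl⟩ := Submodule.Quotient.mk_surjective J y
    refine ⟨fun hy => ⟨⟨y, hy⟩, rfl⟩, ?_⟩
    rintro ⟨w, hw⟩
    rw [← hw]
    exact w.2
  have hπx : (πb.restrictScalars R).rTensor a x = 0 := by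
    refine Module.Flat.lTensor_preserves_injective_linearMap (M := M) (Submodule.subtype a)
      Subtype.val_injective ?_
    rw [map_zero, ← LinearMap.comp_apply, LinearMap.lTensor_comp_rTensor,
      ← LinearMap.rTensor_comp_lTensor, LinearMap.comp_apply, hx, map_zero]
  have hsurj : Function.Surjective (πb.restrictScalars R) := fun m => by
    obtain ⟨y, rfl⟩ := hπ m
    exact ⟨Submodule.Quotient.mk y, rfl⟩
  obtain ⟨w, rfl⟩ := ((rTensor_exact a hex hsurj) x).mp hπx
  clear hx hπx
  induction w with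
  | zero => exact ⟨1, one_mem _, by simp⟩
  | tmul k c =>
    obtain ⟨t, ht, htk⟩ := h k.1 k.2
    refine ⟨t, ht, ?_⟩
    rw [LinearMap.rTensor_tmul, smul_tmul']
    have : t • (κ.restrictScalars R) k = 0 := by
      show t • Submodule.Quotient.mk (k : F) = 0
      rw [← Submodule.Quotient.mk_smul, Submodule.Quotient.mk_eq_zero]
      exact htk
    rw [this, zero_tmul]
  | add y y' hy hy' =>
    obtain ⟨t, ht, hty⟩ := hy
    obtain ⟨t', ht', hty'⟩ := hy'
    refine ⟨t * t', mul_mem ht ht', ?_⟩
    rw [map_add, smul_add, mul_comm t t', mul_smul t' t, hty, smul_zero, mul_comm t' t, mul_smul,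
      hty', smul_zero, add_zero]

/-- Finitely many elements generate a locally finitely presented kernel near a prime of `R`. -/
theorem exists_local_generators (π : F →ₗ[P] M) (hπ : Function.Surjective π) [Module.Finite P F]
    (p : Ideal R) [p.IsPrime]
    (hloc : Module.FinitePresentation
        (Localization (Algebra.algebraMapSubmonoid P p.primeCompl))
        (LocalizedModule (Algebra.algebraMapSubmonoid P p.primeCompl) M)) :
    ∃ J : Submodule P F, J.FG ∧ J ≤ LinearMap.ker π ∧
      ∀ x ∈ LinearMap.ker π, ∃ r : R, r ∉ p ∧ algebraMap R P r • x ∈ J := by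
  classical
  set K := LinearMap.ker π
  let T := Algebra.algebraMapSubmonoid P p.primeCompl
  let Pp := Localization T
  let f := LocalizedModule.mkLinearMap T F
  let f' := LocalizedModule.mkLinearMap T M
  haveI : Module.Finite Pp (LocalizedModule T F) := Module.Finite.of_isLocalizedModule T f
  let πp : LocalizedModule T F →ₗ[Pp] LocalizedModule T M :=
    (IsLocalizedModule.map T f f' π).extendScalarsOfIsLocalization T Pp
  have hπp : Function.Surjective πp := IsLocalizedModule.map_surjective T f f' π hπ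
  haveI := hloc
  obtain ⟨G, hG⟩ := Module.FinitePresentation.fg_ker πp hπp
  have hkerp : (K.localized' Pp T f) = LinearMap.ker πp :=
    LinearMap.localized'_ker_eq_ker_localizedMap Pp T f f' π
  have hgen : ∀ y ∈ G, ∃ m ∈ K, ∃ t : T, IsLocalizedModule.mk' f m t = y := fun y hy =>
    (Submodule.mem_localized' Pp T f K y).mp (hkerp.symm ▸ hG ▸ Submodule.subset_span hy)
  choose! m hm t ht using hgen
  let J : Submodule P F := Submodule.span P (G.image m : Set F)
  have hJK : J ≤ K := Submodule.span_le.mpr fun y hy => by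
    obtain ⟨z, hz, rfl⟩ := Finset.mem_image.mp hy
    exact hm z hz
  refine ⟨J, ⟨G.image m, rfl⟩, hJK, fun x hx => ?_⟩
  have hsub : LinearMap.ker πp ≤ J.localized' Pp T f := by
    rw [← hG, Submodule.span_le]
    intro y hy
    exact (Submodule.mem_localized' Pp T f J y).mpr
      ⟨m y, Submodule.subset_span (Finset.mem_image_of_mem m hy), t y, ht y hy⟩
  have hx' : IsLocalizedModule.mk' f x (1 : T) ∈ LinearMap.ker πp :=
    hkerp ▸ (Submodule.mem_localized' Pp T f K _).mpr ⟨x, hx, 1, rfl⟩
  obtain ⟨w, hw, c, hc⟩ := (Submodule.mem_localized' Pp T f J _).mp (hsub hx')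
  obtain ⟨⟨d, hd⟩, hd'⟩ := (IsLocalizedModule.mk'_eq_mk'_iff f w x c 1).mp hc
  obtain ⟨r, hr, hrd⟩ := c.2
  obtain ⟨r', hr', hrd'⟩ := hd
  refine ⟨r' * r, mul_mem hr' hr, ?_⟩
  rw [map_mul, hrd', hrd, mul_smul]
  have h' : d • ((c : P) • x) = d • w := by simpa [Submonoid.smul_def] using hd'
  rw [h']
  exact J.smul_mem d hw

/-- The main statement. -/
theorem ker_fg [Algebra.FinitePresentation R P] [Module.Flat R M] [Module.FinitePresentation P F]
    (π : F →ₗ[P] M) (hπ : Function.Surjective π) (s : Finset (PrimeSpectrum R))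
    (hs : Function.Injective fun r : R => fun p : s => algebraMap R (Localization.AtPrime p.1.asIdeal) r)
    (hA : ∀ (p : Ideal R) [p.IsPrime], ∃ J : Submodule P F, J.FG ∧ J ≤ LinearMap.ker π ∧
      ∀ x ∈ LinearMap.ker π, ∃ r : R, r ∉ p ∧ algebraMap R P r • x ∈ J) :
    (LinearMap.ker π).FG := by
  classical
  set K := LinearMap.ker π
  choose JJ hJfg hJK hJ using fun p : PrimeSpectrum R => hA p.asIdeal
  -- every prime of `P` has a neighbourhood on which `K` is finitely generated
  have hB : ∀ Q : PrimeSpectrum P, ∃ (J : Submodule P F) (g : P), J.FG ∧ J ≤ K ∧ g ∉ Q.asIdeal ∧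
      ∀ x ∈ K, ∃ n : ℕ, g ^ n • x ∈ J := by
    intro Q
    let q := PrimeSpectrum.comap (algebraMap R P) Q
    let J : Submodule P F := JJ q ⊔ ⨆ p ∈ s, JJ p
    have hfg : J.FG := (hJfg q).sup (Submodule.fg_biSup s _ fun p _ => hJfg p)
    have hle : J ≤ K := sup_le (hJK q) (iSup₂_le fun p _ => hJK p)
    haveI : Module.FinitePresentation P (F ⧸ J) :=
      Module.finitePresentation_of_surjective J.mkQ J.mkQ_surjective (by rwa [Submodule.ker_mkQ])
    have hQflat : Module.Flat R (LocalizedModule Q.asIdeal.primeCompl (F ⧸ J)) := by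
      refine flat_localized_quotient π hπ J hle Q.asIdeal fun x hx => ?_
      obtain ⟨r, hr, hrx⟩ := hJ q x hx
      exact ⟨algebraMap R P r, hr, (le_sup_left : JJ q ≤ J) hrx⟩
    obtain ⟨_, ⟨g, rfl⟩, hgQ, hgU⟩ :=
      PrimeSpectrum.isTopologicalBasis_basic_opens.exists_subset_of_mem_open
        (a := Q) hQflat (H8Props.FlatLocus.isOpen_setOf_flat_localizedModule R P (F ⧸ J))
    refine ⟨J, g, hfg, hle, hgQ, fun x hx => ?_⟩
    let A : Ideal P := Submodule.comap (LinearMap.toSpanSingleton P F x) J
    have hAmem : ∀ a, a ∈ A ↔ a • x ∈ J := fun a => Iff.rfl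
    have hg : g ∈ A.radical := by
      rw [Ideal.radical_eq_sInf, Submodule.mem_sInf]
      rintro Q' ⟨hAQ', hQ'⟩
      by_contra hgQ'
      haveI : Module.Flat R (LocalizedModule (Ideal.primeCompl Q') (F ⧸ J)) := hgU (a := ⟨Q', hQ'⟩) hgQ'
      let f := LocalizedModule.mkLinearMap (Ideal.primeCompl Q') (F ⧸ J)
      have hz : f (Submodule.Quotient.mk x) = 0 := by
        refine eq_zero_of_flat s hs _ fun p hp => ?_
        obtain ⟨r, hr, hrx⟩ := hJ p x hx
        refine ⟨r, hr, ?_⟩
        have h0 : algebraMap R P r • x ∈ J :=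
          (le_trans (le_iSup₂_of_le p hp le_rfl) le_sup_right : JJ p ≤ J) hrx
        rw [← algebraMap_smul P r, ← map_smul, ← Submodule.Quotient.mk_smul,
          (Submodule.Quotient.mk_eq_zero J).mpr h0, map_zero]
      obtain ⟨t, ht⟩ := (IsLocalizedModule.eq_zero_iff (Ideal.primeCompl Q') f).mp hz
      rw [Submonoid.smul_def, ← Submodule.Quotient.mk_smul, Submodule.Quotient.mk_eq_zero] at ht
      exact t.2 (hAQ' ((hAmem _).mpr ht))
    obtain ⟨n, hn⟩ := hg
    exact ⟨n, (hAmem _).mp hn⟩
  choose J g hfg hle hgQ hgn using hB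
  have hspan : Ideal.span (Set.range g) = ⊤ := by
    by_contra hne
    obtain ⟨Q, hQ, hQle⟩ := Ideal.exists_le_maximal _ hne
    exact hgQ ⟨Q, hQ.isPrime⟩ (hQle (Ideal.subset_span ⟨_, rfl⟩))
  obtain ⟨t, htg, ht⟩ := Ideal.span_eq_top_iff_finite _ |>.mp hspan
  have hsec : ∀ a : t, ∃ Q, g Q = a.1 := fun a => htg a.2
  choose σ hσ using hsec
  let Jt : Submodule P F := ⨆ a : t, J (σ a)
  suffices K = Jt from this ▸ Submodule.fg_iSup _ fun a => hfg _
  refine le_antisymm (fun x hx => ?_) (iSup_le fun a => hle _)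
  let A : Ideal P := Submodule.comap (LinearMap.toSpanSingleton P F x) Jt
  have hA' : A.radical = ⊤ := by
    refine top_le_iff.mp (ht.ge.trans (Ideal.span_le.mpr fun a ha => ?_))
    obtain ⟨n, hn⟩ := hgn (σ ⟨a, ha⟩) x hx
    rw [hσ ⟨a, ha⟩] at hn
    exact ⟨n, (le_iSup (fun a : t => J (σ a)) ⟨a, ha⟩ : J (σ ⟨a, ha⟩) ≤ Jt) hn⟩
  have : (1 : P) • x ∈ Jt := show (1 : P) ∈ A by
    rw [Ideal.radical_eq_top.mp hA']; trivial
  simpa using this

end Groth.Agent.H1CAlg.FlatFiniteType
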