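import Groth.Agent.H1CAlg.FullFiniteType
import Groth.Agent.H05EGA4.CompleteNormalization

/-!
Finitely generated domains over complete local rings have enough derivations in characteristic `p`.
-/

set_option autoImplicit false
set_option linter.style.haveILetI false

universe u

namespace Groth.Agent.H1CAlg.FullFT

open Groth.Agent.H05EGA4 IsLocalRing

/-- The fraction field of an algebraic finitely generated extension is finite over the fraction field. -/
theorem finite_fractionField (R B L : Type u) [CommRing R] [IsDomain R] [CommRing B] [IsDomain B] [Field L]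
    [Algebra B L] [IsFractionRing B L] [Algebra R B] [Algebra.FiniteType R B] [Algebra.IsAlgebraic R B]
    (K : Type u) [Field K] [Algebra R K] [IsFractionRing R K] [Algebra K L] [Algebra R L] [IsScalarTower R K L]
    [IsScalarTower R B L] : FiniteDimensional K L := by
  haveI : FaithfulSMul R L := (faithfulSMul_iff_algebraMap_injective R L).mpr (by
    rw [IsScalarTower.algebraMap_eq R K L]
    exact (algebraMap K L).injective.comp (IsFractionRing.injective R K))
  haveI : Algebra.IsAlgebraic R L := (IsFractionRing.isAlgebraic_iff' R B L).mp inferInstance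
  haveI : Algebra.IsAlgebraic K L := (IsFractionRing.comap_isAlgebraic_iff (A := R) (K := K) (C := L)).mp inferInstance
  haveI : Algebra.EssFiniteType B L := Algebra.EssFiniteType.of_isLocalization L (nonZeroDivisors B)
  haveI : Algebra.EssFiniteType R L := Algebra.EssFiniteType.comp R B L
  haveI : Algebra.EssFiniteType K L := Algebra.EssFiniteType.of_comp R K L
  exact Algebra.finite_of_essFiniteType_of_isAlgebraic

/-- Fullness of complete local domains. -/
theorem isFull_complete (p : ℕ) [hp : Fact p.Prime] (A : Type u) [CommRing A] [IsDomain A] [IsLocalRing A]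
    [IsNoetherianRing A] [IsAdicComplete (maximalIdeal A) A] [CharP A p] : IsFull A (FractionRing A) p := by
  obtain ⟨Λ, _, n, f, hΛ, hinj, hfin, -⟩ := exists_coefficientRing_of_domain A
  obtain ⟨_, _, _, -⟩ := coefficientRing_spec (hΛ.imp And.left And.left)
  rcases hΛ with ⟨hF, hc⟩ | ⟨-, h0⟩
  · rw [ringChar.eq A p] at hc
    letI := hF.toField
    have : IsDomain (MvPowerSeries (Fin n) Λ) := NoZeroDivisors.to_isDomain _
    let P0 := MvPowerSeries (Fin n) Λ
    letI : Algebra P0 A := f.toAlgebra
    haveI : Module.Finite P0 A := hfin
    haveI : FaithfulSMul P0 A := (faithfulSMul_iff_algebraMap_injective _ _).mpr hinj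
    have hi : Function.Injective (algebraMap P0 (FractionRing A)) := by
      rw [IsScalarTower.algebraMap_eq P0 A (FractionRing A)]
      exact (IsFractionRing.injective A (FractionRing A)).comp hinj
    letI : Algebra (FractionRing P0) (FractionRing A) := (IsFractionRing.lift hi).toAlgebra
    haveI : IsScalarTower P0 (FractionRing P0) (FractionRing A) :=
      IsScalarTower.of_algebraMap_eq fun r => (IsFractionRing.lift_algebraMap hi r).symm
    haveI : Algebra.IsAlgebraic P0 A := Algebra.IsAlgebraic.of_finite _ _
    haveI : Algebra.FiniteType P0 A := inferInstance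
    haveI := finite_fractionField P0 A (FractionRing A) (FractionRing P0)
    haveI : CharP (FractionRing P0) p := charP_of_injective_ringHom
      (f := (algebraMap P0 (FractionRing P0)).comp MvPowerSeries.C) (RingHom.injective _) p
    exact isFull_of_finiteType p P0 (FractionRing P0) A (FractionRing A) (isFull_mvPowerSeries_fin Λ n p)
  · exfalso
    haveI := h0
    have h1 : ((f.comp MvPowerSeries.C) (p : Λ)) = 0 := by rw [map_natCast, CharP.cast_eq_zero]
    have h2 : Function.Injective (f.comp MvPowerSeries.C) := hinj.comp MvPowerSeries.C_injective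
    exact hp.out.ne_zero (Nat.cast_eq_zero.mp ((map_eq_zero_iff _ h2).mp h1))

/-- Fullness of finitely generated domains over a base with enough derivations. -/
theorem isFull_of_base (p : ℕ) [hp : Fact p.Prime] (A B : Type u) [CommRing A] [IsDomain A] [CommRing B] [IsDomain B]
    [Algebra A B] [Algebra.FiniteType A B] (hinj : Function.Injective (algebraMap A B)) [CharP A p]
    (hA : IsFull A (FractionRing A) p) : IsFull B (FractionRing B) p := by
  classical
  haveI : FaithfulSMul A B := (faithfulSMul_iff_algebraMap_injective A B).mpr hinj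
  obtain ⟨T, hT⟩ := ‹Algebra.FiniteType A B›.out
  haveI : Algebra.IsAlgebraic (Algebra.adjoin A (T : Set B)) B := ⟨fun b => by
    have := isAlgebraic_algebraMap (R := Algebra.adjoin A (T : Set B)) (A := B) ⟨b, hT ▸ Algebra.mem_top⟩
    exact this⟩
  obtain ⟨t, htT, ht⟩ := exists_isTranscendenceBasis_subset (R := A) (T : Set B)
  haveI : Finite t := (T.finite_toSet.subset htT).to_subtype
  let ι := Fin (Nat.card t)
  let x : ι → B := fun i => ((Finite.equivFin t).symm i : B)
  have hx : IsTranscendenceBasis A x := ht.comp_equiv (Finite.equivFin t).symm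
  haveI := hx.isAlgebraic
  let P1 := MvPolynomial ι A
  letI : Algebra P1 B := (MvPolynomial.aeval x).toRingHom.toAlgebra
  haveI : IsScalarTower A P1 B := IsScalarTower.of_algebraMap_eq fun a => ((MvPolynomial.aeval x).commutes a).symm
  haveI : Algebra.FiniteType P1 B := Algebra.FiniteType.of_restrictScalars_finiteType A P1 B
  haveI : Algebra.IsAlgebraic P1 B := ⟨fun b => by
    obtain ⟨g, hg0, hg⟩ := (Algebra.IsAlgebraic.isAlgebraic (R := Algebra.adjoin A (Set.range x)) b)
    refine ⟨g.map hx.1.aevalEquiv.symm.toRingEquiv.toRingHom,
      (Polynomial.map_ne_zero_iff hx.1.aevalEquiv.symm.injective).mpr hg0, ?_⟩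
    rw [Polynomial.aeval_def, Polynomial.eval₂_map, ← hg, Polynomial.aeval_def]
    congr 1
    ext y
    show MvPolynomial.aeval x (hx.1.aevalEquiv.symm y) = _
    rw [← hx.1.algebraMap_aevalEquiv, AlgEquiv.apply_symm_apply]⟩
  have hi : Function.Injective (algebraMap P1 (FractionRing B)) := by
    rw [IsScalarTower.algebraMap_eq P1 B (FractionRing B)]
    exact (IsFractionRing.injective B (FractionRing B)).comp hx.1
  letI : Algebra (FractionRing P1) (FractionRing B) := (IsFractionRing.lift hi).toAlgebra
  haveI : IsScalarTower P1 (FractionRing P1) (FractionRing B) :=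
    IsScalarTower.of_algebraMap_eq fun r => (IsFractionRing.lift_algebraMap hi r).symm
  haveI := finite_fractionField P1 B (FractionRing B) (FractionRing P1)
  haveI : CharP (FractionRing A) p := charP_of_injective_algebraMap (IsFractionRing.injective A (FractionRing A)) p
  haveI : CharP (FractionRing P1) p := charP_of_injective_algebraMap (IsFractionRing.injective P1 (FractionRing P1)) p
  exact isFull_of_finiteType p P1 (FractionRing P1) B (FractionRing B)
    (isFull_mvPolynomial p A (FractionRing A) hA (Nat.card t) (FractionRing P1))

/-- An element without a `p`th root is moved by some derivation. -/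
theorem exists_derivation_ne_zero {B L : Type u} [CommRing B] [IsDomain B] [Field L] [Algebra B L]
    [IsFractionRing B L] (p : ℕ) (hB : IsFull B L p) (f : B) (hf : ∀ x : L, x ^ p ≠ algebraMap B L f) :
    ∃ D : Derivation ℤ B B, D f ≠ 0 := by
  obtain ⟨D, hD, hDf⟩ : ∃ D : Derivation ℤ L L, IsBdd B D ∧ D (algebraMap B L f) ≠ 0 := by
    by_contra h
    push Not at h
    obtain ⟨e, he⟩ := hB _ h
    exact hf e he
  obtain ⟨s, hs, hsD⟩ := hD
  choose g hg using hsD
  have hinj := IsFractionRing.injective B L
  let d₀ : B →+ B := AddMonoidHom.mk' g fun a b => hinj (by simp only [map_add, hg, mul_add])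
  let d : Derivation ℤ B B := Derivation.mk' d₀.toIntLinearMap fun a b => hinj (by
    show algebraMap B L (g (a * b)) = algebraMap B L (a • g b + b • g a)
    simp only [map_add, smul_eq_mul, map_mul, hg, D.leibniz]; ring)
  refine ⟨d, fun h => ?_⟩
  have h1 : algebraMap B L (g f) = 0 := by
    rw [show g f = d f from rfl, h, map_zero]
  rw [hg] at h1
  exact hDf ((mul_eq_zero.mp h1).resolve_left hs)

end Groth.Agent.H1CAlg.FullFT
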