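import Groth.Agent.H05EGA4.Derivations
import Groth.Agent.H05EGA4.FormalFibreFS

/-!
Fullness (enough bounded derivations) passes to finitely generated domains.
-/

set_option autoImplicit false
set_option linter.style.haveILetI false

universe u

namespace Groth.Agent.H1CAlg.FullFT

open Groth.Agent.H05EGA4

/-- A finite model of a finite extension of the fraction field. -/
theorem exists_model (R K E : Type u) [CommRing R] [IsDomain R] [Field K] [Field E] [Algebra R K]
    [IsFractionRing R K] [Algebra K E] [Algebra R E] [IsScalarTower R K E] [FiniteDimensional K E] :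
    ∃ R1 : Subalgebra R E, Module.Finite R R1 ∧ IsFractionRing R1 E := by
  classical
  let b := Module.finBasis K E
  haveI : Algebra.IsAlgebraic R E :=
    (IsFractionRing.comap_isAlgebraic_iff (A := R) (K := K) (C := E)).mpr inferInstance
  have hsc : ∀ i, ∃ t : R, t ≠ 0 ∧ IsIntegral R (t • b i) := fun i =>
    (Algebra.IsAlgebraic.isAlgebraic (R := R) (b i)).exists_integral_multiple
  choose t ht hint using hsc
  let R1 : Subalgebra R E := Algebra.adjoin R (Set.range fun i => t i • b i)
  refine ⟨R1, ?_, IsFractionRing.of_field _ _ fun z => ?_⟩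
  · exact Module.Finite.iff_fg.mpr (fg_adjoin_of_finite (Set.finite_range _)
      (by rintro _ ⟨i, rfl⟩; exact hint i))
  · obtain ⟨⟨v, hv⟩, hvi⟩ := IsLocalization.exist_integer_multiples (nonZeroDivisors R) Finset.univ
      fun i => b.repr z i / algebraMap R K (t i)
    choose n hn using fun i => hvi i (Finset.mem_univ i)
    refine ⟨∑ i, n i • ⟨t i • b i, Algebra.subset_adjoin ⟨i, rfl⟩⟩, algebraMap R R1 v, ?_⟩
    have hv0 : algebraMap R K v ≠ 0 := (IsLocalization.map_units K (⟨v, hv⟩ : nonZeroDivisors R)).ne_zero
    have hv1 : algebraMap R E v ≠ 0 := by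
      rw [IsScalarTower.algebraMap_apply R K E]; exact (map_ne_zero _).mpr hv0
    show z = ((∑ i, n i • (⟨t i • b i, _⟩ : R1) : R1) : E) / algebraMap R E v
    rw [eq_div_iff hv1, AddSubmonoidClass.coe_finset_sum]
    conv_lhs => rw [← b.sum_repr z, Finset.sum_mul]
    refine Finset.sum_congr rfl fun i _ => ?_
    have ht0 : algebraMap R K (t i) ≠ 0 := (map_ne_zero_iff _ (IsFractionRing.injective R K)).mpr (ht i)
    have h1 := hn i
    simp only [Algebra.smul_def] at h1
    show _ = n i • (t i • b i)
    rw [Algebra.smul_def, Algebra.smul_def, Algebra.smul_def, IsScalarTower.algebraMap_apply R K E v,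
      IsScalarTower.algebraMap_apply R K E (n i), IsScalarTower.algebraMap_apply R K E (t i), h1, map_mul,
      map_div₀]
    have : algebraMap K E (algebraMap R K (t i)) ≠ 0 := (map_ne_zero _).mpr ht0
    field_simp

/-- Fullness of some finite model, for purely inseparable extensions. -/
theorem exists_full_model_purelyInseparable (p : ℕ) [hp : Fact p.Prime] :
    ∀ (n : ℕ) (R K L : Type u) [CommRing R] [IsDomain R] [Field K] [Field L] [Algebra R K] [IsFractionRing R K]
      [Algebra K L] [Algebra R L] [IsScalarTower R K L] [FiniteDimensional K L] [IsPurelyInseparable K L] [CharP K p],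
      Module.finrank K L ≤ n → IsFull R K p →
      ∃ R1 : Subalgebra R L, Module.Finite R R1 ∧ IsFractionRing R1 L ∧ IsFull R1 L p := by
  intro n
  induction n with
  | zero =>
    intro R K L _ _ _ _ _ _ _ _ _ _ _ _ hn _
    exact absurd hn (Module.finrank_pos.not_ge)
  | succ n ih =>
    intro R K L _ _ _ _ _ _ _ _ _ _ _ _ hn hR
    haveI : CharP L p := charP_of_injective_algebraMap (algebraMap K L).injective p
    by_cases htop : ∀ l : L, l ∈ (algebraMap K L).range
    · obtain ⟨R1, hfin, hfrac⟩ := exists_model R K L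
      haveI := hfin; haveI := hfrac
      have hbij : Function.Bijective (algebraMap K L) := ⟨(algebraMap K L).injective, htop⟩
      have : Algebra.IsSeparable K L := AlgEquiv.Algebra.isSeparable (AlgEquiv.ofBijective (Algebra.ofId K L) hbij)
      exact ⟨R1, hfin, hfrac, IsFull.of_separable (R := R) (K := K) p hR⟩
    push Not at htop
    obtain ⟨y, hy⟩ := htop
    obtain ⟨x, hxK, hxp⟩ : ∃ x : L, x ∉ (algebraMap K L).range ∧ x ^ p ∈ (algebraMap K L).range := by
      have : ExpChar K p := ExpChar.prime hp.out
      obtain ⟨j, hj⟩ := IsPurelyInseparable.pow_mem K p y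
      revert y
      induction j with
      | zero => intro y hy hj; exact absurd (by simpa using hj) hy
      | succ j ihj =>
        intro y hy hj
        by_cases h : y ^ p ^ j ∈ (algebraMap K L).range
        · exact ihj y hy h
        · exact ⟨y ^ p ^ j, h, by rwa [← pow_mul, ← pow_succ]⟩
    obtain ⟨b, hb⟩ := hxp
    have hbne : ∀ e, e ^ p ≠ b := fun e he => hxK ⟨e, frobenius_inj L p (by
      rw [frobenius_def, frobenius_def, ← map_pow, he, hb])⟩
    let E := IntermediateField.adjoin K {x}
    let xE : E := ⟨x, IntermediateField.subset_adjoin K _ rfl⟩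
    have hgen : IntermediateField.adjoin K {xE} = ⊤ :=
      IntermediateField.map_injective E.val (by
        rw [IntermediateField.adjoin_map, Set.image_singleton, ← AlgHom.fieldRange_eq_map, IntermediateField.fieldRange_val]
        rfl)
    have hxE : xE ^ p = algebraMap K E b := Subtype.ext hb.symm
    haveI : CharP E p := charP_of_injective_algebraMap (algebraMap K E).injective p
    obtain ⟨R1, hfin, hfrac⟩ := exists_model R K E
    haveI := hfin; haveI := hfrac
    have hfull : IsFull R1 E p := IsFull.of_radical (R := R) p hbne hxE hgen hR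
    have : IsPurelyInseparable E L := IsPurelyInseparable.tower_top K E L
    have hdeg : Module.finrank E L ≤ n := by
      have h1 := Module.finrank_mul_finrank K E L
      have h2 : 2 ≤ Module.finrank K E := by
        rcases Nat.lt_or_ge (Module.finrank K E) 2 with h | h
        · exfalso
          have h1' : Module.finrank K E = 1 := le_antisymm (Nat.lt_succ_iff.mp h) Module.finrank_pos
          rw [IntermediateField.finrank_eq_one_iff] at h1'
          exact hxK (IntermediateField.mem_bot.mp (h1' ▸ IntermediateField.subset_adjoin K _ rfl : x ∈ (⊥ : IntermediateField K L)))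
        · exact h
      have h3 : 2 * Module.finrank E L ≤ n + 1 := (Nat.mul_le_mul_right _ h2).trans (h1.le.trans hn)
      have h4 : 0 < Module.finrank E L := Module.finrank_pos
      omega
    haveI : IsScalarTower R R1 L := IsScalarTower.of_algebraMap_eq fun r => rfl
    obtain ⟨R2, hfin2, hfrac2, hfull2⟩ := ih R1 E L hdeg hfull
    haveI := hfin2
    refine ⟨R2.restrictScalars R, ?_, hfrac2, hfull2⟩
    exact Module.Finite.trans (R := R) R1 R2

/-- Fullness of some finite model, for finite extensions. -/
theorem exists_full_model (p : ℕ) [hp : Fact p.Prime] (R K L : Type u) [CommRing R] [IsDomain R] [Field K] [Field L]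
    [Algebra R K] [IsFractionRing R K] [Algebra K L] [Algebra R L] [IsScalarTower R K L] [FiniteDimensional K L]
    [CharP K p] (hR : IsFull R K p) :
    ∃ R1 : Subalgebra R L, Module.Finite R R1 ∧ IsFractionRing R1 L ∧ IsFull R1 L p := by
  let E := separableClosure K L
  obtain ⟨R1, hfin, hfrac⟩ := exists_model R K E
  haveI := hfin; haveI := hfrac
  haveI : CharP E p := charP_of_injective_algebraMap (algebraMap K E).injective p
  have hfull : IsFull R1 E p := IsFull.of_separable (R := R) (K := K) p hR
  haveI : IsScalarTower R R1 L := IsScalarTower.of_algebraMap_eq fun r => rfl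
  obtain ⟨R2, hfin2, hfrac2, hfull2⟩ :=
    exists_full_model_purelyInseparable p (Module.finrank E L) R1 E L le_rfl hfull
  haveI := hfin2
  exact ⟨R2.restrictScalars R, Module.Finite.trans (R := R) R1 R2, hfrac2, hfull2⟩

/-- Boundedness passes from a finite model to any finitely generated algebra with the same fractions. -/
theorem isBdd_transfer {R₀ R' B L : Type u} [CommRing R₀] [CommRing R'] [CommRing B] [IsDomain B] [Field L]
    [Algebra R₀ R'] [Module.Finite R₀ R'] [Algebra R₀ B] [Algebra.FiniteType R₀ B] [Algebra R' L] [Algebra B L]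
    [IsFractionRing B L] [Algebra R₀ L] [IsScalarTower R₀ R' L] [IsScalarTower R₀ B L]
    [IsDomain R'] [IsFractionRing R' L] {D : Derivation ℤ L L} (h : IsBdd R' D) : IsBdd B D := by
  classical
  obtain ⟨s, hs, hsD⟩ := h
  have den : ∀ l : L, ∃ b : B, algebraMap B L b ≠ 0 ∧ algebraMap B L b * l ∈ (algebraMap B L).range := fun l => by
    obtain ⟨x, y, hy, rfl⟩ := IsFractionRing.div_surjective (A := B) l
    have hy0 : algebraMap B L y ≠ 0 := (IsLocalization.map_units L (⟨y, hy⟩ : nonZeroDivisors B)).ne_zero
    exact ⟨y, hy0, x, by field_simp⟩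
  obtain ⟨G, hG⟩ := Module.Finite.fg_top (R := R₀) (M := R')
  obtain ⟨⟨t, ht⟩, ht'⟩ := IsLocalization.exist_integer_multiples (nonZeroDivisors B) (insert s G) (algebraMap R' L)
  have ht0 : algebraMap B L t ≠ 0 := (IsLocalization.map_units L (⟨t, ht⟩ : nonZeroDivisors B)).ne_zero
  have htR : ∀ x : R', algebraMap B L t * algebraMap R' L x ∈ (algebraMap B L).range := by
    intro x
    have hx : x ∈ Submodule.span R₀ (G : Set R') := hG ▸ Submodule.mem_top
    induction hx using Submodule.span_induction with
    | mem g hg =>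
      obtain ⟨b, hb⟩ := ht' g (Finset.mem_insert_of_mem hg)
      exact ⟨b, by rw [hb, Algebra.smul_def]⟩
    | zero => exact ⟨0, by simp⟩
    | add a c _ _ ha hc => rw [map_add, mul_add]; exact add_mem ha hc
    | smul r a _ ha =>
      rw [Algebra.smul_def, map_mul, ← IsScalarTower.algebraMap_apply R₀ R' L,
        IsScalarTower.algebraMap_apply R₀ B L, ← mul_assoc, mul_comm (algebraMap B L t), mul_assoc]
      exact mul_mem ⟨_, rfl⟩ ha
  obtain ⟨s', hs'⟩ := htR s
  have hs'0 : algebraMap B L s' ≠ 0 := by rw [hs']; exact mul_ne_zero ht0 hs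
  obtain ⟨T, hT⟩ := ‹Algebra.FiniteType R₀ B›.out
  obtain ⟨⟨u, hu⟩, hu'⟩ := IsLocalization.exist_integer_multiples (nonZeroDivisors B) T
    fun g => D (algebraMap B L g)
  have hu0 : algebraMap B L u ≠ 0 := (IsLocalization.map_units L (⟨u, hu⟩ : nonZeroDivisors B)).ne_zero
  refine ⟨s' * u, by rw [map_mul]; exact mul_ne_zero hs'0 hu0, fun b => ?_⟩
  have hb : b ∈ Algebra.adjoin R₀ (T : Set B) := hT ▸ Algebra.mem_top
  induction hb using Algebra.adjoin_induction with
  | mem g hg =>
    obtain ⟨c, hc⟩ := hu' g hg
    refine ⟨s' * c, ?_⟩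
    rw [map_mul, map_mul, hc, Algebra.smul_def]; ring
  | algebraMap r =>
    obtain ⟨z, hz⟩ := hsD (algebraMap R₀ R' r)
    obtain ⟨c, hc⟩ := htR z
    refine ⟨c * u, ?_⟩
    rw [← IsScalarTower.algebraMap_apply R₀ B L, IsScalarTower.algebraMap_apply R₀ R' L, map_mul, map_mul, hc, hs',
      hz]
    ring
  | add a c _ _ ha hc => rw [map_add, map_add, mul_add]; exact add_mem ha hc
  | mul a c _ _ ha hc =>
    rw [map_mul (algebraMap B L) a c, D.leibniz, smul_eq_mul, smul_eq_mul, mul_add, mul_left_comm,
      mul_left_comm (algebraMap B L (s' * u))]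
    exact add_mem (mul_mem ⟨_, rfl⟩ hc) (mul_mem ⟨_, rfl⟩ ha)

/-- Fullness of finitely generated domains algebraic over the base. -/
theorem isFull_of_finiteType (p : ℕ) [Fact p.Prime] (R K B L : Type u) [CommRing R] [IsDomain R] [Field K]
    [CommRing B] [IsDomain B] [Field L] [Algebra R K] [IsFractionRing R K] [Algebra B L] [IsFractionRing B L]
    [Algebra R B] [Algebra.FiniteType R B] [Algebra K L] [Algebra R L] [IsScalarTower R K L] [IsScalarTower R B L]
    [FiniteDimensional K L] [CharP K p] (hR : IsFull R K p) : IsFull B L p := by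
  obtain ⟨R1, hfin, hfrac, hfull⟩ := exists_full_model p R K L hR
  haveI := hfin; haveI := hfrac
  exact fun c hc => hfull c fun D hD => hc D (isBdd_transfer (R₀ := R) hD)

/-- Fullness of polynomial rings. -/
theorem isFull_mvPolynomial (p : ℕ) [hp : Fact p.Prime] (R K : Type u) [CommRing R] [IsDomain R] [Field K]
    [Algebra R K] [IsFractionRing R K] [CharP K p] (hR : IsFull R K p) (n : ℕ)
    (F : Type u) [Field F] [Algebra (MvPolynomial (Fin n) R) F] [IsFractionRing (MvPolynomial (Fin n) R) F] :
    IsFull (MvPolynomial (Fin n) R) F p := by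
  classical
  let P := MvPolynomial (Fin n) R
  haveI : CharP R p := RingHom.charP (algebraMap R K) (IsFractionRing.injective R K) p
  haveI : CharP P p := inferInstance
  haveI : CharP F p := charP_of_injective_algebraMap (IsFractionRing.injective P F) p
  intro c hc
  let iZ : Algebra ℤ P := Ring.toIntAlgebra _
  have : Algebra.FormallyEtale P F := Algebra.FormallyEtale.of_isLocalization (nonZeroDivisors _)
  have hext : ∀ E : Derivation ℤ P P, ∃ D : Derivation ℤ F F,
      IsBdd P D ∧ ∀ r, D (algebraMap _ F r) = algebraMap _ F (E r) := fun E => by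
    obtain ⟨D, hD⟩ := exists_derivation_extend P F ((Algebra.linearMap P F).compDer E)
    exact ⟨D, ⟨1, by simp, fun r => ⟨E r, by rw [hD, map_one, one_mul]; rfl⟩⟩, hD⟩
  obtain ⟨a, b, hb, rfl⟩ := IsFractionRing.div_surjective (A := P) c
  have hb0 : algebraMap P F b ≠ 0 := (IsLocalization.map_units F (⟨b, hb⟩ : nonZeroDivisors P)).ne_zero
  set a' := a * b ^ (p - 1) with ha'
  have hc' : algebraMap P F a / algebraMap P F b = algebraMap P F a' / algebraMap P F b ^ p := by
    have hpow : algebraMap P F b ^ p = algebraMap P F b * algebraMap P F b ^ (p - 1) := by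
      rw [← pow_succ', Nat.sub_add_cancel hp.out.one_le]
    rw [ha', map_mul, map_pow, hpow, mul_div_mul_right _ _ (pow_ne_zero _ hb0)]
  rw [hc'] at hc ⊢
  have hkill : ∀ E : Derivation ℤ P P, E a' = 0 := fun E => by
    obtain ⟨D, hD, hD'⟩ := hext E
    have h1 := hc D hD
    have h2 : D (algebraMap P F a' / algebraMap P F b ^ p * algebraMap P F b ^ p) = 0 := by
      rw [D.leibniz, derivation_pow_char, h1]; simp
    rw [div_mul_cancel₀ _ (pow_ne_zero _ hb0), hD'] at h2
    exact (map_eq_zero_iff _ (IsFractionRing.injective P F)).mp h2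
  have hcoeff : ∀ m, ∃ e : K, e ^ p = algebraMap R K (MvPolynomial.coeff m a') := fun m => by
    refine hR _ fun δ hδ => ?_
    obtain ⟨s, hs, hsδ⟩ := hδ
    choose g hg using hsδ
    have hinj := IsFractionRing.injective R K
    have g0 : g 0 = 0 := hinj (by rw [hg, map_zero, δ.map_zero, mul_zero])
    have gadd : ∀ x y, g (x + y) = g x + g y := fun x y => hinj (by simp only [map_add, hg, mul_add])
    have hG0 : ∀ (f : P) d, MvPolynomial.coeff d
        (∑ d' ∈ f.support, MvPolynomial.monomial d' (g (MvPolynomial.coeff d' f))) = g (MvPolynomial.coeff d f) := fun f d => by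
      rw [MvPolynomial.coeff_sum]
      simp only [MvPolynomial.coeff_monomial, Finset.sum_ite_eq', MvPolynomial.mem_support_iff, ne_eq, ite_not]
      split_ifs with h
      · rw [h, g0]
      · rfl
    let G : P →+ P := AddMonoidHom.mk'
      (fun f => ∑ d' ∈ f.support, MvPolynomial.monomial d' (g (MvPolynomial.coeff d' f))) fun f f' =>
        MvPolynomial.ext _ _ fun d => by rw [MvPolynomial.coeff_add, hG0, hG0, hG0, MvPolynomial.coeff_add, gadd]
    have hG : ∀ f d, MvPolynomial.coeff d (G f) = g (MvPolynomial.coeff d f) := hG0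
    let E : Derivation ℤ P P := Derivation.mk' G.toIntLinearMap fun f f' => by
      show G (f * f') = f • G f' + f' • G f
      ext d
      apply hinj
      rw [hG, MvPolynomial.coeff_mul, hg, smul_eq_mul, smul_eq_mul, MvPolynomial.coeff_add, mul_comm f' (G f),
        MvPolynomial.coeff_mul, MvPolynomial.coeff_mul, map_sum, map_sum, Finset.mul_sum, map_add, map_sum, map_sum,
        ← Finset.sum_add_distrib]
      refine Finset.sum_congr rfl fun ij _ => ?_
      simp only [map_mul, hG, hg, δ.leibniz, smul_eq_mul]
      ring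
    have h1 := congrArg (fun f => algebraMap R K (MvPolynomial.coeff m f)) (hkill E)
    simp only [MvPolynomial.coeff_zero, map_zero] at h1
    rw [show E a' = G a' from rfl, hG, hg] at h1
    exact (mul_eq_zero.mp h1).resolve_left hs
  have hzero : ∀ (m : Fin n →₀ ℕ) (i : Fin n), ¬ p ∣ m i → MvPolynomial.coeff m a' = 0 := fun m i hi => by
    have h1 := congrArg (MvPolynomial.coeff (m - Finsupp.single i 1)) (hkill (Derivation.mk'
      (MvPolynomial.pderiv (R := R) i).toLinearMap.toAddMonoidHom.toIntLinearMap
      (fun f g => (MvPolynomial.pderiv (R := R) i).leibniz f g)))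
    replace h1 : MvPolynomial.coeff (m - Finsupp.single i 1) (MvPolynomial.pderiv i a') = 0 :=
      h1.trans (MvPolynomial.coeff_zero _)
    rw [MvPolynomial.coeff_pderiv] at h1
    have hpos : 1 ≤ m i := Nat.one_le_iff_ne_zero.mpr fun h => hi (h ▸ dvd_zero p)
    rw [tsub_add_cancel_of_le (Finsupp.single_le_iff.mpr hpos)] at h1
    refine (mul_eq_zero.mp h1).resolve_right ?_
    rw [Finsupp.tsub_apply, Finsupp.single_eq_same, ← Nat.cast_add_one, Nat.sub_add_cancel hpos,
      CharP.cast_eq_zero_iff R p]
    exact hi
  choose e he using hcoeff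
  obtain ⟨⟨V, hV⟩, hV'⟩ := IsLocalization.exist_integer_multiples (nonZeroDivisors R) a'.support e
  choose w hw using hV'
  let W : (Fin n →₀ ℕ) → R := fun m => if h : m ∈ a'.support then w m h else 0
  have hW : ∀ m ∈ a'.support, W m ^ p = V ^ p * MvPolynomial.coeff m a' := fun m hm =>
    IsFractionRing.injective R K (by
      simp only [W, dif_pos hm, map_mul, map_pow, hw m hm, ← he m, Algebra.smul_def, mul_pow])
  let g : P := ∑ m ∈ a'.support, MvPolynomial.monomial (m.mapRange (· / p) (Nat.zero_div p)) (W m)
  have hg : g ^ p = MvPolynomial.C (V ^ p) * a' := by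
    rw [sum_pow_char]
    conv_rhs => rw [a'.as_sum, Finset.mul_sum]
    refine Finset.sum_congr rfl fun m hm => ?_
    rw [MvPolynomial.monomial_pow, hW m hm, MvPolynomial.C_mul_monomial]
    rw [show p • m.mapRange (· / p) (Nat.zero_div p) = m from Finsupp.ext fun i => by
      rw [Finsupp.smul_apply, Finsupp.mapRange_apply, smul_eq_mul]
      exact Nat.mul_div_cancel' (Classical.byContradiction fun hi =>
        MvPolynomial.mem_support_iff.mp hm (hzero m i hi))]
  have hV0 : algebraMap P F (MvPolynomial.C V) ≠ 0 := (map_ne_zero_iff _ (IsFractionRing.injective P F)).mpr (by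
    rw [ne_eq, MvPolynomial.C_eq_zero]; exact nonZeroDivisors.ne_zero hV)
  refine ⟨algebraMap P F g / (algebraMap P F (MvPolynomial.C V) * algebraMap P F b), ?_⟩
  rw [div_pow, ← map_pow, hg, mul_pow, map_mul, MvPolynomial.C_pow, map_pow]
  rw [mul_div_mul_left _ _ (pow_ne_zero _ hV0)]

end Groth.Agent.H1CAlg.FullFT
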