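import Mathlib.LinearAlgebra.Matrix.GeneralLinearGroup.Defs
import Mathlib.LinearAlgebra.Matrix.Permutation
import Mathlib.LinearAlgebra.Matrix.Determinant.Basic
import Mathlib.GroupTheory.Abelianization.Defs
import Mathlib.RingTheory.LocalRing.ResidueField.Basic
import Mathlib.Algebra.Group.Pi.Units

/-!
# The abelianization of `GL_n` of a local ring with a unit `u` such that `u - 1` is a unit

Every determinant one matrix is a product of commutators.
-/

set_option autoImplicit false
universe u

open Matrix

namespace Groth.Agent.H1CAlg.GLAb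

variable {R : Type u} [CommRing R] {n : ℕ}

/-- `1 + v eₖᵀ`. -/
def colMat (k : Fin n) (v : Fin n → R) : Matrix (Fin n) (Fin n) R :=
  1 + vecMulVec v (Pi.single k 1)

theorem colMat_mul (k : Fin n) (v w : Fin n → R) (hw : w k = 0) :
    colMat k v * colMat k w = colMat k (v + w) := by
  have h : vecMulVec v (Pi.single k (1 : R)) * vecMulVec w (Pi.single k 1) = 0 := by
    rw [vecMulVec_mul_vecMulVec]
    simp [hw]
  simp only [colMat, add_mul, mul_add, one_mul, mul_one, h, add_zero, add_vecMulVec]
  abel

/-- `1 + v eₖᵀ` as an invertible matrix. -/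
def col (k : Fin n) (v : Fin n → R) (hv : v k = 0) : GL (Fin n) R where
  val := colMat k v
  inv := colMat k (-v)
  val_inv := by rw [colMat_mul k v (-v) (by simp [hv]), add_neg_cancel]; simp [colMat]
  inv_val := by rw [colMat_mul k (-v) v hv, neg_add_cancel]; simp [colMat]

/-- `1 + eₖ wᵀ`. -/
def row (k : Fin n) (w : Fin n → R) (hw : w k = 0) : GL (Fin n) R where
  val := (colMat k w)ᵀ
  inv := (colMat k (-w))ᵀ
  val_inv := by rw [← transpose_mul, colMat_mul k (-w) w hw, neg_add_cancel]; simp [colMat]
  inv_val := by rw [← transpose_mul, colMat_mul k w (-w) (by simp [hw]), add_neg_cancel]; simp [colMat]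

/-- Diagonal matrices. -/
def diag : (Fin n → Rˣ) →* GL (Fin n) R :=
  (Units.map (Matrix.diagonalRingHom (Fin n) R).toMonoidHom).comp MulEquiv.piUnits.symm.toMonoidHom

theorem diag_coe (d : Fin n → Rˣ) : (diag d : Matrix (Fin n) (Fin n) R) = diagonal fun i => (d i : R) := rfl

theorem det_diag (d : Fin n → Rˣ) : GeneralLinearGroup.det (diag d) = ∏ i, d i := by
  ext
  rw [GeneralLinearGroup.val_det_apply, diag_coe, det_diagonal, Units.coe_prod]

theorem colMat_apply (k : Fin n) (v : Fin n → R) (i j : Fin n) :
    colMat k v i j = (if i = j then 1 else 0) + (if j = k then v i else 0) := by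
  simp [colMat, Matrix.one_apply, vecMulVec_apply, Pi.single_apply]


theorem of_col {u : R} (hu : IsUnit u) (hu1 : IsUnit (u - 1)) (k : Fin n) (v : Fin n → R) (hv : v k = 0) :
    Abelianization.of (col k v hv) = 1 := by
  let x : Fin n → R := fun i => (↑hu1.unit⁻¹ : R) * v i
  have hx : x k = 0 := by simp [x, hv]
  let D := diag (Pi.mulSingle k hu.unit : Fin n → Rˣ)
  have h : col k x hx * D = D * col k (fun i => u * x i) (by simp [hx]) := by
    apply Units.ext
    rw [Units.val_mul, Units.val_mul, diag_coe]
    ext i j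
    rw [mul_diagonal, diagonal_mul]
    show colMat k x i j * _ = _ * colMat k (fun i => u * x i) i j
    rw [colMat_apply, colMat_apply]
    by_cases hi : i = k
    · subst hi
      by_cases hj : i = j
      · subst hj; simp [hx]
      · simp [hj, Ne.symm hj]
    · by_cases hj : j = k
      · subst hj; simp [hi, Pi.mulSingle_eq_of_ne hi, mul_comm]
      · simp [hi, hj, Pi.mulSingle_eq_of_ne]
  have h1 := congrArg Abelianization.of h
  rw [map_mul, map_mul, mul_comm, mul_left_cancel_iff] at h1
  have h2 : col k (fun i => u * x i) (by simp [hx]) = col k v hv * col k x hx := by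
    apply Units.ext
    show colMat k (fun i => u * x i) = colMat k v * colMat k x
    rw [colMat_mul k v x hx]
    congr 1
    funext i
    have : (u - 1) * (↑hu1.unit⁻¹ : R) = 1 := hu1.mul_val_inv
    show u * x i = v i + x i
    linear_combination (v i) * this
  rw [h2, map_mul] at h1
  exact mul_eq_right.mp h1.symm

theorem of_row {u : R} (hu : IsUnit u) (hu1 : IsUnit (u - 1)) (k : Fin n) (v : Fin n → R) (hv : v k = 0) :
    Abelianization.of (row k v hv) = 1 := by
  let x : Fin n → R := fun i => (↑hu1.unit⁻¹ : R) * v i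
  have hx : x k = 0 := by simp [x, hv]
  let D := diag (Pi.mulSingle k hu.unit : Fin n → Rˣ)
  have h : D * row k x hx = row k (fun i => u * x i) (by simp [hx]) * D := by
    apply Units.ext
    rw [Units.val_mul, Units.val_mul, diag_coe]
    ext i j
    rw [mul_diagonal, diagonal_mul]
    show _ * colMat k x j i = colMat k (fun i => u * x i) j i * _
    rw [colMat_apply, colMat_apply]
    by_cases hi : i = k
    · subst hi
      by_cases hj : i = j
      · subst hj; simp [hx]
      · simp [hj, Ne.symm hj, Pi.mulSingle_eq_of_ne (Ne.symm hj)]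
    · by_cases hj : j = i
      · subst hj; simp [hi, Pi.mulSingle_eq_of_ne]
      · simp [hi, hj, Pi.mulSingle_eq_of_ne]
  have h1 := congrArg Abelianization.of h
  rw [map_mul, map_mul, mul_comm, mul_right_cancel_iff] at h1
  have h2 : row k (fun i => u * x i) (by simp [hx]) = row k v hv * row k x hx := by
    apply Units.ext
    show (colMat k (fun i => u * x i))ᵀ = (colMat k v)ᵀ * (colMat k x)ᵀ
    rw [← transpose_mul, colMat_mul k x v hv]
    congr 2
    funext i
    have : (u - 1) * (↑hu1.unit⁻¹ : R) = 1 := hu1.mul_val_inv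
    show u * x i = x i + v i
    linear_combination (v i) * this
  rw [h2, map_mul] at h1
  exact mul_eq_right.mp h1.symm

/-- The class of a diagonal matrix only depends on its determinant. -/
theorem of_diag (d : Fin n → Rˣ) (k : Fin n) :
    Abelianization.of (diag d) = Abelianization.of (diag (Pi.mulSingle k (∏ i, d i))) := by
  have key : ∀ (i : Fin n) (a : Rˣ),
      Abelianization.of (diag (Pi.mulSingle i a)) = Abelianization.of (diag (Pi.mulSingle k a)) := by
    intro i a
    let σ : Equiv.Perm (Fin n) := Equiv.swap i k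
    let P : GL (Fin n) R :=
      ⟨σ.permMatrix R, σ⁻¹.permMatrix R, by rw [← permMatrix_mul, inv_mul_cancel, permMatrix_one],
        by rw [← permMatrix_mul, mul_inv_cancel, permMatrix_one]⟩
    have h : P * diag (Pi.mulSingle i a) = diag (Pi.mulSingle k a) * P := by
      apply Units.ext
      rw [Units.val_mul, Units.val_mul, diag_coe, diag_coe]
      ext a' b'
      rw [mul_diagonal, diagonal_mul]
      simp only [P, Equiv.Perm.permMatrix, PEquiv.toMatrix_apply, Equiv.toPEquiv_apply, Option.mem_def,
        Option.some.injEq]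
      by_cases hab : σ a' = b'
      · subst hab
        simp only [if_true, one_mul, mul_one, Pi.mulSingle_apply, σ]
        have hiff : Equiv.swap i k a' = i ↔ a' = k := by rw [Equiv.swap_apply_eq_iff, Equiv.swap_apply_left]
        by_cases h : a' = k
        · rw [if_pos (hiff.mpr h), if_pos h]
        · rw [if_neg (fun h' => h (hiff.mp h')), if_neg h]
      · simp [hab]
    have h1 := congrArg Abelianization.of h
    rw [map_mul, map_mul, mul_comm, mul_right_cancel_iff] at h1
    exact h1
  show (Abelianization.of.comp diag) d = (Abelianization.of.comp diag) (Pi.mulSingle k (∏ i, d i))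
  conv_lhs => rw [← Finset.univ_prod_mulSingle d]
  rw [show Pi.mulSingle k (∏ i, d i) = ∏ i, (Pi.mulSingle k (d i) : Fin n → Rˣ) from
      map_prod (MonoidHom.mulSingle (fun _ : Fin n => Rˣ) k) d Finset.univ, map_prod, map_prod]
  exact Finset.prod_congr rfl fun i _ => key i (d i)

theorem exists_diag [IsLocalRing R] {u : R} (hu : IsUnit u) (hu1 : IsUnit (u - 1)) (M : GL (Fin n) R) :
    ∃ d : Fin n → Rˣ, Abelianization.of M = Abelianization.of (diag d) := by
  suffices h : ∀ k, k ≤ n → ∃ M' : GL (Fin n) R, Abelianization.of M = Abelianization.of M' ∧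
      ∀ i j : Fin n, ((i : ℕ) < k ∨ (j : ℕ) < k) → i ≠ j → (M' : Matrix (Fin n) (Fin n) R) i j = 0 by
    obtain ⟨M', hM', hd⟩ := h n le_rfl
    have heq : (M' : Matrix (Fin n) (Fin n) R) = diagonal fun i => (M' : Matrix (Fin n) (Fin n) R) i i := by
      ext i j
      by_cases hij : i = j
      · subst hij; simp
      · rw [diagonal_apply_ne _ hij]; exact hd i j (Or.inl i.2) hij
    have hu' : ∀ i, IsUnit ((M' : Matrix (Fin n) (Fin n) R) i i) := by
      intro i
      have := M'.isUnit.map Matrix.detMonoidHom
      rw [Matrix.coe_detMonoidHom, heq, det_diagonal, IsUnit.prod_univ_iff] at this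
      exact this i
    refine ⟨fun i => (hu' i).unit, hM'.trans (congrArg _ (Units.ext ?_))⟩
    rw [diag_coe]
    exact heq
  intro k
  induction k with
  | zero => exact fun _ => ⟨M, rfl, fun i j h => by omega⟩
  | succ k ih =>
    intro hk
    obtain ⟨M₀, hM₀, hz⟩ := ih (Nat.le_of_succ_le hk)
    let kk : Fin n := ⟨k, hk⟩
    -- a unit pivot
    obtain ⟨M₁, hM₁, hz₁, hpiv⟩ : ∃ M₁ : GL (Fin n) R, Abelianization.of M₀ = Abelianization.of M₁ ∧
        (∀ i j : Fin n, ((i : ℕ) < k ∨ (j : ℕ) < k) → i ≠ j → (M₁ : Matrix (Fin n) (Fin n) R) i j = 0) ∧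
        IsUnit ((M₁ : Matrix (Fin n) (Fin n) R) kk kk) := by
      by_cases hkk : IsUnit ((M₀ : Matrix (Fin n) (Fin n) R) kk kk)
      · exact ⟨M₀, rfl, hz, hkk⟩
      obtain ⟨i, hik, hi⟩ : ∃ i : Fin n, (k : ℕ) < i ∧ IsUnit ((M₀ : Matrix (Fin n) (Fin n) R) i kk) := by
        by_contra hall
        push Not at hall
        have hcol : ∀ i, IsLocalRing.residue R ((M₀ : Matrix (Fin n) (Fin n) R) i kk) = 0 := by
          intro i
          rw [IsLocalRing.residue_eq_zero_iff]
          rcases lt_trichotomy (i : ℕ) k with h | h | h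
          · rw [hz i kk (Or.inl h) (fun he => by simp [he, kk] at h)]; exact zero_mem _
          · rw [show i = kk from Fin.ext h]; exact hkk
          · exact hall i h
        have := M₀.isUnit.map (Matrix.detMonoidHom.comp (IsLocalRing.residue R).mapMatrix.toMonoidHom)
        have h0 : ((IsLocalRing.residue R).mapMatrix (M₀ : Matrix (Fin n) (Fin n) R)).det = 0 :=
          det_eq_zero_of_column_eq_zero kk fun i => hcol i
        simp only [MonoidHom.coe_comp, Function.comp_apply, RingHom.toMonoidHom_eq_coe, MonoidHom.coe_coe,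
          coe_detMonoidHom] at this
        rw [h0] at this
        exact not_isUnit_zero this
      have hk1 : (Pi.single kk (1 : R) : Fin n → R) i = 0 :=
        Pi.single_eq_of_ne (fun he => by simp [he, kk] at hik) _
      have hmul : ∀ a b, ((col i (Pi.single kk 1) hk1 * M₀ : GL (Fin n) R) : Matrix (Fin n) (Fin n) R) a b =
          (M₀ : Matrix (Fin n) (Fin n) R) a b + (if a = kk then (M₀ : Matrix (Fin n) (Fin n) R) i b else 0) := by
        intro a b
        rw [Units.val_mul]
        show ((colMat i (Pi.single kk (1 : R)) : Matrix (Fin n) (Fin n) R) * (M₀ : Matrix (Fin n) (Fin n) R) : Matrix (Fin n) (Fin n) R) a b = _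
        simp [colMat, add_mul, vecMulVec_mul, vecMulVec_apply, Pi.single_apply]
      refine ⟨col i (Pi.single kk 1) hk1 * M₀, by rw [map_mul, of_col hu hu1, one_mul], ?_, ?_⟩
      · intro a b hab hne
        rw [hmul, hz a b hab hne]
        split_ifs with ha
        · subst ha
          rcases hab with h | h
          · simp [kk] at h
          · rw [zero_add]; exact hz i b (Or.inr h) (fun he => by subst he; omega)
        · rw [zero_add]
      · rw [hmul, if_pos rfl]
        by_contra hcon
        have := Ideal.sub_mem (IsLocalRing.maximalIdeal R) hcon hkk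
        rw [add_sub_cancel_left] at this
        exact this hi
    -- clear column and row
    let a : R := (M₁ : Matrix (Fin n) (Fin n) R) kk kk
    let v : Fin n → R := fun i => if k < (i : ℕ) then -((M₁ : Matrix (Fin n) (Fin n) R) i kk) * ↑hpiv.unit⁻¹ else 0
    have hv : v kk = 0 := by simp [v, kk]
    let M₂ := col kk v hv * M₁
    have hM₂ : ∀ a b, (M₂ : Matrix (Fin n) (Fin n) R) a b =
        (M₁ : Matrix (Fin n) (Fin n) R) a b + v a * (M₁ : Matrix (Fin n) (Fin n) R) kk b := by
      intro a b
      rw [Units.val_mul]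
      show (colMat kk v * (M₁ : Matrix (Fin n) (Fin n) R)) a b = _
      simp [colMat, add_mul, vecMulVec_mul, vecMulVec_apply]
    have hinv : (↑hpiv.unit⁻¹ : R) * (M₁ : Matrix (Fin n) (Fin n) R) kk kk = 1 := hpiv.val_inv_mul
    have hz₂ : ∀ i j : Fin n, ((i : ℕ) < k ∨ (j : ℕ) < k + 1) → i ≠ j → (M₂ : Matrix (Fin n) (Fin n) R) i j = 0 := by
      intro i j hij hne
      rw [hM₂]
      rcases hij with h | h
      · rw [hz₁ i j (Or.inl h) hne, show v i = 0 from if_neg (by omega), zero_mul, add_zero]
      · rcases Nat.lt_or_eq_of_le (Nat.lt_succ_iff.mp h) with h' | h'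
        · rw [hz₁ i j (Or.inr h') hne, zero_add]
          by_cases hki : kk = j
          · simp [← hki, kk] at h'
          · rw [hz₁ kk j (Or.inr h') hki, mul_zero]
        · obtain rfl : j = kk := Fin.ext h'
          by_cases hi : k < (i : ℕ)
          · rw [show v i = _ from if_pos hi]
            linear_combination -((M₁ : Matrix (Fin n) (Fin n) R) i kk) * hinv
          · have hilt : (i : ℕ) < k := lt_of_le_of_ne (not_lt.mp hi) (fun he => hne (Fin.ext he))
            rw [hz₁ i kk (Or.inl hilt) hne, show v i = 0 from if_neg hi, zero_mul, add_zero]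
    let w : Fin n → R := fun j => if k < (j : ℕ) then -((M₂ : Matrix (Fin n) (Fin n) R) kk j) * ↑hpiv.unit⁻¹ else 0
    have hw : w kk = 0 := by simp [w, kk]
    have hpiv₂ : (M₂ : Matrix (Fin n) (Fin n) R) kk kk = (M₁ : Matrix (Fin n) (Fin n) R) kk kk := by
      rw [hM₂, hv, zero_mul, add_zero]
    refine ⟨M₂ * row kk w hw, ?_, fun i j hij hne => ?_⟩
    · rw [hM₀, hM₁, map_mul, map_mul, of_col hu hu1, one_mul, of_row hu hu1, mul_one]
    have hmul : ((M₂ * row kk w hw : GL (Fin n) R) : Matrix (Fin n) (Fin n) R) i j =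
        (M₂ : Matrix (Fin n) (Fin n) R) i j + (M₂ : Matrix (Fin n) (Fin n) R) i kk * w j := by
      rw [Units.val_mul]
      show ((M₂ : Matrix (Fin n) (Fin n) R) * (colMat kk w)ᵀ) i j = _
      simp [colMat, mul_add, transpose_vecMulVec, mul_vecMulVec, vecMulVec_apply]
    rw [hmul]
    by_cases hi : i = kk
    · subst hi
      rw [hpiv₂]
      by_cases hj : k < (j : ℕ)
      · rw [show w j = _ from if_pos hj]
        linear_combination -((M₂ : Matrix (Fin n) (Fin n) R) kk j) * hinv
      · have hjlt : (j : ℕ) < k := lt_of_le_of_ne (not_lt.mp hj) (fun he => hne (Fin.ext he.symm))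
        rw [hz₂ kk j (Or.inr (by omega)) hne, show w j = 0 from if_neg hj, mul_zero, add_zero]
    · rw [hz₂ i kk (Or.inr (by simp [kk])) hi, zero_mul, add_zero]
      rcases hij with h | h
      · refine hz₂ i j (Or.inl (lt_of_le_of_ne (Nat.lt_succ_iff.mp h) fun he => hi (Fin.ext he))) hne
      · exact hz₂ i j (Or.inr h) hne

/-- Over a local ring with a unit `u` such that `u - 1` is a unit, determinant one implies being a
product of commutators. -/
theorem mem_commutator_of_det_eq_one [IsLocalRing R] {u : R} (hu : IsUnit u) (hu1 : IsUnit (u - 1))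
    (M : GL (Fin n) R) (hM : GeneralLinearGroup.det M = 1) : M ∈ commutator (GL (Fin n) R) := by
  rw [← Abelianization.ker_of, MonoidHom.mem_ker]
  obtain ⟨d, hd⟩ := exists_diag hu hu1 M
  rcases Nat.eq_zero_or_pos n with rfl | hn
  · rw [Subsingleton.elim M 1, map_one]
  have hdet : GeneralLinearGroup.det M = GeneralLinearGroup.det (diag d) := by
    have := congrArg (Abelianization.lift (GeneralLinearGroup.det (n := Fin n) (R := R))) hd
    simpa using this
  rw [hM, det_diag] at hdet
  rw [hd, of_diag d ⟨0, hn⟩, ← hdet, Pi.mulSingle_one, map_one, map_one]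

end Groth.Agent.H1CAlg.GLAb
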