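import Groth.Agent.H3CAlg.PruferDimFn
import Mathlib

/-!
# The integral closure as an intersection over height one primes

A minimal counterexample prime `p` yields, through Zariski's main theorem, a finite birational
extension with a height one prime over `p`.
-/

set_option autoImplicit false
set_option linter.style.haveILetI false

universe u

open Polynomial

namespace Groth.Agent.H1CAlg

/-- An element lying in the algebra generated by its inverse is integral. -/
theorem isIntegral_of_mem_adjoin_inv {C K : Type u} [CommRing C] [Field K] [Algebra C K] {z : K}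
    (hz : z ≠ 0) (h : z ∈ Algebra.adjoin C ({z⁻¹} : Set K)) : IsIntegral C z := by
  rw [Algebra.adjoin_singleton_eq_range_aeval] at h
  obtain ⟨g, hg⟩ : ∃ g : C[X], aeval z⁻¹ g = z := h
  let n := g.natDegree
  let low : C[X] := ∑ i ∈ Finset.range (n + 1), Polynomial.C (g.coeff i) * X ^ (n - i)
  have hlow : low.degree ≤ n := (degree_sum_le _ _).trans (Finset.sup_le fun i _ =>
    (degree_C_mul_X_pow_le _ _).trans (by exact_mod_cast Nat.sub_le n i))
  refine ⟨X ^ (n + 1) - low, monic_X_pow_sub (hlow.trans_lt (by exact_mod_cast Nat.lt_succ_self n)), ?_⟩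
  show aeval z (X ^ (n + 1) - low) = 0
  rw [map_sub, map_pow, aeval_X, map_sum, sub_eq_zero]
  have hg' : z = ∑ i ∈ Finset.range (n + 1), g.coeff i • z⁻¹ ^ i := by
    rw [← aeval_eq_sum_range]; exact hg.symm
  calc z ^ (n + 1) = z ^ n * z := pow_succ z n
    _ = z ^ n * ∑ i ∈ Finset.range (n + 1), g.coeff i • z⁻¹ ^ i := by rw [← hg']
    _ = ∑ i ∈ Finset.range (n + 1), aeval z (Polynomial.C (g.coeff i) * X ^ (n - i)) := by
      rw [Finset.mul_sum]
      refine Finset.sum_congr rfl fun i hi => ?_
      rw [map_mul, aeval_C, map_pow, aeval_X, Algebra.smul_def,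
        pow_sub₀ z hz (Finset.mem_range_succ_iff.1 hi), inv_pow]
      ring

/-- A prime minimal over `y`, alone in its fibre, dominates a height one prime of a finite subalgebra. -/
theorem exists_finite_height_one {A K : Type u} [CommRing A] [IsDomain A] [IsNoetherianRing A]
    [Field K] [Algebra A K] (B : Subalgebra A K) [Algebra.FiniteType A B] (C : Subalgebra A K)
    [Module.Finite A C] (hCB : C ≤ B) (Q : Ideal B) [Q.IsPrime] (hQ0 : Q.comap (algebraMap A B) ≠ ⊥)
    (hinj : Function.Injective (algebraMap A K)) (hQ1 : Q.height ≤ 1) [Algebra.QuasiFiniteAt A Q] :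
    ∃ (C' : Subalgebra A K) (q : Ideal C'), Module.Finite A C' ∧ C' ≤ B ∧ q.IsPrime ∧ q.height = 1 ∧
      q.comap (algebraMap A C') = Q.comap (algebraMap A B) := by
  classical
  haveI : IsNoetherianRing B := Algebra.FiniteType.isNoetherianRing A B
  obtain ⟨r, hrQ, hrint, H⟩ := Algebra.zariskisMainProperty_iff.1
    (Algebra.ZariskisMainProperty.of_finiteType (R := A) Q)
  obtain ⟨S, hS⟩ := Algebra.FiniteType.out (R := A) (A := B)
  choose m hm using H
  let T : Set K := insert (r : K) ((fun s : B => ((r ^ m s * s : B) : K)) '' (S : Set B))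
  have hTfin : T.Finite := (S.finite_toSet.image _).insert _
  have hTint : ∀ z ∈ T, IsIntegral A z := by
    rintro z (rfl | ⟨s, -, rfl⟩)
    · exact hrint.map B.val
    · exact (hm s).map B.val
  have hTB : T ⊆ (B : Set K) := by
    rintro z (rfl | ⟨s, -, rfl⟩)
    · exact r.2
    · exact SetLike.coe_mem _
  haveI : Module.Finite A (Algebra.adjoin A T) :=
    Module.Finite.iff_fg.2 (fg_adjoin_of_finite hTfin hTint)
  let C' : Subalgebra A K := C ⊔ Algebra.adjoin A T
  have hC'B : C' ≤ B := sup_le hCB (Algebra.adjoin_le hTB)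
  haveI : Module.Finite A C' := Subalgebra.finite_sup _ _
  let ι : C' →ₐ[A] B := Subalgebra.inclusion hC'B
  have hrC : (r : K) ∈ C' := (le_sup_right : _ ≤ C') (Algebra.subset_adjoin (Set.mem_insert _ _))
  let r' : C' := ⟨r, hrC⟩
  have hden : ∀ b : B, ∃ (n : ℕ) (c : C'), ι c = r ^ n * b := by
    intro b
    have hb : b ∈ Algebra.adjoin A (S : Set B) := hS ▸ Algebra.mem_top
    induction hb using Algebra.adjoin_induction with
    | mem s hs =>
      exact ⟨m s, ⟨((r ^ m s * s : B) : K), (le_sup_right : _ ≤ C')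
        (Algebra.subset_adjoin (Set.mem_insert_of_mem _ ⟨s, hs, rfl⟩))⟩, rfl⟩
    | algebraMap a => exact ⟨0, algebraMap A C' a, by rw [AlgHom.commutes, pow_zero, one_mul]⟩
    | add u v _ _ hu hv =>
      obtain ⟨i, c, hc⟩ := hu
      obtain ⟨j, d, hd⟩ := hv
      exact ⟨i + j, r' ^ j * c + r' ^ i * d, by
        rw [map_add, map_mul, map_mul, map_pow, map_pow, hc, hd, show ι r' = r from rfl]; ring⟩
    | mul u v _ _ hu hv =>
      obtain ⟨i, c, hc⟩ := hu
      obtain ⟨j, d, hd⟩ := hv
      exact ⟨i + j, c * d, by rw [map_mul, hc, hd]; ring⟩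
  let q : Ideal C' := Q.comap ι.toRingHom
  haveI : q.IsPrime := inferInstance
  have hqA : q.comap (algebraMap A C') = Q.comap (algebraMap A B) := by
    rw [Ideal.comap_comap]
    exact congrArg (fun g => Q.comap g) (RingHom.ext fun a => ι.commutes a)
  have hinj' : Function.Injective (algebraMap A C') := fun a b hab => hinj (congrArg Subtype.val hab)
  have hq0 : q ≠ ⊥ := fun h => hQ0 (by rw [← hqA, h, ← RingHom.ker_eq_comap_bot,
    (RingHom.injective_iff_ker_eq_bot _).1 hinj'])
  have hbelow : ∀ p1 : Ideal C', p1.IsPrime → p1 < q → p1 = ⊥ := by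
    intro p1 hp1 hlt
    have hr1 : r' ∉ p1 := fun h => hrQ (show ι r' ∈ Q from hlt.le h)
    have hcm : (p1.map ι.toRingHom).comap ι.toRingHom = p1 := by
      refine le_antisymm (fun c hc => ?_) Ideal.le_comap_map
      have key : ∀ b ∈ p1.map ι.toRingHom, ∃ (n : ℕ) (d : C'), d ∈ p1 ∧ ι d = r ^ n * b := by
        intro b hb
        induction hb using Submodule.span_induction with
        | mem x hx =>
          obtain ⟨d, hd, rfl⟩ := hx
          exact ⟨0, d, hd, by simp⟩
        | zero => exact ⟨0, 0, zero_mem _, by simp⟩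
        | add u v _ _ hu hv =>
          obtain ⟨i, a, ha, hai⟩ := hu
          obtain ⟨j, d, hd, hdj⟩ := hv
          exact ⟨i + j, r' ^ j * a + r' ^ i * d,
            add_mem (Ideal.mul_mem_left _ _ ha) (Ideal.mul_mem_left _ _ hd), by
              rw [map_add, map_mul, map_mul, map_pow, map_pow, hai, hdj, show ι r' = r from rfl]; ring⟩
        | smul s u _ hu =>
          obtain ⟨i, a, ha, hai⟩ := hu
          obtain ⟨j, d, hdj⟩ := hden s
          exact ⟨i + j, d * a, Ideal.mul_mem_left _ _ ha, by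
            rw [map_mul, hai, hdj, smul_eq_mul]; ring⟩
      obtain ⟨n, d, hd, hdn⟩ := key _ hc
      have : r' ^ n * c = d := Subalgebra.inclusion_injective hC'B (by
        show ι (r' ^ n * c) = ι d
        rw [map_mul, map_pow, hdn]; rfl)
      exact (hp1.mem_or_mem (this ▸ hd : r' ^ n * c ∈ p1)).resolve_left
        fun h => hr1 (hp1.mem_of_pow_mem n h)
    obtain ⟨P, hP, hPc⟩ := (Ideal.comap_map_eq_self_iff_of_isPrime p1).1 hcm
    have hPQ : P ≤ Q := by
      intro b hb
      obtain ⟨n, c, hc⟩ := hden b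
      have h1 : c ∈ p1 := by
        rw [← hPc]
        show ι c ∈ P
        rw [hc]; exact P.mul_mem_left _ hb
      have h2 : ι c ∈ Q := hlt.le h1
      rw [hc] at h2
      exact (‹Q.IsPrime›.mem_or_mem h2).resolve_left fun h => hrQ (‹Q.IsPrime›.mem_of_pow_mem n h)
    have hPne : P ≠ Q := fun h => hlt.ne (by rw [← hPc, h])
    have hP0 : P = ⊥ := by
      by_contra hne
      have hb : (⊥ : Ideal B).IsPrime := Ideal.isPrime_bot
      have h1 := Ideal.height_strict_mono_of_isPrime (I := (⊥ : Ideal B)) (bot_lt_iff_ne_bot.2 hne)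
      have h2 := Ideal.height_strict_mono_of_isPrime (I := P) (lt_of_le_of_ne hPQ hPne)
      have h3 : P.height < 1 := h2.trans_le hQ1
      rw [Order.lt_one_iff] at h3
      rw [h3] at h1
      exact not_lt_bot h1
    rw [← hPc, hP0, ← RingHom.ker_eq_comap_bot]
    exact (RingHom.injective_iff_ker_eq_bot ι.toRingHom).1 (Subalgebra.inclusion_injective hC'B)
  refine ⟨C', q, inferInstance, hC'B, inferInstance, le_antisymm ?_ ?_, hqA⟩
  · haveI : (⊥ : Ideal C').IsPrime := Ideal.isPrime_bot
    haveI : IsNoetherianRing C' := IsNoetherianRing.of_finite A C'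
    exact_mod_cast (Ideal.height_le_iff (p := q) (n := 1)).2 fun p1 hp1 hlt => by
      rw [hbelow p1 hp1 hlt, Ideal.height_bot]; exact_mod_cast Nat.zero_lt_one
  · haveI : (⊥ : Ideal C').IsPrime := Ideal.isPrime_bot
    haveI : IsNoetherianRing C' := IsNoetherianRing.of_finite A C'
    exact Order.one_le_iff_pos.2 (bot_le.trans_lt
      (Ideal.height_strict_mono_of_isPrime (I := (⊥ : Ideal C')) (bot_lt_iff_ne_bot.2 hq0)))

theorem integralClosure_eq_iInter {A : Type u} [CommRing A] [IsDomain A] [IsNoetherianRing A]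
    (h : ∀ C : Subalgebra A (FractionRing A), C ≤ integralClosure A (FractionRing A) → Module.Finite A C →
      ∀ (q : Ideal C) [q.IsPrime], q.height = 1 → (q.comap (algebraMap A C)).height = 1) :
    (integralClosure A (FractionRing A) : Set (FractionRing A)) =
      ⋂ (p : PrimeSpectrum A) (_ : p.asIdeal.height = 1),
        {x : FractionRing A | ∃ s : A, s ∉ p.asIdeal ∧
          algebraMap A (FractionRing A) s * x ∈ integralClosure A (FractionRing A)} := by
  classical
  let K := FractionRing A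
  let R := integralClosure A K
  have hinj : Function.Injective (algebraMap A K) := IsFractionRing.injective A K
  ext x
  simp only [Set.mem_iInter, Set.mem_setOf_eq, SetLike.mem_coe]
  refine ⟨fun hx p _ => ⟨1, p.asIdeal.ne_top_iff_one.1 p.isPrime.ne_top, by rwa [map_one, one_mul]⟩,
    fun hx => ?_⟩
  by_contra hxR
  let J : Ideal A :=
    { carrier := {a | algebraMap A K a * x ∈ R}
      add_mem' := fun {a b} ha hb => by
        show algebraMap A K (a + b) * x ∈ R
        rw [map_add, add_mul]; exact add_mem ha hb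
      zero_mem' := by
        show algebraMap A K 0 * x ∈ R
        rw [map_zero, zero_mul]; exact zero_mem _
      smul_mem' := fun c a ha => by
        show algebraMap A K (c • a) * x ∈ R
        rw [smul_eq_mul, map_mul, mul_assoc]; exact mul_mem (R.algebraMap_mem c) ha }
  have hJtop : J ≠ ⊤ := fun e => hxR (by
    have : (1 : A) ∈ J := e ▸ Submodule.mem_top
    simpa using (show algebraMap A K 1 * x ∈ R from this))
  obtain ⟨b, hbJ, hb0⟩ : ∃ b ∈ J, b ≠ 0 := by
    obtain ⟨a, b, hb, rfl⟩ := IsFractionRing.div_surjective (A := A) x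
    refine ⟨b, ?_, nonZeroDivisors.ne_zero hb⟩
    show algebraMap A K b * _ ∈ R
    rw [mul_div_cancel₀ _ (IsFractionRing.to_map_ne_zero_of_mem_nonZeroDivisors hb)]
    exact R.algebraMap_mem a
  obtain ⟨M, hM, hJM⟩ := Ideal.exists_le_maximal J hJtop
  haveI := hM.isPrime
  obtain ⟨p, hp, -⟩ := Ideal.exists_minimalPrimes_le hJM
  haveI := hp.1.1
  have hpht : p.height ≠ 1 := fun e => by
    obtain ⟨s, hs, hsx⟩ := hx ⟨p, hp.1.1⟩ e
    exact hs (hp.1.2 hsx)
  obtain ⟨G, hG⟩ := IsNoetherian.noetherian J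
  let S : Set K := (fun a => algebraMap A K a * x) '' (G : Set A)
  have hSint : ∀ z ∈ S, IsIntegral A z := by
    rintro _ ⟨a, ha, rfl⟩
    exact (show a ∈ J from hG ▸ Submodule.subset_span ha)
  let C := Algebra.adjoin A S
  haveI : Module.Finite A C :=
    Module.Finite.iff_fg.2 (fg_adjoin_of_finite (G.finite_toSet.image _) hSint)
  have hCR : C ≤ R := Algebra.adjoin_le hSint
  have hJC : ∀ a ∈ J, algebraMap A K a * x ∈ C := by
    intro a ha
    rw [← hG] at ha
    induction ha using Submodule.span_induction with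
    | mem z hz => exact Algebra.subset_adjoin ⟨z, hz, rfl⟩
    | zero => rw [map_zero, zero_mul]; exact zero_mem _
    | add u v _ _ hu hv => rw [map_add, add_mul]; exact add_mem hu hv
    | smul c u _ hu => rw [smul_eq_mul, map_mul, mul_assoc]; exact mul_mem (C.algebraMap_mem c) hu
  have hx0 : x ≠ 0 := fun e => hxR (e ▸ zero_mem _)
  let B := Algebra.adjoin A (S ∪ {x⁻¹})
  haveI : Algebra.FiniteType A B := (Subalgebra.fg_iff_finiteType B).1 <| Subalgebra.fg_def.2
    ⟨_, (G.finite_toSet.image _).union (Set.finite_singleton _), rfl⟩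
  have hCB : C ≤ B := Algebra.adjoin_mono Set.subset_union_left
  let y : B := ⟨x⁻¹, Algebra.subset_adjoin (Or.inr rfl)⟩
  have hy0 : y ≠ 0 := fun e => inv_ne_zero hx0 (congrArg Subtype.val e)
  have hJy : ∀ a ∈ J, algebraMap A B a ∈ Ideal.span {y} := fun a ha => by
    rw [Ideal.mem_span_singleton']
    refine ⟨⟨_, hCB (hJC a ha)⟩, Subtype.ext ?_⟩
    show algebraMap A K a * x * x⁻¹ = algebraMap A K a
    rw [mul_inv_cancel_right₀ hx0]
  obtain ⟨Q₀, hQ₀, hyQ₀, hQ₀p⟩ : ∃ Q₀ : Ideal B, Q₀.IsPrime ∧ y ∈ Q₀ ∧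
      Q₀.comap (algebraMap A B) ≤ p := by
    have hd : Disjoint ((Ideal.span {y} : Ideal B) : Set B)
        (p.primeCompl.map (algebraMap A B) : Set B) := by
      rw [Set.disjoint_left]
      rintro z hz ⟨s, hs, rfl⟩
      obtain ⟨c, hc⟩ := Ideal.mem_span_singleton'.1 hz
      refine hs (hp.1.2 ?_)
      show algebraMap A K s * x ∈ R
      have hc' : (c : K) * x⁻¹ = algebraMap A K s := congrArg Subtype.val hc
      have hcx : (c : K) = algebraMap A K s * x := by rw [← hc', inv_mul_cancel_right₀ hx0]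
      have hs0 : algebraMap A K s ≠ 0 := fun e => hs (hinj (e.trans (map_zero _).symm) ▸ p.zero_mem)
      have hint : IsIntegral C (algebraMap A K s * x) := by
        refine isIntegral_of_mem_adjoin_inv (mul_ne_zero hs0 hx0) ?_
        let W : Subalgebra A K :=
          (Algebra.adjoin C ({(algebraMap A K s * x)⁻¹} : Set K)).restrictScalars A
        have hBW : B ≤ W := Algebra.adjoin_le <| Set.union_subset
          (fun z hz => Subalgebra.algebraMap_mem (Algebra.adjoin C _) (⟨z, Algebra.subset_adjoin hz⟩ : C))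
          (Set.singleton_subset_iff.2 (by
            show x⁻¹ ∈ Algebra.adjoin C ({(algebraMap A K s * x)⁻¹} : Set K)
            have e : x⁻¹ = algebraMap A K s * (algebraMap A K s * x)⁻¹ := by
              field_simp
            rw [e]
            exact mul_mem (Subalgebra.algebraMap_mem _ (algebraMap A C s))
              (Algebra.subset_adjoin rfl)))
        have hm : (c : K) ∈ W := hBW c.2
        rw [hcx] at hm
        exact hm
      exact isIntegral_trans _ hint
    obtain ⟨Q₀, hQ₀, hle, hdis⟩ := Ideal.exists_le_prime_disjoint _ _ hd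
    exact ⟨Q₀, hQ₀, hle (Ideal.mem_span_singleton_self y), fun a ha => by
      by_contra hap
      exact Set.disjoint_left.1 hdis ha ⟨a, hap, rfl⟩⟩
  haveI := hQ₀
  obtain ⟨Q, hQ, hQQ₀⟩ := Ideal.exists_minimalPrimes_le
    ((Ideal.span_singleton_le_iff_mem _).2 hyQ₀)
  haveI := hQ.1.1
  have hyQ : y ∈ Q := hQ.1.2 (Ideal.mem_span_singleton_self y)
  have hQA : Q.comap (algebraMap A B) = p := by
    have h1 : Q.comap (algebraMap A B) ≤ p := (Ideal.comap_mono hQQ₀).trans hQ₀p
    exact le_antisymm h1 (hp.2 ⟨inferInstance, fun a ha => hQ.1.2 (hJy a ha)⟩ h1)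
  haveI : IsNoetherianRing B := Algebra.FiniteType.isNoetherianRing A B
  haveI : (Ideal.span {y} : Ideal B).IsPrincipal := ⟨y, rfl⟩
  have hQ1 : Q.height ≤ 1 := Ideal.height_le_one_of_isPrincipal_of_mem_minimalPrimes _ _ hQ
  have hp0 : p ≠ ⊥ := fun e => hb0 (by simpa [e] using hp.1.2 hbJ)
  haveI : Algebra.IsIntegral A C := Algebra.IsIntegral.of_finite A C
  let ι : C →ₐ[A] B := Subalgebra.inclusion hCB
  have hdecomp : ∀ z : B, ∃ (c : C) (w : B), z = ι c + y * w := by
    rintro ⟨z, hz⟩
    induction hz using Algebra.adjoin_induction with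
    | mem u hu =>
      rcases hu with hu | hu
      · exact ⟨⟨u, Algebra.subset_adjoin hu⟩, 0, Subtype.ext (by simp [ι])⟩
      · exact ⟨0, 1, Subtype.ext (by
          show u = ((ι 0 : B) : K) + x⁻¹ * ((1 : B) : K)
          rw [map_zero, ZeroMemClass.coe_zero, OneMemClass.coe_one, Set.mem_singleton_iff.1 hu]
          ring)⟩
    | algebraMap a => exact ⟨algebraMap A C a, 0, Subtype.ext (by simp [ι])⟩
    | add u v hu' hv' hu hv =>
      obtain ⟨c, w, e⟩ := hu
      obtain ⟨c', w', e'⟩ := hv
      refine ⟨c + c', w + w', ?_⟩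
      rw [show (⟨u + v, add_mem hu' hv'⟩ : B) = ⟨u, hu'⟩ + ⟨v, hv'⟩ from rfl, e, e', map_add]
      ring
    | mul u v hu' hv' hu hv =>
      obtain ⟨c, w, e⟩ := hu
      obtain ⟨c', w', e'⟩ := hv
      refine ⟨c * c', w * ι c' + ι c * w' + y * w * w', ?_⟩
      rw [show (⟨u * v, mul_mem hu' hv'⟩ : B) = ⟨u, hu'⟩ * ⟨v, hv'⟩ from rfl, e, e', map_mul]
      ring
  have hiso : ∀ q' : PrimeSpectrum B, q'.asIdeal.comap (algebraMap A B) = p →
      (q'.asIdeal ≤ Q ∨ Q ≤ q'.asIdeal) → q'.asIdeal = Q := by
    intro q' hq' hor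
    rcases hor with hle | hge
    · refine hle.eq_of_not_lt fun hlt => ?_
      have hb : (⊥ : Ideal B).IsPrime := Ideal.isPrime_bot
      have hne : q'.asIdeal ≠ ⊥ := fun e => hp0 (by
        rw [← hq', e, ← RingHom.ker_eq_comap_bot, (RingHom.injective_iff_ker_eq_bot _).1]
        exact fun u v huv => hinj (congrArg Subtype.val huv))
      haveI := q'.isPrime
      have h1 := Ideal.height_strict_mono_of_isPrime (I := (⊥ : Ideal B)) (bot_lt_iff_ne_bot.2 hne)
      have h2 := Ideal.height_strict_mono_of_isPrime (I := q'.asIdeal) hlt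
      have h3 : q'.asIdeal.height < 1 := h2.trans_le hQ1
      rw [Order.lt_one_iff] at h3
      rw [h3] at h1
      exact not_lt_bot h1
    · refine (le_antisymm hge fun z hz => ?_).symm
      obtain ⟨c, w, rfl⟩ := hdecomp z
      refine add_mem ?_ (Q.mul_mem_right _ hyQ)
      have hcq : c ∈ q'.asIdeal.comap ι.toRingHom := by
        show ι c ∈ q'.asIdeal
        have := sub_mem hz (q'.asIdeal.mul_mem_right w (hge hyQ))
        rwa [add_sub_cancel_right] at this
      haveI := q'.isPrime
      have heq : Q.comap ι.toRingHom = q'.asIdeal.comap ι.toRingHom := by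
        refine eq_of_le_of_not_lt (Ideal.comap_mono hge) fun hlt => ?_
        refine lt_irrefl p ?_
        have := Ideal.IsIntegral.comap_lt_comap (R := A) hlt
        rw [Ideal.comap_comap, Ideal.comap_comap,
          show ι.toRingHom.comp (algebraMap A C) = algebraMap A B from RingHom.ext fun a => ι.commutes a,
          hQA, hq'] at this
        exact this
      exact (heq ▸ hcq : c ∈ Q.comap ι.toRingHom)
  haveI : Algebra.QuasiFiniteAt A (⟨Q, inferInstance⟩ : PrimeSpectrum B).asIdeal :=
    H3CAlg.PruferDimFn.quasiFiniteAt_of_isolated ⟨Q, inferInstance⟩ fun q' hq' hor =>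
      PrimeSpectrum.ext (hiso q' ((congrArg PrimeSpectrum.asIdeal hq').trans hQA) hor)
  haveI : Algebra.QuasiFiniteAt A Q := this
  obtain ⟨C', q, hfin, hC'B, hqp, hq1, hqA⟩ :=
    exists_finite_height_one B C hCB Q (hQA ▸ hp0) hinj hQ1
  haveI := hfin
  haveI := hqp
  refine hpht ?_
  rw [← hQA, ← hqA]
  refine h C' (fun z hz => ?_) hfin q hq1
  exact (Algebra.IsIntegral.of_finite A C').isIntegral (⟨z, hz⟩ : C') |>.map C'.val

end Groth.Agent.H1CAlg
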