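import Groth.Agent.H9Hens.Local
import Groth.Agent.S6361
import Groth.Agent.S6338

/-!
# Mittag-Leffler modules over henselian local rings
-/

set_option autoImplicit false
set_option linter.style.haveILetI false
universe u

namespace Groth.Agent.H1CAlg.HenselML

open IsLocalRing Polynomial

variable {R : Type u} [CommRing R] [HenselianLocalRing R]

/-- In a finite algebra over a henselian local ring every element is a unit on an idempotent piece and
in the radical on the other. -/
theorem exists_idem_unit_part {B : Type u} [CommRing B] [Algebra R B] [Module.Finite R B] (β : B) :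
    ∃ e c d : B, e * e = e ∧ β * c * e = e ∧ d * (1 - (1 - e) * β) = 1 := by
  classical
  haveI := H9Hens.finite_maximalSpectrum (R := R) B
  haveI := Fintype.ofFinite (MaximalSpectrum B)
  choose ε hε hεn hεo using fun n : MaximalSpectrum B =>
    H9Hens.exists_idem_isolating (R := R) (fun b hb => H9Hens.exists_idem_lift (I := maximalIdeal R) b hb) n
  let U := (Finset.univ : Finset (MaximalSpectrum B)).filter fun n => β ∉ n.asIdeal
  let P := ∏ n ∈ U, (1 - ε n)
  have hP : IsIdempotentElem P := by
    show P * P = P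
    rw [← Finset.prod_mul_distrib]
    exact Finset.prod_congr rfl fun n _ => (hε n).one_sub.eq
  have h1 : ∀ m : MaximalSpectrum B, β ∉ m.asIdeal → P ∈ m.asIdeal := fun m hm => by
    haveI := m.isMaximal.isPrime
    refine (Ideal.IsPrime.prod_mem_iff).mpr ⟨m, by simp [U, hm], ?_⟩
    have := ((Ideal.IsPrime.mem_or_mem ‹m.asIdeal.IsPrime›) (show ε m * (1 - ε m) ∈ m.asIdeal by
      rw [mul_sub, mul_one, (hε m).eq, sub_self]; exact zero_mem _))
    exact this.resolve_left (hεn m)
  have h2 : ∀ m : MaximalSpectrum B, β ∈ m.asIdeal → P ∉ m.asIdeal := fun m hm h => by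
    haveI := m.isMaximal.isPrime
    obtain ⟨n, hn, hnm⟩ := (Ideal.IsPrime.prod_mem_iff).mp h
    have hne : m ≠ n := fun e => (Finset.mem_filter.mp hn).2 (e ▸ hm)
    exact m.isMaximal.ne_top ((Ideal.eq_top_iff_one _).mpr (by simpa using add_mem hnm (hεo n m hne)))
  have hu : IsUnit (β * (1 - P) + P) := by
    by_contra hn
    obtain ⟨M, hM, hmem⟩ := exists_max_ideal_of_mem_nonunits hn
    let m : MaximalSpectrum B := ⟨M, hM⟩
    haveI := hM.isPrime
    by_cases hb : β ∈ M
    · exact h2 m hb (by simpa using M.sub_mem hmem (M.mul_mem_right (1 - P) hb))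
    · have hP' : P ∈ M := h1 m hb
      have h3 : β * (1 - P) ∈ M := by simpa using M.sub_mem hmem hP'
      rcases hM.isPrime.mem_or_mem h3 with h | h
      · exact hb h
      · exact hM.ne_top ((Ideal.eq_top_iff_one _).mpr (by simpa using M.add_mem h hP'))
  have hv : IsUnit (1 - P * β) := by
    by_contra hn
    obtain ⟨M, hM, hmem⟩ := exists_max_ideal_of_mem_nonunits hn
    let m : MaximalSpectrum B := ⟨M, hM⟩
    refine hM.ne_top ((Ideal.eq_top_iff_one _).mpr ?_)
    have : P * β ∈ M := by
      by_cases hb : β ∈ M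
      · exact M.mul_mem_left P hb
      · exact M.mul_mem_right β (h1 m hb)
    simpa using M.add_mem hmem this
  obtain ⟨c, hc⟩ := hu.exists_left_inv
  obtain ⟨d, hd⟩ := hv.exists_left_inv
  refine ⟨1 - P, c, d, hP.one_sub.eq, ?_, by rw [sub_sub_cancel]; exact hd⟩
  linear_combination (1 - P) * hc - c * (β - 1) * hP.eq

variable {M : Type u} [AddCommGroup M] [Module R M]

/-- Every element of a countably generated Mittag-Leffler module lies in a finitely presented summand. -/
theorem exists_summand (hc : CAlg.IsCountablyGenerated R M) (hML : CAlg.IsMittagLeffler R M) (x : M) :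
    ∃ π : M →ₗ[R] M, π ∘ₗ π = π ∧ π x = x ∧ Module.FinitePresentation R (LinearMap.range π) := by
  obtain ⟨Q, _, _, _, f, g, hfg⟩ := Groth.Agent.S6361.result R M hML hc (LinearMap.toSpanSingleton R M x)
  have hx : g (f x) = x := by simpa using LinearMap.congr_fun hfg 1
  let β : Module.End R Q := f ∘ₗ g
  obtain ⟨p, hp, hpβ⟩ := Algebra.IsIntegral.isIntegral (R := R) β
  haveI : Module.Finite R (AdjoinRoot p) := hp.finite_adjoinRoot
  obtain ⟨e', c', d', he, hce, hd⟩ := exists_idem_unit_part (R := R) (AdjoinRoot.root p)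
  obtain ⟨e, rfl⟩ := AdjoinRoot.mk_surjective e'
  obtain ⟨c, rfl⟩ := AdjoinRoot.mk_surjective c'
  obtain ⟨d, rfl⟩ := AdjoinRoot.mk_surjective d'
  have key : ∀ a b : R[X], AdjoinRoot.mk p a = AdjoinRoot.mk p b → aeval β a = aeval β b := fun a b h => by
    obtain ⟨r, hr⟩ := AdjoinRoot.mk_eq_mk.mp h
    rw [← sub_eq_zero, ← map_sub, hr, map_mul, show aeval β p = 0 from hpβ, zero_mul]
  let E : Module.End R Q := aeval β e
  let C : Module.End R Q := aeval β c
  let D : Module.End R Q := aeval β d
  have hE : E * E = E := by rw [← map_mul]; exact key _ _ (by rw [map_mul]; exact he)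
  have hβCE : β * C * E = E := by
    have := key (X * c * e) e (by rw [map_mul, map_mul, AdjoinRoot.mk_X]; exact hce)
    simpa using this
  have hD : D * (1 - (1 - E) * β) = 1 := by
    have := key (d * (1 - (1 - e) * X)) 1 (by
      simp only [map_mul, map_sub, map_one, AdjoinRoot.mk_X]; exact hd)
    simpa using this
  have hEβ : E * β = β * E := by
    have h : aeval β (e * X) = aeval β (X * e) := by rw [mul_comm]
    simpa using h
  have hEC : E * C = C * E := by
    show aeval β e * aeval β c = aeval β c * aeval β e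
    rw [← map_mul, ← map_mul, mul_comm]
  have hCβ : C * β = β * C := by
    have h : aeval β (c * X) = aeval β (X * c) := by rw [mul_comm]
    simpa using h
  let y := f x
  have hβy : β y = y := by show f (g (f x)) = f x; rw [hx]
  have hy' : (1 - (1 - E) * β) ((1 - E) y) = 0 := by
    have h1 : ((1 - E) * β) * (1 - E) = (1 - E) * β := by
      have h2 : (1 - E) * (1 - E) = 1 - E := by rw [mul_sub, sub_mul, sub_mul, hE]; simp
      have h3 : β * (1 - E) = (1 - E) * β := by rw [mul_sub, sub_mul, hEβ, mul_one, one_mul]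
      rw [mul_assoc, h3, ← mul_assoc, h2]
    rw [LinearMap.sub_apply, Module.End.one_apply, ← Module.End.mul_apply, h1, Module.End.mul_apply, hβy, sub_self]
  have hEy : E y = y := by
    have h := congrArg D hy'
    rw [map_zero, ← Module.End.mul_apply, hD, Module.End.one_apply, LinearMap.sub_apply, Module.End.one_apply,
      sub_eq_zero] at h
    exact h.symm
  let s : M →ₗ[R] Q := (E * C) ∘ₗ f
  have hsg : ∀ q, s (g (E q)) = E q := fun q => by
    show (E * C) (β (E q)) = E q
    rw [← Module.End.mul_apply, ← Module.End.mul_apply, mul_assoc E C β, hCβ, mul_assoc E (β * C) E, hβCE, hE]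
  have hπ : ∀ m, g (s (g (s m))) = g (s m) := fun m => congrArg g (hsg (C (f m)))
  refine ⟨g ∘ₗ s, LinearMap.ext hπ, ?_, ?_⟩
  · show g (s x) = x
    calc g (s x) = g (s (g (E y))) := by rw [hEy]; show g (s x) = g (s (g (f x))); rw [hx]
      _ = g (E y) := by rw [hsg]
      _ = x := by rw [hEy]; exact hx
  · let l : Q →ₗ[R] LinearMap.range (g ∘ₗ s) :=
      (g ∘ₗ E).codRestrict _ fun q => ⟨g (E q), congrArg g (hsg q)⟩
    refine Module.finitePresentation_of_surjective l (fun z => ?_) ?_
    · obtain ⟨m, hm⟩ := z.2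
      refine ⟨C (f m), Subtype.ext ?_⟩
      show g (E (C (f m))) = z
      exact hm
    · have hker : LinearMap.ker l = LinearMap.range (1 - E) := by
        apply le_antisymm
        · intro q hq
          refine ⟨q, ?_⟩
          have h0 : g (E q) = 0 := congrArg Subtype.val (LinearMap.mem_ker.mp hq)
          have h1 := hsg q
          rw [h0, map_zero] at h1
          rw [LinearMap.sub_apply, Module.End.one_apply, ← h1, sub_zero]
        · rintro _ ⟨q, rfl⟩
          refine Subtype.ext ?_
          show g (E ((1 - E) q)) = 0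
          rw [← Module.End.mul_apply, mul_sub, mul_one, hE, sub_self, LinearMap.zero_apply, map_zero]
      rw [hker, LinearMap.range_eq_map]
      exact Module.Finite.fg_top.map _

/-- One step of the decomposition. -/
theorem exists_step (hc : CAlg.IsCountablyGenerated R M) (hML : CAlg.IsMittagLeffler R M)
    (p : M →ₗ[R] M) (hp : p ∘ₗ p = p) (x : M) :
    ∃ π : M →ₗ[R] M, π ∘ₗ π = π ∧ p ∘ₗ π = π ∧ π ∘ₗ p = π ∧ π (p x) = p x ∧
      Module.FinitePresentation R (LinearMap.range π) := by
  let N := LinearMap.range p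
  let pr : M →ₗ[R] N := p.rangeRestrict
  have hpr : ∀ n : N, pr n = n := fun n => by
    obtain ⟨m, hm⟩ := n.2
    refine Subtype.ext ?_
    show p n = n
    rw [← hm]
    exact LinearMap.congr_fun hp m
  have hcN : CAlg.IsCountablyGenerated R N := by
    obtain ⟨s, hs, hspan⟩ := hc
    refine ⟨pr '' s, hs.image _, ?_⟩
    rw [← Submodule.map_span, hspan, Submodule.map_top, LinearMap.range_eq_top]
    exact p.surjective_rangeRestrict
  have hMLN : CAlg.IsMittagLeffler R N := Groth.Agent.S6338.result R N.subtype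
    (fun Q _ _ => Function.LeftInverse.injective (g := pr.rTensor Q) fun z => by
      rw [← LinearMap.rTensor_comp_apply, show pr ∘ₗ N.subtype = LinearMap.id from LinearMap.ext hpr,
        LinearMap.rTensor_id, LinearMap.id_apply]) hML
  obtain ⟨π, hππ, hπx, hfp⟩ := exists_summand hcN hMLN (pr x)
  refine ⟨N.subtype ∘ₗ π ∘ₗ pr, LinearMap.ext fun m => ?_, LinearMap.ext fun m => ?_, LinearMap.ext fun m => ?_, ?_, ?_⟩
  · show (π (pr (π (pr m) : N))).1 = (π (pr m)).1
    rw [hpr]
    exact congrArg Subtype.val (LinearMap.congr_fun hππ (pr m))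
  · exact congrArg Subtype.val (hpr (π (pr m)))
  · show (π (pr (p m))).1 = (π (pr m)).1
    rw [show pr (p m) = pr (pr m : N) from rfl, hpr]
  · show (π (pr (p x))).1 = p x
    rw [show pr (p x) = pr (pr x : N) from rfl, hpr, hπx]
    rfl
  · have h : LinearMap.range (N.subtype ∘ₗ π ∘ₗ pr) = (LinearMap.range π).map N.subtype := by
      rw [LinearMap.range_comp, LinearMap.range_comp, LinearMap.range_eq_top.mpr p.surjective_rangeRestrict,
        Submodule.map_top]
    rw [h]
    exact Module.FinitePresentation.of_equiv (Submodule.equivMapOfInjective _ N.injective_subtype _)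

/-- A countably generated Mittag-Leffler module over a henselian local ring is a sum of finitely
presented modules. -/
theorem exists_isInternal (hc : CAlg.IsCountablyGenerated R M) (hML : CAlg.IsMittagLeffler R M) :
    ∃ (ι : Type u) (_ : DecidableEq ι) (N : ι → Submodule R M), DirectSum.IsInternal N ∧
      ∀ i, Module.FinitePresentation R (N i) := by
  classical
  obtain ⟨s, hs, hspan⟩ := id hc
  obtain ⟨v, hv⟩ := (hs.insert (0 : M)).exists_eq_range (Set.insert_nonempty _ _)
  choose st h₁ h₂ h₃ h₄ h₅ using exists_step (R := R) hc hML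
  let nx : {p : M →ₗ[R] M // p ∘ₗ p = p} → ℕ → {p : M →ₗ[R] M // p ∘ₗ p = p} := fun p n =>
    ⟨p.1 - st p.1 p.2 (v n), by
      rw [LinearMap.sub_comp, LinearMap.comp_sub, LinearMap.comp_sub, p.2, h₂ _ _ (v n), h₁ _ _ (v n), h₃ _ _ (v n)]
      abel⟩
  let P : ℕ → {p : M →ₗ[R] M // p ∘ₗ p = p} := Nat.rec ⟨LinearMap.id, rfl⟩ fun n p => nx p n
  let π : ℕ → (M →ₗ[R] M) := fun n => st (P n).1 (P n).2 (v n)
  have hsucc : ∀ n, (P (n + 1)).1 = (P n).1 - π n := fun n => rfl
  have hπ1 : ∀ n, π n ∘ₗ π n = π n := fun n => h₁ _ _ _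
  have hπ2 : ∀ n, (P n).1 ∘ₗ π n = π n := fun n => h₂ _ _ _
  have hπ3 : ∀ n, π n ∘ₗ (P n).1 = π n := fun n => h₃ _ _ _
  have hmono : ∀ i j, i ≤ j → (P j).1 ∘ₗ (P i).1 = (P j).1 ∧ (P i).1 ∘ₗ (P j).1 = (P j).1 := by
    intro i j hij
    induction j, hij using Nat.le_induction with
    | base => exact ⟨(P i).2, (P i).2⟩
    | succ j hij ih =>
      rw [hsucc, LinearMap.sub_comp, LinearMap.comp_sub, ih.1, ih.2]
      constructor
      · congr 1
        rw [← hπ3 j, LinearMap.comp_assoc, ih.1]
      · congr 1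
        rw [← hπ2 j, ← LinearMap.comp_assoc, ih.2]
  have hkill : ∀ i j, i < j → (P j).1 ∘ₗ π i = 0 ∧ π i ∘ₗ (P j).1 = 0 := fun i j hij => by
    have hA : (P (i + 1)).1 ∘ₗ π i = 0 := by
      rw [hsucc, LinearMap.sub_comp]; show (P i).1 ∘ₗ π i - π i ∘ₗ π i = 0
      rw [hπ2 i, hπ1 i, sub_self]
    have hB : π i ∘ₗ (P (i + 1)).1 = 0 := by
      rw [hsucc, LinearMap.comp_sub]; show π i ∘ₗ (P i).1 - π i ∘ₗ π i = 0
      rw [hπ3 i, hπ1 i, sub_self]
    constructor
    · rw [← (hmono (i + 1) j hij).1, LinearMap.comp_assoc, hA, LinearMap.comp_zero]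
    · rw [← (hmono (i + 1) j hij).2, ← LinearMap.comp_assoc, hB, LinearMap.zero_comp]
  have horth : ∀ i j, i ≠ j → π i ∘ₗ π j = 0 := fun i j hij => by
    rcases lt_or_gt_of_ne hij with h | h
    · rw [← hπ2 j, ← LinearMap.comp_assoc, (hkill i j h).2, LinearMap.zero_comp]
    · rw [← hπ3 i, LinearMap.comp_assoc, (hkill j i h).1, LinearMap.comp_zero]
  let N : ULift.{u} ℕ → Submodule R M := fun i => LinearMap.range (π i.down)
  refine ⟨ULift.{u} ℕ, inferInstance, N, ?_, fun i => h₅ _ _ _⟩
  rw [DirectSum.isInternal_submodule_iff_iSupIndep_and_iSup_eq_top]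
  refine ⟨iSupIndep_def.mpr fun i => Submodule.disjoint_def.mpr fun z hz hz' => ?_, ?_⟩
  · obtain ⟨w, rfl⟩ := hz
    have hle : (⨆ (j) (_ : j ≠ i), N j) ≤ LinearMap.ker (π i.down) := iSup₂_le fun j hj => by
      rintro _ ⟨m, rfl⟩
      exact LinearMap.congr_fun (horth i.down j.down fun h => hj (ULift.ext _ _ h.symm)) m
    have h0 : π i.down (π i.down w) = 0 := hle hz'
    rw [← LinearMap.comp_apply, hπ1] at h0
    exact h0
  · have hfix : ∀ n m, m - (P n).1 m ∈ ⨆ i, N i := fun n m => by
      induction n with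
      | zero => show m - m ∈ _; rw [sub_self]; exact zero_mem _
      | succ k ih =>
        rw [hsucc, LinearMap.sub_apply, sub_sub_eq_add_sub, add_sub_right_comm]
        exact add_mem ih (Submodule.mem_iSup_of_mem ⟨k⟩ ⟨m, rfl⟩)
    rw [eq_top_iff, ← hspan]
    refine Submodule.span_le.mpr fun z hz => ?_
    obtain ⟨n, rfl⟩ := hv.le (Set.mem_insert_of_mem _ hz)
    have h0 : (P (n + 1)).1 (v n) = 0 := by
      rw [hsucc, LinearMap.sub_apply, ← h₄ (P n).1 (P n).2 (v n)]
      show π n ((P n).1 (v n)) - π n (v n) = 0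
      rw [show π n ((P n).1 (v n)) = π n (v n) from LinearMap.congr_fun (hπ3 n) (v n), sub_self]
    have := hfix (n + 1) (v n)
    rwa [h0, sub_zero] at this

end Groth.Agent.H1CAlg.HenselML
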