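import Groth.Agent.H1CAlg.IndEtale

/-!
An ind-etale algebra which is henselian along a surjection `u : S → k` is the colimit of the
pointed etale algebras of `k`.
-/

namespace Groth.Agent.H1CAlg.IndEtale

universe w

variable {A S k : Type w} [CommRing A] [CommRing S] [Algebra A S] [CommRing k] [Algebra A k]

theorem isPtColim_of_isIndEtale (h : EtPBC.IsIndEtale A S) (u : S →ₐ[A] k)
    (hu : Function.Surjective u) [HenselianRing S (RingHom.ker u)] : H9Hens.IsPtColim u where
  exists_rep x := by
    obtain ⟨E, _, _, _, g, φ, hgφ⟩ := factors_of_isIndEtale h (Polynomial A) (Polynomial.aeval x)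
    refine ⟨E, inferInstance, inferInstance, inferInstance, φ, g Polynomial.X, ?_⟩
    have h1 := DFunLike.congr_fun hgφ Polynomial.X
    rwa [AlgHom.comp_apply, Polynomial.aeval_X] at h1
  exists_map E _ _ _ σ := by
    let e : (S ⧸ RingHom.ker u) ≃ₐ[A] k := Ideal.quotientKerAlgEquivOfSurjective hu
    obtain ⟨τ, hτ, -⟩ := H9Hens.existsUnique_algHom_lift_rel (I := RingHom.ker u)
      (e.symm.toAlgHom.comp σ)
    refine ⟨τ, AlgHom.ext fun x => ?_⟩
    have h1 : Ideal.Quotient.mkₐ A (RingHom.ker u) (τ x) = e.symm (σ x) := DFunLike.congr_fun hτ x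
    exact (congrArg e h1).trans (e.apply_symm_apply _)
  jac := HenselianRing.jac
  exists_eq_zero E _ _ _ φ s hs := by
    let I : Ideal E := Ideal.span {s}
    haveI : Algebra.FinitePresentation A (E ⧸ I) :=
      Algebra.FinitePresentation.quotient (Submodule.fg_span_singleton s)
    obtain ⟨T, _, _, _, g, φT, hg⟩ := factors_of_isIndEtale h (E ⧸ I)
      (Ideal.Quotient.liftₐ I φ fun a ha => by
        obtain ⟨c, rfl⟩ := Ideal.mem_span_singleton'.1 ha
        rw [map_mul, hs, mul_zero])
    refine ⟨T, inferInstance, inferInstance, inferInstance, g.comp (Ideal.Quotient.mkₐ A I), φT,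
      ?_, ?_⟩
    · rw [← AlgHom.comp_assoc, hg]
      exact AlgHom.ext fun a => rfl
    · rw [AlgHom.comp_apply, Ideal.Quotient.mkₐ_eq_mk,
        Ideal.Quotient.eq_zero_iff_mem.2 (Ideal.mem_span_singleton_self s), map_zero]

end Groth.Agent.H1CAlg.IndEtale
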