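import Groth.Agent.H7Flat.InjectiveModMax
import Groth.Agent.H06EGA11.BaseChange
import Mathlib

/-!
# Injectivity modulo the maximal ideal for a base change of a Noetherian situation (EGA IV 11.3.7)

`R₁` is Noetherian, `P₁` is an `R₁`-algebra which is Noetherian, `u₁ : M₁ → N₁` a map of finite
`P₁`-modules, and `(P, M, N, u)` is the base change of this data to a local ring `R`. If `N₁` is
flat over `R₁` at the image of a prime `Q` of `P` over the maximal ideal and `u` is injective
modulo the maximal ideal at `Q`, then `u` is injective at `Q` and its cokernel is flat over `R`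
at `Q`.
-/

set_option autoImplicit false
set_option linter.style.haveILetI false

universe u

open TensorProduct LinearMap IsLocalRing
open Groth.Agent.H06EGA11

namespace Groth.Agent.H1CAlg.InjModMax

/-- Over a field containing `R ⧸ p`, tensoring preserves injections of modules killed by `p`. -/
theorem lTensor_injective_of_killed {R₁ K X W : Type u} [CommRing R₁] [Field K] [Algebra R₁ K]
    (p : Ideal R₁) [p.IsPrime] (hp : RingHom.ker (algebraMap R₁ K) = p)
    [AddCommGroup X] [Module R₁ X] [AddCommGroup W] [Module R₁ W]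
    (hX : Module.IsTorsionBySet R₁ X p) (hW : Module.IsTorsionBySet R₁ W p)
    (ι : X →ₗ[R₁] W) (hι : Function.Injective ι) : Function.Injective (ι.lTensor K) := by
  let D := R₁ ⧸ p
  letI := hX.module
  letI := hW.module
  haveI : IsScalarTower R₁ D X := hX.isScalarTower
  haveI : IsScalarTower R₁ D W := hW.isScalarTower
  letI : Algebra D K := (Ideal.Quotient.lift p (algebraMap R₁ K) fun a ha =>
    RingHom.mem_ker.1 (hp.symm ▸ ha)).toAlgebra
  haveI : IsScalarTower R₁ D K := IsScalarTower.of_algebraMap_eq fun a => rfl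
  have hinj : Function.Injective (algebraMap D K) :=
    RingHom.lift_injective_of_ker_le_ideal p _ hp.le
  haveI : Module.Flat D K := by
    let F := FractionRing D
    letI : Algebra F K := (IsFractionRing.lift hinj).toAlgebra
    haveI : IsScalarTower D F K := IsScalarTower.of_algebraMap_eq fun a =>
      (IsFractionRing.lift_algebraMap hinj a).symm
    haveI : Module.Flat D F := IsLocalization.flat F (nonZeroDivisors D)
    exact Module.Flat.trans D F K
  let ιD : X →ₗ[D] W :=
    { toFun := ι
      map_add' := ι.map_add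
      map_smul' := fun d x => by
        obtain ⟨r, rfl⟩ := Ideal.Quotient.mk_surjective d
        show ι (r • x) = r • ι x
        exact ι.map_smul r x }
  have h := Module.Flat.lTensor_preserves_injective_linearMap (M := K) ιD hι
  have hsurj : Function.Surjective (algebraMap R₁ D) := Ideal.Quotient.mk_surjective
  haveI : TensorProduct.CompatibleSMul R₁ D K X := ⟨fun d k x => by
    obtain ⟨r, rfl⟩ := hsurj d
    rw [algebraMap_smul, algebraMap_smul, TensorProduct.smul_tmul]⟩
  haveI : TensorProduct.CompatibleSMul R₁ D K W := ⟨fun d k x => by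
    obtain ⟨r, rfl⟩ := hsurj d
    rw [algebraMap_smul, algebraMap_smul, TensorProduct.smul_tmul]⟩
  have key : ∀ z : K ⊗[R₁] X,
      TensorProduct.mapOfCompatibleSMul D R₁ R₁ K W (ι.lTensor K z) =
        ιD.lTensor K (TensorProduct.mapOfCompatibleSMul D R₁ R₁ K X z) := by
    intro z
    induction z with
    | zero => simp
    | tmul k x => rfl
    | add a b ha hb => simp only [map_add, ha, hb]
  intro a b hab
  refine (TensorProduct.equivOfCompatibleSMul R₁ D R₁ K X).symm.injective ?_
  refine h ?_
  have := congrArg (TensorProduct.mapOfCompatibleSMul D R₁ R₁ K W) hab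
  rw [key, key] at this
  exact this

variable {R₁ R P₁ P M₁ N₁ M N : Type u} [CommRing R₁] [CommRing R] [IsLocalRing R] [Algebra R₁ R]
  [CommRing P₁] [Algebra R₁ P₁] [CommRing P] [Algebra R P] [Algebra R₁ P] [IsScalarTower R₁ R P]
  (φ : P₁ →ₐ[R₁] P)
  [AddCommGroup M₁] [Module R₁ M₁] [Module P₁ M₁] [IsScalarTower R₁ P₁ M₁]
  [AddCommGroup N₁] [Module R₁ N₁] [Module P₁ N₁] [IsScalarTower R₁ P₁ N₁]
  [AddCommGroup M] [Module R₁ M] [Module R M] [IsScalarTower R₁ R M] [Module P M]
  [IsScalarTower R P M]
  [AddCommGroup N] [Module R₁ N] [Module R N] [IsScalarTower R₁ R N] [Module P N]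
  [IsScalarTower R P N]
  {f : M₁ →ₗ[R₁] M} {g : N₁ →ₗ[R₁] N} (hf : IsBaseChange R f) (hg : IsBaseChange R g)
  (hfφ : ∀ b m, f (b • m) = φ b • f m) (hgφ : ∀ b n, g (b • n) = φ b • g n)
  (u₁ : M₁ →ₗ[P₁] N₁) (u : M →ₗ[P] N) (hu : ∀ m, u (f m) = g (u₁ m))
  (Q : Ideal P) [Q.IsPrime] (hQ : Q.comap (algebraMap R P) = maximalIdeal R)

include hf hfφ hgφ hu hQ in
/-- Descent of injectivity modulo the maximal ideal. -/
theorem exists_smul_mem (hspan : Submodule.span R (Set.range φ) = ⊤)
    (hinj : ∀ x : M, u x ∈ maximalIdeal R • (⊤ : Submodule R N) →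
      ∃ T ∉ Q, T • x ∈ maximalIdeal R • (⊤ : Submodule R M))
    (z : M₁) (hz : u₁ z ∈ (maximalIdeal R).comap (algebraMap R₁ R) • (⊤ : Submodule R₁ N₁)) :
    ∃ t ∉ Q.comap φ, t • z ∈ (maximalIdeal R).comap (algebraMap R₁ R) • (⊤ : Submodule R₁ M₁) := by
  classical
  set p := (maximalIdeal R).comap (algebraMap R₁ R) with hp
  haveI : p.IsPrime := Ideal.IsPrime.comap _
  by_contra hne
  push Not at hne
  have hsm : ∀ (I : Ideal R₁), I • (⊤ : Submodule R₁ M₁) =
      (I.map (algebraMap R₁ P₁) • (⊤ : Submodule P₁ M₁)).restrictScalars R₁ := fun I => by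
    rw [Ideal.smul_restrictScalars, Submodule.restrictScalars_top]
  let pM : Submodule P₁ M₁ := p.map (algebraMap R₁ P₁) • ⊤
  let β : P₁ →ₗ[P₁] M₁ ⧸ pM := pM.mkQ ∘ₗ LinearMap.toSpanSingleton P₁ M₁ z
  let I : Ideal P₁ := LinearMap.ker β
  have hI : I ≤ Q.comap φ := fun b hb => by
    by_contra hb'
    refine hne b hb' ?_
    rw [hsm, Submodule.restrictScalars_mem, ← Submodule.Quotient.mk_eq_zero]
    exact hb
  let ι : (P₁ ⧸ I) →ₗ[R₁] M₁ ⧸ pM := (Submodule.liftQ I β le_rfl).restrictScalars R₁
  have hι : Function.Injective ι :=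
    (LinearMap.ker_eq_bot (f := Submodule.liftQ I β le_rfl)).1 (Submodule.ker_liftQ_eq_bot' I β rfl)
  have hW : Module.IsTorsionBySet R₁ (M₁ ⧸ pM) p := fun x r => by
    obtain ⟨m, rfl⟩ := Submodule.Quotient.mk_surjective _ x
    rw [← Submodule.Quotient.mk_smul, Submodule.Quotient.mk_eq_zero, ← algebraMap_smul P₁ (r : R₁) m]
    exact Submodule.smul_mem_smul (Ideal.mem_map_of_mem _ r.2) Submodule.mem_top
  have hX : Module.IsTorsionBySet R₁ (P₁ ⧸ I) p := fun x r => hι (by
    rw [map_smul, map_zero]
    exact hW (x := ι x) (a := r))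
  let κ := IsLocalRing.ResidueField R
  have hker : RingHom.ker (algebraMap R₁ κ) = p := by
    rw [IsScalarTower.algebraMap_eq R₁ R κ, ← RingHom.comap_ker,
      IsLocalRing.ResidueField.algebraMap_eq, IsLocalRing.ker_residue]
  have hinjκ := lTensor_injective_of_killed (K := κ) p hker hX hW ι hι
  -- `u` maps `f z` into `m N`
  have hgmem : ∀ y : N₁, y ∈ p • (⊤ : Submodule R₁ N₁) → g y ∈ maximalIdeal R • (⊤ : Submodule R N) := by
    intro y hy
    refine Submodule.smul_induction_on hy (fun r hr n _ => ?_) fun a b ha hb => ?_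
    · rw [map_smul, ← algebraMap_smul R r]
      exact Submodule.smul_mem_smul hr Submodule.mem_top
    · rw [map_add]; exact add_mem ha hb
  obtain ⟨T, hT, hTz⟩ := hinj (f z) (by rw [hu]; exact hgmem _ hz)
  -- lift `T` to `R ⊗ P₁`
  have hsurj : ∀ S : P, ∃ τ : R ⊗[R₁] P₁, φ.toLinearMap.liftBaseChange R τ = S := by
    intro S
    have hS : S ∈ Submodule.span R (Set.range φ) := hspan ▸ Submodule.mem_top
    induction hS using Submodule.span_induction with
    | mem x hx => obtain ⟨b, rfl⟩ := hx; exact ⟨1 ⊗ₜ b, by simp⟩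
    | zero => exact ⟨0, map_zero _⟩
    | add a b _ _ ha hb =>
      obtain ⟨x, rfl⟩ := ha
      obtain ⟨y, rfl⟩ := hb
      exact ⟨x + y, map_add _ _ _⟩
    | smul r a _ ha =>
      obtain ⟨x, rfl⟩ := ha
      exact ⟨r • x, map_smul _ _ _⟩
  obtain ⟨τ, rfl⟩ := hsurj T
  let γ : M →ₗ[R₁] κ ⊗[R₁] (M₁ ⧸ pM) :=
    TensorProduct.map (IsScalarTower.toAlgHom R₁ R κ).toLinearMap (pM.mkQ.restrictScalars R₁) ∘ₗ
      (hf.equiv.symm.toLinearMap.restrictScalars R₁)
  have hγs : ∀ (r : R) (x : M), γ (r • x) = algebraMap R κ r • γ x := by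
    intro r x
    simp only [γ, LinearMap.comp_apply, LinearMap.restrictScalars_apply, LinearEquiv.coe_coe, map_smul]
    generalize hf.equiv.symm x = w
    induction w with
    | zero => simp
    | tmul a m =>
      simp only [TensorProduct.smul_tmul', TensorProduct.map_tmul, smul_eq_mul, AlgHom.toLinearMap_apply,
        IsScalarTower.coe_toAlgHom', map_mul]
    | add a b ha hb => simp only [smul_add, map_add, ha, hb]
  have hγ0 : ∀ x ∈ maximalIdeal R • (⊤ : Submodule R M), γ x = 0 := by
    intro x hx
    refine Submodule.smul_induction_on hx (fun r hr n _ => ?_) fun a b ha hb => by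
      rw [map_add, ha, hb, add_zero]
    rw [hγs, IsLocalRing.ResidueField.algebraMap_eq, (IsLocalRing.residue_eq_zero_iff r).2 hr, zero_smul]
  let τ' : κ ⊗[R₁] (P₁ ⧸ I) :=
    TensorProduct.map (IsScalarTower.toAlgHom R₁ R κ).toLinearMap (I.mkQ.restrictScalars R₁) τ
  have hτ : ι.lTensor κ τ' = γ (φ.toLinearMap.liftBaseChange R τ • f z) := by
    clear hTz hT hsurj
    simp only [τ']
    induction τ with
    | zero => simp
    | tmul r b =>
      have h1 : φ.toLinearMap.liftBaseChange R (r ⊗ₜ b) • f z = r • f (b • z) := by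
        rw [LinearMap.liftBaseChange_tmul, smul_assoc, hfφ]; rfl
      rw [h1, hγs]
      simp only [γ, LinearMap.comp_apply, LinearMap.restrictScalars_apply, LinearEquiv.coe_coe,
        IsBaseChange.equiv_symm_apply, TensorProduct.map_tmul, LinearMap.lTensor_tmul,
        TensorProduct.smul_tmul']
      congr 1
      simp
    | add a b ha hb => simp only [map_add, add_smul, ha, hb]
  have hτ0 : τ' = 0 := hinjκ (by rw [hτ, hγ0 _ hTz, map_zero])
  -- map to `P ⧸ Q`
  let j : κ →ₐ[R₁] P ⧸ Q := AlgHom.mk' (Ideal.quotientMap Q (algebraMap R P) hQ.ge) fun c x => by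
    obtain ⟨r, rfl⟩ := Ideal.Quotient.mk_surjective x
    show Ideal.Quotient.mk Q (algebraMap R P (c • r)) = c • Ideal.Quotient.mk Q (algebraMap R P r)
    rw [Algebra.smul_def, map_mul, ← IsScalarTower.algebraMap_apply, map_mul, Algebra.smul_def]
    rfl
  let ψ : (P₁ ⧸ I) →ₗ[R₁] P ⧸ Q :=
    { toFun := Ideal.quotientMap Q φ.toRingHom hI
      map_add' := map_add _
      map_smul' := fun c x => by
        obtain ⟨b, rfl⟩ := Ideal.Quotient.mk_surjective x
        show Ideal.Quotient.mk Q (φ (c • b)) = c • Ideal.Quotient.mk Q (φ b)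
        rw [map_smul]; rfl }
  let δ : κ ⊗[R₁] (P₁ ⧸ I) →ₗ[R₁] P ⧸ Q :=
    TensorProduct.lift ((LinearMap.mul R₁ (P ⧸ Q)).compl₁₂ j.toLinearMap ψ)
  have hδ : δ τ' = Ideal.Quotient.mk Q (φ.toLinearMap.liftBaseChange R τ) := by
    clear hTz hT hτ hτ0 hsurj
    simp only [τ']
    induction τ with
    | zero => simp
    | tmul r b =>
      rw [LinearMap.liftBaseChange_tmul, Algebra.smul_def, map_mul]
      rfl
    | add a b ha hb => simp only [map_add, ha, hb]
  rw [hτ0, map_zero] at hδ
  exact hT (Ideal.Quotient.eq_zero_iff_mem.1 hδ.symm)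

section Noetherian

variable [IsNoetherianRing R₁] [IsNoetherianRing P₁] [Module.Finite P₁ M₁] (q : Ideal P₁) [q.IsPrime]
  [Module.Flat R₁ (LocalizedModule q.primeCompl N₁)]

/-- The Noetherian criterion at a prime, with the residue hypothesis at the level of elements. -/
theorem injective_and_flat_localized (v : M₁ →ₗ[P₁] N₁)
    (h : ∀ z, v z ∈ q.comap (algebraMap R₁ P₁) • (⊤ : Submodule R₁ N₁) →
      ∃ t ∉ q, t • z ∈ q.comap (algebraMap R₁ P₁) • (⊤ : Submodule R₁ M₁)) :
    Function.Injective (LocalizedModule.map q.primeCompl v) ∧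
      Module.Flat R₁ (LocalizedModule q.primeCompl (N₁ ⧸ LinearMap.range v)) := by
  let p := q.comap (algebraMap R₁ P₁)
  haveI : p.IsPrime := Ideal.IsPrime.comap _
  let A := Localization.AtPrime p
  let B := Localization.AtPrime q
  letI : Algebra A B := (Localization.localRingHom p q (algebraMap R₁ P₁) rfl).toAlgebra
  haveI : IsScalarTower R₁ A B := IsScalarTower.of_algebraMap_eq fun x =>
    ((Localization.localRingHom_to_map p q (algebraMap R₁ P₁) rfl x).trans
      (IsScalarTower.algebraMap_apply R₁ P₁ B x).symm).symm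
  haveI : IsLocalHom (algebraMap A B) :=
    inferInstanceAs (IsLocalHom (Localization.localRingHom p q (algebraMap R₁ P₁) rfl))
  let M' := LocalizedModule q.primeCompl M₁
  let N' := LocalizedModule q.primeCompl N₁
  letI : Module A M' := Module.compHom M' (algebraMap A B)
  letI : Module A N' := Module.compHom N' (algebraMap A B)
  haveI : IsScalarTower A B M' := IsScalarTower.of_algebraMap_smul fun _ _ => rfl
  haveI : IsScalarTower A B N' := IsScalarTower.of_algebraMap_smul fun _ _ => rfl
  haveI : IsScalarTower R₁ A M' := IsScalarTower.of_algebraMap_smul fun r x => by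
    show algebraMap A B (algebraMap R₁ A r) • x = r • x
    rw [← IsScalarTower.algebraMap_apply, algebraMap_smul]
  haveI : IsScalarTower R₁ A N' := IsScalarTower.of_algebraMap_smul fun r x => by
    show algebraMap A B (algebraMap R₁ A r) • x = r • x
    rw [← IsScalarTower.algebraMap_apply, algebraMap_smul]
  haveI : Module.Flat A N' := by
    haveI := isLocalizedModule_id p.primeCompl N' A
    exact Module.Flat.of_isLocalizedModule A p.primeCompl (LinearMap.id : N' →ₗ[R₁] N')
  let v' : M' →ₗ[B] N' := LocalizedModule.map q.primeCompl v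
  have hv' : ∀ z s, v' (LocalizedModule.mk z s) = LocalizedModule.mk (v z) s := fun z s =>
    LocalizedModule.map_mk ..
  have hres : Function.Injective ((v'.restrictScalars A).lTensor (IsLocalRing.ResidueField A)) := by
    refine H7Flat.lTensor_residueField_injective _ fun x hx => ?_
    have hmemN : ∀ y ∈ maximalIdeal A • (⊤ : Submodule A N'), ∃ w ∈ p • (⊤ : Submodule R₁ N₁),
        ∃ c : q.primeCompl, y = LocalizedModule.mk w c := by
      intro y hy
      refine Submodule.smul_induction_on hy (fun a ha n _ => ?_) ?_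
      · obtain ⟨⟨r, s⟩, rfl⟩ := IsLocalization.mk'_surjective p.primeCompl a |>.imp fun _ h => h
        obtain ⟨⟨w, c⟩, rfl⟩ := Quotient.exists_rep n
        refine ⟨r • w, Submodule.smul_mem_smul
          ((IsLocalization.AtPrime.mk'_mem_maximal_iff A p r s).1 ha) Submodule.mem_top,
          ⟨algebraMap R₁ P₁ s.1, s.2⟩ * c, ?_⟩
        show algebraMap A B (IsLocalization.mk' A r s) • LocalizedModule.mk w c = _
        rw [show algebraMap A B (IsLocalization.mk' A r s) = IsLocalization.mk' B (algebraMap R₁ P₁ r)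
            (⟨algebraMap R₁ P₁ s.1, s.2⟩ : q.primeCompl) from
          Localization.localRingHom_mk' p q (algebraMap R₁ P₁) rfl r s,
          ← Localization.mk_eq_mk', LocalizedModule.mk_smul_mk, algebraMap_smul]
      · rintro a b ⟨w, hw, c, rfl⟩ ⟨w', hw', c', rfl⟩
        refine ⟨c'.1 • w + c.1 • w', add_mem ?_ ?_, c * c', LocalizedModule.mk_add_mk⟩ <;>
          rw [show p • (⊤ : Submodule R₁ N₁) = (p.map (algebraMap R₁ P₁) •
            (⊤ : Submodule P₁ N₁)).restrictScalars R₁ by
            rw [Ideal.smul_restrictScalars, Submodule.restrictScalars_top]] at hw hw' ⊢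
        · rw [Submodule.restrictScalars_mem] at hw ⊢
          exact Submodule.smul_mem _ _ hw
        · rw [Submodule.restrictScalars_mem] at hw' ⊢
          exact Submodule.smul_mem _ _ hw'
    obtain ⟨⟨z, s⟩, rfl⟩ := Quotient.exists_rep x
    obtain ⟨w, hw, c, hwc⟩ := hmemN _ hx
    replace hwc : LocalizedModule.mk (v z) s = LocalizedModule.mk w c := (hv' z s).symm.trans hwc
    obtain ⟨e, he⟩ := LocalizedModule.mk_eq.1 hwc
    obtain ⟨t, ht, htz⟩ := h ((e * c : q.primeCompl).1 • z) (by
      rw [map_smul, Submonoid.coe_mul, mul_smul]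
      have hw' : e.1 • s.1 • w ∈ p • (⊤ : Submodule R₁ N₁) := by
        rw [show p • (⊤ : Submodule R₁ N₁) = (p.map (algebraMap R₁ P₁) •
            (⊤ : Submodule P₁ N₁)).restrictScalars R₁ by
            rw [Ideal.smul_restrictScalars, Submodule.restrictScalars_top]] at hw ⊢
        rw [Submodule.restrictScalars_mem] at hw ⊢
        exact Submodule.smul_mem _ _ (Submodule.smul_mem _ _ hw)
      exact he ▸ hw')
    let T : q.primeCompl := ⟨t, ht⟩ * (e * c)
    show LocalizedModule.mk z s ∈ _
    rw [← LocalizedModule.mk_cancel_common_left T s z]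
    have htz' : (T.1 • z : M₁) ∈ p • (⊤ : Submodule R₁ M₁) := by
      rw [Submonoid.coe_mul, mul_smul]; exact htz
    show LocalizedModule.mk (T.1 • z) (T * s) ∈ _
    refine Submodule.smul_induction_on htz' (fun r hr m _ => ?_) fun a b ha hb => ?_
    · have : LocalizedModule.mk (r • m) (T * s) =
          algebraMap R₁ A r • LocalizedModule.mk m (T * s) := by
        rw [algebraMap_smul, LocalizedModule.smul'_mk]
      rw [this]
      exact Submodule.smul_mem_smul ((IsLocalization.AtPrime.to_map_mem_maximal_iff A p r).2 hr)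
        Submodule.mem_top
    · rw [show LocalizedModule.mk (a + b) (T * s) =
          LocalizedModule.mk a (T * s) + LocalizedModule.mk b (T * s) by
        rw [LocalizedModule.mk_add_mk, ← smul_add, LocalizedModule.mk_cancel_common_left]]
      exact add_mem ha hb
  obtain ⟨hi, hfl⟩ := H7Flat.injective_and_flat_quotient (R := A) (S := B) (v'.restrictScalars A) hres
  refine ⟨hi, ?_⟩
  let Q' := N' ⧸ LinearMap.range v'
  haveI : Module.Flat A Q' := by
    exact Module.Flat.of_linearEquiv (M := N' ⧸ LinearMap.range (v'.restrictScalars A))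
      ((Submodule.Quotient.restrictScalarsEquiv A (LinearMap.range v')).symm.trans
        (Submodule.quotEquivOfEq _ _ (SetLike.ext fun _ => Iff.rfl)))
  haveI : Module.Flat R₁ Q' := Module.Flat.trans R₁ A Q'
  let π := (LinearMap.range v).mkQ
  let π' : N' →ₗ[B] LocalizedModule q.primeCompl (N₁ ⧸ LinearMap.range v) :=
    LocalizedModule.map q.primeCompl π
  have hex : Function.Exact v' π' := by
    exact LocalizedModule.map_exact q.primeCompl v π (LinearMap.exact_map_mkQ_range v)
  have hπ : Function.Surjective π' :=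
    LocalizedModule.map_surjective q.primeCompl π (Submodule.mkQ_surjective _)
  let e : Q' ≃ₗ[B] LocalizedModule q.primeCompl (N₁ ⧸ LinearMap.range v) :=
    (Submodule.quotEquivOfEq _ _ hex.linearMap_ker_eq.symm).trans (π'.quotKerEquivOfSurjective hπ)
  exact Module.Flat.of_linearEquiv (e.restrictScalars R₁).symm

end Noetherian

include hf hg hfφ hgφ hu hQ in
/-- EGA IV 11.3.7 for a base change of a Noetherian situation. -/
theorem ker_killed_and_flat [IsNoetherianRing R₁] [IsNoetherianRing P₁] [Module.Finite P₁ M₁]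
    (hspan : Submodule.span R (Set.range φ) = ⊤)
    [(Q.comap φ).IsPrime] [Module.Flat R₁ (LocalizedModule (Q.comap φ).primeCompl N₁)]
    (hinj : ∀ x : M, u x ∈ maximalIdeal R • (⊤ : Submodule R N) →
      ∃ T ∉ Q, T • x ∈ maximalIdeal R • (⊤ : Submodule R M)) :
    (∀ x, u x = 0 → ∃ T ∉ Q, T • x = 0) ∧
      Module.Flat R (LocalizedModule Q.primeCompl (N ⧸ LinearMap.range u)) := by
  classical
  set q := Q.comap φ with hq
  have hpq : q.comap (algebraMap R₁ P₁) = (maximalIdeal R).comap (algebraMap R₁ R) := by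
    rw [← hQ]
    ext r
    show φ (algebraMap R₁ P₁ r) ∈ Q ↔ algebraMap R P (algebraMap R₁ R r) ∈ Q
    rw [φ.commutes, ← IsScalarTower.algebraMap_apply]
  obtain ⟨hinj', hflat⟩ := injective_and_flat_localized (R₁ := R₁) q u₁ fun z hz => by
    rw [hpq] at hz ⊢
    exact exists_smul_mem φ hf hfφ hgφ u₁ u hu Q hQ hspan hinj z hz
  let C₁ := N₁ ⧸ LinearMap.range u₁
  let C := N ⧸ LinearMap.range u
  haveI : Module.Flat R₁ (LocalizedModule q.primeCompl C₁) := hflat
  let i := (u₁.restrictScalars R₁)
  have huR : ∀ τ : R ⊗[R₁] M₁, hg.equiv (i.lTensor R τ) = u (hf.equiv τ) := by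
    intro τ
    induction τ with
    | zero => simp
    | tmul r m =>
      rw [LinearMap.lTensor_tmul, IsBaseChange.equiv_tmul, IsBaseChange.equiv_tmul,
        LinearMap.map_smul_of_tower, hu]
      rfl
    | add a b ha hb => simp only [map_add, ha, hb]
  refine ⟨fun x hx => ?_, ?_⟩
  · haveI : IsScalarTower R₁ P M := IsScalarTower.of_algebraMap_smul fun r y => by
      rw [IsScalarTower.algebraMap_apply R₁ R P, algebraMap_smul, algebraMap_smul]
    let L := LocalizedModule Q.primeCompl M
    letI : Module P₁ L := Module.compHom L φ.toRingHom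
    let ψ : M₁ →ₗ[P₁] L :=
      { toFun := fun m => LocalizedModule.mkLinearMap Q.primeCompl M (f m)
        map_add' := fun a b => by rw [map_add, map_add]
        map_smul' := fun b m => by
          show _ = φ b • LocalizedModule.mkLinearMap Q.primeCompl M (f m)
          rw [hfφ, map_smul] }
    haveI : IsScalarTower R₁ P₁ L := IsScalarTower.of_algebraMap_smul fun r y => by
      show φ (algebraMap R₁ P₁ r) • y = r • y
      rw [φ.commutes, IsScalarTower.algebraMap_apply R₁ R P, algebraMap_smul, algebraMap_smul]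
    have hunit : ∀ s : q.primeCompl, IsUnit (algebraMap P₁ (Module.End P₁ L) s) := by
      intro s
      rw [Module.End.isUnit_iff]
      have hb : Function.Bijective fun y : L => φ s.1 • y := (Module.End.isUnit_iff _).1
        (IsLocalizedModule.map_units (LocalizedModule.mkLinearMap Q.primeCompl M)
          (⟨φ s.1, s.2⟩ : Q.primeCompl))
      exact hb
    let ψ' := IsLocalizedModule.lift q.primeCompl (LocalizedModule.mkLinearMap q.primeCompl M₁) ψ hunit
    have hψ' : ∀ m, ψ' (LocalizedModule.mkLinearMap q.primeCompl M₁ m) = ψ m := fun m =>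
      IsLocalizedModule.lift_apply _ _ _ _ m
    let ι₁ := (LocalizedModule.mkLinearMap q.primeCompl M₁).restrictScalars R₁
    let ι₂ := (LocalizedModule.mkLinearMap q.primeCompl N₁).restrictScalars R₁
    let i' := (LocalizedModule.map q.primeCompl u₁).restrictScalars R₁
    let Ψ := (ψ'.restrictScalars R₁).liftBaseChange R
    have hΨ : ∀ τ : R ⊗[R₁] M₁, Ψ (ι₁.lTensor R τ) =
        LocalizedModule.mkLinearMap Q.primeCompl M (hf.equiv τ) := by
      intro τ
      induction τ with
      | zero => simp
      | tmul r m =>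
        rw [LinearMap.lTensor_tmul, IsBaseChange.equiv_tmul]
        show Ψ (r ⊗ₜ _) = _
        rw [LinearMap.liftBaseChange_tmul, LinearMap.map_smul_of_tower]
        exact congrArg (r • ·) (hψ' m)
      | add a b ha hb => simp only [map_add, ha, hb]
    have hcomm : i'.comp ι₁ = ι₂.comp i := LinearMap.ext fun m => LocalizedModule.map_mk ..
    have hi'inj : Function.Injective (i'.lTensor R) := by
      let π' := (LocalizedModule.map q.primeCompl (LinearMap.range u₁).mkQ).restrictScalars R₁
      refine LinearMap.lTensor_injective_of_exact_of_flat π' ?_ i' hinj' ?_ R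
      · exact LocalizedModule.map_surjective q.primeCompl _ (Submodule.mkQ_surjective _)
      · exact LocalizedModule.map_exact q.primeCompl u₁ _ (LinearMap.exact_map_mkQ_range u₁)
    obtain ⟨τ, rfl⟩ := hf.equiv.surjective x
    have h0 : i.lTensor R τ = 0 := hg.equiv.injective (by rw [huR, hx, map_zero])
    have h1 : ι₁.lTensor R τ = 0 := hi'inj (by
      rw [← LinearMap.lTensor_comp_apply, hcomm, LinearMap.lTensor_comp_apply, h0, map_zero, map_zero])
    have h2 := hΨ τ
    rw [h1, map_zero, eq_comm, LocalizedModule.mkLinearMap_apply] at h2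
    obtain ⟨⟨T, hT⟩, hTx⟩ := LocalizedModule.mk_eq.1 (h2.trans (LocalizedModule.zero_mk 1).symm)
    exact ⟨T, hT, by simpa using hTx⟩
  · -- the cokernel is the base change of the cokernel
    let π₁ : N₁ →ₗ[R₁] C₁ := (LinearMap.range u₁).mkQ.restrictScalars R₁
    let π : N →ₗ[R] C := (LinearMap.range u).mkQ.restrictScalars R
    haveI : IsScalarTower R₁ P N := IsScalarTower.of_algebraMap_smul fun r y => by
      rw [IsScalarTower.algebraMap_apply R₁ R P, algebraMap_smul, algebraMap_smul]
    let h : C₁ →ₗ[R₁] C :=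
      { toFun := fun c => Quotient.liftOn' c (fun n => (Submodule.Quotient.mk (g n) : C))
          fun a b hab => by
            rw [Submodule.Quotient.eq]
            obtain ⟨m, hm⟩ := (Submodule.quotientRel_def _).1 hab
            exact ⟨f m, by rw [hu, hm, map_sub]⟩
        map_add' := fun a b => by
          obtain ⟨a, rfl⟩ := Submodule.Quotient.mk_surjective _ a
          obtain ⟨b, rfl⟩ := Submodule.Quotient.mk_surjective _ b
          exact congrArg Submodule.Quotient.mk (map_add g a b)
        map_smul' := fun r a => by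
          obtain ⟨a, rfl⟩ := Submodule.Quotient.mk_surjective _ a
          exact congrArg Submodule.Quotient.mk (map_smul g r a) }
    have hh : ∀ n, h (Submodule.Quotient.mk n) = Submodule.Quotient.mk (g n) := fun n => rfl
    have hhφ : ∀ (b : P₁) c, h (b • c) = φ b • h c := by
      intro b c
      obtain ⟨n, rfl⟩ := Submodule.Quotient.mk_surjective _ c
      rw [← Submodule.Quotient.mk_smul, hh, hh, hgφ]
      rfl
    let inv0 : N →ₗ[R] R ⊗[R₁] C₁ := π₁.baseChange R ∘ₗ hg.equiv.symm.toLinearMap
    have hinv0 : LinearMap.range (u.restrictScalars R) ≤ LinearMap.ker inv0 := by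
      rintro _ ⟨x, rfl⟩
      obtain ⟨τ, rfl⟩ := hf.equiv.surjective x
      show π₁.baseChange R (hg.equiv.symm (u (hf.equiv τ))) = 0
      rw [← huR, LinearEquiv.symm_apply_apply]
      show π₁.lTensor R (i.lTensor R τ) = 0
      rw [← LinearMap.lTensor_comp_apply,
        show π₁ ∘ₗ i = 0 from LinearMap.ext fun m => (Submodule.Quotient.mk_eq_zero _).2 ⟨m, rfl⟩,
        LinearMap.lTensor_zero, LinearMap.zero_apply]
    let inv : C →ₗ[R] R ⊗[R₁] C₁ :=
      { toFun := fun c => Quotient.liftOn' c inv0 fun a b hab => by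
          rw [← sub_eq_zero, ← map_sub]
          obtain ⟨m, hm⟩ := (Submodule.quotientRel_def _).1 hab
          exact hinv0 ⟨m, hm⟩
        map_add' := fun a b => by
          obtain ⟨a, rfl⟩ := Submodule.Quotient.mk_surjective _ a
          obtain ⟨b, rfl⟩ := Submodule.Quotient.mk_surjective _ b
          exact map_add inv0 a b
        map_smul' := fun r a => by
          obtain ⟨a, rfl⟩ := Submodule.Quotient.mk_surjective _ a
          exact map_smul inv0 r a }
    let e : R ⊗[R₁] C₁ ≃ₗ[R] C := LinearEquiv.ofLinear (h.liftBaseChange R) inv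
      (LinearMap.ext fun c => by
        obtain ⟨n, rfl⟩ := Submodule.Quotient.mk_surjective _ c
        obtain ⟨τ, rfl⟩ := hg.equiv.surjective n
        show h.liftBaseChange R (π₁.baseChange R (hg.equiv.symm (hg.equiv τ))) = _
        rw [LinearEquiv.symm_apply_apply]
        induction τ with
        | zero => simp
        | tmul r n =>
          rw [LinearMap.baseChange_tmul, LinearMap.liftBaseChange_tmul, IsBaseChange.equiv_tmul]
          rfl
        | add a b ha hb => simp only [map_add, Submodule.Quotient.mk_add, ha, hb])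
      (TensorProduct.AlgebraTensorModule.ext fun r c => by
        obtain ⟨n, rfl⟩ := Submodule.Quotient.mk_surjective _ c
        show inv (h.liftBaseChange R (r ⊗ₜ Submodule.Quotient.mk n)) = r ⊗ₜ Submodule.Quotient.mk n
        rw [LinearMap.liftBaseChange_tmul, map_smul, hh]
        show r • π₁.baseChange R (hg.equiv.symm (g n)) = _
        rw [IsBaseChange.equiv_symm_apply, LinearMap.baseChange_tmul, TensorProduct.smul_tmul',
          smul_eq_mul, mul_one]
        rfl)
    refine flat_localizedModule _ fun J x hx => ?_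
    let Φ : ∀ (X : Type u) [AddCommGroup X] [Module R₁ X] [Module R X] [IsScalarTower R₁ R X],
        C₁ ⊗[R₁] X ≃+ C ⊗[R] X := fun X _ _ _ _ =>
      (((TensorProduct.comm R₁ C₁ X).toAddEquiv.trans
        (AlgebraTensorModule.cancelBaseChange R₁ R R X C₁).symm.toAddEquiv).trans
        (TensorProduct.comm R X (R ⊗[R₁] C₁)).toAddEquiv).trans
        (LinearEquiv.rTensor X e).toAddEquiv
    have hΦ : ∀ (X : Type u) [AddCommGroup X] [Module R₁ X] [Module R X] [IsScalarTower R₁ R X]
        (c : C₁) (y : X), Φ X (c ⊗ₜ y) = h c ⊗ₜ y := fun X _ _ _ _ c y => by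
      show (LinearEquiv.rTensor X e) (TensorProduct.comm R X (R ⊗[R₁] C₁)
        ((AlgebraTensorModule.cancelBaseChange R₁ R R X C₁).symm (y ⊗ₜ c))) = _
      rw [AlgebraTensorModule.cancelBaseChange_symm_tmul, TensorProduct.comm_tmul,
        LinearEquiv.rTensor_tmul]
      show h.liftBaseChange R (1 ⊗ₜ c) ⊗ₜ y = _
      rw [LinearMap.liftBaseChange_tmul, one_smul]
    obtain ⟨y, rfl⟩ := (Φ ↥J).surjective x
    have key : J.subtype.lTensor C (Φ ↥J y) =
        Φ R ((J.subtype.restrictScalars R₁).lTensor C₁ y) := by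
      clear hx
      induction y with
      | zero => simp
      | tmul c a => simp [hΦ]
      | add a b ha hb => simp only [map_add, ha, hb]
    rw [key, map_eq_zero_iff _ (Φ R).injective] at hx
    obtain ⟨s, hs, hsy⟩ := exists_smul_eq_zero_of_flat q.primeCompl (J.subtype.restrictScalars R₁)
      Subtype.val_injective y hx
    refine ⟨φ s, hs, ?_⟩
    have hsm : ∀ z : C₁ ⊗[R₁] ↥J, Φ ↥J (s • z) = φ s • Φ ↥J z := by
      intro z
      induction z with
      | zero => simp
      | tmul c a => rw [TensorProduct.smul_tmul', hΦ, hΦ, hhφ, TensorProduct.smul_tmul']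
      | add a b ha hb => simp only [map_add, smul_add, ha, hb]
    rw [← hsm, hsy, map_zero]

end Groth.Agent.H1CAlg.InjModMax
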