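import Groth.Prelude.Def_Found
import Mathlib.LinearAlgebra.DirectSum.Basis
import Mathlib.Order.CompactlyGenerated.Basic
import Mathlib.Order.SuccPred.Limit
import Mathlib.LinearAlgebra.Projection
import Mathlib.Algebra.Module.Projective
import Mathlib.LinearAlgebra.Finsupp.Supported

/-!
Kaplansky's theorem: direct summands of direct sums of countably generated modules, and
filtrations with complemented steps.
-/

set_option autoImplicit false
universe u v

namespace Groth.Agent.H1CAlg

variable {R : Type u} [CommRing R] {M : Type u} [AddCommGroup M] [Module R M]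

theorem isCountablyGenerated_of_surjective {M' : Type u} [AddCommGroup M'] [Module R M'] (f : M →ₗ[R] M')
    (hf : Function.Surjective f) (h : CAlg.IsCountablyGenerated R M) : CAlg.IsCountablyGenerated R M' := by
  obtain ⟨s, hs, hs'⟩ := h
  exact ⟨f '' s, hs.image f, by rw [Submodule.span_image, hs', Submodule.map_top, LinearMap.range_eq_top.mpr hf]⟩

theorem isCountablyGenerated_iff_submodule (N : Submodule R M) :
    CAlg.IsCountablyGenerated R N ↔ ∃ s : Set M, s.Countable ∧ Submodule.span R s = N := by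
  constructor
  · rintro ⟨s, hs, hs'⟩
    refine ⟨N.subtype '' s, hs.image _, ?_⟩
    rw [Submodule.span_image, hs', Submodule.map_top, Submodule.range_subtype]
  · rintro ⟨s, hs, rfl⟩
    exact ⟨Subtype.val ⁻¹' s, hs.preimage Subtype.val_injective, Submodule.span_span_coe_preimage⟩

/-- Complements of the steps of a continuous well ordered filtration decompose the module. -/
theorem isInternal_of_filtration {S : Type v} [LinearOrder S] [WellFoundedLT S] [DecidableEq {p : S × S // p.1 ⋖ p.2}]
    (Mf : S → Submodule R M) (hmono : Monotone Mf)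
    (hlim : ∀ s : S, Order.IsSuccPrelimit s → Mf s = ⨆ t : {t : S // t < s}, Mf t.1)
    (htop : (⨆ s, Mf s) = ⊤) (C : {p : S × S // p.1 ⋖ p.2} → Submodule R M)
    (hdis : ∀ p : {p : S × S // p.1 ⋖ p.2}, Mf p.1.1 ⊓ C p = ⊥)
    (hsup : ∀ p : {p : S × S // p.1 ⋖ p.2}, Mf p.1.1 ⊔ C p = Mf p.1.2) :
    DirectSum.IsInternal C := by
  rw [DirectSum.isInternal_submodule_iff_iSupIndep_and_iSup_eq_top]
  refine ⟨iSupIndep_iff_supIndep.mpr fun F => ?_, top_unique (htop ▸ iSup_le fun s => ?_)⟩
  · classical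
    induction F using Finset.induction_on_max_value (fun p : {p : S × S // p.1 ⋖ p.2} => p.1.2) with
    | empty => exact Finset.supIndep_empty _
    | insert a F ha hmax ih =>
      refine ih.insert (Disjoint.mono_right (Finset.sup_le fun p hp => ?_) (disjoint_iff.mpr (hdis a)).symm)
      have hlt : p.1.2 < a.1.2 := by
        refine lt_of_le_of_ne (hmax p hp) fun h => ?_
        have h1 : p.1.1 = a.1.1 := le_antisymm
          (not_lt.mp fun h' => a.2.2 h' (h ▸ p.2.lt)) (not_lt.mp fun h' => p.2.2 h' (h.symm ▸ a.2.lt))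
        exact ha (Subtype.ext (Prod.ext h1 h) ▸ hp)
      exact ((hsup p).symm ▸ le_sup_right).trans (hmono (not_lt.mp fun h' => a.2.2 h' hlt))
  · induction s using WellFoundedLT.induction with
    | _ t ih =>
      by_cases ht : Order.IsSuccPrelimit t
      · rw [hlim t ht]
        exact iSup_le fun s => ih s.1 s.2
      · obtain ⟨s, hst⟩ := Order.not_isSuccPrelimit_iff_exists_covBy.mp ht
        rw [← hsup ⟨(s, t), hst⟩]
        exact sup_le (ih s hst.lt) (le_iSup C _)

/-- A complement of `A` inside `B` is the quotient `B ⧸ A`. -/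
noncomputable def complEquivQuotient {A B C : Submodule R M} (hdis : A ⊓ C = ⊥) (hsup : A ⊔ C = B) :
    C ≃ₗ[R] B ⧸ A.comap B.subtype :=
  LinearEquiv.ofBijective ((A.comap B.subtype).mkQ ∘ₗ Submodule.inclusion (hsup ▸ le_sup_right)) (by
    refine ⟨(injective_iff_map_eq_zero _).mpr fun c hc => ?_, fun z => ?_⟩
    · have : (c : M) ∈ A ⊓ C := ⟨by simpa using hc, c.2⟩
      exact Subtype.ext (by simpa [hdis] using this)
    · obtain ⟨⟨b, hb⟩, rfl⟩ := Submodule.mkQ_surjective _ z
      obtain ⟨a, ha, c, hc, hac⟩ := Submodule.mem_sup.mp (hsup.symm ▸ hb)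
      refine ⟨⟨c, hc⟩, (Submodule.Quotient.eq _).mpr ?_⟩
      show c - b ∈ A
      rw [← hac, sub_add_cancel_right]
      exact neg_mem ha)

/-- An internal decomposition gives a continuous well ordered filtration. -/
theorem exists_filtration_of_isInternal {ι : Type u} [DecidableEq ι] (N : ι → Submodule R M) (hN : DirectSum.IsInternal N) :
    ∃ (S : Type u) (_ : LinearOrder S) (_ : WellFoundedLT S) (Mf : S → Submodule R M), Monotone Mf ∧
      (∀ s : S, Order.IsSuccPrelimit s → Mf s = ⨆ t : {t : S // t < s}, Mf t.1) ∧ (⨆ s, Mf s) = ⊤ ∧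
      (∀ s t : S, s ⋖ t → ∃ i, Mf s ⊓ N i = ⊥ ∧ Mf s ⊔ N i = Mf t) := by
  obtain ⟨_, _⟩ := exists_wellFoundedLT ι
  classical
  let Mf : WithTop ι → Submodule R M := fun s => ⨆ i ∈ {i : ι | (i : WithTop ι) < s}, N i
  have hmono : Monotone Mf := fun s t h => biSup_mono fun i (hi : (i : WithTop ι) < s) => hi.trans_le h
  refine ⟨WithTop ι, inferInstance, inferInstance, Mf, hmono, fun s hs => le_antisymm ?_ ?_, top_unique ?_, ?_⟩
  · refine iSup₂_le fun i hi => ?_
    obtain ⟨t, hit, hts⟩ : ∃ t, (i : WithTop ι) < t ∧ t < s := by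
      by_contra h
      exact hs _ ⟨hi, fun t h1 h2 => h ⟨t, h1, h2⟩⟩
    exact le_trans (le_iSup₂_of_le i hit le_rfl) (le_iSup (fun t : {t // t < s} => Mf t.1) ⟨t, hts⟩)
  · exact iSup_le fun t => hmono t.2.le
  · rw [← hN.submodule_iSup_eq_top]
    exact iSup_le fun i => le_trans (le_iSup₂_of_le (f := fun i _ => N i) i (WithTop.coe_lt_top i) le_rfl) (le_iSup Mf ⊤)
  · intro s t hst
    obtain ⟨i, rfl⟩ := WithTop.ne_top_iff_exists.mp (hst.lt.trans_le le_top).ne
    have hset : {j : ι | (j : WithTop ι) < t} = insert i {j : ι | (j : WithTop ι) < i} := by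
      ext j
      simp only [Set.mem_setOf_eq, Set.mem_insert_iff]
      constructor
      · intro hj
        rcases lt_trichotomy (j : WithTop ι) i with h | h | h
        · exact Or.inr h
        · exact Or.inl (WithTop.coe_injective h)
        · exact absurd hj (hst.2 h)
      · rintro (rfl | h)
        · exact hst.lt
        · exact h.trans hst.lt
    refine ⟨i, ?_, ?_⟩
    · exact disjoint_iff.mp (hN.submodule_iSupIndep.disjoint_biSup (lt_irrefl (i : WithTop ι))).symm
    · simp only [Mf, hset]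
      rw [iSup_insert, sup_comm]

/-- The countable closure of an index under a map whose values have countable support. -/
theorem exists_countable_closed {ι : Type v} (next : ι → Set ι) (h : ∀ i, (next i).Countable) (i : ι) :
    ∃ J : Set ι, J.Countable ∧ i ∈ J ∧ ∀ j ∈ J, next j ⊆ J := by
  let J : ℕ → Set ι := fun n => Nat.rec {i} (fun _ A => ⋃ j ∈ A, next j) n
  have hJ : ∀ n, (J n).Countable := fun n => by
    induction n with
    | zero => exact Set.countable_singleton i
    | succ n ih => exact ih.biUnion fun j _ => h j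
  refine ⟨⋃ n, J n, Set.countable_iUnion hJ, Set.mem_iUnion.mpr ⟨0, rfl⟩, fun j hj => ?_⟩
  obtain ⟨n, hn⟩ := Set.mem_iUnion.mp hj
  exact (Set.subset_biUnion_of_mem hn).trans (Set.subset_iUnion J (n + 1))

/-- **Kaplansky**: a retract of a direct sum of countably generated modules is such a direct sum. -/
theorem kaplansky {ι : Type u} [DecidableEq ι] (N : ι → Submodule R M) (hN : DirectSum.IsInternal N)
    (hc : ∀ i, CAlg.IsCountablyGenerated R (N i)) {P : Type u} [AddCommGroup P] [Module R P]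
    (inc : P →ₗ[R] M) (π : M →ₗ[R] P) (hπ : π ∘ₗ inc = LinearMap.id) :
    ∃ 𝓛 : Set (Submodule R P), sSupIndep 𝓛 ∧ sSup 𝓛 = ⊤ ∧ ∀ L ∈ 𝓛, CAlg.IsCountablyGenerated R L := by
  classical
  let U : Set ι → Submodule R M := fun I => ⨆ i ∈ I, N i
  let T := {z : Set ι × Set (Submodule R P) // (U z.1).map (inc ∘ₗ π) ≤ U z.1 ∧ sSupIndep z.2 ∧
    sSup z.2 = (U z.1).map π ∧ ∀ L ∈ z.2, CAlg.IsCountablyGenerated R L}
  obtain ⟨⟨⟨I, 𝓛⟩, hI, hind, hsup, hcg⟩, hmax⟩ : ∃ z : T, IsMax z := by
    refine zorn_le fun c hc' => ⟨⟨(⋃ z ∈ c, z.1.1, ⋃ z ∈ c, z.1.2), ?_, ?_, ?_, ?_⟩,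
      fun z hz => ⟨Set.subset_biUnion_of_mem (u := fun z : T => z.1.1) hz,
        Set.subset_biUnion_of_mem (u := fun z : T => z.1.2) hz⟩⟩
    · have : U (⋃ z ∈ c, z.1.1) = ⨆ z ∈ c, U z.1.1 := by simp only [U, iSup_iUnion]
      rw [this]
      simp only [Submodule.map_iSup]
      exact iSup₂_mono fun z _ => z.2.1
    · show sSupIndep (⋃ z ∈ c, z.1.2)
      rw [Set.biUnion_eq_iUnion]
      refine sSupIndep_iUnion_of_directed ?_ fun z => z.1.2.2.1
      intro a b
      rcases hc'.total a.2 b.2 with h | h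
      · exact ⟨b, h.2, subset_rfl⟩
      · exact ⟨a, subset_rfl, h.2⟩
    · simp only [U, iSup_iUnion, Submodule.map_iSup, sSup_iUnion]
      refine iSup_congr fun z => iSup_congr fun _ => ?_
      have h := z.2.2.2.1
      simp only [U, Submodule.map_iSup] at h
      exact h
    · intro L hL
      obtain ⟨z, hz, hLz⟩ := Set.mem_iUnion₂.mp hL
      exact z.2.2.2.2 L hLz
  -- the maximal stage is everything
  by_cases hall : I = Set.univ
  · refine ⟨𝓛, hind, ?_, hcg⟩
    rw [hsup, hall]
    simp only [U, Set.mem_univ, iSup_pos, hN.submodule_iSup_eq_top, Submodule.map_top]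
    exact LinearMap.range_eq_top.mpr fun p => ⟨inc p, LinearMap.congr_fun hπ p⟩
  exfalso
  obtain ⟨i₀, hi₀⟩ := (Set.ne_univ_iff_exists_notMem _).mp hall
  have hnext : ∀ i, ∃ A : Set ι, A.Countable ∧ (N i).map (inc ∘ₗ π) ≤ U A := by
    intro i
    obtain ⟨s, hs, hs'⟩ := (isCountablyGenerated_iff_submodule (N i)).mp (hc i)
    choose F hF using fun m : M => Submodule.exists_finset_of_mem_iSup N
      (show inc (π m) ∈ ⨆ j, N j by rw [hN.submodule_iSup_eq_top]; trivial)
    refine ⟨⋃ m ∈ s, ↑(F m), hs.biUnion fun m _ => (F m).countable_toSet, ?_⟩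
    rw [← hs', Submodule.map_span_le]
    intro m hm
    exact iSup₂_le (fun j hj => le_iSup₂_of_le (f := fun j _ => N j) j
      (Set.mem_biUnion hm (Finset.mem_coe.mpr hj)) le_rfl) (hF m)
  choose next hnextc hnext' using hnext
  obtain ⟨J, hJc, hi₀J, hJ⟩ := exists_countable_closed next hnextc i₀
  let D := J \ I
  -- the projection onto the old stage
  have hcompl : IsCompl (U I) (U Iᶜ) := by
    refine ⟨hN.submodule_iSupIndep.disjoint_biSup_biSup disjoint_compl_right, codisjoint_iff.mpr ?_⟩
    simp only [U]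
    rw [← iSup_union, Set.union_compl_self]
    simp only [Set.mem_univ, iSup_pos, hN.submodule_iSup_eq_top]
  let ρ : M →ₗ[R] M := (U I).projection (U Iᶜ) hcompl
  have hfix : ∀ p, p ∈ (U I).map π → π (ρ (inc p)) = p := by
    rintro _ ⟨m, hm, rfl⟩
    have h1 : inc (π m) ∈ U I := hI ⟨m, hm, rfl⟩
    rw [Submodule.projection_apply_of_mem_left hcompl h1]
    exact LinearMap.congr_fun hπ _
  let e : P →ₗ[R] P := LinearMap.id - π ∘ₗ ρ ∘ₗ inc
  let L : Submodule R P := (U D).map (e ∘ₗ π)
  have hρmem : ∀ p, π (ρ (inc p)) ∈ (U I).map π := fun p => ⟨_, Submodule.projection_apply_mem hcompl _, rfl⟩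
  have hdisj : Disjoint ((U I).map π) L := by
    rw [Submodule.disjoint_def]
    rintro p hp ⟨m, -, rfl⟩
    have h2 := hfix _ hp
    simp only [e, LinearMap.comp_apply, LinearMap.sub_apply, LinearMap.id_apply, map_sub] at h2 ⊢
    rw [hfix _ (hρmem (π m)), sub_self] at h2
    exact h2.symm
  have hsupL : (U I).map π ⊔ L = (U (I ∪ D)).map π := by
    have hU : U (I ∪ D) = U I ⊔ U D := by simp only [U]; rw [iSup_union]
    rw [hU, Submodule.map_sup]
    refine le_antisymm (sup_le le_sup_left ?_) (sup_le le_sup_left ?_)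
    · rintro _ ⟨m, hm, rfl⟩
      simp only [e, LinearMap.comp_apply, LinearMap.sub_apply, LinearMap.id_apply]
      exact sub_mem (Submodule.mem_sup_right ⟨m, hm, rfl⟩) (Submodule.mem_sup_left (hρmem _))
    · rintro _ ⟨m, hm, rfl⟩
      have : π m = π (ρ (inc (π m))) + e (π m) := by simp [e]
      rw [this]
      exact add_mem (Submodule.mem_sup_left (hρmem _)) (Submodule.mem_sup_right ⟨m, hm, rfl⟩)
  have hIJ : (U (I ∪ D)).map (inc ∘ₗ π) ≤ U (I ∪ D) := by
    simp only [U]
    rw [iSup_union, Submodule.map_sup]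
    refine sup_le (hI.trans le_sup_left) ?_
    simp only [Submodule.map_iSup]
    refine iSup₂_le fun j hj => (hnext' j).trans ?_
    rw [← iSup_union, show I ∪ D = I ∪ J from Set.union_sdiff_self]
    exact biSup_mono fun i hi => Or.inr (hJ j hj.1 hi)
  have hLc : CAlg.IsCountablyGenerated R L := by
    choose s hs hs' using fun i => (isCountablyGenerated_iff_submodule (N i)).mp (hc i)
    refine (isCountablyGenerated_iff_submodule L).mpr ⟨(e ∘ₗ π) '' ⋃ i ∈ D, s i,
      ((hJc.mono Set.sdiff_subset).biUnion fun i _ => hs i).image _, ?_⟩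
    rw [Submodule.span_image, Submodule.span_iUnion₂]
    simp only [hs', L, U]
  have hind' : sSupIndep (insert L 𝓛) := by
    intro a ha
    rcases eq_or_ne a L with rfl | haL
    · exact hdisj.symm.mono_right ((sSup_le_sSup (Set.sdiff_singleton_subset_iff.mpr subset_rfl)).trans hsup.le)
    · have ha' := Set.mem_of_mem_insert_of_ne ha haL
      rw [Set.insert_sdiff_of_notMem _ (by simpa using Ne.symm haL), sSup_insert, sup_comm]
      refine (hind ha').disjoint_sup_right_of_disjoint_sup_left (hdisj.mono_left ?_)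
      exact (sup_le (le_sSup ha') (sSup_le_sSup Set.sdiff_subset)).trans hsup.le
  have hle : (⟨(I, 𝓛), hI, hind, hsup, hcg⟩ : T) ≤ ⟨(I ∪ D, insert L 𝓛), hIJ, hind',
      by rw [sSup_insert, hsup, sup_comm, hsupL], fun A hA => by
        rcases hA with rfl | hA
        exacts [hLc, hcg A hA]⟩ := ⟨Set.subset_union_left, Set.subset_insert _ _⟩
  exact hi₀ ((hmax hle).1 (Or.inr ⟨hi₀J, hi₀⟩))

/-- Turn an independent set into an internal decomposition. -/
theorem isInternal_of_sSupIndep (𝓛 : Set (Submodule R M)) [DecidableEq 𝓛] (hind : sSupIndep 𝓛) (hsup : sSup 𝓛 = ⊤) :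
    DirectSum.IsInternal (fun L : 𝓛 => (L : Submodule R M)) :=
  (DirectSum.isInternal_submodule_iff_iSupIndep_and_iSup_eq_top _).mpr
    ⟨(sSupIndep_iff _).mp hind, by rw [← sSup_eq_iSup']; exact hsup⟩

/-- A projective module is a direct sum of countably generated submodules. -/
theorem exists_sSupIndep_of_projective (R : Type u) [CommRing R] (P : Type u) [AddCommGroup P] [Module R P]
    [Module.Projective R P] :
    ∃ 𝓛 : Set (Submodule R P), sSupIndep 𝓛 ∧ sSup 𝓛 = ⊤ ∧ ∀ L ∈ 𝓛, CAlg.IsCountablyGenerated R L := by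
  classical
  obtain ⟨s, hs⟩ := Module.projective_def.mp (inferInstance : Module.Projective R P)
  let b := Finsupp.basisSingleOne (R := R) (ι := P)
  have hint : DirectSum.IsInternal fun p : P => R ∙ b p :=
    (DirectSum.isInternal_submodule_iff_iSupIndep_and_iSup_eq_top _).mpr
      ⟨b.linearIndependent.iSupIndep_span_singleton, by rw [← Submodule.span_range_eq_iSup, b.span_eq]⟩
  exact kaplansky _ hint (fun p => (isCountablyGenerated_iff_submodule _).mpr ⟨{b p}, Set.countable_singleton _, rfl⟩)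
    s (Finsupp.linearCombination R id) (LinearMap.ext fun x => hs x)

end Groth.Agent.H1CAlg
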