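import Mathlib.RingTheory.Idempotents
import Mathlib.LinearAlgebra.Matrix.ToLin
import Mathlib.RingTheory.Nilpotent.Lemmas
import Mathlib.RingTheory.Noetherian.Nilpotent
import Mathlib.RingTheory.Ideal.Operations
import Mathlib.Algebra.Module.Projective
import Mathlib.RingTheory.TensorProduct.Maps
import Mathlib.RingTheory.Finiteness.Cardinality

/-! Finite projective modules lift along locally nilpotent ideals. -/

set_option autoImplicit false
universe u
open scoped TensorProduct

namespace Groth.Agent.H1CAlg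

theorem isNilpotent_matrix_of_entries {R : Type u} [CommRing R] {n : ℕ} (M : Matrix (Fin n) (Fin n) R)
    (h : ∀ i j, IsNilpotent (M i j)) : IsNilpotent M := by
  classical
  let J := Ideal.span (Set.range fun x : Fin n × Fin n => M x.1 x.2)
  have hJ : IsNilpotent J := by
    refine (Ideal.FG.isNilpotent_iff_le_nilradical (Submodule.fg_span (Set.finite_range _))).mpr ?_
    exact Ideal.span_le.mpr fun _ ⟨x, hx⟩ => hx ▸ mem_nilradical.mpr (h x.1 x.2)
  obtain ⟨m, hm⟩ := hJ
  refine ⟨m, ?_⟩
  have key : ∀ k : ℕ, ∀ i j, (M ^ k) i j ∈ J ^ k := by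
    intro k
    induction k with
    | zero => simp
    | succ k ih =>
      intro i j
      rw [pow_succ, pow_succ, Matrix.mul_apply]
      exact Submodule.sum_mem _ fun l _ => Ideal.mul_mem_mul (ih i l) (Ideal.subset_span ⟨(l, j), rfl⟩)
  ext i j
  have := key m i j
  rw [hm] at this
  simpa using this

theorem exists_projective_lift {R : Type u} [CommRing R] (I : Ideal R) (hI : ∀ x ∈ I, IsNilpotent x)
    (Pb : Type u) [AddCommGroup Pb] [Module (R ⧸ I) Pb] [Module.Projective (R ⧸ I) Pb] [Module.Finite (R ⧸ I) Pb] :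
    ∃ (P : Type u) (_ : AddCommGroup P) (_ : Module R P), Module.Projective R P ∧ Module.Finite R P ∧
      Nonempty (((R ⧸ I) ⊗[R] P) ≃ₗ[R ⧸ I] Pb) := by
  classical
  obtain ⟨n, q, hq⟩ := Module.Finite.exists_fin' (R ⧸ I) Pb
  obtain ⟨s, hs⟩ := Module.projective_lifting_property q LinearMap.id hq
  let mk := Ideal.Quotient.mk I
  let Φ := mk.mapMatrix (m := Fin n)
  let eb : Matrix (Fin n) (Fin n) (R ⧸ I) := LinearMap.toMatrix' (s ∘ₗ q)
  have heb : IsIdempotentElem eb := by
    show eb * eb = eb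
    rw [← LinearMap.toMatrix'_comp, show (s ∘ₗ q) ∘ₗ (s ∘ₗ q) = s ∘ₗ (q ∘ₗ s) ∘ₗ q from rfl, hs, LinearMap.id_comp]
  obtain ⟨E, hE, hEe⟩ := exists_isIdempotentElem_eq_of_ker_isNilpotent Φ (fun x hx => by
      refine isNilpotent_matrix_of_entries x fun i j => hI _ ?_
      rw [← Ideal.Quotient.eq_zero_iff_mem]
      exact congrFun (congrFun (show x.map mk = 0 from hx) i) j)
    eb ⟨eb.map (Function.surjInv Ideal.Quotient.mk_surjective), by
      ext i j; exact Function.surjInv_eq Ideal.Quotient.mk_surjective _⟩ heb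
  let L : (Fin n → R) →ₗ[R] (Fin n → R) := Matrix.toLin' E
  have hLL : ∀ v, L (L v) = L v := fun v => by
    rw [← LinearMap.comp_apply, ← Matrix.toLin'_mul, hE.eq]
  let P := LinearMap.range L
  have hfix : ∀ p : P, L p = p := fun ⟨p, v, hv⟩ => by subst hv; exact hLL v
  have hproj : Module.Projective R P :=
    Module.Projective.of_split P.subtype L.rangeRestrict (LinearMap.ext fun p => Subtype.ext (hfix p))
  have hfin : Module.Finite R P := Module.Finite.range L
  letI : Module R Pb := Module.compHom Pb mk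
  haveI : IsScalarTower R (R ⧸ I) Pb := IsScalarTower.of_algebraMap_smul fun _ _ => rfl
  let red : (Fin n → R) →ₗ[R] (Fin n → R ⧸ I) :=
    LinearMap.pi fun i => (Algebra.linearMap R (R ⧸ I)) ∘ₗ LinearMap.proj i
  have hred : ∀ v, red (L v) = s (q (red v)) := fun v => by
    rw [← LinearMap.comp_apply (f := s)]
    rw [show s ∘ₗ q = Matrix.toLin' eb from (Matrix.toLin'_toMatrix' _).symm, ← hEe]
    ext i
    simp only [red, L, Matrix.toLin'_apply, LinearMap.pi_apply, LinearMap.comp_apply, LinearMap.proj_apply,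
      Algebra.linearMap_apply]
    exact RingHom.map_mulVec mk E v i
  let ψ : (R ⧸ I) ⊗[R] P →ₗ[R ⧸ I] Pb :=
    LinearMap.liftBaseChange (R ⧸ I) ((q.restrictScalars R) ∘ₗ red ∘ₗ P.subtype)
  let χ : (Fin n → R ⧸ I) →ₗ[R ⧸ I] (R ⧸ I) ⊗[R] P :=
    (Pi.basisFun (R ⧸ I) (Fin n)).constr (R ⧸ I) fun i => 1 ⊗ₜ L.rangeRestrict (Pi.single i 1)
  have hχ : ∀ v, χ (red v) = 1 ⊗ₜ L.rangeRestrict v := by
    intro v
    have : χ.restrictScalars R ∘ₗ red = TensorProduct.mk R (R ⧸ I) P 1 ∘ₗ L.rangeRestrict := by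
      refine (Pi.basisFun R (Fin n)).ext fun i => ?_
      have hr : red (Pi.single i 1) = Pi.basisFun (R ⧸ I) (Fin n) i := by
        ext j
        by_cases hj : j = i <;> simp [red, hj]
      simp only [LinearMap.comp_apply, LinearMap.coe_restrictScalars, Pi.basisFun_apply R, hr, χ, Module.Basis.constr_basis,
        TensorProduct.mk_apply]
    exact LinearMap.congr_fun this v
  have hψχ : ψ ∘ₗ χ = q := by
    refine (Pi.basisFun (R ⧸ I) (Fin n)).ext fun i => ?_
    have hr : red (Pi.single i 1) = Pi.basisFun (R ⧸ I) (Fin n) i := by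
      ext j
      by_cases hj : j = i <;> simp [red, hj]
    rw [← hr, LinearMap.comp_apply, hχ]
    simp only [ψ, LinearMap.liftBaseChange_tmul, one_smul, LinearMap.comp_apply, LinearMap.coe_restrictScalars,
      Submodule.coe_subtype]
    show q (red (L (Pi.single i 1))) = _
    rw [hred, show q (s (q (red (Pi.single i 1)))) = _ from LinearMap.congr_fun hs _]
    rfl
  refine ⟨P, inferInstance, inferInstance, hproj, hfin, ⟨LinearEquiv.ofLinear ψ (χ ∘ₗ s) ?_ ?_⟩⟩
  · rw [← LinearMap.comp_assoc, hψχ, hs]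
  · refine TensorProduct.AlgebraTensorModule.ext fun a p => ?_
    simp only [ψ, LinearMap.comp_apply, LinearMap.liftBaseChange_tmul, LinearMap.coe_restrictScalars,
      Submodule.coe_subtype, map_smul, LinearMap.id_coe, id_eq]
    rw [← hred, hfix, hχ, show L.rangeRestrict p = p from Subtype.ext (hfix p), TensorProduct.smul_tmul', smul_eq_mul, mul_one]

end Groth.Agent.H1CAlg
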