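import Groth.Agent.H1CAlg.CompletionFree

/-!
# Limits of towers of modules flat over the truncations of a Noetherian ring are flat
-/

set_option autoImplicit false
universe u

namespace Groth.Agent.H1CAlg

open CompletionFree

theorem flat_of_flat_tower (A : Type u) [CommRing A] [IsNoetherianRing A] (J : Ideal A)
    (B : ℕ → Type u) [∀ n, CommRing (B n)] (π : ∀ n, A →+* B n) (hπs : ∀ n, Function.Surjective (π n))
    (hπk : ∀ n, RingHom.ker (π n) = J ^ n)
    (F : ℕ → Type u) [∀ n, AddCommGroup (F n)] [∀ n, Module (B n) (F n)] [∀ n, Module.Flat (B n) (F n)]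
    (P : ∀ {n m : ℕ}, n ≤ m → (F m →+ F n)) (hPs : ∀ {n m : ℕ} (h : n ≤ m), Function.Surjective (P h))
    (hPπ : ∀ {n m : ℕ} (h : n ≤ m) (a : A) (y : F m), P h (π m a • y) = π n a • P h y)
    (hPc : ∀ {n m k : ℕ} (h : n ≤ m) (h' : m ≤ k) (y : F k), P h (P h' y) = P (h.trans h') y)
    (C : Type u) [AddCommGroup C] [Module A C] (ev : ∀ n, C →+ F n)
    (hevπ : ∀ n (a : A) (x : C), ev n (a • x) = π n a • ev n x)
    (hevP : ∀ {n m : ℕ} (h : n ≤ m) (x : C), P h (ev m x) = ev n x)
    (hinj : ∀ x, (∀ n, ev n x = 0) → x = 0)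
    (hlift : ∀ y : ∀ n, F n, (∀ n, P n.le_succ (y (n + 1)) = y n) → ∃ x, ∀ n, ev n x = y n) :
    Module.Flat A C := by
  classical
  -- approximate equational criterion
  have key : ∀ (l p : ℕ) (a : Fin l → Fin p → A), ∃ (s : ℕ) (σ : Fin s → Fin l → A) (c : ℕ),
      (∀ j t, ∑ i, a i t * σ j i = 0) ∧
      ∀ n (y : Fin l → F (n + c)), (∀ t, ∑ i, π (n + c) (a i t) • y i = 0) →
        ∃ e : Fin s → F n, ∀ i, P (Nat.le_add_right n c) (y i) = ∑ j, π n (σ j i) • e j := by
    intro l p a
    let Φ := Fintype.linearCombination A a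
    obtain ⟨s, σ, hσ⟩ := Submodule.fg_iff_exists_fin_generating_family.mp (IsNoetherian.noetherian (LinearMap.ker Φ))
    obtain ⟨c, hc⟩ := exists_artinRees J a
    refine ⟨s, σ, c, fun j t => ?_, fun n y hy => ?_⟩
    · have h : σ j ∈ LinearMap.ker Φ := hσ ▸ Submodule.subset_span ⟨j, rfl⟩
      rw [LinearMap.mem_ker, Fintype.linearCombination_apply] at h
      have h' := congrFun h t
      simpa [Finset.sum_apply, mul_comm] using h'
    let m := n + c
    let f : (Fin p → B m) →ₗ[B m] (Fin l → B m) := Fintype.linearCombination (B m) fun t i => π m (a i t)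
    let x : (Fin l → B m) →ₗ[B m] F m := Fintype.linearCombination (B m) y
    have hxf : x ∘ₗ f = 0 := by
      refine (Pi.basisFun (B m) (Fin p)).ext fun t => ?_
      rw [Pi.basisFun_apply, LinearMap.comp_apply, LinearMap.zero_apply]
      simp only [f, Fintype.linearCombination_apply_single, one_smul]
      rw [Fintype.linearCombination_apply]
      exact hy t
    obtain ⟨k, a', y', hx, haf⟩ := Module.Flat.exists_factorization_of_comp_eq_zero_of_free hxf
    choose v hv using fun q i => hπs m (a' (Pi.single i 1) q)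
    have hyi : ∀ i, y i = ∑ q, π m (v q i) • y' (Finsupp.single q 1) := fun i => by
      have h := LinearMap.congr_fun hx (Pi.single i 1)
      simp only [x, Fintype.linearCombination_apply_single, one_smul, LinearMap.comp_apply] at h
      rw [h]
      conv_lhs => rw [← Finsupp.univ_sum_single (a' (Pi.single i 1)), map_sum]
      refine Finset.sum_congr rfl fun q _ => ?_
      rw [hv, ← map_smul, Finsupp.smul_single, smul_eq_mul, mul_one]
    have hΦ : ∀ q t, Φ (v q) t ∈ J ^ m := fun q t => by
      rw [← hπk, RingHom.mem_ker, Fintype.linearCombination_apply, Finset.sum_apply, map_sum]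
      have h := congrArg (fun g => g q) (LinearMap.congr_fun haf (Pi.single t 1))
      simp only [LinearMap.comp_apply, f, Fintype.linearCombination_apply_single, one_smul, LinearMap.zero_apply,
        Finsupp.zero_apply] at h
      rw [show (fun i => π m (a i t)) = ∑ i, π m (a i t) • Pi.single i (1 : B m) by
        ext i; simp [Pi.single_apply]] at h
      rw [map_sum, Finsupp.finset_sum_apply] at h
      refine (Finset.sum_congr rfl fun i _ => ?_).trans h
      rw [map_smul, Finsupp.smul_apply, ← hv, Pi.smul_apply, smul_eq_mul, smul_eq_mul, map_mul, mul_comm]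
    choose w hw hwΦ using fun q => hc m (Φ (v q)) ⟨v q, rfl⟩ (hΦ q)
    have hker : ∀ q, v q - w q ∈ Submodule.span A (Set.range σ) := fun q => by
      rw [hσ, LinearMap.mem_ker, map_sub, sub_eq_zero]; exact (hwΦ q).symm
    choose d hd using fun q => (Submodule.mem_span_range_iff_exists_fun A).mp (hker q)
    refine ⟨fun j => ∑ q, π n (d q j) • P (Nat.le_add_right n c) (y' (Finsupp.single q 1)), fun i => ?_⟩
    rw [hyi i, map_sum]
    simp only [hPπ, Finset.smul_sum, smul_smul]
    rw [Finset.sum_comm]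
    refine Finset.sum_congr rfl fun q _ => ?_
    refine (hPπ (Nat.le_add_right n c) (v q i) (y' (Finsupp.single q 1))).trans ?_
    rw [← Finset.sum_smul]
    congr 1
    have h1 : π n (v q i) = π n (v q i - w q i) := by
      have h0 : π n (w q i) = 0 := by
        rw [← RingHom.mem_ker, hπk]
        exact (Ideal.pow_le_pow_right (show n ≤ m - c by omega)) (hw q i)
      rw [map_sub, h0, sub_zero]
    have h2 := congrFun (hd q) i
    simp only [Finset.sum_apply, Pi.smul_apply, smul_eq_mul, Pi.sub_apply] at h2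
    rw [h1, ← h2, map_sum]
    exact Finset.sum_congr rfl fun j _ => by rw [map_mul, mul_comm]
  refine Module.Flat.iff_forall_isTrivialRelation.mpr fun {l f x} hfx => ?_
  obtain ⟨s, σ, c₁, hσ0, hσ⟩ := key l 1 fun i _ => f i
  obtain ⟨r, τ, c₂, hτ0, hτ⟩ := key s l σ
  let Sol : ℕ → Type u := fun n => {e : Fin s → F n // ∀ i, ev n (x i) = ∑ j, π n (σ j i) • e j}
  have hsol : ∀ n, Nonempty (Sol n) := fun n => by
    obtain ⟨e, he⟩ := hσ n (fun i => ev (n + c₁) (x i)) fun _ => by
      simp only [← hevπ, ← map_sum, hfx, map_zero]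
    exact ⟨⟨e, fun i => by rw [← he i, hevP]⟩⟩
  have step : ∀ n (e : Sol (n + c₂)), ∃ e' : Sol (n + 1 + c₂),
      ∀ j, P (show n ≤ n + 1 + c₂ by omega) (e'.1 j) = P (Nat.le_add_right n c₂) (e.1 j) := by
    intro n e
    obtain ⟨e'⟩ := hsol (n + 1 + c₂)
    have hle : n + c₂ ≤ n + 1 + c₂ := by omega
    obtain ⟨z, hz⟩ := hτ n (fun j => e.1 j - P hle (e'.1 j)) fun i => by
      simp only [smul_sub, Finset.sum_sub_distrib, ← e.2 i, ← hPπ]
      rw [← map_sum, ← e'.2 i, hevP, sub_self]
    choose z' hz' using fun q => hPs (show n ≤ n + 1 + c₂ by omega) (z q)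
    refine ⟨⟨fun j => e'.1 j + ∑ q, π (n + 1 + c₂) (τ q j) • z' q, fun i => ?_⟩, fun j => ?_⟩
    · simp only [smul_add, Finset.sum_add_distrib, ← e'.2 i, Finset.smul_sum, smul_smul]
      rw [Finset.sum_comm, Finset.sum_eq_zero fun q _ => ?_, add_zero]
      rw [← Finset.sum_smul, ← Finset.sum_congr rfl fun j _ => map_mul (π (n + 1 + c₂)) (σ j i) (τ q j),
        ← map_sum, hτ0 q i, map_zero, zero_smul]
    · rw [map_add, map_sum]
      simp only [hPπ, hz', ← hz j, map_sub, hPc]
      abel
  choose nxt hnxt using step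
  let E : ∀ n, Sol (n + c₂) := fun n => Nat.rec (hsol (0 + c₂)).some (fun n e => nxt n e) n
  choose d hd using fun j => hlift (fun n => P (Nat.le_add_right n c₂) ((E n).1 j)) fun n => by
    rw [hPc]; exact hnxt n (E n) j
  refine ⟨s, fun i j => σ j i, d, fun i => ?_, fun j => hσ0 j 0⟩
  rw [← sub_eq_zero]
  refine hinj _ fun n => ?_
  rw [map_sub, map_sum, sub_eq_zero, ← hevP (Nat.le_add_right n c₂) (x i), (E n).2 i, map_sum]
  exact Finset.sum_congr rfl fun j _ => by rw [hPπ, hevπ, hd]

end Groth.Agent.H1CAlg
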