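import Groth.Agent.H1CAlg.Kaplansky
import Mathlib.RingTheory.LocalRing.ResidueField.Basic
import Mathlib.LinearAlgebra.Matrix.NonsingularInverse
import Mathlib.LinearAlgebra.Matrix.ToLin
import Mathlib.RingTheory.LocalRing.Module

/-!
Projective modules over local rings are free (Kaplansky).
-/

set_option autoImplicit false
universe u

namespace Groth.Agent.H1CAlg

variable {R : Type u} [CommRing R] [IsLocalRing R]

open IsLocalRing in
/-- In a projective module over a local ring every element lies in a finite free direct summand. -/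
theorem exists_free_summand_mem {P : Type u} [AddCommGroup P] [Module R P] [Module.Projective R P] (x : P) :
    ∃ L B : Submodule R P, IsCompl L B ∧ x ∈ L ∧ Module.Free R L ∧ Module.Finite R L := by
  classical
  obtain ⟨inc, hinc⟩ := Module.projective_def.mp (inferInstance : Module.Projective R P)
  let p : (P →₀ R) →ₗ[R] P := Finsupp.linearCombination R id
  let C := fun n : ℕ => ∃ (φ : (Fin n → R) →ₗ[R] (P →₀ R)) (s : (P →₀ R) →ₗ[R] (Fin n → R)),
    s ∘ₗ φ = LinearMap.id ∧ inc x ∈ LinearMap.range φ
  have hex : ∃ n, C n := by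
    let e := (inc x).support.equivFin
    let j : Fin (inc x).support.card → P := fun a => (e.symm a).1
    have hj : Function.Injective j := Subtype.val_injective.comp e.symm.injective
    refine ⟨_, Fintype.linearCombination R (fun a => Finsupp.single (j a) 1),
      LinearMap.pi (fun a => Finsupp.lapply (j a)), LinearMap.pi_ext' fun a => LinearMap.ext_ring ?_,
      ⟨fun a => inc x (j a), ?_⟩⟩
    · ext b
      simp [Finsupp.single_apply, hj.eq_iff, Pi.single_apply, eq_comm]
    · rw [Fintype.linearCombination_apply]
      conv_rhs => rw [← (inc x).sum_single, Finsupp.sum, ← Finset.sum_coe_sort]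
      exact (Fintype.sum_equiv e.symm _ (fun q : (inc x).support => Finsupp.single q.1 (inc x q.1))
        fun a => by simp [j])
  obtain ⟨φ, s, hs, a, ha⟩ : C (Nat.find hex) := Nat.find_spec hex
  -- no coefficient is in the ideal of the other ones
  have hmin : ∀ (k : Fin (Nat.find hex)) (c : Fin (Nat.find hex) → R), c k = 0 → a k ≠ ∑ i, c i * a i := by
    revert φ s a
    have hlt : ∀ m < Nat.find hex, ¬ C m := fun m hm => Nat.find_min hex hm
    generalize Nat.find hex = n at hlt
    intro φ s hs a ha k c hck hk
    cases n with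
    | zero => exact Fin.elim0 k
    | succ m =>
      let ι' : (Fin m → R) →ₗ[R] (Fin (m + 1) → R) :=
        Fintype.linearCombination R fun i => Pi.single (k.succAbove i) 1 + c (k.succAbove i) • Pi.single k 1
      let pr : (Fin (m + 1) → R) →ₗ[R] (Fin m → R) := LinearMap.funLeft R R k.succAbove
      refine hlt m (Nat.lt_succ_self m) ⟨φ ∘ₗ ι', pr ∘ₗ s, ?_, pr a, ?_⟩
      · rw [LinearMap.comp_assoc, ← LinearMap.comp_assoc ι' φ s, hs, LinearMap.id_comp]
        refine LinearMap.pi_ext' fun i => LinearMap.ext_ring ?_
        ext j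
        simp [ι', pr, LinearMap.funLeft, Pi.single_apply, Fin.succAbove_ne, eq_comm]
      · rw [← ha, LinearMap.comp_apply]
        refine congrArg φ ?_
        ext j
        rcases Fin.eq_self_or_eq_succAbove k j with rfl | ⟨j, rfl⟩
        · rw [hk, Fin.sum_univ_succAbove _ j]
          simp [ι', pr, LinearMap.funLeft, Fintype.linearCombination_apply, Finset.sum_apply, Pi.single_apply,
            Fin.succAbove_ne, hck, mul_comm]
        · simp [ι', pr, LinearMap.funLeft, Fintype.linearCombination_apply, Finset.sum_apply, Pi.single_apply,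
            Fin.succAbove_ne]
  let y : (Fin (Nat.find hex) → R) →ₗ[R] P := p ∘ₗ φ
  let B := LinearMap.toMatrix' (s ∘ₗ inc ∘ₗ y)
  have hpinc : ∀ z, p (inc z) = z := hinc
  have hBa : B.mulVec a = a := by
    rw [LinearMap.toMatrix'_mulVec]
    simp only [y, LinearMap.comp_apply, ha, hpinc]
    rw [← ha]
    exact LinearMap.congr_fun hs a
  have hmod : B.map (IsLocalRing.residue R) = 1 := by
    ext i j
    rw [Matrix.map_apply, ← sub_eq_zero, ← map_one (Matrix.scalar (Fin (Nat.find hex))),
      Matrix.scalar_apply, Matrix.diagonal_apply]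
    have : B i j - (if i = j then (1 : R) else 0) ∈ maximalIdeal R := by
      by_contra h
      obtain ⟨w, hw⟩ : IsUnit (B i j - (if i = j then (1 : R) else 0)) := notMem_maximalIdeal.mp h
      apply hmin j (fun l => if l = j then 0 else -(↑w⁻¹ * (B i l - if i = l then (1 : R) else 0))) (if_pos rfl)
      have h0 : ∑ l, (B i l - if i = l then (1 : R) else 0) * a l = 0 := by
        simp only [sub_mul, Finset.sum_sub_distrib, ite_mul, one_mul, zero_mul, Finset.sum_ite_eq,
          Finset.mem_univ, if_true]
        exact sub_eq_zero.mpr (congrFun hBa i)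
      rw [← Finset.add_sum_erase _ _ (Finset.mem_univ j)] at h0
      rw [← Finset.add_sum_erase _ _ (Finset.mem_univ j), if_pos rfl, zero_mul, zero_add]
      rw [← hw, add_eq_zero_iff_eq_neg] at h0
      calc a j = ↑w⁻¹ * (↑w * a j) := by rw [Units.inv_mul_cancel_left]
        _ = _ := by
          rw [h0, mul_neg, Finset.mul_sum, ← Finset.sum_neg_distrib]
          refine Finset.sum_congr rfl fun l hl => ?_
          rw [if_neg (Finset.ne_of_mem_erase hl)]
          ring
    replace this : IsLocalRing.residue R (B i j - if i = j then (1 : R) else 0) = 0 := (IsLocalRing.residue_eq_zero_iff _).mpr this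
    rcases eq_or_ne i j with rfl | hij
    · simpa using this
    · simpa [hij] using this
  have hdet : IsUnit B.det := by
    rw [← residue_ne_zero_iff_isUnit]
    rw [RingHom.map_det, RingHom.mapMatrix_apply, hmod, Matrix.det_one]
    exact one_ne_zero
  let r : P →ₗ[R] (Fin (Nat.find hex) → R) := B⁻¹.mulVecLin ∘ₗ s ∘ₗ inc
  have hr : ∀ v, r (y v) = v := fun v => by
    have : s (inc (y v)) = B.mulVec v := (LinearMap.toMatrix'_mulVec (s ∘ₗ inc ∘ₗ y) v).symm
    simp only [r, LinearMap.comp_apply, this, Matrix.mulVecLin_apply, Matrix.mulVec_mulVec,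
      Matrix.nonsing_inv_mul _ hdet, Matrix.one_mulVec]
  refine ⟨LinearMap.range y, LinearMap.ker r, ⟨?_, codisjoint_iff.mpr (top_unique fun z _ => ?_)⟩,
    ⟨a, by simp only [y, LinearMap.comp_apply, ha, hpinc]⟩,
    Module.Free.of_equiv (LinearEquiv.ofInjective y (Function.LeftInverse.injective hr)),
    Module.Finite.range y⟩
  · rw [Submodule.disjoint_def]
    rintro _ ⟨v, rfl⟩ hv
    rw [LinearMap.mem_ker, hr] at hv
    rw [hv, map_zero]
  · exact Submodule.mem_sup.mpr ⟨y (r z), ⟨_, rfl⟩, z - y (r z), by simp [hr], add_sub_cancel _ _⟩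

/-- A countably generated projective module over a local ring is free. -/
theorem free_of_countablyGenerated {P : Type u} [AddCommGroup P] [Module R P] [Module.Projective R P]
    (hc : CAlg.IsCountablyGenerated R P) : Module.Free R P := by
  classical
  obtain ⟨x, hx⟩ : ∃ x : ℕ → P, Submodule.span R (Set.range x) = ⊤ := by
    obtain ⟨s, hs, hs'⟩ := hc
    obtain ⟨x, hx⟩ := (hs.insert 0).exists_eq_range (Set.insert_nonempty _ _)
    exact ⟨x, top_unique (hs'.symm.le.trans (Submodule.span_mono (hx ▸ Set.subset_insert _ _)))⟩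
  let St := {z : Submodule R P × Submodule R P // IsCompl z.1 z.2}
  have step : ∀ (z : St) (w : P), ∃ (z' : St) (L : Submodule R P), w ∈ z'.1.1 ∧ Module.Free R L ∧
      z.1.1 ⊓ L = ⊥ ∧ z.1.1 ⊔ L = z'.1.1 := by
    rintro ⟨⟨A, B⟩, hAB⟩ w
    obtain ⟨a, haA, b, hbB, hab⟩ := Submodule.mem_sup.mp (hAB.sup_eq_top.symm ▸ Submodule.mem_top : w ∈ A ⊔ B)
    haveI : Module.Projective R B :=
      Module.Projective.of_split B.subtype (B.projectionOnto A hAB.symm)
        (LinearMap.ext fun z => Submodule.projectionOnto_apply_left _ z)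
    obtain ⟨L, B', hLB, hbL, hfree, -⟩ := exists_free_summand_mem (R := R) (P := B) ⟨b, hbB⟩
    have hsup : L.map B.subtype ⊔ B'.map B.subtype = B := by
      rw [← Submodule.map_sup, hLB.sup_eq_top, Submodule.map_top, Submodule.range_subtype]
    have hdisj : Disjoint (L.map B.subtype) (B'.map B.subtype) :=
      Submodule.disjoint_map B.injective_subtype hLB.disjoint
    refine ⟨⟨(A ⊔ L.map B.subtype, B'.map B.subtype), ⟨?_, ?_⟩⟩, L.map B.subtype,
      Submodule.mem_sup.mpr ⟨a, haA, b, ⟨_, hbL, rfl⟩, hab⟩,
      Module.Free.of_equiv (Submodule.equivMapOfInjective B.subtype B.injective_subtype L),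
      disjoint_iff.mp (hAB.disjoint.mono_right (hsup.le.trans' le_sup_left)), rfl⟩
    · exact (Disjoint.disjoint_sup_right_of_disjoint_sup_left hdisj.symm
        (hAB.disjoint.symm.mono_left ((sup_comm _ _).trans hsup).le)).symm.mono_left (sup_comm _ _).le
    · rw [codisjoint_iff, sup_assoc, hsup, hAB.sup_eq_top]
  choose next piece hmem hfree hdis hsup using step
  let z : ℕ → St := fun n => Nat.rec ⟨(⊥, ⊤), isCompl_bot_top⟩ (fun m z => next z (x m)) n
  let Mf : ℕ → Submodule R P := fun n => (z n).1.1
  have hint := isInternal_of_filtration Mf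
    (monotone_nat_of_le_succ fun n => le_sup_left.trans (hsup (z n) (x n)).le)
    (fun n hn => by
      cases n with
      | zero =>
        haveI : IsEmpty {t : ℕ // t < 0} := ⟨fun t => t.1.not_lt_zero t.2⟩
        rw [iSup_of_empty]
        rfl
      | succ m => exact absurd (Order.covBy_succ m) (hn m))
    (top_unique <| hx.symm.le.trans <| Submodule.span_le.mpr <| by
      rintro _ ⟨n, rfl⟩
      exact le_iSup Mf (n + 1) (hmem (z n) (x n)))
    (fun p => piece (z p.1.1) (x p.1.1)) (fun p => hdis _ _)
    (fun p => by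
      have : p.1.2 = p.1.1 + 1 := (Nat.covBy_iff_add_one_eq.mp p.2).symm
      rw [this]
      exact hsup _ _)
  haveI : ∀ p : {p : ℕ × ℕ // p.1 ⋖ p.2}, Module.Free R (piece (z p.1.1) (x p.1.1)) := fun p => hfree _ _
  exact Module.Free.of_equiv (LinearEquiv.ofBijective (DirectSum.coeLinearMap _) hint)

/-- **Kaplansky**: projective modules over local rings are free. -/
theorem free_of_projective_isLocalRing (P : Type u) [AddCommGroup P] [Module R P] [Module.Projective R P] :
    Module.Free R P := by
  classical
  obtain ⟨𝓛, hind, hsup, hc⟩ := exists_sSupIndep_of_projective R P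
  have hint := isInternal_of_sSupIndep 𝓛 hind hsup
  let e := LinearEquiv.ofBijective (DirectSum.coeLinearMap fun L : 𝓛 => (L : Submodule R P)) hint
  haveI : ∀ L : 𝓛, Module.Free R (L : Submodule R P) := fun L => by
    haveI : Module.Projective R (L : Submodule R P) :=
      Module.Projective.of_split (L : Submodule R P).subtype
        (DirectSum.component R 𝓛 (fun L : 𝓛 => ↥(L : Submodule R P)) L ∘ₗ e.symm.toLinearMap) (by
          ext v
          have : e.symm (v : P) = DirectSum.lof R 𝓛 (fun L : 𝓛 => ↥(L : Submodule R P)) L v := by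
            rw [LinearEquiv.symm_apply_eq]
            simp [e, DirectSum.lof_eq_of]
          simp [this])
    exact free_of_countablyGenerated (hc L L.2)
  exact Module.Free.of_equiv e

end Groth.Agent.H1CAlg
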