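import Groth.Agent.H1CAlg.NagataUnramified
import Groth.Agent.S0576
import Mathlib.RingTheory.Jacobson.Ring
import Mathlib.FieldTheory.SplittingField.Construction
import Mathlib.RingTheory.Localization.Finiteness

/-!
# Birational monogenic extensions of normal Nagata domains are analytically unramified
-/

set_option autoImplicit false

universe u

open IsLocalRing Polynomial

namespace Groth.Agent.H1CAlg

/-- In a Noetherian local domain with principal maximal ideal, a generator has a power in every nonzero ideal. -/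
theorem exists_pow_mem_span_singleton {A : Type u} [CommRing A] [IsDomain A] [IsLocalRing A] [IsNoetherianRing A]
    {t x : A} (ht : maximalIdeal A ≤ Ideal.span {t}) (htm : t ∈ maximalIdeal A) (hx : x ≠ 0) :
    ∃ n : ℕ, t ^ n ∈ Ideal.span {x} := by
  haveI : Ring.KrullDimLE 1 A := Ring.krullDimLE_iff.mpr (ringKrullDim_le_one_of_isPrincipal
    ⟨t, le_antisymm ht ((Ideal.span_singleton_le_iff_mem _).mpr htm)⟩)
  have hrad : maximalIdeal A ≤ (Ideal.span {x}).radical := by
    rw [Ideal.radical_eq_sInf]
    refine le_sInf fun P hP => ?_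
    haveI := hP.2
    have hP0 : P ≠ ⊥ := fun h0 => hx (by
      simpa [h0, Ideal.mem_bot] using hP.1 (Ideal.mem_span_singleton_self x))
    exact (eq_maximalIdeal (Ideal.IsPrime.isMaximal_of_ne_bot inferInstance hP0)).ge
  exact hrad htm

/-- Reducedness of completions of local rings is invariant under isomorphisms. -/
theorem isReduced_completion_of_ringEquiv {A B : Type u} [CommRing A] [IsLocalRing A] [IsNoetherianRing A]
    [CommRing B] [IsLocalRing B] (e : A ≃+* B) (h : IsReduced (AdicCompletion (maximalIdeal A) A)) :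
    IsReduced (AdicCompletion (maximalIdeal B) B) := by
  obtain ⟨e'⟩ := H05EGA4.exists_completion_quotient_equiv (maximalIdeal A) B e.toRingHom e.surjective
    (maximalIdeal B) (IsLocalRing.map_maximalIdeal_of_surjective _ e.surjective)
  haveI := h
  have hbot : (RingHom.ker e.toRingHom).map (algebraMap A (AdicCompletion (maximalIdeal A) A)) = ⊥ := by
    rw [(RingHom.injective_iff_ker_eq_bot e.toRingHom).mp e.injective, Ideal.map_bot]
  let g := e'.symm.trans ((Ideal.quotEquivOfEq hbot).trans (RingEquiv.quotientBot _))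
  exact isReduced_of_injective g.toRingHom g.injective

section birational

variable {R S : Type u} [CommRing R] [CommRing S] [Algebra R S] {x : S}

theorem exists_sub_mem_span_of_adjoin_eq_top (hgen : Algebra.adjoin R {x} = ⊤) (s : S) :
    ∃ r : R, s - algebraMap R S r ∈ Ideal.span {x} := by
  have hs : s ∈ Algebra.adjoin R {x} := hgen ▸ trivial
  induction hs using Algebra.adjoin_induction with
  | mem y hy =>
    rw [Set.mem_singleton_iff] at hy
    exact ⟨0, by rw [map_zero, sub_zero, hy]; exact Ideal.mem_span_singleton_self x⟩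
  | algebraMap r => exact ⟨r, by rw [sub_self]; exact zero_mem _⟩
  | add y z _ _ hy hz =>
    obtain ⟨r, hr⟩ := hy; obtain ⟨r', hr'⟩ := hz
    exact ⟨r + r', by rw [map_add, add_sub_add_comm]; exact add_mem hr hr'⟩
  | mul y z _ _ hy hz =>
    obtain ⟨r, hr⟩ := hy; obtain ⟨r', hr'⟩ := hz
    refine ⟨r * r', ?_⟩
    rw [map_mul, show y * z - algebraMap R S r * algebraMap R S r' =
      (y - algebraMap R S r) * z + algebraMap R S r * (z - algebraMap R S r') by ring]
    exact add_mem (Ideal.mul_mem_right _ _ hr) (Ideal.mul_mem_left _ _ hr')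

theorem exists_clearing_pow (hgen : Algebra.adjoin R {x} = ⊤) {a b : R}
    (hxb : x * algebraMap R S b = algebraMap R S a) (s : S) :
    ∃ (N : ℕ) (c : R), s * algebraMap R S b ^ N = algebraMap R S c := by
  have hs : s ∈ Algebra.adjoin R {x} := hgen ▸ trivial
  induction hs using Algebra.adjoin_induction with
  | mem y hy =>
    rw [Set.mem_singleton_iff] at hy
    exact ⟨1, a, by rw [hy, pow_one, hxb]⟩
  | algebraMap r => exact ⟨0, r, by rw [pow_zero, mul_one]⟩
  | add y z _ _ hy hz =>
    obtain ⟨N, c, hc⟩ := hy; obtain ⟨N', c', hc'⟩ := hz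
    refine ⟨N + N', c * b ^ N' + c' * b ^ N, ?_⟩
    rw [map_add, map_mul, map_mul, map_pow, map_pow, ← hc, ← hc', pow_add]
    ring
  | mul y z _ _ hy hz =>
    obtain ⟨N, c, hc⟩ := hy; obtain ⟨N', c', hc'⟩ := hz
    refine ⟨N + N', c * c', ?_⟩
    rw [map_mul, ← hc, ← hc', pow_add]
    ring

theorem isFractionRing_of_birational [IsDomain R] [IsDomain S] (hinj : Function.Injective (algebraMap R S))
    (hgen : Algebra.adjoin R {x} = ⊤) {a b : R} (hb : b ≠ 0) (hxb : x * algebraMap R S b = algebraMap R S a)
    (K : Type u) [Field K] [Algebra S K] [IsFractionRing S K] [Algebra R K] [IsScalarTower R S K] :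
    IsFractionRing R K := by
  have hinjK : Function.Injective (algebraMap R K) := by
    rw [IsScalarTower.algebraMap_eq R S K]
    exact (IsFractionRing.injective S K).comp hinj
  haveI : FaithfulSMul R K := (faithfulSMul_iff_algebraMap_injective R K).mpr hinjK
  refine IsFractionRing.of_field R K fun z => ?_
  obtain ⟨s, t, ht, rfl⟩ := IsFractionRing.div_surjective (A := S) z
  obtain ⟨N, c, hc⟩ := exists_clearing_pow hgen hxb s
  obtain ⟨N', c', hc'⟩ := exists_clearing_pow hgen hxb t
  refine ⟨c * b ^ N', c' * b ^ N, ?_⟩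
  have hb' : algebraMap R K b ≠ 0 := (map_ne_zero_iff _ hinjK).mpr hb
  have h1 : algebraMap S K s * algebraMap R K b ^ N = algebraMap R K c := by
    rw [IsScalarTower.algebraMap_apply R S K, IsScalarTower.algebraMap_apply R S K, ← hc, map_mul, map_pow]
  have h2 : algebraMap S K t * algebraMap R K b ^ N' = algebraMap R K c' := by
    rw [IsScalarTower.algebraMap_apply R S K, IsScalarTower.algebraMap_apply R S K, ← hc', map_mul, map_pow]
  rw [map_mul, map_mul, map_pow, map_pow, ← h1, ← h2, mul_assoc, mul_assoc, mul_comm (algebraMap R K b ^ N') (algebraMap R K b ^ N),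
    mul_div_mul_right _ _ (mul_ne_zero (pow_ne_zero _ hb') (pow_ne_zero _ hb'))]

/-- Divisibility by `x` of elements of `R`. -/
theorem dvd_algebraMap_iff [IsDomain R] [IsIntegrallyClosed R] [IsDomain S]
    (hinj : Function.Injective (algebraMap R S))
    (hgen : Algebra.adjoin R {x} = ⊤) {a b : R} (hb : b ≠ 0) (hxb : x * algebraMap R S b = algebraMap R S a) (r : R) :
    x ∣ algebraMap R S r ↔ a ∣ r * b := by
  constructor
  · rintro ⟨s, hs⟩
    let K := FractionRing S
    haveI : IsFractionRing R K := isFractionRing_of_birational hinj hgen hb hxb K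
    obtain ⟨g, hg⟩ : ∃ g : R[X], aeval x g = s := by
      have h : s ∈ (aeval x : R[X] →ₐ[R] S).range := by
        rw [← Algebra.adjoin_singleton_eq_range_aeval, hgen]; trivial
      exact h
    have hint : IsIntegral R s := by
      refine ⟨X ^ (g.natDegree + 1) -
        ∑ i ∈ Finset.range (g.natDegree + 1), C (g.coeff i * r ^ i) * X ^ (g.natDegree - i), ?_, ?_⟩
      · refine monic_X_pow_sub ((degree_sum_le _ _).trans_lt ((Finset.sup_lt_iff (WithBot.bot_lt_coe _)).mpr
          fun i _ => (degree_C_mul_X_pow_le _ _).trans_lt ?_))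
        exact_mod_cast Nat.lt_succ_of_le (Nat.sub_le g.natDegree i)
      · rw [eval₂_sub, eval₂_X_pow, eval₂_finsetSum, sub_eq_zero, pow_succ]
        conv_lhs => arg 2; rw [← hg, aeval_eq_sum_range]
        rw [Finset.mul_sum]
        refine Finset.sum_congr rfl fun i hi => ?_
        rw [eval₂_mul, eval₂_C, eval₂_X_pow, map_mul, map_pow, hs, Algebra.smul_def, mul_pow]
        have hsplit : s ^ i * s ^ (g.natDegree - i) = s ^ g.natDegree := by
          rw [← pow_add, Nat.add_sub_cancel' (Nat.lt_succ_iff.mp (Finset.mem_range.mp hi))]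
        rw [← hsplit]
        ring
    obtain ⟨r', hr'⟩ := IsIntegrallyClosed.isIntegral_iff.mp (hint.map (IsScalarTower.toAlgHom R S K))
    have hsr : algebraMap R S r' = s := IsFractionRing.injective S K (by
      rw [← IsScalarTower.algebraMap_apply]; exact hr')
    refine ⟨r', hinj ?_⟩
    rw [map_mul, map_mul, hs, ← hxb, hsr]
    ring
  · rintro ⟨c, hc⟩
    refine ⟨algebraMap R S c, mul_right_cancel₀ ((map_ne_zero_iff _ hinj).mpr hb) ?_⟩
    rw [← map_mul, hc, map_mul, ← hxb]
    ring

end birational

set_option maxHeartbeats 1000000 in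
theorem isReduced_completion_of_mem {R S : Type u} [CommRing R] [IsDomain R] [IsIntegrallyClosed R]
    (hR : CAlg.IsNagata R) [CommRing S] [IsDomain S] [Algebra R S] (hinj : Function.Injective (algebraMap R S))
    (x : S) (hgen : Algebra.adjoin R {x} = ⊤) (a b : R) (hb : b ≠ 0)
    (hxb : x * algebraMap R S b = algebraMap R S a)
    (M : Ideal S) [M.IsMaximal] (hxM : x ∈ M) (B : Type u) [CommRing B] [IsDomain B] [IsLocalRing B] [Algebra S B]
    [IsLocalization.AtPrime B M] : IsReduced (AdicCompletion (maximalIdeal B) B) := by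
  classical
  haveI := hR.1
  haveI : Algebra.FiniteType R S := ⟨⟨{x}, by simpa using hgen⟩⟩
  haveI : IsNoetherianRing S := Algebra.FiniteType.isNoetherianRing R S
  haveI : IsNoetherianRing B := IsLocalization.isNoetherianRing M.primeCompl B inferInstance
  have hsurjP : ∀ J : Ideal S, x ∈ J → CAlg.IsNagata (S ⧸ J) := by
    intro J hxJ
    haveI : Module.Finite R (S ⧸ J) :=
      Module.Finite.of_surjective (Algebra.linearMap R (S ⧸ J)) fun z => by
        obtain ⟨s, rfl⟩ := Ideal.Quotient.mk_surjective z
        obtain ⟨r, hr⟩ := exists_sub_mem_span_of_adjoin_eq_top hgen s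
        exact ⟨r, ((Ideal.Quotient.eq).mpr ((Ideal.span_singleton_le_iff_mem _).mpr hxJ hr)).symm⟩
    exact isNagata_of_finite hR
  by_cases hx0 : x = 0
  · have hS : CAlg.IsNagata S :=
      H8Props.NagataAffine.isNagata_of_ringEquiv (RingEquiv.quotientBot S) (hsurjP ⊥ (by simp [hx0]))
    exact Groth.Agent.S0576.result B (H8Props.NagataAffine.isNagata_of_isLocalization M.primeCompl B hS)
  have ha : a ≠ 0 := fun h0 => hx0 (by
    rw [h0, map_zero, mul_eq_zero] at hxb
    exact hxb.resolve_right ((map_ne_zero_iff _ hinj).mpr hb))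
  have hxB : algebraMap S B x ∈ maximalIdeal B := (IsLocalization.AtPrime.to_map_mem_maximal_iff B M x).mpr hxM
  have hle := M.primeCompl_le_nonZeroDivisors
  refine isReduced_adicCompletion_of_element (algebraMap S B x)
    ((map_ne_zero_iff _ (IsLocalization.injective B hle)).mpr hx0) hxB fun p hp hprime => ?_
  let P : Ideal S := p.comap (algebraMap S B)
  let q : Ideal R := P.comap (algebraMap R S)
  have hxp : algebraMap S B x ∈ p := hp.annihilator_le (Submodule.mem_annihilator.mpr fun m _ => by
    obtain ⟨m, rfl⟩ := Ideal.Quotient.mk_surjective m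
    exact Ideal.Quotient.eq_zero_iff_mem.mpr (Ideal.mul_mem_right _ _ (Ideal.mem_span_singleton_self _)))
  have hxP : x ∈ P := hxp
  have hpP : P.map (algebraMap S B) = p := IsLocalization.map_under M.primeCompl B p
  haveI : IsLocalRing (B ⧸ p) := IsLocalRing.of_surjective' _ Ideal.Quotient.mk_surjective
  refine ⟨?_, ?_⟩
  · rw [IsLocalRing.map_maximalIdeal_of_surjective _ Ideal.Quotient.mk_surjective]
    refine Groth.Agent.S0576.result (B ⧸ p) ?_
    exact H8Props.NagataAffine.isNagata_of_ringEquiv (Ideal.quotEquivOfEq hpP)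
      (H8Props.NagataAffine.isNagata_of_isLocalization (Algebra.algebraMapSubmonoid (S ⧸ P) M.primeCompl)
        (B ⧸ P.map (algebraMap S B)) (hsurjP P hxP))
  -- `p` is the colon ideal of the image of an element of `R`
  obtain ⟨-, abar, hp'⟩ := isAssociatedPrime_iff.mp hp
  obtain ⟨ahat, rfl⟩ := Ideal.Quotient.mk_surjective abar
  obtain ⟨⟨s, m⟩, hsm⟩ := IsLocalization.surj M.primeCompl ahat
  obtain ⟨r, hr⟩ := exists_sub_mem_span_of_adjoin_eq_top hgen s
  have hmem : ∀ v : B, v ∈ p ↔ algebraMap S B x ∣ v * algebraMap S B (algebraMap R S r) := by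
    intro v
    have h1 : v ∈ p ↔ algebraMap S B x ∣ v * ahat := by
      rw [hp', Submodule.mem_colon_singleton, Submodule.mem_bot, Algebra.smul_def, Ideal.Quotient.algebraMap_eq,
        ← map_mul, Ideal.Quotient.eq_zero_iff_mem, Ideal.mem_span_singleton]
    obtain ⟨e, he⟩ := Ideal.mem_span_singleton.mp hr
    have he' : algebraMap S B s = algebraMap S B (algebraMap R S r) + algebraMap S B x * algebraMap S B e := by
      rw [← map_mul, ← he, ← map_add, add_sub_cancel]
    rw [h1, ← (IsLocalization.map_units B m).dvd_mul_right, mul_assoc, hsm, he', mul_add,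
      dvd_add_left (Dvd.dvd.mul_left (dvd_mul_right _ _) _)]
  let n : Ideal R := M.comap (algebraMap R S)
  have hqiff : ∀ t : R, t ∈ q ↔ ∃ m₀ ∉ n, a ∣ t * (m₀ * r * b) := by
    intro t
    show algebraMap S B (algebraMap R S t) ∈ p ↔ _
    rw [hmem, ← map_mul, ← map_mul, ← Ideal.mem_span_singleton, ← Set.image_singleton, ← Ideal.map_span,
      IsLocalization.algebraMap_mem_map_algebraMap_iff M.primeCompl]
    constructor
    · rintro ⟨m, hm, hmt⟩
      obtain ⟨m₀, hm₀⟩ := exists_sub_mem_span_of_adjoin_eq_top hgen m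
      refine ⟨m₀, fun h => hm (by
        have h' : algebraMap R S m₀ ∈ M := h
        simpa using add_mem ((Ideal.span_singleton_le_iff_mem _).mpr hxM hm₀) h'), ?_⟩
      have h2 : x ∣ algebraMap R S (m₀ * (t * r)) := by
        rw [map_mul, ← Ideal.mem_span_singleton]
        have := sub_mem hmt (Ideal.mul_mem_right (algebraMap R S (t * r)) _ hm₀)
        convert this using 1
        ring
      have h3 := (dvd_algebraMap_iff hinj hgen hb hxb _).mp h2
      convert h3 using 1
      ring
    · rintro ⟨m₀, hm₀, hdvd⟩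
      refine ⟨algebraMap R S m₀, hm₀, ?_⟩
      rw [← map_mul, Ideal.mem_span_singleton, dvd_algebraMap_iff hinj hgen hb hxb]
      convert hdvd using 1
      ring
  haveI : q.IsPrime := Ideal.IsPrime.comap _
  have hqass : q ∈ associatedPrimes R (R ⧸ Ideal.span {a}) := by
    obtain ⟨G, hG⟩ := IsNoetherian.noetherian q
    choose m₀ hm₀ hdvd using fun g : G => (hqiff g).mp (hG ▸ Submodule.subset_span g.2)
    let μ := ∏ g, m₀ g
    have hμ : μ ∉ n := Submonoid.prod_mem n.primeCompl fun g _ => hm₀ g
    refine isAssociatedPrime_iff.mpr ⟨inferInstance, Ideal.Quotient.mk _ (μ * r * b), ?_⟩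
    ext t
    rw [Submodule.mem_colon_singleton, Submodule.mem_bot, Algebra.smul_def, Ideal.Quotient.algebraMap_eq,
      ← map_mul, Ideal.Quotient.eq_zero_iff_mem, Ideal.mem_span_singleton]
    refine ⟨fun ht => ?_, fun ht => (hqiff t).mpr ⟨μ, hμ, ht⟩⟩
    rw [← hG] at ht
    induction ht using Submodule.span_induction with
    | mem g hg =>
      obtain ⟨c, hc⟩ := Finset.dvd_prod_of_mem m₀ (Finset.mem_univ (⟨g, hg⟩ : G))
      rw [show g * (μ * r * b) = g * (m₀ ⟨g, hg⟩ * r * b) * c by rw [show μ = m₀ ⟨g, hg⟩ * c from hc]; ring]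
      exact (hdvd ⟨g, hg⟩).mul_right c
    | zero => rw [zero_mul]; exact dvd_zero _
    | add u v _ _ hu hv => rw [add_mul]; exact dvd_add hu hv
    | smul c u _ hu => rw [smul_eq_mul, mul_assoc]; exact hu.mul_left c
  obtain ⟨t, -, htq, ht, -⟩ := exists_uniformizer_mem_of_isIntegrallyClosed ha hqass
  let Rq := Localization.AtPrime q
  haveI : IsNoetherianRing Rq := IsLocalization.isNoetherianRing q.primeCompl Rq inferInstance
  haveI : ValuationRing Rq := ((tfae_of_isNoetherianRing_of_isLocalRing_of_isDomain Rq).out 4 1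
    (a := (maximalIdeal Rq).IsPrincipal) (b := ValuationRing Rq)).mp
    ⟨algebraMap R Rq t, le_antisymm ht ((Submodule.span_singleton_le_iff_mem _ _).mpr
      ((IsLocalization.AtPrime.to_map_mem_maximal_iff Rq q t).mpr htq))⟩
  obtain ⟨u, hu, c, hc⟩ : ∃ u ∉ q, ∃ c, u * a = c * b := by
    rcases ValuationRing.dvd_total (algebraMap R Rq b) (algebraMap R Rq a) with hd | hd
    · rw [← Ideal.mem_span_singleton, ← Set.image_singleton, ← Ideal.map_span,
        IsLocalization.algebraMap_mem_map_algebraMap_iff q.primeCompl] at hd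
      obtain ⟨u, hu, hd⟩ := hd
      obtain ⟨c, hc⟩ := Ideal.mem_span_singleton'.mp hd
      exact ⟨u, hu, c, hc.symm⟩
    · rw [← Ideal.mem_span_singleton, ← Set.image_singleton, ← Ideal.map_span,
        IsLocalization.algebraMap_mem_map_algebraMap_iff q.primeCompl] at hd
      obtain ⟨u, hu, hd⟩ := hd
      obtain ⟨c, hc⟩ := Ideal.mem_span_singleton'.mp hd
      refine absurd ?_ hu
      show algebraMap R S u ∈ P
      have hb' : algebraMap R S b ≠ 0 := (map_ne_zero_iff _ hinj).mpr hb
      have h1 : algebraMap R S u = x * algebraMap R S c := mul_right_cancel₀ hb' (by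
        rw [← map_mul, ← hc, map_mul, ← hxb]; ring)
      rw [h1]; exact Ideal.mul_mem_right _ _ hxP
  have hxu : x * algebraMap R S u = algebraMap R S c :=
    mul_right_cancel₀ ((map_ne_zero_iff _ hinj).mpr hb) (by
      rw [← map_mul, ← hc, map_mul, ← hxb]; ring)
  let Bp := Localization.AtPrime p
  let ι : R → Bp := fun w => algebraMap B Bp (algebraMap S B (algebraMap R S w))
  have hιu : ∀ w, w ∉ q → IsUnit (ι w) := fun w hw =>
    IsLocalization.map_units Bp (⟨algebraMap S B (algebraMap R S w), hw⟩ : p.primeCompl)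
  have hιm : ∀ v w, ι (v * w) = ι v * ι w := fun v w => by simp only [ι, map_mul]
  have hkey : maximalIdeal Bp ≤ Ideal.span {ι t} := by
    rw [← Localization.AtPrime.map_eq_maximalIdeal, Ideal.map_le_iff_le_comap]
    refine hpP.ge.trans ?_
    rw [Ideal.map_le_iff_le_comap, Ideal.comap_comap]
    intro s' hs'
    obtain ⟨N, c', hc'⟩ := exists_clearing_pow hgen hxu s'
    have hc'q : c' ∈ q := by
      show algebraMap R S c' ∈ P
      rw [← hc']; exact Ideal.mul_mem_right _ _ hs'
    have hloc := ht ((IsLocalization.AtPrime.to_map_mem_maximal_iff Rq q c').mpr hc'q)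
    rw [← Set.image_singleton, ← Ideal.map_span,
      IsLocalization.algebraMap_mem_map_algebraMap_iff q.primeCompl] at hloc
    obtain ⟨u', hu', hd⟩ := hloc
    obtain ⟨d, hd⟩ := Ideal.mem_span_singleton.mp hd
    have hunit : IsUnit (ι u ^ N * ι u') := ((hιu u hu).pow N).mul (hιu u' hu')
    rw [Ideal.mem_comap, Ideal.mem_span_singleton]
    refine (hunit.dvd_mul_right).mp ⟨ι d, ?_⟩
    rw [← hιm, ← hd, hιm, RingHom.comp_apply]
    have h1 : ι c' = algebraMap B Bp (algebraMap S B s') * ι u ^ N := by
      simp only [ι, ← map_pow, ← map_mul, ← hc']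
    rw [h1]
    ring
  refine ⟨algebraMap S B (algebraMap R S t), ?_⟩
  obtain ⟨k, hk⟩ := exists_pow_mem_span_singleton (x := algebraMap B Bp (algebraMap S B x)) hkey
    ((IsLocalization.AtPrime.to_map_mem_maximal_iff Bp p _).mpr htq)
    ((map_ne_zero_iff _ (IsLocalization.injective Bp p.primeCompl_le_nonZeroDivisors)).mpr
      ((map_ne_zero_iff _ (IsLocalization.injective B hle)).mpr hx0))
  exact ⟨k, hkey, hk⟩

set_option maxHeartbeats 1000000 in
theorem isReduced_completion_birational {R S : Type u} [CommRing R] [IsDomain R] [IsIntegrallyClosed R] [IsLocalRing R]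
    (hR : CAlg.IsNagata R) [CommRing S] [IsDomain S] [Algebra R S] (hinj : Function.Injective (algebraMap R S))
    (x : S) (hgen : Algebra.adjoin R {x} = ⊤) (a b : R) (hb : b ≠ 0)
    (hxb : x * algebraMap R S b = algebraMap R S a)
    (M : Ideal S) [M.IsMaximal] (hM : M.comap (algebraMap R S) = maximalIdeal R) :
    IsReduced (AdicCompletion (R := Localization.AtPrime M) (maximalIdeal (Localization.AtPrime M)) (Localization.AtPrime M)) := by
  classical
  haveI := hR.1
  haveI : Algebra.FiniteType R S := ⟨⟨{x}, by simpa using hgen⟩⟩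
  haveI : IsNoetherianRing S := Algebra.FiniteType.isNoetherianRing R S
  -- a monic polynomial with `P(x) ∈ M`
  obtain ⟨P, hPm, hPx⟩ : ∃ P : R[X], P.Monic ∧ aeval x P ∈ M := by
    haveI : M.LiesOver (maximalIdeal R) := ⟨hM.symm⟩
    letI : Field (R ⧸ maximalIdeal R) := Ideal.Quotient.field _
    letI : Field (S ⧸ M) := Ideal.Quotient.field _
    haveI : Algebra.FiniteType R (S ⧸ M) :=
      ‹Algebra.FiniteType R S›.of_surjective (Ideal.Quotient.mkₐ R M) Ideal.Quotient.mk_surjective
    haveI : Algebra.FiniteType (R ⧸ maximalIdeal R) (S ⧸ M) := Algebra.FiniteType.of_restrictScalars_finiteType R _ _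
    haveI : Module.Finite (R ⧸ maximalIdeal R) (S ⧸ M) := finite_of_finite_type_of_isJacobsonRing _ _
    haveI : Module.Finite R (R ⧸ maximalIdeal R) :=
      Module.Finite.of_surjective (Ideal.Quotient.mkₐ R _).toLinearMap Ideal.Quotient.mk_surjective
    haveI : Module.Finite R (S ⧸ M) := Module.Finite.trans (R ⧸ maximalIdeal R) _
    obtain ⟨P, hPm, hP⟩ := IsIntegral.of_finite R (Ideal.Quotient.mk M x)
    refine ⟨P, hPm, Ideal.Quotient.eq_zero_iff_mem.mp ?_⟩
    rw [← Ideal.Quotient.mkₐ_eq_mk R, ← Polynomial.aeval_algHom_apply]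
    exact hP
  let K := FractionRing S
  haveI : IsFractionRing R K := isFractionRing_of_birational hinj hgen hb hxb K
  let K' := (P.map (algebraMap R K)).SplittingField
  haveI : IsScalarTower R S K' := IsScalarTower.of_algebraMap_eq fun z => by
    rw [IsScalarTower.algebraMap_apply R K K', IsScalarTower.algebraMap_apply S K K',
      ← IsScalarTower.algebraMap_apply R S K]
  let R'' := integralClosure R K'
  haveI : Module.Finite R R'' := H02CA.finite_integralClosure_of_isN2 (isN2_of_finite_isNagata (R := R) hR) K K'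
  haveI : IsIntegrallyClosed R'' := integralClosure.isIntegrallyClosedOfFiniteExtension K
  obtain ⟨G, hG⟩ := Module.Finite.fg_top (R := R) (M := R'')
  let S'' : Subalgebra S K' := Algebra.adjoin S (((↑) : R'' → K') '' (G : Set R''))
  haveI : Module.Finite S S'' := ⟨(Submodule.fg_top _).mpr (fg_adjoin_of_finite (G.finite_toSet.image _) fun y hy => by
    obtain ⟨g, -, rfl⟩ := hy
    exact IsIntegral.tower_top g.2)⟩
  haveI : IsNoetherianRing S'' := IsNoetherianRing.of_finite S S''
  have hR'' : ∀ z : R'', (z : K') ∈ S'' := fun z => by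
    have hz : z ∈ Submodule.span R (G : Set R'') := hG ▸ trivial
    induction hz using Submodule.span_induction with
    | mem g hg => exact Algebra.subset_adjoin ⟨g, hg, rfl⟩
    | zero => exact zero_mem _
    | add u v _ _ hu hv => exact add_mem hu hv
    | smul c u _ hu =>
      show c • (u : K') ∈ S''
      rw [← algebraMap_smul S c (u : K')]
      exact Subalgebra.smul_mem _ hu _
  let f : R'' →+* S'' := R''.val.toRingHom.codRestrict S''.toSubring hR''
  letI : Algebra R'' S'' := f.toAlgebra
  haveI : IsScalarTower R R'' S'' := IsScalarTower.of_algebraMap_eq fun z => Subtype.ext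
    (IsScalarTower.algebraMap_apply R S K' z).symm
  have hinj'' : Function.Injective (algebraMap R'' S'') := fun u v huv =>
    Subtype.ext (congrArg (fun w : S'' => (w : K')) huv)
  let x'' : S'' := algebraMap S S'' x
  have hgen'' : ∀ α : R'', Algebra.adjoin R'' {x'' - algebraMap R'' S'' α} = ⊤ := by
    intro α
    refine eq_top_iff.mpr ?_
    rintro z -
    let W := Algebra.adjoin R'' {x'' - algebraMap R'' S'' α}
    have hx'' : x'' ∈ W := by
      rw [show x'' = (x'' - algebraMap R'' S'' α) + algebraMap R'' S'' α by ring]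
      exact add_mem (Algebra.subset_adjoin rfl) (W.algebraMap_mem α)
    have hS : ∀ s : S, algebraMap S S'' s ∈ W := fun s => by
      have hs : s ∈ Algebra.adjoin R {x} := hgen ▸ trivial
      induction hs using Algebra.adjoin_induction with
      | mem y hy => rw [Set.mem_singleton_iff] at hy; rw [hy]; exact hx''
      | algebraMap r =>
        rw [← IsScalarTower.algebraMap_apply R S S'', IsScalarTower.algebraMap_apply R R'' S'']
        exact W.algebraMap_mem _
      | add u v _ _ hu hv => rw [map_add]; exact add_mem hu hv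
      | mul u v _ _ hu hv => rw [map_mul]; exact mul_mem hu hv
    obtain ⟨z, hz⟩ := z
    induction hz using Algebra.adjoin_induction with
    | mem y hy => obtain ⟨g, -, rfl⟩ := hy; exact W.algebraMap_mem g
    | algebraMap s => exact hS s
    | add u v _ _ hu hv => exact add_mem hu hv
    | mul u v _ _ hu hv => exact mul_mem hu hv
  let a'' := algebraMap R R'' a
  let b'' := algebraMap R R'' b
  have hb'' : b'' ≠ 0 := fun h => hb (IsFractionRing.injective R K ((algebraMap K K').injective (by
    rw [map_zero, map_zero, ← IsScalarTower.algebraMap_apply]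
    exact congrArg Subtype.val h)))
  have hxb'' : x'' * algebraMap R'' S'' b'' = algebraMap R'' S'' a'' := by
    rw [← IsScalarTower.algebraMap_apply R R'' S'', ← IsScalarTower.algebraMap_apply R R'' S'',
      IsScalarTower.algebraMap_apply R S S'', IsScalarTower.algebraMap_apply R S S'', ← map_mul, hxb]
  have hN'' : CAlg.IsNagata R'' := isNagata_of_finite (R := R) hR
  -- a semi-local finite extension of `S_M`
  let A := Localization.AtPrime M
  let C := Localization (Algebra.algebraMapSubmonoid S'' M.primeCompl)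
  have hsub : Algebra.algebraMapSubmonoid S'' M.primeCompl ≤ nonZeroDivisors S'' := by
    rintro _ ⟨m, hm, rfl⟩
    refine mem_nonZeroDivisors_of_ne_zero fun h => hm ?_
    have h' : algebraMap K K' (algebraMap S K m) = 0 := congrArg Subtype.val h
    rw [map_eq_zero_iff _ (algebraMap K K').injective, map_eq_zero_iff _ (IsFractionRing.injective S K)] at h'
    rw [h']; exact zero_mem _
  haveI : IsDomain C := IsLocalization.isDomain_of_le_nonZeroDivisors _ hsub
  haveI : IsNoetherianRing C := IsLocalization.isNoetherianRing (Algebra.algebraMapSubmonoid S'' M.primeCompl) C inferInstance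
  have hinjAC : Function.Injective (algebraMap A C) := by
    rw [injective_iff_map_eq_zero]
    intro z hz
    obtain ⟨⟨s, m⟩, hs⟩ := IsLocalization.surj M.primeCompl z
    have h1 : algebraMap S C s = 0 := by
      rw [IsScalarTower.algebraMap_apply S A C, ← hs, map_mul, hz, zero_mul]
    rw [IsScalarTower.algebraMap_apply S S'' C, map_eq_zero_iff _ (IsLocalization.injective C hsub)] at h1
    have h' : algebraMap K K' (algebraMap S K s) = 0 := congrArg Subtype.val h1
    rw [map_eq_zero_iff _ (algebraMap K K').injective, map_eq_zero_iff _ (IsFractionRing.injective S K)] at h'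
    rw [h', map_zero] at hs
    exact (IsLocalization.map_units A m).mul_left_eq_zero.mp hs
  haveI : Algebra.IsIntegral A C := Algebra.IsIntegral.of_finite A C
  refine isReduced_adicCompletion_of_finite_extension C hinjAC fun N hN => ?_
  let Q := N.comap (algebraMap S'' C)
  have hQM : Q.comap (algebraMap S S'') = M := by
    haveI : (N.comap (algebraMap A C)).IsMaximal := Ideal.isMaximal_comap_of_isIntegral_of_isMaximal N
    have h1 := eq_maximalIdeal ‹(N.comap (algebraMap A C)).IsMaximal›
    show (N.comap (algebraMap S'' C)).comap (algebraMap S S'') = M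
    rw [Ideal.comap_comap, ← IsScalarTower.algebraMap_eq, IsScalarTower.algebraMap_eq S A C, ← Ideal.comap_comap, h1]
    exact IsLocalization.AtPrime.under_maximalIdeal A M
  haveI : Q.IsMaximal := Ideal.isMaximal_of_isIntegral_of_isMaximal_comap (R := S) _ (by rw [hQM]; infer_instance)
  -- some `x - α` lies in `Q`
  obtain ⟨α, hα⟩ : ∃ α : R'', x'' - algebraMap R'' S'' α ∈ Q := by
    let P' := P.map (algebraMap R K')
    have hsplit : P'.Splits := by
      have h1 := SplittingField.splits (P.map (algebraMap R K))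
      rwa [Polynomial.map_map, ← IsScalarTower.algebraMap_eq] at h1
    have hroot : ∀ z ∈ P'.roots, z ∈ R'' := fun z hz => ⟨P, hPm, by
      rw [← Polynomial.eval_map]; exact ((Polynomial.mem_roots (hPm.map _).ne_zero).mp hz)⟩
    have hprod : (P'.roots.attach.map fun z => x'' - algebraMap R'' S'' ⟨z.1, hroot z.1 z.2⟩).prod =
        algebraMap S S'' (aeval x P) := by
      refine Subtype.val_injective ?_
      show S''.val (Multiset.prod _) = algebraMap S K' (aeval x P)
      rw [map_multiset_prod, Multiset.map_map, ← aeval_algebraMap_apply, Polynomial.aeval_def, ← Polynomial.eval_map,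
        hsplit.eval_eq_prod_roots_of_monic (hPm.map _)]
      refine congrArg Multiset.prod ?_
      rw [← Multiset.attach_map_val' P'.roots]
      rfl
    have hmem : algebraMap S S'' (aeval x P) ∈ Q := by
      rw [← hQM] at hPx; exact hPx
    rw [← hprod] at hmem
    obtain ⟨y, hy, hyQ⟩ := ((inferInstance : Q.IsPrime).multiset_prod_mem_iff_exists_mem _).mp hmem
    obtain ⟨z, -, rfl⟩ := Multiset.mem_map.mp hy
    exact ⟨_, hyQ⟩
  exact isReduced_completion_of_mem hN'' hinj'' (x'' - algebraMap R'' S'' α) (hgen'' α) (a'' - α * b'') b'' hb''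
    (by rw [sub_mul, hxb'', map_sub, map_mul]) Q hα (Localization.AtPrime N)

end Groth.Agent.H1CAlg
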