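import Groth.Agent.H02CA.PowerSeries
import Mathlib.RingTheory.Polynomial.UniqueFactorization
import Mathlib.RingTheory.KrullDimension.Polynomial
import Mathlib.RingTheory.Jacobson.Artinian
import Mathlib.RingTheory.Jacobson.Ring
import Mathlib.Algebra.MvPolynomial.NoZeroDivisors
import Mathlib.RingTheory.MvPowerSeries.Derivative
import Mathlib.RingTheory.Algebraic.Integral
import Mathlib.FieldTheory.Perfect
import Mathlib.Algebra.MvPolynomial.Expand

/-!
Germs of plane curves: coprime polynomials have no common factor in the completion at a point, and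
an irreducible polynomial over a perfect field is squarefree there.
-/

set_option autoImplicit false

namespace Groth.Agent.H1CAlg.PlaneGerm

universe u

open MvPolynomial

variable {k : Type u} [Field k]

local notation "A₂" => MvPolynomial (Fin 2) k
local notation "P₂" => MvPowerSeries (Fin 2) k

/-- expansion at the point `a` -/
noncomputable def τ (a : Fin 2 → k) : A₂ →ₐ[k] P₂ :=
  (MvPolynomial.coeToMvPowerSeries.algHom k).comp (aeval fun i => X i + C (a i))

theorem τ_apply (a : Fin 2 → k) (f : A₂) :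
    τ a f = (aeval (fun i : Fin 2 => X i + C (a i)) f).toMvPowerSeries := by
  simp [τ]

theorem τ_X (a : Fin 2 → k) (i : Fin 2) : τ a (X i) = MvPowerSeries.X i + MvPowerSeries.C (a i) := by
  rw [τ_apply, aeval_X, MvPolynomial.coe_add, MvPolynomial.coe_X, MvPolynomial.coe_C]

theorem constantCoeff_τ (a : Fin 2 → k) (f : A₂) : MvPowerSeries.constantCoeff (τ a f) = eval a f := by
  induction f using MvPolynomial.induction_on with
  | C r => rw [← algebraMap_eq, AlgHom.commutes, algebraMap_eq, eval_C, ← MvPowerSeries.c_eq_algebraMap]; simp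
  | add p q hp hq => rw [map_add, map_add, map_add, hp, hq]
  | mul_X p i hp => rw [map_mul, map_mul, map_mul, hp, τ_X, eval_X]; simp

theorem pderiv_τ (a : Fin 2 → k) (f : A₂) (i : Fin 2) :
    MvPowerSeries.pderiv k i (τ a f) = τ a (pderiv i f) := by
  induction f using MvPolynomial.induction_on with
  | C r => rw [← algebraMap_eq, AlgHom.commutes, algebraMap_eq, pderiv_C, map_zero, Derivation.map_algebraMap]
  | add p q hp hq => rw [map_add, map_add, map_add, map_add, hp, hq]
  | mul_X p j hp =>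
    rw [map_mul, Derivation.leibniz, hp, pderiv_mul, map_add, map_mul, map_mul, τ_X, map_add, pderiv_X]
    rw [show MvPowerSeries.pderiv k i (MvPowerSeries.C (a j)) = 0 from MvPowerSeries.pderiv_C, add_zero,
      MvPowerSeries.pderiv_X]
    simp only [smul_eq_mul, Pi.single_apply]
    by_cases h : j = i
    · subst h; simp; ring
    · simp [h, Ne.symm h]; ring

theorem isUnit_τ (a : Fin 2 → k) {f : A₂} (h : eval a f ≠ 0) : IsUnit (τ a f) := by
  rw [MvPowerSeries.isUnit_iff_constantCoeff, constantCoeff_τ]; exact Ne.isUnit h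

theorem eval_eq_zero_of_dvd (a : Fin 2 → k) {f : A₂} {z : P₂} (hz : Prime z) (h : z ∣ τ a f) :
    eval a f = 0 :=
  Classical.byContradiction fun h' => hz.not_unit (isUnit_of_dvd_unit h (isUnit_τ a h'))

theorem maximal_of_coprime {p q : A₂} (hpq : IsRelPrime p q) (P : Ideal A₂) [hP : P.IsPrime]
    (hp : p ∈ P) (hq : q ∈ P) : P.IsMaximal := by
  by_cases hp0 : p = 0
  · exact absurd (Ideal.eq_top_of_isUnit_mem _ hq (hpq (hp0 ▸ dvd_zero q) dvd_rfl)) hP.ne_top
  have hne : P ≠ ⊥ := fun h => hp0 (by simpa [h] using hp)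
  obtain ⟨z, hzP, hz⟩ := hP.exists_mem_prime_of_ne_bot hne
  by_contra hM
  obtain ⟨M, hMmax, hle⟩ := P.exists_le_maximal hP.ne_top
  have hlt : P < M := lt_of_le_of_ne hle fun h => hM (h ▸ hMmax)
  have hzpr : (Ideal.span {z}).IsPrime := (Ideal.span_singleton_prime hz.ne_zero).mpr hz
  have hzle : Ideal.span {z} ≤ P := (Ideal.span_singleton_le_iff_mem _).mpr hzP
  have heq : Ideal.span {z} = P := by
    refine Classical.byContradiction fun hne' => ?_
    have hlt' : Ideal.span {z} < P := lt_of_le_of_ne hzle hne'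
    let l : LTSeries (PrimeSpectrum A₂) :=
      (((RelSeries.singleton _ (⟨⊥, Ideal.bot_prime⟩ : PrimeSpectrum A₂)).snoc ⟨_, hzpr⟩
        (show (⊥ : Ideal A₂) < Ideal.span {z} from bot_lt_iff_ne_bot.mpr (by simpa using hz.ne_zero))).snoc ⟨P, hP⟩
        (show Ideal.span {z} < P from hlt')).snoc ⟨M, hMmax.isPrime⟩ (by rw [RelSeries.last_snoc]; exact hlt)
    have h3 : ((l.length : ℕ∞) : WithBot ℕ∞) ≤ ringKrullDim A₂ := Order.LTSeries.length_le_krullDim l
    rw [MvPolynomial.ringKrullDim_of_isNoetherianRing, ringKrullDim_eq_zero_of_field, zero_add] at h3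
    have : l.length = 3 := rfl
    rw [this] at h3
    simp at h3
    norm_cast at h3
  rw [← heq, Ideal.mem_span_singleton] at hp hq
  exact hz.not_unit (hpq hp hq)

theorem exists_univariate_mem {p q : A₂} (hpq : IsRelPrime p q) (i : Fin 2) :
    ∃ c : Polynomial k, c ≠ 0 ∧ Polynomial.aeval (X i : A₂) c ∈ Ideal.span {p, q} := by
  set I : Ideal A₂ := Ideal.span {p, q} with hI
  have hdim : Ring.KrullDimLE 0 (A₂ ⧸ I) := by
    refine Ring.KrullDimLE.mk₀ fun P hP => ?_
    haveI := hP
    haveI : (P.comap (Ideal.Quotient.mk I)).IsMaximal := maximal_of_coprime hpq _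
      (by rw [Ideal.mem_comap, Ideal.Quotient.eq_zero_iff_mem.mpr (Ideal.subset_span (Set.mem_insert _ _))];
          exact zero_mem _)
      (by rw [Ideal.mem_comap, Ideal.Quotient.eq_zero_iff_mem.mpr
            (show q ∈ I from Ideal.subset_span (Set.mem_insert_of_mem _ rfl))];
          exact zero_mem _)
    have := Ideal.map_eq_top_or_isMaximal_of_surjective (Ideal.Quotient.mk I) Ideal.Quotient.mk_surjective
      ‹(P.comap (Ideal.Quotient.mk I)).IsMaximal›
    rw [Ideal.map_comap_of_surjective _ Ideal.Quotient.mk_surjective] at this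
    exact this.resolve_left hP.ne_top
  haveI : IsArtinianRing (A₂ ⧸ I) := IsNoetherianRing.isArtinianRing_of_krullDimLE_zero
  haveI : Module.Finite k (A₂ ⧸ I) := (Module.finite_iff_isArtinianRing k (A₂ ⧸ I)).mpr inferInstance
  obtain ⟨c, hc, hc0⟩ := (Algebra.IsIntegral.isIntegral (R := k) (Ideal.Quotient.mkₐ k I (X i)))
  refine ⟨c, hc.ne_zero, ?_⟩
  rw [← Ideal.Quotient.eq_zero_iff_mem, ← Ideal.Quotient.mkₐ_eq_mk k, ← Polynomial.aeval_algHom_apply]
  exact hc0

theorem dvd_X_of_dvd (a : Fin 2 → k) {p q : A₂} (hpq : IsRelPrime p q) {z : P₂} (hz : Prime z)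
    (hp : z ∣ τ a p) (hq : z ∣ τ a q) (i : Fin 2) : z ∣ MvPowerSeries.X i := by
  obtain ⟨c, hc, hmem⟩ := exists_univariate_mem hpq i
  obtain ⟨u, v, huv⟩ := Ideal.mem_span_pair.mp hmem
  have hdvd : z ∣ τ a (Polynomial.aeval (X i : A₂) c) := by
    rw [← huv, map_add, map_mul, map_mul]
    exact dvd_add (hp.mul_left _) (hq.mul_left _)
  obtain ⟨e, he, hne⟩ := Polynomial.exists_eq_pow_rootMultiplicity_mul_and_not_dvd c hc (a i)
  rw [he, map_mul, map_pow, map_sub, Polynomial.aeval_X, Polynomial.aeval_C, map_mul, map_pow, map_sub,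
    AlgHom.commutes, τ_X, ← MvPowerSeries.c_eq_algebraMap, add_sub_cancel_right] at hdvd
  have hu : IsUnit (τ a (Polynomial.aeval (X i : A₂) e)) := by
    refine isUnit_τ a fun h => hne ?_
    rw [Polynomial.dvd_iff_isRoot]
    have h2 := (Polynomial.aeval_algHom_apply (aeval a : A₂ →ₐ[k] k) (X i : A₂) e)
    rw [aeval_X] at h2
    show e.eval (a i) = 0
    rw [← Polynomial.coe_aeval_eq_eval, h2]
    exact h
  rw [hu.dvd_mul_right] at hdvd
  exact hz.dvd_of_dvd_pow hdvd

theorem not_dvd_both (a : Fin 2 → k) {p q : A₂} (hpq : IsRelPrime p q) {z : P₂} (hz : Prime z)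
    (hp : z ∣ τ a p) (hq : z ∣ τ a q) : False := by
  obtain ⟨w, hw⟩ := dvd_X_of_dvd a hpq hz hp hq 0
  obtain ⟨w', hw'⟩ := dvd_X_of_dvd a hpq hz hp hq 1
  have hz0 : MvPowerSeries.constantCoeff z = 0 := Classical.byContradiction fun h =>
    hz.not_unit (MvPowerSeries.isUnit_iff_constantCoeff.mpr (Ne.isUnit h))
  have key : ∀ i j : Fin 2, ∀ v : P₂, MvPowerSeries.X i = z * v →
      MvPowerSeries.coeff (Finsupp.single j 1) (MvPowerSeries.X i : P₂) =
        MvPowerSeries.constantCoeff v * MvPowerSeries.coeff (Finsupp.single j 1) z := fun i j v hv => by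
    rw [hv, mul_comm z v, H02CA.PS.coeff_single_mul _ _ hz0]
  have h00 := key 0 0 w hw
  have h01 := key 0 1 w hw
  have h10 := key 1 0 w' hw'
  have h11 := key 1 1 w' hw'
  rw [MvPowerSeries.coeff_index_single_X] at h00 h01 h10 h11
  simp only [if_true, if_neg (show ¬ ((1 : Fin 2) = 0) by decide), if_neg (show ¬ ((0 : Fin 2) = 1) by decide)]
    at h00 h01 h10 h11
  rcases mul_eq_zero.mp h01.symm with h | h
  · rw [h, zero_mul] at h00; exact one_ne_zero h00
  · rw [h, mul_zero] at h11; exact one_ne_zero h11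

theorem exists_pderiv_ne_zero [PerfectField k] {p : A₂} (hp : Irreducible p) : ∃ i, pderiv i p ≠ 0 := by
  classical
  by_contra h
  simp only [not_exists, not_not] at h
  have hm : ∀ m ∈ p.support, ∀ i, (m i : k) = 0 := fun m hm i => by
    rcases Nat.eq_zero_or_pos (m i) with h0 | h0
    · simp [h0]
    have hc := congrArg (coeff (m - Finsupp.single i 1)) (h i)
    rw [coeff_pderiv, coeff_zero, tsub_add_cancel_of_le (Finsupp.single_le_iff.mpr h0), Finsupp.tsub_apply,
      Finsupp.single_eq_same, Nat.cast_sub h0] at hc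
    simpa using (mul_eq_zero.mp hc).resolve_left (mem_support_iff.mp hm)
  obtain ⟨q, hq⟩ := ExpChar.exists k
  rcases hq with hq0 | ⟨hprime⟩
  · -- characteristic zero: p is constant
    have hp0 : p = C (coeff 0 p) := by
      ext m
      rw [coeff_C]
      by_cases hm0 : (0 : Fin 2 →₀ ℕ) = m
      · rw [if_pos hm0, hm0]
      · rw [if_neg hm0]
        by_contra hne
        exact hm0 (Finsupp.ext fun i => (Nat.cast_eq_zero.mp (hm m (mem_support_iff.mpr hne) i)).symm)
    rcases eq_or_ne (coeff 0 p) 0 with h0 | h0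
    · exact hp.ne_zero (by rw [hp0, h0, map_zero])
    · exact hp.not_isUnit (by rw [hp0]; exact (Ne.isUnit h0).map C)
  · haveI := Fact.mk hprime
    haveI : PerfectRing k q := PerfectField.toPerfectRing q
    have hdvd : ∀ m ∈ p.support, ∀ i, q ∣ m i := fun m hm' i => (CharP.cast_eq_zero_iff k q _).mp (hm m hm' i)
    let g : A₂ := ∑ m ∈ p.support, monomial (m.mapRange (· / q) (by simp)) ((frobeniusEquiv k q).symm (p.coeff m))
    have hg : p = g ^ q := by
      rw [sum_pow_char]
      conv_lhs => rw [p.as_sum]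
      refine Finset.sum_congr rfl fun m hm' => ?_
      rw [monomial_pow, frobeniusEquiv_symm_pow_p, show q • m.mapRange (· / q) (by simp) = m from
        Finsupp.ext fun i => by simpa using Nat.mul_div_cancel' (hdvd m hm' i)]
    exact not_irreducible_pow hprime.one_lt.ne' (hg ▸ hp)

theorem not_sq_dvd [PerfectField k] (a : Fin 2 → k) {p : A₂} (hp : Irreducible p) {z : P₂} (hz : Prime z)
    (h : z ^ 2 ∣ τ a p) : False := by
  classical
  obtain ⟨i, hi⟩ := exists_pderiv_ne_zero hp
  obtain ⟨w, hw⟩ := h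
  have hd : z ∣ τ a (pderiv i p) := by
    rw [← pderiv_τ, hw, pow_two, Derivation.leibniz, Derivation.leibniz]
    simp only [smul_eq_mul]
    exact ⟨z * MvPowerSeries.pderiv k i w + 2 * w * MvPowerSeries.pderiv k i z, by ring⟩
  refine not_dvd_both a ?_ hz (hw ▸ Dvd.dvd.mul_right (dvd_pow_self z two_ne_zero) w) hd
  refine (hp.isRelPrime_iff_not_dvd).mpr fun hdvd => ?_
  obtain ⟨r, hr⟩ := hdvd
  have hr0 : r ≠ 0 := fun h0 => hi (by rw [hr, h0, mul_zero])
  have hdeg : p.totalDegree ≤ (pderiv i p).totalDegree := by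
    rw [hr, totalDegree_mul_of_isDomain hp.ne_zero hr0]
    exact Nat.le_add_right _ _
  obtain ⟨d, hd', hdmax⟩ := Finset.exists_mem_eq_sup (pderiv i p).support
    (support_nonempty.mpr hi) (fun s => s.sum fun _ e => e)
  rw [mem_support_iff, coeff_pderiv] at hd'
  have := le_totalDegree (mem_support_iff.mpr (left_ne_zero_of_mul hd'))
  rw [Finsupp.sum_add_index' (by simp) (by simp), Finsupp.sum_single_index rfl] at this
  have h2 : (pderiv i p).totalDegree = d.sum fun _ e => e := hdmax
  omega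

end Groth.Agent.H1CAlg.PlaneGerm
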