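import Groth.Agent.H1CAlg.PlaneGermCoprime
import Groth.Agent.H28Alg.RegularUFD

/-!
`k[[x,y]]/(f) ≅ k[[x,y]]/(y²)` iff `f` is locally the square of a smooth curve.
-/

set_option autoImplicit false

namespace Groth.Agent.H1CAlg.PlaneGerm

universe u

open MvPowerSeries

variable {k : Type u} [Field k]

local notation "A₂" => MvPolynomial (Fin 2) k
local notation "P₂" => MvPowerSeries (Fin 2) k

theorem exists_proj : ∃ π : P₂ →ₐ[k] PowerSeries k, Function.Surjective π ∧
    ∀ G, π G = 0 ↔ (X 1 : P₂) ∣ G := by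
  let π : P₂ →+* PowerSeries k :=
    (PowerSeries.map (constantCoeff (σ := Fin 1) (R := k))).comp (finSuccEquiv k 1).toRingEquiv.toRingHom
  have hc : ∀ (n : ℕ) (G : P₂), PowerSeries.coeff n (π G) = coeff (Finsupp.cons n 0) G := fun n G => by
    show PowerSeries.coeff n (PowerSeries.map (constantCoeff (σ := Fin 1) (R := k)) (finSuccEquiv k 1 G)) = _
    rw [PowerSeries.coeff_map, ← coeff_zero_eq_constantCoeff_apply, coeff_coeff_finSuccEquiv]
  let πa : P₂ →ₐ[k] PowerSeries k := ⟨π, fun r => by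
    show PowerSeries.map (constantCoeff (σ := Fin 1) (R := k)) (finSuccEquiv k 1 (algebraMap k P₂ r)) = _
    rw [← c_eq_algebraMap, finSuccEquiv_C, PowerSeries.map_C, constantCoeff_C]; rfl⟩
  refine ⟨πa, fun A => ?_, fun G => ?_⟩
  · obtain ⟨B, hB⟩ : ∃ B, PowerSeries.map (constantCoeff (σ := Fin 1) (R := k)) B = A :=
      ⟨PowerSeries.map (C (σ := Fin 1)) A, by ext n; simp⟩
    refine ⟨(finSuccEquiv k 1).symm B, ?_⟩
    show PowerSeries.map (constantCoeff (σ := Fin 1) (R := k)) (finSuccEquiv k 1 ((finSuccEquiv k 1).symm B)) = A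
    rw [AlgEquiv.apply_symm_apply, hB]
  · rw [X_dvd_iff]
    constructor
    · intro h d hd
      have := hc (d 0) G
      rw [show π G = 0 from h, map_zero] at this
      rw [this]
      congr 2
      ext i
      refine Fin.cases ?_ (fun j => ?_) i
      · rw [Finsupp.cons_zero]
      · rw [Finsupp.cons_succ, Fin.eq_zero j]; exact hd
    · intro h
      refine PowerSeries.ext fun n => ?_
      show PowerSeries.coeff n (π G) = _
      rw [hc, map_zero]
      exact h _ (by rw [show (1 : Fin 2) = Fin.succ 0 from rfl, Finsupp.cons_succ]; rfl)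

theorem isDomain_P : IsDomain P₂ := NoZeroDivisors.to_isDomain _

theorem coeff_single_one_unit_mul {u g : P₂} (hg : constantCoeff g = 0) (j : Fin 2) :
    coeff (Finsupp.single j 1) (g * u) = constantCoeff u * coeff (Finsupp.single j 1) g := by
  rw [mul_comm, H02CA.PS.coeff_single_mul _ _ hg]

/-- The data extracted from an isomorphism with the double line. -/
theorem exists_sq_factor (F : P₂)
    (e : (P₂ ⧸ Ideal.span {F}) ≃ₐ[k] (P₂ ⧸ Ideal.span {(X 1 : P₂) ^ 2})) :
    ∃ π u : P₂, Prime π ∧ IsUnit u ∧ F = u * π ^ 2 ∧ ∃ i, coeff (Finsupp.single i 1) π ≠ 0 := by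
  haveI := isDomain_P (k := k)
  haveI := H02CA.PS.isRegularLocalRing_fin (k := k) 2
  haveI : UniqueFactorizationMonoid P₂ := H28Alg.ufd_of_regular _
  obtain ⟨pr, hprs, hprk⟩ := exists_proj (k := k)
  have hX1 : (X 1 : P₂) ≠ 0 := fun h => by
    simpa [coeff_index_single_X] using congrArg (coeff (Finsupp.single (1 : Fin 2) 1)) h
  have hX1u : ¬ IsUnit (X 1 : P₂) := fun h => by
    simpa using MvPowerSeries.isUnit_iff_constantCoeff.mp h
  obtain ⟨Z, hZ⟩ := Ideal.Quotient.mk_surjective (e.symm (Ideal.Quotient.mk _ (X 1)))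
  have hprle : ∀ G ∈ Ideal.span {(X 1 : P₂) ^ 2}, pr G = 0 := fun G hG =>
    (hprk G).mpr ((dvd_pow_self _ two_ne_zero).trans (Ideal.mem_span_singleton.mp hG))
  obtain ⟨φ, hφs, hφ⟩ : ∃ φ : P₂ →ₐ[k] PowerSeries k, Function.Surjective φ ∧
      ∀ G, φ G = 0 ↔ ∃ H, Ideal.Quotient.mk (Ideal.span {F}) G =
        Ideal.Quotient.mk _ Z * Ideal.Quotient.mk _ H := by
    refine ⟨(Ideal.Quotient.liftₐ _ pr hprle).comp (e.toAlgHom.comp (Ideal.Quotient.mkₐ k _)),
      fun A => ?_, fun G => ?_⟩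
    · obtain ⟨B, hB⟩ := hprs A
      obtain ⟨G, hG⟩ := Ideal.Quotient.mk_surjective (e.symm (Ideal.Quotient.mk _ B))
      refine ⟨G, ?_⟩
      show Ideal.Quotient.liftₐ _ pr hprle (e (Ideal.Quotient.mk _ G)) = A
      rw [hG, e.apply_symm_apply]
      exact hB
    · obtain ⟨B, hB⟩ := Ideal.Quotient.mk_surjective (e (Ideal.Quotient.mk (Ideal.span {F}) G))
      show Ideal.Quotient.liftₐ _ pr hprle (e (Ideal.Quotient.mk _ G)) = 0 ↔ _
      rw [← hB]
      show pr B = 0 ↔ _
      rw [hprk]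
      constructor
      · rintro ⟨H, rfl⟩
        obtain ⟨H', hH'⟩ := Ideal.Quotient.mk_surjective (e.symm (Ideal.Quotient.mk _ H))
        refine ⟨H', e.injective ?_⟩
        rw [← hB, map_mul, map_mul, hZ, hH', e.apply_symm_apply, e.apply_symm_apply]
      · rintro ⟨H, hH⟩
        obtain ⟨H', hH'⟩ := Ideal.Quotient.mk_surjective (e (Ideal.Quotient.mk (Ideal.span {F}) H))
        rw [hH, map_mul, hZ, e.apply_symm_apply, ← hH', ← map_mul, Ideal.Quotient.eq,
          Ideal.mem_span_singleton] at hB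
        have := dvd_add ((dvd_pow_self (X 1 : P₂) two_ne_zero).trans hB) (dvd_mul_right (X 1 : P₂) H')
        simpa using this
  have hsq : Ideal.Quotient.mk (Ideal.span {F}) Z * Ideal.Quotient.mk _ Z = 0 := e.injective (by
    rw [map_mul, hZ, e.apply_symm_apply, map_zero, ← map_mul, Ideal.Quotient.eq_zero_iff_mem,
      Ideal.mem_span_singleton, pow_two])
  have hZ0 : Ideal.Quotient.mk (Ideal.span {F}) Z ≠ 0 := fun h => by
    rw [h] at hZ
    have h2 := congrArg e hZ
    rw [e.apply_symm_apply, map_zero, eq_comm, Ideal.Quotient.eq_zero_iff_mem, Ideal.mem_span_singleton] at h2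
    obtain ⟨c, hc⟩ := h2
    exact hX1u (IsUnit.of_mul_eq_one c (mul_left_cancel₀ hX1 (by rw [← mul_assoc, ← pow_two, mul_one, ← hc])))
  have hφZ : φ Z = 0 := (hφ Z).mpr ⟨1, by simp⟩
  have hφF : φ F = 0 := (hφ F).mpr ⟨0, by rw [map_zero, mul_zero, Ideal.Quotient.eq_zero_iff_mem]; exact Ideal.mem_span_singleton_self F⟩
  have hsq' : F ∣ Z * Z := by
    rwa [← map_mul, Ideal.Quotient.eq_zero_iff_mem, Ideal.mem_span_singleton] at hsq
  have hF0 : F ≠ 0 := fun h => by
    subst h
    rw [zero_dvd_iff, mul_self_eq_zero] at hsq'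
    exact hZ0 (by rw [hsq', map_zero])
  set J := RingHom.ker φ.toRingHom with hJ
  haveI hJp : J.IsPrime := RingHom.ker_isPrime _
  obtain ⟨π, hπJ, hπ⟩ := hJp.exists_mem_prime_of_ne_bot
    (fun h => hF0 (by simpa [h] using (show F ∈ J from hφF)))
  have hJπ : J = Ideal.span {π} := by
    have hle : Ideal.span {π} ≤ J := (Ideal.span_singleton_le_iff_mem _).mpr hπJ
    refine Classical.byContradiction fun hne => ?_
    have hlt : Ideal.span {π} < J := lt_of_le_of_ne hle (Ne.symm hne)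
    have hX : ∃ T, φ T = PowerSeries.X := hφs _
    obtain ⟨T, hT⟩ := hX
    have hlt2 : J < IsLocalRing.maximalIdeal P₂ := by
      refine lt_of_le_of_ne (IsLocalRing.le_maximalIdeal hJp.ne_top) fun h => ?_
      have hTm : T ∈ IsLocalRing.maximalIdeal P₂ := fun hu => by
        have := hu.map φ
        rw [hT] at this
        exact PowerSeries.X_prime.not_unit this
      rw [← h] at hTm
      exact PowerSeries.X_ne_zero (hT.symm.trans hTm)
    haveI hπp : (Ideal.span {π}).IsPrime := (Ideal.span_singleton_prime hπ.ne_zero).mpr hπ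
    let l : LTSeries (PrimeSpectrum P₂) :=
      (((RelSeries.singleton _ (⟨⊥, Ideal.bot_prime⟩ : PrimeSpectrum P₂)).snoc ⟨_, hπp⟩
        (show (⊥ : Ideal P₂) < Ideal.span {π} from bot_lt_iff_ne_bot.mpr (by simpa using hπ.ne_zero))).snoc
        ⟨J, hJp⟩ (show Ideal.span {π} < J from hlt)).snoc
        ⟨_, (IsLocalRing.maximalIdeal.isMaximal P₂).isPrime⟩ (by rw [RelSeries.last_snoc]; exact hlt2)
    have h3 : ((l.length : ℕ∞) : WithBot ℕ∞) ≤ ringKrullDim P₂ := Order.LTSeries.length_le_krullDim l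
    rw [H02CA.PS.ringKrullDim_eq, show l.length = 3 from rfl] at h3
    norm_cast at h3
  have hdvd : ∀ {G}, φ G = 0 → π ∣ G := fun {G} hG =>
    Ideal.mem_span_singleton.mp (hJπ ▸ (show G ∈ J from hG))
  obtain ⟨d, hd⟩ := hdvd hφF
  obtain ⟨c, hc⟩ := hdvd hφZ
  have hsqπ : F ∣ π * π := by
    obtain ⟨H, hH⟩ := (hφ π).mp hπJ
    have : Ideal.Quotient.mk (Ideal.span {F}) (π * π) = 0 := by
      rw [map_mul, hH, mul_mul_mul_comm, hsq, zero_mul]
    rwa [Ideal.Quotient.eq_zero_iff_mem, Ideal.mem_span_singleton] at this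
  obtain ⟨c', hc'⟩ := hsqπ
  have hdd : d ∣ π := ⟨c', mul_left_cancel₀ hπ.ne_zero (by rw [hc', hd, mul_assoc])⟩
  have hdu : ¬ IsUnit d := fun hu => hZ0 (by
    rw [Ideal.Quotient.eq_zero_iff_mem, Ideal.mem_span_singleton, hd, hu.mul_right_dvd, hc]
    exact dvd_mul_right _ _)
  obtain ⟨u, rfl⟩ := (hπ.irreducible.dvd_iff.mp hdd).resolve_left hdu
  refine ⟨π, (u : P₂), hπ, Units.isUnit _, ?_, ?_⟩
  rotate_left
  · by_contra hall
    simp only [not_exists, not_not] at hall
    have hπ0 : constantCoeff π = 0 := Classical.byContradiction fun h =>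
      hπ.not_unit (MvPowerSeries.isUnit_iff_constantCoeff.mpr (Ne.isUnit h))
    obtain ⟨T, hT⟩ := hφs PowerSeries.X
    have hT0 : constantCoeff T = 0 := Classical.byContradiction fun h => by
      have := (MvPowerSeries.isUnit_iff_constantCoeff.mpr (Ne.isUnit h)).map φ
      rw [hT] at this
      exact PowerSeries.X_prime.not_unit this
    have hm : ∀ G, constantCoeff G = 0 → PowerSeries.X ∣ φ G := fun G hG => by
      rw [PowerSeries.X_dvd_iff]
      by_contra hne
      have h1 : φ (G - C (PowerSeries.constantCoeff (φ G))) = φ G - PowerSeries.C (PowerSeries.constantCoeff (φ G)) := by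
        rw [map_sub, c_eq_algebraMap, AlgHom.commutes]; rfl
      have hu : IsUnit (G - C (PowerSeries.constantCoeff (φ G))) := by
        rw [MvPowerSeries.isUnit_iff_constantCoeff, map_sub, hG, constantCoeff_C, zero_sub]
        exact (Ne.isUnit hne).neg
      have := hu.map φ
      rw [h1, PowerSeries.isUnit_iff_constantCoeff] at this
      simp at this
    have hlin : ∀ i, ∃ c, φ (X i) - PowerSeries.C c * PowerSeries.X ∈ Ideal.span {(PowerSeries.X : PowerSeries k) ^ 2} := fun i => by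
      obtain ⟨A, hA⟩ := hm (X i) (constantCoeff_X i)
      refine ⟨PowerSeries.constantCoeff A, Ideal.mem_span_singleton.mpr ?_⟩
      obtain ⟨B, hB⟩ : PowerSeries.X ∣ A - PowerSeries.C (PowerSeries.constantCoeff A) := by
        rw [PowerSeries.X_dvd_iff]; simp
      exact ⟨B, by rw [hA, pow_two, mul_assoc, ← hB]; ring⟩
    choose c hc using hlin
    have hc0 : ∀ i j, c j = 0 ∨ i = j := fun i j => by
      rcases eq_or_ne i j with h | h
      · exact Or.inr h
      refine Or.inl ?_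
      obtain ⟨S, hS⟩ := Ideal.mem_span_singleton.mp (sub_mem
        (Ideal.mul_mem_left _ (PowerSeries.C (c j)) (hc i)) (Ideal.mul_mem_left _ (PowerSeries.C (c i)) (hc j)))
      obtain ⟨S', hS'⟩ := hφs S
      have hL : φ (C (c j) * X i - C (c i) * X j - T ^ 2 * S') = 0 := by
        simp only [map_sub, map_mul, map_pow, hT, hS', c_eq_algebraMap, AlgHom.commutes]
        rw [show (algebraMap k (PowerSeries k)) = PowerSeries.C from rfl, ← hS]
        ring
      obtain ⟨E, hE⟩ := hdvd hL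
      have := congrArg (coeff (Finsupp.single i 1)) hE
      rw [coeff_single_one_unit_mul hπ0, hall, mul_zero, map_sub, map_sub, coeff_C_mul, coeff_C_mul,
        coeff_index_single_X, coeff_index_single_X, if_pos rfl, if_neg h, pow_two, mul_assoc,
        coeff_single_one_unit_mul hT0, map_mul, hT0, zero_mul, zero_mul] at this
      simpa using this
    have hzero : ∀ i, c i = 0 := fun i => by
      fin_cases i
      · exact (hc0 1 0).resolve_right (by decide)
      · exact (hc0 0 1).resolve_right (by decide)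
    have hXi : ∀ i, PowerSeries.X ^ 2 ∣ φ (X i) := fun i => by
      have := hc i
      rwa [hzero i, map_zero, zero_mul, sub_zero, Ideal.mem_span_singleton] at this
    have hTdec := H02CA.PS.mem_vars_iff.mpr hT0
    have hle : Ideal.map φ.toRingHom (H02CA.PS.vars (Fin 2) k) ≤ Ideal.span {(PowerSeries.X : PowerSeries k) ^ 2} := by
      rw [Ideal.map_span, Ideal.span_le]
      rintro _ ⟨_, ⟨i, rfl⟩, rfl⟩
      exact Ideal.mem_span_singleton.mpr (hXi i)
    have := hle (Ideal.mem_map_of_mem φ.toRingHom hTdec)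
    rw [show φ.toRingHom T = PowerSeries.X from hT, Ideal.mem_span_singleton, PowerSeries.X_pow_dvd_iff] at this
    exact one_ne_zero ((PowerSeries.coeff_one_X (R := k)).symm.trans (this 1 one_lt_two))
  · rw [hd]; ring

theorem exists_poly_factor [PerfectField k] (a : Fin 2 → k) {f : A₂} {π u : P₂} (hπ : Prime π)
    (hu : IsUnit u) (hf : τ a f = u * π ^ 2) (hlin : ∃ i, coeff (Finsupp.single i 1) π ≠ 0) :
    ∃ g h : A₂, f = g ^ 2 * h ∧ MvPolynomial.eval a h ≠ 0 ∧ MvPolynomial.eval a g = 0 ∧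
      ∃ i : Fin 2, MvPolynomial.eval a (MvPolynomial.pderiv i g) ≠ 0 := by
  haveI := isDomain_P (k := k)
  have hirr : ∀ g : A₂, g ≠ 0 → π ∣ τ a g → ∃ p, Irreducible p ∧ p ∣ g ∧ π ∣ τ a p := fun g hg hdvd => by
    obtain ⟨v, hv⟩ := UniqueFactorizationMonoid.factors_prod hg
    rw [← hv, map_mul] at hdvd
    have h1 : π ∣ τ a (UniqueFactorizationMonoid.factors g).prod :=
      (hπ.dvd_or_dvd hdvd).resolve_right fun h => hπ.not_unit (isUnit_of_dvd_unit h (v.isUnit.map (τ a)))
    rw [map_multiset_prod] at h1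
    obtain ⟨w, hw, hπw⟩ := hπ.exists_mem_multiset_dvd h1
    obtain ⟨p, hp, rfl⟩ := Multiset.mem_map.mp hw
    exact ⟨p, UniqueFactorizationMonoid.irreducible_of_factor p hp,
      UniqueFactorizationMonoid.dvd_of_mem_factors hp, hπw⟩
  have hf0 : f ≠ 0 := fun h => by
    rw [h, map_zero] at hf
    exact mul_ne_zero hu.ne_zero (pow_ne_zero 2 hπ.ne_zero) hf.symm
  obtain ⟨p, hp, ⟨f₁, rfl⟩, hπp⟩ := hirr f hf0 (hf ▸ (dvd_pow_self π two_ne_zero).mul_left u)
  obtain ⟨e, he⟩ := hπp
  have hee : ¬ π ∣ e := fun ⟨w, hw⟩ => not_sq_dvd a hp hπ ⟨w, by rw [he, hw]; ring⟩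
  have h1 : e * τ a f₁ = u * π := mul_left_cancel₀ hπ.ne_zero (by
    rw [map_mul, he] at hf; rw [← mul_assoc, hf]; ring)
  have hπf₁ : π ∣ τ a f₁ := (hπ.dvd_or_dvd (h1 ▸ dvd_mul_left π u)).resolve_left hee
  have hf₁0 : f₁ ≠ 0 := right_ne_zero_of_mul hf0
  obtain ⟨q, hq, hqd, hπq⟩ := hirr f₁ hf₁0 hπf₁
  have hpq : p ∣ f₁ := by
    by_contra hn
    refine not_dvd_both a ?_ hπ (he ▸ dvd_mul_right π e) hπq
    exact hp.isRelPrime_iff_not_dvd.mpr fun h => hn (h.trans hqd)
  obtain ⟨h, rfl⟩ := hpq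
  have h2 : e * (e * τ a h) = u := mul_left_cancel₀ hπ.ne_zero (by
    rw [map_mul, he] at h1; rw [mul_comm π u, ← h1]; ring)
  have heu : IsUnit e := isUnit_of_mul_isUnit_left (h2 ▸ hu)
  have hhu : IsUnit (τ a h) := isUnit_of_mul_isUnit_right (isUnit_of_mul_isUnit_right (h2 ▸ hu))
  refine ⟨p, h, by ring, ?_, eval_eq_zero_of_dvd a hπ (he ▸ dvd_mul_right π e), ?_⟩
  · rw [← constantCoeff_τ]
    exact (MvPowerSeries.isUnit_iff_constantCoeff.mp hhu).ne_zero
  · obtain ⟨i, hi⟩ := hlin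
    refine ⟨i, ?_⟩
    have hπ0 : constantCoeff π = 0 := Classical.byContradiction fun h =>
      hπ.not_unit (MvPowerSeries.isUnit_iff_constantCoeff.mpr (Ne.isUnit h))
    have hπi : constantCoeff (pderiv k i π) = coeff (Finsupp.single i 1) π := by
      rw [← coeff_zero_eq_constantCoeff_apply, MvPowerSeries.coeff_pderiv, zero_add]
      simp
    rw [← constantCoeff_τ, ← pderiv_τ, he, Derivation.leibniz]
    simp only [smul_eq_mul, map_add, map_mul, hπ0, zero_mul, zero_add, hπi]
    exact mul_ne_zero (MvPowerSeries.isUnit_iff_constantCoeff.mp heu).ne_zero hi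

theorem exists_equiv_sq (F G u : P₂) (hu : IsUnit u) (hF : F = G ^ 2 * u) (hG : constantCoeff G = 0)
    (i : Fin 2) (hi : coeff (Finsupp.single i 1) G ≠ 0) :
    Nonempty ((P₂ ⧸ Ideal.span {F}) ≃ₐ[k] (P₂ ⧸ Ideal.span {(X 1 : P₂) ^ 2})) := by
  obtain ⟨j, hij⟩ : ∃ j : Fin 2, j ≠ i := exists_ne i
  let g : Fin 2 → P₂ := ![X j, G]
  have hg : ∀ l, constantCoeff (g l) = 0 := fun l => by fin_cases l <;> simp [g, hG]
  have ha := hasSubst_of_constantCoeff_zero hg
  let σ : P₂ →ₐ[k] P₂ := substAlgHom ha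
  have hσ : ∀ l, σ (X l) = g l := fun l => substAlgHom_X ha l
  have hbij : Function.Bijective σ := by
    refine H02CA.PS.bijective_of_isUnit_det (fun l => by rw [hσ]; exact hg l) ?_
    rw [Matrix.det_fin_two]
    simp only [Matrix.of_apply, hσ, g, Matrix.cons_val_zero, Matrix.cons_val_one, coeff_index_single_X]
    fin_cases i <;> fin_cases j
    · exact absurd rfl hij
    · simpa using hi
    · simpa using hi
    · exact absurd rfl hij
  let E := AlgEquiv.ofBijective σ hbij
  have hFG : Ideal.span {F} = Ideal.span {G ^ 2} := by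
    rw [hF, Ideal.span_singleton_mul_right_unit hu]
  exact ⟨(Ideal.quotientEquivAlgOfEq k hFG).trans (Ideal.quotientEquivAlg (Ideal.span {(X 1 : P₂) ^ 2})
    (Ideal.span {G ^ 2}) E (by rw [Ideal.map_span, Set.image_singleton]; simp [E, hσ, g])).symm⟩

end Groth.Agent.H1CAlg.PlaneGerm
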