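import Groth.Agent.H1CAlg.PlaneGermSq
import Groth.Agent.H1CAlg.ArFrame
import Groth.Prelude.Def_W4c1arstab1appArSing
import Mathlib.RingTheory.PowerSeries.WeierstrassPreparation

/-!
Plane germs with multiplicity at most two are `A_n` germs or double lines; those with multiplicity
at least three are neither.
-/

set_option autoImplicit false

namespace Groth.Agent.H1CAlg.PlaneGerm

universe u

open MvPowerSeries Finsupp

variable {k : Type u} [Field k]

local notation "P₂" => MvPowerSeries (Fin 2) k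

theorem not_iso_of_cube {F G : P₂} (hF : F ∈ H02CA.PS.vars (Fin 2) k ^ 3)
    (hG : ∃ d, d.degree < 3 ∧ coeff d G ≠ 0)
    (e : (P₂ ⧸ Ideal.span {G}) ≃ₐ[k] (P₂ ⧸ Ideal.span {F})) : False := by
  haveI := isDomain_P (k := k)
  haveI := H02CA.PS.isRegularLocalRing_fin (k := k) 2
  have hF0 : constantCoeff F = 0 := by
    simpa using H02CA.PS.coeff_eq_zero_of_mem_pow hF (d := 0) (by simp)
  haveI : Nontrivial (P₂ ⧸ Ideal.span {F}) := Ideal.Quotient.nontrivial_iff.mpr fun h => by
    have := MvPowerSeries.isUnit_iff_constantCoeff.mp (Ideal.span_singleton_eq_top.mp h)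
    rw [hF0] at this; exact not_isUnit_zero this
  haveI : IsLocalRing (P₂ ⧸ Ideal.span {F}) :=
    IsLocalRing.of_surjective' (Ideal.Quotient.mk _) Ideal.Quotient.mk_surjective
  haveI : IsHausdorff (IsLocalRing.maximalIdeal (P₂ ⧸ Ideal.span {F})) (P₂ ⧸ Ideal.span {F}) :=
    ⟨fun x hx => by
      have hx' : x ∈ ⨅ n, IsLocalRing.maximalIdeal (P₂ ⧸ Ideal.span {F}) ^ n := by
        rw [Ideal.mem_iInf]
        intro n
        have := hx n
        rwa [SModEq.zero, smul_eq_mul, Ideal.mul_top] at this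
      rwa [Ideal.iInf_pow_eq_bot_of_isLocalRing _ (IsLocalRing.maximalIdeal.isMaximal _).ne_top,
        Ideal.mem_bot] at hx'⟩
  have hne : ∀ i, e (Ideal.Quotient.mk _ (X i)) ∈ IsLocalRing.maximalIdeal (P₂ ⧸ Ideal.span {F}) := fun i hu => by
    have hG0 : constantCoeff G = 0 := by
      by_contra h
      have h1 : (1 : P₂ ⧸ Ideal.span {G}) = 0 := by
        rw [← map_one (Ideal.Quotient.mk (Ideal.span {G})), Ideal.Quotient.eq_zero_iff_mem,
          Ideal.mem_span_singleton]
        exact (MvPowerSeries.isUnit_iff_constantCoeff.mpr (Ne.isUnit h)).dvd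
      exact (one_ne_zero : (1 : P₂ ⧸ Ideal.span {F}) ≠ 0) (by simpa using congrArg e h1)
    obtain ⟨c, hc⟩ := (isUnit_iff_exists_inv.mp (by simpa using hu.map e.symm) :
      ∃ c, Ideal.Quotient.mk (Ideal.span {G}) (X i) * c = 1)
    obtain ⟨c, rfl⟩ := Ideal.Quotient.mk_surjective c
    rw [← map_mul, ← map_one (Ideal.Quotient.mk (Ideal.span {G})), Ideal.Quotient.eq,
      Ideal.mem_span_singleton] at hc
    obtain ⟨w, hw⟩ := hc
    have := congrArg constantCoeff hw
    simp [hG0] at this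
  choose T hT using fun i => Ideal.Quotient.mk_surjective (e (Ideal.Quotient.mk _ (X i)))
  have hT0 : ∀ i, constantCoeff (T i) = 0 := fun i => Classical.byContradiction fun h => hne i
    (hT i ▸ (MvPowerSeries.isUnit_iff_constantCoeff.mpr (Ne.isUnit h)).map _)
  have ha := hasSubst_of_constantCoeff_zero hT0
  let ψ : P₂ →ₐ[k] P₂ := substAlgHom ha
  have hψ : ∀ i, ψ (X i) = T i := fun i => substAlgHom_X ha i
  have hψ0 : ∀ i, constantCoeff (ψ (X i)) = 0 := fun i => by rw [hψ]; exact hT0 i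
  have hcomm : e.toAlgHom.comp (Ideal.Quotient.mkₐ k (Ideal.span {G})) =
      (Ideal.Quotient.mkₐ k (Ideal.span {F})).comp ψ :=
    H02CA.PS.algHom_ext (IsLocalRing.maximalIdeal _) hne
      (fun i => by simp [hψ, hT])
  have hker : ∀ S R : P₂, e (Ideal.Quotient.mk _ S) = Ideal.Quotient.mk _ R → ψ S - R ∈ H02CA.PS.vars (Fin 2) k ^ 3 :=
    fun S R h => by
      have h1 : Ideal.Quotient.mk (Ideal.span {F}) (ψ S) = Ideal.Quotient.mk _ R :=
        (AlgHom.congr_fun hcomm S).symm.trans h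
      rw [Ideal.Quotient.eq, Ideal.mem_span_singleton] at h1
      obtain ⟨w, hw⟩ := h1
      rw [hw]; exact Ideal.mul_mem_right _ _ hF
  choose S hS using fun i => Ideal.Quotient.mk_surjective (e.symm (Ideal.Quotient.mk (Ideal.span {F}) (X i)))
  have hS' : ∀ i, ψ (S i) - X i ∈ H02CA.PS.vars (Fin 2) k ^ 3 := fun i =>
    hker _ _ (by rw [hS, e.apply_symm_apply])
  have hS0 : ∀ i, constantCoeff (S i) = 0 := fun i => by
    have := H02CA.PS.coeff_eq_zero_of_mem_pow (hS' i) (d := 0) (by simp)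
    rwa [coeff_zero_eq_constantCoeff_apply, map_sub, constantCoeff_X, sub_zero,
      H02CA.PS.constantCoeff_map hψ0] at this
  have hbij : Function.Bijective ψ := by
    refine H02CA.PS.bijective_of_isUnit_det hψ0 ?_
    refine IsUnit.of_mul_eq_one_right (Matrix.det (Matrix.of fun i j => coeff (single j 1) (S i))) ?_
    rw [← Matrix.det_mul]
    convert Matrix.det_one (n := Fin 2) (R := k) using 2
    ext i j
    rw [Matrix.mul_apply]
    simp only [Matrix.of_apply]
    rw [← H02CA.PS.coeff_single_map hψ0 _ (hS0 i)]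
    have := H02CA.PS.coeff_eq_zero_of_mem_pow (hS' i) (d := single j 1) (by simp)
    rw [map_sub, sub_eq_zero] at this
    rw [this, coeff_index_single_X, Matrix.one_apply]
    exact if_congr eq_comm rfl rfl
  have hψG : ψ G ∈ H02CA.PS.vars (Fin 2) k ^ 3 := by
    simpa using hker G 0 (by rw [Ideal.Quotient.eq_zero_iff_mem.mpr (Ideal.mem_span_singleton_self G), map_zero,
      map_zero])
  let E := AlgEquiv.ofBijective ψ hbij
  have hE0 : ∀ i, constantCoeff (E.symm.toAlgHom (X i)) = 0 := fun i => by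
    have := H02CA.PS.constantCoeff_map hψ0 (E.symm (X i))
    rw [show ψ (E.symm (X i)) = X i from E.apply_symm_apply _, constantCoeff_X] at this
    exact this.symm
  have hG3 := H02CA.PS.map_vars_pow hE0 hψG
  rw [show E.symm.toAlgHom (ψ G) = G from E.symm_apply_apply G] at hG3
  obtain ⟨d, hd, hdG⟩ := hG
  exact hdG (H02CA.PS.coeff_eq_zero_of_mem_pow hG3 hd)

/-- A substitution automorphism. -/
theorem exists_equiv (H G : P₂) (hH : constantCoeff H = 0) (hG : constantCoeff G = 0)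
    (hdet : coeff (single 0 1) H * coeff (single 1 1) G - coeff (single 1 1) H * coeff (single 0 1) G ≠ 0) :
    ∃ σ : P₂ ≃ₐ[k] P₂, σ (X 0) = H ∧ σ (X 1) = G := by
  have hg : ∀ l, constantCoeff (![H, G] l) = 0 := fun l => by fin_cases l <;> simp [hH, hG]
  have ha := hasSubst_of_constantCoeff_zero hg
  let σ : P₂ →ₐ[k] P₂ := substAlgHom ha
  have hσ : ∀ l, σ (X l) = ![H, G] l := fun l => substAlgHom_X ha l
  have hbij : Function.Bijective σ := by
    refine H02CA.PS.bijective_of_isUnit_det (fun l => by rw [hσ]; exact hg l) ?_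
    rw [Matrix.det_fin_two]
    simpa [hσ] using hdet
  exact ⟨AlgEquiv.ofBijective σ hbij, hσ 0, hσ 1⟩

theorem iso_of_map (σ : P₂ ≃ₐ[k] P₂) {N F u : P₂} (hu : IsUnit u) (h : F = σ N * u) :
    Nonempty ((P₂ ⧸ Ideal.span {F}) ≃ₐ[k] (P₂ ⧸ Ideal.span {N})) :=
  ⟨(Ideal.quotientEquivAlgOfEq k (by rw [h, Ideal.span_singleton_mul_right_unit hu])).trans
    (Ideal.quotientEquivAlg (Ideal.span {N}) (Ideal.span {σ N}) σ
      (by rw [Ideal.map_span, Set.image_singleton]; simp)).symm⟩

theorem iso_smooth {F : P₂} (hF : constantCoeff F = 0) (hl : ∃ i, coeff (single i 1) F ≠ 0) :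
    Nonempty ((P₂ ⧸ Ideal.span {F}) ≃ₐ[k] ArSing.ring k 0) := by
  obtain ⟨i, hi⟩ := hl
  fin_cases i
  · obtain ⟨σ, h0, h1⟩ := exists_equiv (X 1 ^ 2 - F) (X 1) (by simp [hF]) (constantCoeff_X 1) (by
      simpa [coeff_index_single_X, coeff_X_pow, Finsupp.ext_iff, Fin.forall_fin_two] using hi)
    refine iso_of_map σ isUnit_one ?_
    rw [mul_one, ArSing.eqn, zero_add, pow_one, map_sub, map_pow, h0, h1, sub_sub_cancel]
  · obtain ⟨σ, h0, h1⟩ := exists_equiv (X 0 ^ 2 - F) (X 0) (by simp [hF]) (constantCoeff_X 0) (by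
      simpa [coeff_index_single_X, coeff_X_pow, Finsupp.ext_iff, Fin.forall_fin_two] using hi)
    refine iso_of_map σ isUnit_one ?_
    rw [mul_one, ArSing.eqn, zero_add, pow_one, map_sub, map_pow, h0, h1, sub_sub_cancel]

theorem degree_two (d : Fin 2 →₀ ℕ) : d.degree = d 0 + d 1 := by
  rw [Finsupp.degree_eq_sum]; simp [Fin.sum_univ_two]

theorem degree_two_cases {d : Fin 2 →₀ ℕ} (hd : d.degree < 3) :
    d = 0 ∨ (∃ i, d = single i 1) ∨ d = single 0 2 ∨ d = single 0 1 + single 1 1 ∨ d = single 1 2 := by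
  rw [degree_two] at hd
  have key : ∀ e : Fin 2 →₀ ℕ, d 0 = e 0 → d 1 = e 1 → d = e := fun e h0 h1 => by
    ext i; fin_cases i <;> assumption
  rcases (show d 0 = 0 ∨ d 0 = 1 ∨ d 0 = 2 by omega) with h0 | h0 | h0
  · rcases (show d 1 = 0 ∨ d 1 = 1 ∨ d 1 = 2 by omega) with h1 | h1 | h1
    · exact Or.inl (key _ (by simp [h0]) (by simp [h1]))
    · exact Or.inr (Or.inl ⟨1, key _ (by simp [h0]) (by simp [h1])⟩)
    · exact Or.inr (Or.inr (Or.inr (Or.inr (key _ (by simp [h0]) (by simp [h1])))))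
  · rcases (show d 1 = 0 ∨ d 1 = 1 by omega) with h1 | h1
    · exact Or.inr (Or.inl ⟨0, key _ (by simp [h0]) (by simp [h1])⟩)
    · exact Or.inr (Or.inr (Or.inr (Or.inl (key _ (by simp [h0]) (by simp [h1])))))
  · exact Or.inr (Or.inr (Or.inl (key _ (by simp [h0]) (by simp; omega))))

theorem exists_good_coords {F : P₂} (hF : constantCoeff F = 0) (hl : ∀ i, coeff (single i 1) F = 0)
    (hq : ∃ d, d.degree < 3 ∧ coeff d F ≠ 0) :
    ∃ σ : P₂ ≃ₐ[k] P₂, constantCoeff (σ F) = 0 ∧ coeff (single 1 1) (σ F) = 0 ∧ coeff (single 1 2) (σ F) ≠ 0 := by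
  set c20 := coeff (single 0 2) F
  set c11 := coeff (single 0 1 + single 1 1) F
  set c02 := coeff (single 1 2) F
  have hQ : F - (C c20 * X 0 ^ 2 + C c11 * (X 0 * X 1) + C c02 * X 1 ^ 2) ∈ H02CA.PS.vars (Fin 2) k ^ 3 := by
    refine H02CA.PS.mem_pow_of_coeff fun d hd => ?_
    have h11 : (X 0 * X 1 : P₂) = monomial (single 0 1 + single 1 1) 1 := by
      rw [X_def, X_def, monomial_mul_monomial, mul_one]
    rw [map_sub, map_add, map_add, coeff_C_mul, coeff_C_mul, coeff_C_mul, X_pow_eq, X_pow_eq, h11,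
      coeff_monomial, coeff_monomial, coeff_monomial]
    rcases degree_two_cases hd with rfl | ⟨i, rfl⟩ | rfl | rfl | rfl
    · rw [coeff_zero_eq_constantCoeff_apply, hF]
      simp [Finsupp.ext_iff, Fin.forall_fin_two]
    · rw [hl i]
      fin_cases i <;> simp [Finsupp.ext_iff, Fin.forall_fin_two]
    all_goals simp [Finsupp.ext_iff, Fin.forall_fin_two, c20, c11, c02]
  obtain ⟨a, b, c, d, hdet, hne⟩ : ∃ a b c d : k, a * d - b * c ≠ 0 ∧ c20 * b ^ 2 + c11 * (b * d) + c02 * d ^ 2 ≠ 0 := by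
    by_cases h2 : c02 = 0
    · by_cases h0 : c20 = 0
      · refine ⟨1, 1, 0, 1, by simp, ?_⟩
        obtain ⟨e, he, hne⟩ := hq
        rcases degree_two_cases he with rfl | ⟨i, rfl⟩ | rfl | rfl | rfl
        · exact absurd (by simpa using hF) hne
        · exact absurd (hl i) hne
        · exact absurd h0 hne
        · simpa [h0, h2] using hne
        · exact absurd h2 hne
      · exact ⟨0, 1, 1, 0, by simp, by simp [h0]⟩
    · exact ⟨1, 0, 0, 1, by simp, by simp [h2]⟩
  obtain ⟨σ, h0, h1⟩ := exists_equiv (k := k) (C a * X 0 + C b * X 1) (C c * X 0 + C d * X 1) (by simp) (by simp) (by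
    simpa [coeff_C_mul, coeff_index_single_X] using hdet)
  have hσ0 : ∀ i, constantCoeff (σ.toAlgHom (X i)) = 0 := fun i => by fin_cases i <;> simp [h0, h1]
  have hm := H02CA.PS.map_vars_pow hσ0 hQ
  refine ⟨σ, ?_, ?_, ?_⟩
  · rw [show σ F = σ.toAlgHom F from rfl, H02CA.PS.constantCoeff_map hσ0, hF]
  · rw [show σ F = σ.toAlgHom F from rfl, H02CA.PS.coeff_single_map hσ0 _ hF]
    simp [hl]
  · have h2 := H02CA.PS.coeff_eq_zero_of_mem_pow hm (d := single 1 2) (by simp)
    rw [map_sub, map_sub, sub_eq_zero] at h2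
    rw [show σ F = σ.toAlgHom F from rfl, h2]
    have e0 : σ.toAlgHom (X 0) = C a * X 0 + C b * X 1 := h0
    have e1 : σ.toAlgHom (X 1) = C c * X 0 + C d * X 1 := h1
    simp only [map_add, map_mul, map_pow, c_eq_algebraMap, AlgHom.commutes, e0, e1]
    simp only [← c_eq_algebraMap]
    have expand : C c20 * (C a * X 0 + C b * X 1 : P₂) ^ 2 +
        C c11 * ((C a * X 0 + C b * X 1) * (C c * X 0 + C d * X 1)) + C c02 * (C c * X 0 + C d * X 1) ^ 2 =
        C (c20 * a ^ 2 + c11 * (a * c) + c02 * c ^ 2) * X 0 ^ 2 +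
        C (2 * c20 * (a * b) + c11 * (a * d + b * c) + 2 * c02 * (c * d)) * (X 0 * X 1) +
        C (c20 * b ^ 2 + c11 * (b * d) + c02 * d ^ 2) * X 1 ^ 2 := by
      simp only [map_add, map_mul, map_pow, map_ofNat]; ring
    have h11 : (X 0 * X 1 : P₂) = monomial (single 0 1 + single 1 1) 1 := by
      rw [X_def, X_def, monomial_mul_monomial, mul_one]
    rw [← map_add, ← map_add, expand, map_add, map_add, coeff_C_mul, coeff_C_mul, coeff_C_mul, X_pow_eq, X_pow_eq,
      h11, coeff_monomial, coeff_monomial, coeff_monomial]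
    simpa [Finsupp.ext_iff, Fin.forall_fin_two] using hne

theorem exists_weierstrass {F : P₂} (hF : constantCoeff F = 0) (h1 : coeff (single 1 1) F = 0)
    (h2 : coeff (single 1 2) F ≠ 0) :
    ∃ (ι : PowerSeries k →ₐ[k] P₂) (α β : PowerSeries k) (H : P₂),
      ι PowerSeries.X = X 0 ∧ (∀ A, constantCoeff (ι A) = PowerSeries.constantCoeff A) ∧
      (∀ A, coeff (single 1 1) (ι A) = 0) ∧
      PowerSeries.constantCoeff α = 0 ∧ PowerSeries.constantCoeff β = 0 ∧ IsUnit H ∧
      F = (X 1 ^ 2 + ι α * X 1 + ι β) * H := by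
  haveI hcomp : IsAdicComplete (IsLocalRing.maximalIdeal (PowerSeries k)) (PowerSeries k) := by
    rw [PowerSeries.maximalIdeal_eq_span_X]; infer_instance
  let e : Fin 2 ≃ Option Unit :=
    { toFun := ![some (), none], invFun := fun o => o.elim 1 fun _ => 0
      left_inv := fun i => by fin_cases i <;> rfl
      right_inv := fun o => by rcases o with _ | ⟨⟩ <;> rfl }
  let Ψ : P₂ ≃ₐ[k] PowerSeries (PowerSeries k) := (renameEquiv k e).trans (optionEquivLeft Unit k)
  have hcoef : ∀ (G : P₂) (n j : ℕ), PowerSeries.coeff j (PowerSeries.coeff n (Ψ G)) =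
      coeff (single 0 j + single 1 n) G := fun G n j => by
    show coeff (single () j) (PowerSeries.coeff n (optionEquivLeft Unit k (rename e G))) = _
    rw [coeff_coeff_optionEquivLeft]
    have : (single () j).optionElim n = embDomain e.toEmbedding (single 0 j + single 1 n) := by
      rw [embDomain_add, embDomain_single, embDomain_single]
      ext o
      rcases o with _ | ⟨⟩ <;> simp [e]
    rw [this]
    exact coeff_embDomain_rename e.toEmbedding G _
  have hΨ1 : Ψ (X 1) = PowerSeries.X := by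
    show optionEquivLeft Unit k (rename e (X 1)) = _
    rw [rename_X, show e 1 = none from rfl, optionEquivLeft_X_none]
  have hΨ0 : Ψ (X 0) = PowerSeries.C (PowerSeries.X : PowerSeries k) := by
    show optionEquivLeft Unit k (rename e (X 0)) = _
    rw [rename_X, show e 0 = some () from rfl, optionEquivLeft_X_some]
    rfl
  let ι : PowerSeries k →ₐ[k] P₂ := Ψ.symm.toAlgHom.comp
    ⟨(PowerSeries.C : PowerSeries k →+* PowerSeries (PowerSeries k)), fun r => (PowerSeries.algebraMap_apply).symm⟩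
  have hι : ∀ A, Ψ (ι A) = PowerSeries.C A := fun A => Ψ.apply_symm_apply _
  have hres : ∀ n, IsLocalRing.residue _ (PowerSeries.coeff n (Ψ F)) = 0 ↔ coeff (single 1 n) F = 0 := fun n => by
    rw [IsLocalRing.residue_eq_zero_iff, PowerSeries.maximalIdeal_eq_span_X, Ideal.mem_span_singleton,
      PowerSeries.X_dvd_iff, ← PowerSeries.coeff_zero_eq_constantCoeff_apply, hcoef, single_zero, zero_add]
  have hord : ((Ψ F).map (IsLocalRing.residue (PowerSeries k))).order = (2 : ℕ) := by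
    refine PowerSeries.order_eq_nat.mpr ⟨?_, fun i hi => ?_⟩
    · rw [PowerSeries.coeff_map]; exact fun h => h2 ((hres 2).mp h)
    · rw [PowerSeries.coeff_map, hres]
      interval_cases i
      · simpa using hF
      · exact h1
  have hne : (Ψ F).map (IsLocalRing.residue (PowerSeries k)) ≠ 0 := fun h => by
    rw [h, PowerSeries.order_zero] at hord; exact ENat.top_ne_coe 2 hord
  obtain ⟨p, H, hW⟩ := PowerSeries.exists_isWeierstrassFactorization hne
  have hdeg : p.natDegree = 2 := by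
    rw [hW.natDegree_eq_toNat_order_map, hord]; rfl
  have hmem : ∀ i < 2, PowerSeries.constantCoeff (p.coeff i) = 0 := fun i hi => by
    have := hW.isDistinguishedAt.mem (hdeg ▸ hi)
    rwa [PowerSeries.maximalIdeal_eq_span_X, Ideal.mem_span_singleton, PowerSeries.X_dvd_iff] at this
  have hp : p = Polynomial.X ^ 2 + (Polynomial.C (p.coeff 1) * Polynomial.X + Polynomial.C (p.coeff 0)) := by
    conv_lhs => rw [hW.isDistinguishedAt.monic.as_sum, hdeg]
    rw [Finset.sum_range_succ, Finset.sum_range_one, pow_zero, mul_one, pow_one, add_comm (Polynomial.C (p.coeff 0))]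
  refine ⟨ι, p.coeff 1, p.coeff 0, Ψ.symm H, ?_, fun A => ?_, fun A => ?_, hmem 1 one_lt_two, hmem 0 two_pos,
    hW.isUnit.map Ψ.symm, ?_⟩
  · exact Ψ.injective (by rw [hι, hΨ0])
  · have := hcoef (ι A) 0 0
    rw [hι, PowerSeries.coeff_zero_C, single_zero, single_zero, zero_add, coeff_zero_eq_constantCoeff_apply,
      PowerSeries.coeff_zero_eq_constantCoeff_apply] at this
    exact this.symm
  · have := hcoef (ι A) 1 0
    rw [hι, PowerSeries.coeff_C, if_neg one_ne_zero, map_zero, single_zero, zero_add] at this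
    exact this.symm
  · apply Ψ.injective
    rw [map_mul, map_add, map_add, map_pow, map_mul, hι, hι, hΨ1, AlgEquiv.apply_symm_apply]
    conv_lhs => rw [hW.eq_mul, hp]
    simp only [Polynomial.coe_add, Polynomial.coe_pow, Polynomial.coe_X, Polynomial.coe_mul, Polynomial.coe_C]
    ring

theorem double_point [IsAlgClosed k] (h2 : (2 : k) ≠ 0) {F : P₂} (hF : constantCoeff F = 0)
    (h1 : coeff (single 1 1) F = 0) (hyy : coeff (single 1 2) F ≠ 0) :
    (∃ n, Nonempty ((P₂ ⧸ Ideal.span {F}) ≃ₐ[k] ArSing.ring k n)) ∨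
      Nonempty ((P₂ ⧸ Ideal.span {F}) ≃ₐ[k] (P₂ ⧸ Ideal.span {(X 1 : P₂) ^ 2})) := by
  obtain ⟨ι, α, β, H, hιX, hι0, hι1, hα, hβ, hH, hFe⟩ := exists_weierstrass hF h1 hyy
  set c : PowerSeries k := PowerSeries.C (2⁻¹ : k) with hc
  have hc2 : 2 * c = 1 := by
    rw [hc, ← map_ofNat (PowerSeries.C (R := k)) 2, ← map_mul, mul_inv_cancel₀ h2, map_one]
  set φ : PowerSeries k := (c * α) ^ 2 - β with hφ
  have hsq : X 1 ^ 2 + ι α * X 1 + ι β = (X 1 + ι (c * α)) ^ 2 - ι φ := by
    have : ι α = 2 * ι (c * α) := by rw [← map_ofNat ι 2, ← map_mul, ← mul_assoc, hc2, one_mul]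
    rw [this, hφ, map_sub, map_pow]; ring
  have hcα : PowerSeries.constantCoeff (c * α) = 0 := by rw [map_mul, hα, mul_zero]
  by_cases h0 : φ = 0
  · right
    refine exists_equiv_sq F (X 1 + ι (c * α)) H hH (by rw [hFe, hsq, h0, map_zero, sub_zero]) ?_ 1 ?_
    · simp [hι0, hα]
    · rw [map_add, hι1, coeff_index_single_X]; simp
  · left
    obtain ⟨m, v, hv⟩ := IsDiscreteValuationRing.eq_unit_mul_pow_irreducible h0 PowerSeries.X_irreducible
    have hm : m ≠ 0 := fun hm => by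
      have : PowerSeries.constantCoeff φ = 0 := by simp [hφ, hcα, hβ]
      rw [hv, hm, pow_zero, mul_one] at this
      exact not_isUnit_zero (this ▸ PowerSeries.isUnit_iff_constantCoeff.mp v.isUnit)
    obtain ⟨w, hw, hw0⟩ := ArS.exists_sqrt h2 (W := ((v⁻¹ : (PowerSeries k)ˣ) : PowerSeries k))
      (PowerSeries.isUnit_iff_constantCoeff.mp (Units.isUnit _)).ne_zero
    obtain ⟨σ, hs0, hs1⟩ := exists_equiv (X 0) (ι w * (X 1 + ι (c * α))) (constantCoeff_X 0)
      (by simp [hι0, hα]) (by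
        rw [H02CA.PS.coeff_single_mul _ _ (by simp [hι0, hα]), map_add, hι1, coeff_index_single_X,
          coeff_index_single_X, coeff_index_single_X, hι0]
        simpa using hw0)
    refine ⟨m - 1, iso_of_map σ ((v.isUnit.map ι).mul hH) ?_⟩
    rw [hFe, hsq, hv, ArSing.eqn, show m - 1 + 1 = m by omega]
    simp only [map_mul, map_pow, map_sub, hιX, hs0, hs1]
    have hvw : ι (v : PowerSeries k) * (ι w * ι w) = 1 := by rw [← map_mul, ← map_mul, hw, Units.mul_inv, map_one]
    linear_combination (X 1 + ι c * ι α) ^ 2 * H * hvw.symm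

theorem classify [IsAlgClosed k] (h2 : (2 : k) ≠ 0) {F : P₂} (hF : constantCoeff F = 0)
    (hd : ∃ d, d.degree < 3 ∧ coeff d F ≠ 0) :
    (∃ n, Nonempty ((P₂ ⧸ Ideal.span {F}) ≃ₐ[k] ArSing.ring k n)) ∨
      Nonempty ((P₂ ⧸ Ideal.span {F}) ≃ₐ[k] (P₂ ⧸ Ideal.span {(X 1 : P₂) ^ 2})) := by
  by_cases hl : ∃ i, coeff (single i 1) F ≠ 0
  · exact Or.inl ⟨0, iso_smooth hF hl⟩
  · simp only [not_exists, not_not] at hl
    obtain ⟨σ, a, b, c⟩ := exists_good_coords hF hl hd
    have e : (P₂ ⧸ Ideal.span {F}) ≃ₐ[k] (P₂ ⧸ Ideal.span {σ F}) :=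
      Ideal.quotientEquivAlg _ _ σ (by rw [Ideal.map_span, Set.image_singleton]; simp)
    rcases double_point h2 a b c with ⟨n, ⟨g⟩⟩ | g
    · exact Or.inl ⟨n, ⟨e.trans g⟩⟩
    · exact g.elim fun g => Or.inr ⟨e.trans g⟩

theorem normal_forms_low (n : ℕ) : ∃ d : Fin 2 →₀ ℕ, d.degree < 3 ∧ coeff d (ArSing.eqn k n) ≠ 0 := by
  rcases Nat.eq_zero_or_pos n with rfl | hn
  · refine ⟨single 0 1, by simp, ?_⟩
    simp [ArSing.eqn, coeff_X_pow, coeff_index_single_X, Finsupp.ext_iff, Fin.forall_fin_two]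
  · refine ⟨single 1 2, by simp, ?_⟩
    simp [ArSing.eqn, coeff_X_pow, Finsupp.ext_iff, Fin.forall_fin_two]

theorem second_derivs (a : Fin 2 → k) (f : MvPolynomial (Fin 2) k) (i j : Fin 2) :
    MvPolynomial.eval a (MvPolynomial.pderiv i (MvPolynomial.pderiv j f)) =
      coeff (single i 1 + single j 1) (τ a f) * ((single i 1 : Fin 2 →₀ ℕ) j + 1) := by
  rw [← constantCoeff_τ, ← pderiv_τ, ← pderiv_τ, ← coeff_zero_eq_constantCoeff_apply, MvPowerSeries.coeff_pderiv,
    MvPowerSeries.coeff_pderiv, zero_add]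
  simp

theorem first_derivs (a : Fin 2 → k) (f : MvPolynomial (Fin 2) k) (i : Fin 2) :
    MvPolynomial.eval a (MvPolynomial.pderiv i f) = coeff (single i 1) (τ a f) := by
  rw [← constantCoeff_τ, ← pderiv_τ, ← coeff_zero_eq_constantCoeff_apply, MvPowerSeries.coeff_pderiv, zero_add]
  simp

theorem main [IsAlgClosed k] (h2 : (2 : k) ≠ 0) (f : MvPolynomial (Fin 2) k) (a : Fin 2 → k)
    (hfa : MvPolynomial.eval a f = 0) :
    ((∀ i : Fin 2, MvPolynomial.eval a (MvPolynomial.pderiv i f) = 0) ∧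
      ∀ i j : Fin 2, MvPolynomial.eval a (MvPolynomial.pderiv i (MvPolynomial.pderiv j f)) = 0) ↔
    ¬ ((∃ n : ℕ, Nonempty ((P₂ ⧸ Ideal.span {τ a f}) ≃ₐ[k] ArSing.ring k n)) ∨
        Nonempty ((P₂ ⧸ Ideal.span {τ a f}) ≃ₐ[k] (P₂ ⧸ Ideal.span {(X 1 : P₂) ^ 2}))) := by
  have h0 : constantCoeff (τ a f) = 0 := by rw [constantCoeff_τ, hfa]
  simp only [second_derivs]
  simp only [first_derivs]
  constructor
  · rintro ⟨hl, hq⟩ hiso
    have hcube : τ a f ∈ H02CA.PS.vars (Fin 2) k ^ 3 := by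
      refine H02CA.PS.mem_pow_of_coeff fun d hd => ?_
      rcases degree_two_cases hd with rfl | ⟨i, rfl⟩ | rfl | rfl | rfl
      · simpa using h0
      · exact hl i
      · have := hq 0 0
        rw [← Finsupp.single_add] at this
        simpa [one_add_one_eq_two, h2] using this
      · simpa using hq 0 1
      · have := hq 1 1
        rw [← Finsupp.single_add] at this
        simpa [one_add_one_eq_two, h2] using this
    rcases hiso with ⟨n, ⟨e⟩⟩ | e
    · exact not_iso_of_cube hcube (normal_forms_low n) e.symm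
    · refine e.elim fun e => not_iso_of_cube hcube ⟨single 1 2, by simp, ?_⟩ e.symm
      simp [coeff_X_pow]
  · intro hno
    have hcube : ∀ d : Fin 2 →₀ ℕ, d.degree < 3 → coeff d (τ a f) = 0 := fun d hd =>
      Classical.byContradiction fun hne => hno (classify h2 h0 ⟨d, hd, hne⟩)
    exact ⟨fun i => hcube _ (by simp), fun i j => by rw [hcube _ (by simp), zero_mul]⟩

end Groth.Agent.H1CAlg.PlaneGerm
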