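import Mathlib.Algebra.Module.FinitePresentation
import Mathlib.LinearAlgebra.Dual.BaseChange
import Mathlib.RingTheory.Flat.Localization
import Mathlib.RingTheory.LocalProperties.Exactness
import Mathlib.RingTheory.Localization.BaseChange
import Groth.Agent.H1CAlg.DepthHom

/-!
Reflexive modules: base change along flat maps, localization.
-/

set_option autoImplicit false
universe u

open TensorProduct

namespace Groth.Agent.H1CAlg

variable {R : Type u} [CommRing R] (S : Type u) [CommRing S] [Algebra R S] [Module.Flat R S]
  (M : Type u) [AddCommGroup M] [Module R M]

theorem bijective_liftBaseChange_dual [Module.FinitePresentation R M] :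
    Function.Bijective ((Module.Dual.baseChange S : Module.Dual R M →ₗ[R] Module.Dual S (S ⊗[R] M)).liftBaseChange S) := by
  have h : (Module.Dual.baseChange S : Module.Dual R M →ₗ[R] Module.Dual S (S ⊗[R] M)).liftBaseChange S =
      ((LinearEquiv.refl S (S ⊗[R] M)).arrowCongr (TensorProduct.AlgebraTensorModule.rid R S S)).toLinearMap ∘ₗ
        (Module.FinitePresentation.isBaseChange_map R M R S).equiv.toLinearMap := by
    refine TensorProduct.AlgebraTensorModule.curry_injective (LinearMap.ext_ring (LinearMap.ext fun φ => ?_))
    simp [IsBaseChange.equiv_tmul, Module.Dual.baseChange]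
    rfl
  rw [h]
  exact ((LinearEquiv.refl S (S ⊗[R] M)).arrowCongr (TensorProduct.AlgebraTensorModule.rid R S S)).bijective.comp
    (Module.FinitePresentation.isBaseChange_map R M R S).equiv.bijective

/-- The evaluation map commutes with flat base change. -/
theorem eval_baseChange_bijective_iff [IsNoetherianRing R] [Module.Finite R M] :
    Module.IsReflexive S (S ⊗[R] M) ↔ Function.Bijective ((Module.Dual.eval R M).baseChange S) := by
  haveI : Module.FinitePresentation R M := Module.finitePresentation_of_finite _ _
  obtain ⟨n, m, f, g, hf, -⟩ := H4Depth.exists_dual_presentation (R := R) M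
  haveI : Module.Finite R (Module.Dual R M) := Module.Finite.of_injective f hf
  haveI : Module.FinitePresentation R (Module.Dual R M) := Module.finitePresentation_of_finite _ _
  let c := (Module.Dual.baseChange S : Module.Dual R M →ₗ[R] Module.Dual S (S ⊗[R] M)).liftBaseChange S
  let c' := (Module.Dual.baseChange S :
    Module.Dual R (Module.Dual R M) →ₗ[R] Module.Dual S (S ⊗[R] Module.Dual R M)).liftBaseChange S
  let e := LinearEquiv.ofBijective c (bijective_liftBaseChange_dual S M)
  have key : c.dualMap ∘ₗ Module.Dual.eval S (S ⊗[R] M) = c' ∘ₗ (Module.Dual.eval R M).baseChange S := by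
    refine TensorProduct.AlgebraTensorModule.curry_injective (LinearMap.ext_ring (LinearMap.ext fun x => ?_))
    refine TensorProduct.AlgebraTensorModule.curry_injective (LinearMap.ext_ring (LinearMap.ext fun φ => ?_))
    simp [c, c']
  have hb : Function.Bijective c.dualMap := e.dualMap.bijective
  constructor
  · intro h
    have := hb.comp h.bijective_dual_eval'
    rw [← LinearMap.coe_comp, key, LinearMap.coe_comp] at this
    exact ((bijective_liftBaseChange_dual S (Module.Dual R M)).of_comp_iff' _).mp this
  · intro h
    have := (bijective_liftBaseChange_dual S (Module.Dual R M)).comp h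
    rw [← LinearMap.coe_comp, ← key, LinearMap.coe_comp] at this
    exact ⟨(hb.of_comp_iff' _).mp this⟩

theorem isReflexive_baseChange [IsNoetherianRing R] [Module.Finite R M] [Module.IsReflexive R M] :
    Module.IsReflexive S (S ⊗[R] M) :=
  (eval_baseChange_bijective_iff S M).mpr
    (((Module.evalEquiv R M).baseChange R S M (Module.Dual R (Module.Dual R M))).bijective)

/-- The localization of a module as a base change. -/
noncomputable def localizedEquivTensor (T : Submonoid R) (M : Type u) [AddCommGroup M] [Module R M] :
    LocalizedModule T M ≃ₗ[Localization T] Localization T ⊗[R] M :=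
  (IsLocalizedModule.linearEquiv T (LocalizedModule.mkLinearMap T M)
    (TensorProduct.mk R (Localization T) M 1)).extendScalarsOfIsLocalization T (Localization T)

theorem localizedEquivTensor_comp_map (T : Submonoid R) {M N : Type u} [AddCommGroup M] [Module R M]
    [AddCommGroup N] [Module R N] (f : M →ₗ[R] N) (x : LocalizedModule T M) :
    localizedEquivTensor T N (LocalizedModule.map T f x) =
      f.baseChange (Localization T) (localizedEquivTensor T M x) := by
  refine LinearMap.congr_fun (f := ((localizedEquivTensor T N).toLinearMap.restrictScalars R) ∘ₗ
      ((LocalizedModule.map T f).restrictScalars R))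
    (g := ((f.baseChange (Localization T)).restrictScalars R) ∘ₗ
      ((localizedEquivTensor T M).toLinearMap.restrictScalars R)) ?_ x
  apply IsLocalizedModule.linearMap_ext T (LocalizedModule.mkLinearMap T M) (TensorProduct.mk R (Localization T) N 1)
  ext m
  simp [localizedEquivTensor, LocalizedModule.map_mk, IsLocalizedModule.linearEquiv_apply]
  erw [← LocalizedModule.mkLinearMap_apply (S := T), IsLocalizedModule.linearEquiv_apply,
    ← LocalizedModule.mkLinearMap_apply (S := T), IsLocalizedModule.linearEquiv_apply]
  rfl

theorem isReflexive_localizedModule_iff [IsNoetherianRing R] [Module.Finite R M] (T : Submonoid R) :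
    Module.IsReflexive (Localization T) (LocalizedModule T M) ↔
      Function.Bijective (LocalizedModule.map T (Module.Dual.eval R M)) := by
  have h1 : Module.IsReflexive (Localization T) (LocalizedModule T M) ↔
      Module.IsReflexive (Localization T) (Localization T ⊗[R] M) :=
    ⟨fun _ => Module.equiv (localizedEquivTensor T M), fun _ => Module.equiv (localizedEquivTensor T M).symm⟩
  haveI : Module.Flat R (Localization T) := IsLocalization.flat _ T
  rw [h1, eval_baseChange_bijective_iff]
  have hnat : (Module.Dual.eval R M).baseChange (Localization T) ∘ localizedEquivTensor T M =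
      localizedEquivTensor T _ ∘ LocalizedModule.map T (Module.Dual.eval R M) :=
    funext fun x => (localizedEquivTensor_comp_map T _ x).symm
  constructor
  · intro h
    have := h.comp (localizedEquivTensor T M).bijective
    rw [hnat] at this
    exact ((localizedEquivTensor T _).bijective.of_comp_iff' _).mp this
  · intro h
    have h2 := (localizedEquivTensor T _).bijective.comp h
    rw [← hnat] at h2
    exact (Function.Bijective.of_comp_iff _ (localizedEquivTensor T M).bijective).mp h2

theorem isReflexive_of_forall_maximal [IsNoetherianRing R] [Module.Finite R M]
    (h : ∀ (m : Ideal R) (_ : m.IsMaximal),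
      Module.IsReflexive (Localization.AtPrime m) (LocalizedModule m.primeCompl M)) : Module.IsReflexive R M :=
  ⟨bijective_of_localized_maximal _ fun J hJ => (isReflexive_localizedModule_iff M J.primeCompl).mp (h J hJ)⟩

theorem isReflexive_localizedModule [IsNoetherianRing R] [Module.Finite R M] [Module.IsReflexive R M]
    (T : Submonoid R) : Module.IsReflexive (Localization T) (LocalizedModule T M) := by
  haveI : Module.Flat R (Localization T) := IsLocalization.flat _ T
  haveI : Module.IsReflexive (Localization T) (Localization T ⊗[R] M) := isReflexive_baseChange (Localization T) M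
  exact Module.equiv (localizedEquivTensor T M).symm

end Groth.Agent.H1CAlg
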