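import Groth.Agent.H1CAlg.FPCompHom
import Mathlib.RingTheory.TensorProduct.MvPolynomial
import Mathlib.RingTheory.Finiteness.ModuleFinitePresentation
import Mathlib.RingTheory.LocalProperties.FinitePresentation
import Mathlib.RingTheory.IntegralClosure.IsIntegralClosure.Basic
import Mathlib.RingTheory.Localization.BaseChange
import Mathlib.RingTheory.Localization.Away.AdjoinRoot
import Mathlib.LinearAlgebra.TensorProduct.RightExactness
import Mathlib.LinearAlgebra.TensorProduct.Basis
import Mathlib.RingTheory.MvPolynomial.Basic

/-! Modules of finite presentation relative to a base ring. -/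

set_option autoImplicit false
universe u
open scoped TensorProduct

namespace Groth.Agent.H1CAlg

theorem fp_iff_of_finitePresentation_module {P F : Type u} [CommRing P] [CommRing F] [Algebra P F]
    [Module.FinitePresentation P F] (M : Type u) [AddCommGroup M] [Module P M] [Module F M] [IsScalarTower P F M] :
    Module.FinitePresentation F M ↔ Module.FinitePresentation P M := by
  constructor
  · intro h
    exact Module.FinitePresentation.trans (R := P) M F
  · intro h
    haveI : Module.Finite F M := Module.Finite.of_restrictScalars_finite P F M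
    obtain ⟨n, q, hq⟩ := Module.Finite.exists_fin' F M
    refine Module.finitePresentation_of_surjective q hq ?_
    exact Submodule.FG.of_restrictScalars P (Module.FinitePresentation.fg_ker (q.restrictScalars P) hq)

/-- `M` is finitely presented over some (equivalently any) polynomial presentation of `B` over `R`. -/
def RelFP (R B : Type u) [CommRing R] [CommRing B] [Algebra R B] (M : Type u) [AddCommGroup M] [Module B M] : Prop :=
  ∃ (n : ℕ) (α : MvPolynomial (Fin n) R →ₐ[R] B), Function.Surjective α ∧
    @Module.FinitePresentation (MvPolynomial (Fin n) R) M _ _ (Module.compHom M α.toRingHom)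

theorem relFP_iff {R B : Type u} [CommRing R] [CommRing B] [Algebra R B] (M : Type u) [AddCommGroup M] [Module B M]
    {P : Type u} [CommRing P] [Algebra R P] [Algebra.FinitePresentation R P]
    (π : P →ₐ[R] B) (hπ : Function.Surjective π) :
    RelFP R B M ↔ @Module.FinitePresentation P M _ _ (Module.compHom M π.toRingHom) := by
  obtain ⟨m, f, hf, hk⟩ := Algebra.FinitePresentation.out (R := R) (A := P)
  constructor
  · rintro ⟨n, α, hα, h⟩
    exact (fp_compHom_comp f.toRingHom hf hk π.toRingHom M).mpr
      (fp_compHom_presentation M α hα (π.comp f) (hπ.comp hf) h)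
  · intro h
    exact ⟨m, π.comp f, hπ.comp hf, (fp_compHom_comp f.toRingHom hf hk π.toRingHom M).mp h⟩

theorem RelFP.congr {R B : Type u} [CommRing R] [CommRing B] [Algebra R B] {M N : Type u} [AddCommGroup M]
    [Module B M] [AddCommGroup N] [Module B N] (e : M ≃ₗ[B] N) (h : RelFP R B M) : RelFP R B N := by
  obtain ⟨n, α, hα, h⟩ := h
  refine ⟨n, α, hα, ?_⟩
  letI : Module (MvPolynomial (Fin n) R) M := Module.compHom M α.toRingHom
  letI : Module (MvPolynomial (Fin n) R) N := Module.compHom N α.toRingHom
  haveI := h
  exact Module.FinitePresentation.of_equiv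
    ({ e.toAddEquiv with map_smul' := fun r m => map_smul e (α r) m } : M ≃ₗ[MvPolynomial (Fin n) R] N)

theorem RelFP.finitePresentation {R B : Type u} [CommRing R] [CommRing B] [Algebra R B] {M : Type u} [AddCommGroup M]
    [Module B M] (h : RelFP R B M) : Module.FinitePresentation B M := by
  obtain ⟨n, α, hα, h⟩ := h
  exact fp_of_fp_compHom α.toRingHom hα M h

theorem fp_mvPolynomial_tensor {P A : Type u} [CommRing P] [CommRing A] [Algebra P A] {σ : Type}
    (M : Type u) [AddCommGroup M] [Module A M] [Module P M] [IsScalarTower P A M] [Module.FinitePresentation P M] :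
    @Module.FinitePresentation (MvPolynomial σ P) (MvPolynomial σ A ⊗[A] M) _ _
      (Module.compHom _ (MvPolynomial.map (algebraMap P A))) := by
  classical
  let f : MvPolynomial σ P →+* MvPolynomial σ A := MvPolynomial.map (algebraMap P A)
  let e1 := TensorProduct.equivFinsuppOfBasisLeft (MvPolynomial.basisMonomials σ P) (N := M)
  let e2 := TensorProduct.equivFinsuppOfBasisLeft (MvPolynomial.basisMonomials σ A) (N := M)
  let ε : MvPolynomial σ P ⊗[P] M ≃+ MvPolynomial σ A ⊗[A] M := e1.toAddEquiv.trans e2.symm.toAddEquiv
  have key : ∀ (q : MvPolynomial σ P) (m : M), ε (q ⊗ₜ[P] m) = f q ⊗ₜ[A] m := by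
    intro q m
    show e2.symm (e1 (q ⊗ₜ[P] m)) = _
    rw [LinearEquiv.symm_apply_eq]
    ext d
    simp only [e1, e2, TensorProduct.equivFinsuppOfBasisLeft_apply_tmul_apply]
    show MvPolynomial.coeff d q • m = MvPolynomial.coeff d (f q) • m
    rw [MvPolynomial.coeff_map, algebraMap_smul]
  letI : Module (MvPolynomial σ P) (MvPolynomial σ A ⊗[A] M) := Module.compHom _ f
  have hlin : ∀ (p : MvPolynomial σ P) (z : MvPolynomial σ P ⊗[P] M), ε (p • z) = p • ε z := by
    intro p z
    induction z using TensorProduct.induction_on with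
    | zero => rw [smul_zero, map_zero, smul_zero]
    | add x y hx hy => rw [smul_add, map_add, map_add, smul_add, hx, hy]
    | tmul q m =>
      rw [TensorProduct.smul_tmul', smul_eq_mul, key, key]
      show _ = f p • (f q ⊗ₜ[A] m)
      rw [TensorProduct.smul_tmul', smul_eq_mul, map_mul]
  exact Module.FinitePresentation.of_equiv (M := MvPolynomial σ P ⊗[P] M)
    ({ ε with map_smul' := hlin } : MvPolynomial σ P ⊗[P] M ≃ₗ[MvPolynomial σ P] MvPolynomial σ A ⊗[A] M)

theorem fp_quotient_tensor {A A1 A' P' : Type u} [CommRing A] [CommRing A1] [CommRing A'] [CommRing P']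
    [Algebra A A1] [Algebra A A'] (M : Type u) [AddCommGroup M] [Module A M] (δ : A1 →ₐ[A] A')
    (hδ : Function.Surjective δ) (hJ : (RingHom.ker δ.toRingHom).FG) (f : P' →+* A1) (hf : Function.Surjective f)
    (h : @Module.FinitePresentation P' (A1 ⊗[A] M) _ _ (Module.compHom _ f)) :
    @Module.FinitePresentation P' (A' ⊗[A] M) _ _ (Module.compHom _ (δ.toRingHom.comp f)) := by
  letI : Algebra P' A1 := f.toAlgebra
  letI : Algebra A1 A' := δ.toRingHom.toAlgebra
  haveI : IsScalarTower A A1 A' := IsScalarTower.of_algebraMap_eq fun a => (δ.commutes a).symm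
  letI : Algebra P' A' := (δ.toRingHom.comp f).toAlgebra
  haveI : IsScalarTower P' A1 A' := IsScalarTower.of_algebraMap_eq fun _ => rfl
  haveI : Module.FinitePresentation P' (A1 ⊗[A] M) := by
    convert h using 1
    refine Module.ext' _ _ fun p z => ?_
    first
      | exact algebraMap_smul A1 p z
      | exact (algebraMap_smul A1 p z).symm
  let Ψ : (A1 ⊗[A] M) →ₗ[A1] (A' ⊗[A] M) :=
    TensorProduct.AlgebraTensorModule.map (Algebra.linearMap A1 A') (LinearMap.id : M →ₗ[A] M)
  have hΨ : Function.Surjective Ψ := by
    intro z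
    induction z using TensorProduct.induction_on with
    | zero => exact ⟨0, map_zero _⟩
    | add x y hx hy =>
      obtain ⟨x', rfl⟩ := hx
      obtain ⟨y', rfl⟩ := hy
      exact ⟨x' + y', map_add _ _ _⟩
    | tmul a m =>
      obtain ⟨p, rfl⟩ := hδ a
      exact ⟨p ⊗ₜ m, rfl⟩
  have hker : LinearMap.ker Ψ = RingHom.ker δ.toRingHom • (⊤ : Submodule A1 (A1 ⊗[A] M)) := by
    refine le_antisymm (fun z hz => ?_) ?_
    · let J := LinearMap.ker δ.toLinearMap
      have hex := rTensor_exact M (LinearMap.exact_subtype_ker_map δ.toLinearMap) hδ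
      obtain ⟨y, rfl⟩ := (hex z).mp (show δ.toLinearMap.rTensor M z = 0 from hz)
      clear hz
      induction y using TensorProduct.induction_on with
      | zero => rw [map_zero]; exact zero_mem _
      | add x y hx hy => rw [map_add]; exact add_mem hx hy
      | tmul j m =>
        rw [LinearMap.rTensor_tmul, ← mul_one (J.subtype j), ← smul_eq_mul, ← TensorProduct.smul_tmul']
        exact Submodule.smul_mem_smul j.2 Submodule.mem_top
    · refine Submodule.smul_le.mpr fun j hj z _ => ?_
      rw [LinearMap.mem_ker, map_smul]
      generalize Ψ z = w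
      induction w using TensorProduct.induction_on with
      | zero => exact smul_zero j
      | add x y hx hy => rw [smul_add, hx, hy, add_zero]
      | tmul a m =>
        rw [TensorProduct.smul_tmul', Algebra.smul_def, show algebraMap A1 A' j = 0 from hj, zero_mul,
          TensorProduct.zero_tmul]
  haveI : Module.Finite A1 (A1 ⊗[A] M) := Module.Finite.of_restrictScalars_finite P' A1 (A1 ⊗[A] M)
  have hfg : (RingHom.ker δ.toRingHom • (⊤ : Submodule A1 (A1 ⊗[A] M))).FG := Submodule.FG.smul hJ Module.Finite.fg_top
  haveI hfp : Module.FinitePresentation P' (A' ⊗[A] M) := by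
    refine Module.finitePresentation_of_surjective (Ψ.restrictScalars P') hΨ ?_
    rw [LinearMap.ker_restrictScalars, hker]
    exact hfg.restrictScalars_of_surjective hf
  convert hfp using 1
  refine Module.ext' _ _ fun p z => ?_
  first
    | exact algebraMap_smul A' p z
    | exact (algebraMap_smul A' p z).symm

theorem RelFP.baseChange {R A A' : Type u} [CommRing R] [CommRing A] [CommRing A'] [Algebra R A] [Algebra A A']
    [Algebra R A'] [IsScalarTower R A A'] [Algebra.FinitePresentation A A'] {M : Type u} [AddCommGroup M]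
    [Module A M] (h : RelFP R A M) : RelFP R A' (A' ⊗[A] M) := by
  obtain ⟨n, α, hα, hM⟩ := h
  obtain ⟨b, δ, hδ, hJ⟩ := Algebra.FinitePresentation.out (R := A) (A := A')
  letI : Algebra (MvPolynomial (Fin n) R) A := α.toRingHom.toAlgebra
  letI : Module (MvPolynomial (Fin n) R) M := Module.compHom M α.toRingHom
  haveI : IsScalarTower (MvPolynomial (Fin n) R) A M := IsScalarTower.of_algebraMap_smul fun _ _ => rfl
  haveI := hM
  have h1 := fp_mvPolynomial_tensor (P := MvPolynomial (Fin n) R) (A := A) (σ := Fin b) M
  have hsurj : Function.Surjective (MvPolynomial.map (σ := Fin b) α.toRingHom) :=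
    MvPolynomial.map_surjective α.toRingHom hα
  have h2 := fp_quotient_tensor M δ hδ hJ _ hsurj h1
  let π : MvPolynomial (Fin b) (MvPolynomial (Fin n) R) →ₐ[R] A' :=
    { δ.toRingHom.comp (MvPolynomial.map α.toRingHom) with
      commutes' := fun r => by
        show δ (MvPolynomial.map α.toRingHom (algebraMap R (MvPolynomial (Fin b) (MvPolynomial (Fin n) R)) r)) = _
        rw [IsScalarTower.algebraMap_apply R (MvPolynomial (Fin n) R) (MvPolynomial (Fin b) (MvPolynomial (Fin n) R)),
          MvPolynomial.algebraMap_eq, MvPolynomial.map_C, IsScalarTower.algebraMap_apply R A A']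
        show δ (MvPolynomial.C (α (algebraMap R _ r))) = _
        rw [α.commutes]
        exact δ.commutes _ }
  exact (relFP_iff (A' ⊗[A] M) π (hδ.comp hsurj)).mpr h2

theorem fp_of_integral {P F : Type u} [CommRing P] [CommRing F] [Algebra P F] [Algebra.FinitePresentation P F]
    [Algebra.IsIntegral P F] : Module.FinitePresentation P F := by
  haveI : Module.Finite P F := Algebra.IsIntegral.finite
  exact Module.FinitePresentation.of_finite_of_finitePresentation P F

theorem relFP_iff_of_finite {R A B : Type u} [CommRing R] [CommRing A] [CommRing B] [Algebra R A] [Algebra A B]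
    [Algebra R B] [IsScalarTower R A B] [Algebra.FiniteType R B] [Module.Finite A B]
    (M : Type u) [AddCommGroup M] [Module B M] [Module A M] [IsScalarTower A B M] {n : ℕ}
    (α : MvPolynomial (Fin n) R →ₐ[R] A) (hα : Function.Surjective α) :
    RelFP R A M ↔ RelFP R B M := by
  let P := MvPolynomial (Fin n) R
  rw [relFP_iff M α hα]
  letI : Module P M := Module.compHom M α.toRingHom
  letI : Algebra P A := α.toRingHom.toAlgebra
  letI : Algebra P B := ((IsScalarTower.toAlgHom R A B).comp α).toRingHom.toAlgebra
  haveI : IsScalarTower P A B := IsScalarTower.of_algebraMap_eq fun _ => rfl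
  haveI : IsScalarTower R P B := IsScalarTower.of_algebraMap_eq fun r =>
    (((IsScalarTower.toAlgHom R A B).comp α).commutes r).symm
  haveI : IsScalarTower P B M := IsScalarTower.of_algebraMap_smul fun p m => algebraMap_smul B (α p) m
  haveI : Module.Finite P A := Module.Finite.of_surjective (Algebra.linearMap P A) hα
  haveI : Module.Finite P B := Module.Finite.trans A B
  obtain ⟨k, g, hg⟩ := (Algebra.FiniteType.iff_quotient_mvPolynomial'' (R := R) (S := B)).mp ‹_›
  choose q hqm hqe using fun j : Fin k => Algebra.IsIntegral.isIntegral (R := P) (g (MvPolynomial.X j))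
  let P' := MvPolynomial (Fin k) P
  let J : Ideal P' := Ideal.span (Set.range fun j => Polynomial.aeval (MvPolynomial.X j : P') (q j))
  let π0 : P' →ₐ[P] B := MvPolynomial.aeval fun j => g (MvPolynomial.X j)
  let π : P' ⧸ J →ₐ[P] B := Ideal.Quotient.liftₐ J π0 (by
    intro a ha
    refine (Ideal.span_le.mpr ?_ : J ≤ RingHom.ker π0) ha
    rintro _ ⟨j, rfl⟩
    rw [SetLike.mem_coe, RingHom.mem_ker, ← Polynomial.aeval_algHom_apply, MvPolynomial.aeval_X]
    exact hqe j)
  have hπ : Function.Surjective π := by
    intro x
    obtain ⟨p, rfl⟩ := hg x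
    refine ⟨Ideal.Quotient.mk J (MvPolynomial.map (algebraMap R P) p), ?_⟩
    show π0 (MvPolynomial.map (algebraMap R P) p) = g p
    rw [MvPolynomial.aeval_map_algebraMap]
    exact (AlgHom.congr_fun (MvPolynomial.aeval_unique g) p).symm
  have hJ : J.FG := Submodule.fg_span (Set.finite_range _)
  haveI : Algebra.FinitePresentation P (P' ⧸ J) := Algebra.FinitePresentation.quotient hJ
  haveI : Algebra.FinitePresentation R (P' ⧸ J) := Algebra.FinitePresentation.trans R P (P' ⧸ J)
  haveI : Algebra.IsIntegral P (P' ⧸ J) := by
    refine ⟨fun x => ?_⟩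
    obtain ⟨p, rfl⟩ := Ideal.Quotient.mk_surjective x
    induction p using MvPolynomial.induction_on with
    | C a => exact isIntegral_algebraMap (R := P) (A := P' ⧸ J) (x := a)
    | add p q hp hq => rw [map_add]; exact (integralClosure P (P' ⧸ J)).add_mem hp hq
    | mul_X p j hp =>
      rw [map_mul]
      refine (integralClosure P (P' ⧸ J)).mul_mem hp ⟨q j, hqm j, ?_⟩
      show Polynomial.aeval (Ideal.Quotient.mkₐ P J (MvPolynomial.X j)) (q j) = 0
      rw [Polynomial.aeval_algHom_apply]
      exact Ideal.Quotient.eq_zero_iff_mem.mpr (Ideal.subset_span ⟨j, rfl⟩)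
  haveI hFP := fp_of_integral (P := P) (F := P' ⧸ J)
  rw [relFP_iff (R := R) (B := B) M (P := P' ⧸ J) (π.restrictScalars R) hπ]
  letI : Module (P' ⧸ J) M := Module.compHom M π.toRingHom
  haveI : IsScalarTower P (P' ⧸ J) M := ⟨fun p x m => by
    show π (p • x) • m = p • (π x • m)
    rw [map_smul, smul_assoc]⟩
  exact (fp_iff_of_finitePresentation_module (P := P) (F := P' ⧸ J) M).symm

theorem RelFP.localizationAway {R A : Type u} [CommRing R] [CommRing A] [Algebra R A] {M : Type u} [AddCommGroup M]
    [Module A M] (h : RelFP R A M) (g : A) :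
    RelFP R (Localization.Away g) (LocalizedModule (Submonoid.powers g) M) := by
  haveI : Algebra.FinitePresentation A (Localization.Away g) := IsLocalization.Away.finitePresentation g
  exact (h.baseChange (A' := Localization.Away g)).congr
    (((isLocalizedModule_iff_isBaseChange (Submonoid.powers g) (Localization.Away g)
      (LocalizedModule.mkLinearMap (Submonoid.powers g) M)).mp inferInstance).equiv)

theorem relFP_of_localizationAway {R A : Type u} [CommRing R] [CommRing A] [Algebra R A] {n : ℕ}
    (α : MvPolynomial (Fin n) R →ₐ[R] A) (hα : Function.Surjective α) (M : Type u) [AddCommGroup M] [Module A M]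
    {r : ℕ} (f : Fin r → A) (hf : Ideal.span (Set.range f) = ⊤)
    (h : ∀ i, RelFP R (Localization.Away (f i)) (LocalizedModule (Submonoid.powers (f i)) M)) :
    RelFP R A M := by
  let P := MvPolynomial (Fin n) R
  rw [relFP_iff M α hα]
  letI : Algebra P A := α.toRingHom.toAlgebra
  letI : Module P M := Module.compHom M α.toRingHom
  haveI : IsScalarTower P A M := IsScalarTower.of_algebraMap_smul fun _ _ => rfl
  choose F hF using fun i => hα (f i)
  have hspan : Ideal.span (Set.range F) ⊔ RingHom.ker α.toRingHom = ⊤ := by
    rw [eq_top_iff, ← Ideal.comap_top (f := α.toRingHom), ← hf,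
      show Set.range f = α.toRingHom '' Set.range F by rw [← Set.range_comp]; exact congrArg Set.range (funext fun i => (hF i).symm),
      ← Ideal.map_span, Ideal.comap_map_of_surjective α.toRingHom hα, ← RingHom.ker_eq_comap_bot]
  obtain ⟨a, ha, u, hu, hau⟩ := Submodule.mem_sup.mp ((Ideal.eq_top_iff_one _).mp hspan)
  refine Module.FinitePresentation.of_localizationSpan (insert u (Set.range F)) ?_ ?_
  · rw [Ideal.span_insert, Ideal.eq_top_iff_one, ← hau, add_comm a u]
    exact Submodule.add_mem_sup (Ideal.mem_span_singleton_self u) ha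
  rintro ⟨g, hg⟩
  rcases hg with rfl | ⟨i, rfl⟩
  · haveI : Subsingleton (LocalizedModule (Submonoid.powers g) M) :=
      LocalizedModule.subsingleton_iff.mpr fun m => ⟨g, Submonoid.mem_powers g, by
        show α g • m = 0
        rw [show α g = 0 from hu, zero_smul]⟩
    exact Module.finitePresentation_of_projective _ _
  · dsimp only
    set Ai := Localization.Away (f i)
    set Mi := LocalizedModule (Submonoid.powers (f i)) M
    set PF := Localization.Away (F i)
    letI : Algebra PF Ai := (IsLocalization.Away.lift (F i) (g := algebraMap P Ai) (by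
      rw [IsScalarTower.algebraMap_apply P A Ai, show algebraMap P A (F i) = f i from hF i]
      exact IsLocalization.Away.algebraMap_isUnit (f i))).toAlgebra
    haveI : IsScalarTower P PF Ai := IsScalarTower.of_algebraMap_eq fun p =>
      (IsLocalization.Away.lift_eq (F i) _ p).symm
    haveI : IsScalarTower R PF Ai := IsScalarTower.of_algebraMap_eq fun r => by
      rw [IsScalarTower.algebraMap_apply R P PF, ← IsScalarTower.algebraMap_apply P PF Ai,
        ← IsScalarTower.algebraMap_apply R P Ai]
    have hsurj : Function.Surjective (algebraMap PF Ai) := by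
      intro x
      obtain ⟨y, ⟨_, k, rfl⟩, rfl⟩ := IsLocalization.exists_mk'_eq (Submonoid.powers (f i)) x
      obtain ⟨p, rfl⟩ := hα y
      refine ⟨IsLocalization.mk' PF p (⟨F i ^ k, k, rfl⟩ : Submonoid.powers (F i)), ?_⟩
      rw [eq_comm, IsLocalization.mk'_eq_iff_eq_mul]
      have e : (algebraMap A Ai) (f i ^ k) = algebraMap PF Ai (algebraMap P PF (F i ^ k)) := by
        rw [← IsScalarTower.algebraMap_apply P PF Ai, IsScalarTower.algebraMap_apply P A Ai,
          map_pow (algebraMap P A), show algebraMap P A (F i) = f i from hF i]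
      rw [e, ← map_mul, IsLocalization.mk'_spec, ← IsScalarTower.algebraMap_apply P PF Ai,
        IsScalarTower.algebraMap_apply P A Ai]
      rfl
    haveI : Algebra.FinitePresentation P PF := IsLocalization.Away.finitePresentation (F i)
    haveI : Algebra.FinitePresentation R PF := Algebra.FinitePresentation.trans R P PF
    have h' := (relFP_iff Mi (IsScalarTower.toAlgHom R PF Ai) hsurj).mp (h i)
    letI : Module PF Mi := Module.compHom Mi (IsScalarTower.toAlgHom R PF Ai).toRingHom
    haveI : IsScalarTower P PF Mi := IsScalarTower.of_algebraMap_smul fun p z => by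
      show algebraMap PF Ai (algebraMap P PF p) • z = p • z
      rw [← IsScalarTower.algebraMap_apply P PF Ai, IsScalarTower.algebraMap_apply P A Ai, algebraMap_smul,
        algebraMap_smul]
    let ϕ : M →ₗ[P] Mi := (LocalizedModule.mkLinearMap (Submonoid.powers (f i)) M).restrictScalars P
    have hpow : ∀ k : ℕ, algebraMap P A (F i ^ k) = f i ^ k := fun k => by
      rw [map_pow, show algebraMap P A (F i) = f i from hF i]
    haveI : IsLocalizedModule (Submonoid.powers (F i)) ϕ := by
      refine { map_units := ?_, surj := ?_, exists_of_eq := ?_ }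
      · rintro ⟨_, k, rfl⟩
        rw [Module.End.isUnit_iff]
        have := (Module.End.isUnit_iff _).mp
          (IsLocalizedModule.map_units (LocalizedModule.mkLinearMap (Submonoid.powers (f i)) M) (⟨f i ^ k, Submonoid.pow_mem _ (Submonoid.mem_powers (f i)) k⟩ : Submonoid.powers (f i)))
        convert this using 1
        funext z
        show (F i ^ k : P) • z = (f i ^ k) • z
        rw [← hpow, algebraMap_smul]
      · intro y
        obtain ⟨⟨m, ⟨_, k, rfl⟩⟩, hm⟩ := IsLocalizedModule.surj (Submonoid.powers (f i))
          (LocalizedModule.mkLinearMap (Submonoid.powers (f i)) M) y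
        refine ⟨⟨m, ⟨F i ^ k, k, rfl⟩⟩, ?_⟩
        refine Eq.trans ?_ hm
        show (F i ^ k : P) • y = (f i ^ k) • y
        rw [← hpow, algebraMap_smul]
      · intro m₁ m₂ hm
        obtain ⟨⟨_, k, rfl⟩, hk⟩ := IsLocalizedModule.exists_of_eq (S := Submonoid.powers (f i))
          (f := LocalizedModule.mkLinearMap (Submonoid.powers (f i)) M) hm
        refine ⟨⟨F i ^ k, k, rfl⟩, ?_⟩
        show (F i ^ k : P) • m₁ = (F i ^ k : P) • m₂
        rw [← algebraMap_smul A, hpow, ← algebraMap_smul A (F i ^ k) m₂, hpow]
        exact hk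
    haveI := h'
    exact Module.FinitePresentation.of_equiv
      ((IsLocalizedModule.iso (Submonoid.powers (F i)) ϕ).extendScalarsOfIsLocalization (Submonoid.powers (F i)) PF).symm

end Groth.Agent.H1CAlg
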