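import Groth.Agent.H28Top.Components
import Mathlib.Topology.Spectral.Basic
import Mathlib.Topology.Spectral.Hom
import Mathlib.Topology.Separation.Profinite
import Mathlib.Topology.Connected.Separation

/-!
Pullback of a spectral space along a map of a profinite space to its components.
-/

namespace Groth.Agent.H1CAlg.SpecPull

universe u

open Topology Set TopologicalSpace

variable {X T : Type u} [TopologicalSpace X] [TopologicalSpace T] [CompactSpace T] [T2Space T]
  [TotallyDisconnectedSpace T]

/-- The pullback. -/
abbrev Pull (g : C(T, ConnectedComponents X)) : Set (X × T) :=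
  {p : X × T | ConnectedComponents.mk p.1 = g p.2}

theorem t2Space_connectedComponents (X : Type u) [TopologicalSpace X] [SpectralSpace X] :
    T2Space (ConnectedComponents X) := by
  refine ⟨fun c d hne => ?_⟩
  obtain ⟨x, rfl⟩ := ConnectedComponents.surjective_coe c
  obtain ⟨y, rfl⟩ := ConnectedComponents.surjective_coe d
  have hy : y ∉ connectedComponent x := fun h => hne (ConnectedComponents.coe_eq_coe'.2 h).symm
  rw [H28Top.connectedComponent_eq_sInter_isClopen, Set.mem_sInter] at hy
  push_neg at hy
  obtain ⟨Z, ⟨hZ, hxZ⟩, hyZ⟩ := hy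
  have hopen : ∀ U : Set X, IsClopen U → IsOpen (ConnectedComponents.mk '' U) := fun U hU => by
    rw [← ConnectedComponents.isQuotientMap_coe.isOpen_preimage,
      connectedComponents_preimage_image, hU.biUnion_connectedComponent_eq]
    exact hU.isOpen
  refine ⟨ConnectedComponents.mk '' Z, ConnectedComponents.mk '' Zᶜ, hopen _ hZ, hopen _ hZ.compl,
    ⟨x, hxZ, rfl⟩, ⟨y, hyZ, rfl⟩, ?_⟩
  rw [Set.disjoint_left]
  rintro c ⟨a, ha, rfl⟩ ⟨b, hb, hab⟩
  exact hb (hZ.connectedComponent_subset ha (ConnectedComponents.coe_eq_coe'.1 hab))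

theorem isClosed_pull [SpectralSpace X] (g : C(T, ConnectedComponents X)) : IsClosed (Pull g) := by
  haveI := t2Space_connectedComponents X
  exact isClosed_eq (ConnectedComponents.continuous_coe.comp continuous_fst)
    (g.continuous.comp continuous_snd)

theorem isTopologicalBasis_prod [SpectralSpace X] :
    IsTopologicalBasis (Set.range fun p : {U : Set X // IsOpen U ∧ IsCompact U} × {W : Set T // IsClopen W} =>
      (p.1.1 ×ˢ p.2.1 : Set (X × T))) := by
  have h := (PrespectralSpace.isTopologicalBasis (X := X)).prod (isTopologicalBasis_isClopen (X := T))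
  convert! h using 1
  ext s
  constructor
  · rintro ⟨⟨U, W⟩, rfl⟩
    exact ⟨U.1, U.2, W.1, W.2, rfl⟩
  · rintro ⟨U, hU, W, hW, rfl⟩
    exact ⟨(⟨U, hU⟩, ⟨W, hW⟩), rfl⟩

theorem spectralSpace_pull [SpectralSpace X] (g : C(T, ConnectedComponents X)) :
    SpectralSpace (Pull g) := by
  have hcl := isClosed_pull g
  have hemb : IsClosedEmbedding (Subtype.val : Pull g → X × T) := hcl.isClosedEmbedding_subtypeVal
  haveI : CompactSpace (Pull g) := isCompact_iff_compactSpace.1 hcl.isCompact
  haveI : QuasiSober (X × T) := by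
    refine ⟨fun {S} hS hSc => ?_⟩
    have h2 : (Prod.snd '' S).Subsingleton :=
      (isPreirreducible_iff_subsingleton).1 (hS.image Prod.snd continuous_snd.continuousOn).2
    obtain ⟨⟨a, t⟩, hat⟩ := hS.1
    have ht : ∀ p ∈ S, p.2 = t := fun p hp => h2 ⟨p, hp, rfl⟩ ⟨_, hat, rfl⟩
    let F : Set X := {x | (x, t) ∈ S}
    have hF : Prod.fst '' S = F := by
      ext x
      constructor
      · rintro ⟨⟨x', t'⟩, hp, rfl⟩
        have := ht _ hp
        simp only at this
        subst this
        exact hp
      · exact fun hx => ⟨_, hx, rfl⟩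
    have hFc : IsClosed F := hSc.preimage (continuous_id.prodMk continuous_const)
    obtain ⟨ξ, hξ⟩ := QuasiSober.sober (hF ▸ hS.image Prod.fst continuous_fst.continuousOn) hFc
    refine ⟨(ξ, t), ?_⟩
    rw [isGenericPoint_def, ← Set.singleton_prod_singleton, closure_prod_eq, hξ.def, closure_singleton]
    ext ⟨x, t'⟩
    constructor
    · rintro ⟨hx, ht'⟩
      rw [Set.mem_singleton_iff] at ht'
      subst ht'
      exact hx
    · intro hp
      have := ht _ hp
      simp only at this
      subst this
      exact ⟨hp, rfl⟩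
  haveI : PrespectralSpace (X × T) :=
    .of_isTopologicalBasis' isTopologicalBasis_prod fun p => p.1.2.2.prod p.2.2.isClosed.isCompact
  haveI : QuasiSeparatedSpace (X × T) := by
    refine QuasiSeparatedSpace.of_isTopologicalBasis isTopologicalBasis_prod fun p q => ?_
    rw [Set.prod_inter_prod]
    exact (p.1.2.2.inter_of_isOpen q.1.2.2 p.1.2.1 q.1.2.1).prod
      (p.2.2.inter q.2.2).isClosed.isCompact
  haveI := hemb.isEmbedding.t0Space
  haveI := hemb.quasiSober
  haveI : PrespectralSpace (Pull g) := PrespectralSpace.of_isClosedEmbedding _ hemb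
  haveI : QuasiSeparatedSpace (Pull g) := by
    refine QuasiSeparatedSpace.of_isTopologicalBasis
      (b := fun p : {U : Set X // IsOpen U ∧ IsCompact U} × {W : Set T // IsClopen W} =>
        (Subtype.val ⁻¹' (p.1.1 ×ˢ p.2.1) : Set (Pull g))) ?_ fun p q => ?_
    · convert! (isTopologicalBasis_prod (X := X) (T := T)).isInducing hemb.isInducing using 1
      rw [← Set.range_comp]
      rfl
    · rw [← Set.preimage_inter, Set.prod_inter_prod]
      exact hemb.isCompact_preimage ((p.1.2.2.inter_of_isOpen q.1.2.2 p.1.2.1 q.1.2.1).prod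
        (p.2.2.inter q.2.2).isClosed.isCompact)
  exact { }

theorem exists_homeomorph [SpectralSpace X] (g : C(T, ConnectedComponents X)) :
    ∃ e : ConnectedComponents (Pull g) ≃ₜ T,
      ∀ y : Pull g, e (ConnectedComponents.mk y) = y.1.2 := by
  haveI : CompactSpace (Pull g) := isCompact_iff_compactSpace.1 (isClosed_pull g).isCompact
  have hc : Continuous (fun y : Pull g => y.1.2) := continuous_snd.comp continuous_subtype_val
  let e₀ : ConnectedComponents (Pull g) → T := hc.connectedComponentsLift
  have he₀ : ∀ y, e₀ (ConnectedComponents.mk y) = y.1.2 := fun y =>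
    hc.connectedComponentsLift_apply_coe y
  have hbij : Function.Bijective e₀ := by
    refine ⟨fun c d hcd => ?_, fun t => ?_⟩
    · obtain ⟨⟨⟨x, t⟩, hy⟩, rfl⟩ := ConnectedComponents.surjective_coe c
      obtain ⟨⟨⟨x', t'⟩, hy'⟩, rfl⟩ := ConnectedComponents.surjective_coe d
      change e₀ (ConnectedComponents.mk _) = e₀ (ConnectedComponents.mk _) at hcd
      rw [he₀, he₀] at hcd
      simp only at hcd
      subst hcd
      have hmem : ∀ z ∈ connectedComponent x, ConnectedComponents.mk z = g t := fun z hz =>
        (ConnectedComponents.coe_eq_coe'.2 hz).trans hy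
      let ι : connectedComponent x → Pull g := fun z => ⟨(z.1, t), hmem z.1 z.2⟩
      have hι : Continuous ι := (continuous_subtype_val.prodMk continuous_const).subtype_mk _
      haveI : PreconnectedSpace (connectedComponent x) :=
        Subtype.preconnectedSpace isPreconnected_connectedComponent
      have hx' : x' ∈ connectedComponent x :=
        ConnectedComponents.coe_eq_coe'.1 (hy'.trans hy.symm)
      refine (ConnectedComponents.coe_eq_coe'.2 ?_).symm
      exact (isPreconnected_range hι).subset_connectedComponent ⟨⟨x, mem_connectedComponent⟩, rfl⟩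
        ⟨⟨x', hx'⟩, rfl⟩
    · obtain ⟨x, hx⟩ := ConnectedComponents.surjective_coe (g t)
      exact ⟨ConnectedComponents.mk (⟨(x, t), hx⟩ : Pull g), he₀ _⟩
  exact ⟨Continuous.homeoOfEquivCompactToT2 (f := Equiv.ofBijective e₀ hbij)
    hc.connectedComponentsLift_continuous, he₀⟩

end Groth.Agent.H1CAlg.SpecPull
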