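import Mathlib.LinearAlgebra.Finsupp.LinearCombination
import Mathlib.LinearAlgebra.Finsupp.SumProd
import Mathlib.LinearAlgebra.Finsupp.Pi
import Mathlib.SetTheory.Cardinal.Arithmetic
import Mathlib.LinearAlgebra.Prod
import Mathlib.Logic.Equiv.Nat

/-! The Eilenberg swindle for direct summands of free modules. -/

set_option autoImplicit false
universe u

namespace Groth.Agent.H1CAlg

theorem swindle {R : Type u} [CommRing R] {P Q : Type u} [AddCommGroup P] [Module R P]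
    [AddCommGroup Q] [Module R Q] {ι : Type u} [Infinite ι] (e : (P × Q) ≃ₗ[R] (ι →₀ R)) :
    Nonempty ((P × (ι →₀ R)) ≃ₗ[R] (ι →₀ R)) := by
  obtain ⟨σ⟩ : Nonempty (ℕ × ι ≃ ι) := by
    rw [← Cardinal.lift_mk_eq'.{_, u}]
    simp [Cardinal.mk_eq_aleph0, Cardinal.aleph0_mul_eq]
  let eP : (ℕ →₀ (P × Q)) ≃ₗ[R] (ℕ →₀ P) × (ℕ →₀ Q) :=
    { toFun := fun f => (f.mapRange Prod.fst rfl, f.mapRange Prod.snd rfl)
      invFun := fun g => Finsupp.zipWith Prod.mk rfl g.1 g.2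
      map_add' := fun f g => by ext <;> simp
      map_smul' := fun r f => by ext <;> simp
      left_inv := fun f => by ext <;> simp
      right_inv := fun g => by ext <;> simp }
  let eF : (ι →₀ R) ≃ₗ[R] (ℕ →₀ P) × (ℕ →₀ Q) :=
    (Finsupp.domLCongr σ).symm ≪≫ₗ Finsupp.curryLinearEquiv R ≪≫ₗ
      Finsupp.mapRange.linearEquiv e.symm ≪≫ₗ eP
  let eS : (P × (ℕ →₀ P)) ≃ₗ[R] (ℕ →₀ P) :=
    LinearEquiv.prodCongr (Finsupp.uniqueLinearEquiv R P (PUnit.unit : PUnit.{1})).symm (LinearEquiv.refl R _) ≪≫ₗ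
      (Finsupp.sumFinsuppLEquivProdFinsupp R).symm ≪≫ₗ
      Finsupp.domLCongr ((Equiv.sumComm _ _).trans Equiv.natSumPUnitEquivNat)
  exact ⟨LinearEquiv.prodCongr (LinearEquiv.refl R P) eF ≪≫ₗ (LinearEquiv.prodAssoc R P _ _).symm ≪≫ₗ
    LinearEquiv.prodCongr eS (LinearEquiv.refl R _) ≪≫ₗ eF.symm⟩

end Groth.Agent.H1CAlg
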