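import Groth.Prelude.Def_W4c3degenlocivbPfaff
import Mathlib.RingTheory.MvPolynomial.Homogeneous
import Mathlib.LinearAlgebra.Matrix.NonsingularInverse

set_option autoImplicit false

namespace Groth.Agent.H1CAlg.TridiagPf

open MvPolynomial W4c3degenlocivb

universe u

variable {R : Type*} [CommRing R]

theorem pf_map {S : Type*} [CommRing S] (f : R →+* S) : ∀ (n : ℕ) (T : Matrix (Fin n) (Fin n) R),
    pf n (T.map f) = f (pf n T)
  | 0, _ => by simp [pf]
  | 1, _ => by simp [pf]
  | n + 2, T => by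
    rw [pf, pf, map_sum]
    refine Finset.sum_congr rfl fun j _ => ?_
    rw [map_mul, map_mul, map_pow, map_neg, map_one, Matrix.map_apply, ← pf_map f n, Matrix.submatrix_map]

theorem pf_tridiag (c : ℕ → R) : ∀ (m : ℕ) (T : Matrix (Fin (2 * m)) (Fin (2 * m)) R),
    (∀ a b : Fin (2 * m), (b : ℕ) + 1 < a → T a b = 0) →
    (∀ a b : Fin (2 * m), (b : ℕ) + 1 = a → T a b = -c b) →
    pf (2 * m) T = ∏ l ∈ Finset.range m, c (2 * l)
  | 0, _, _, _ => by simp [pf]
  | m + 1, T, h0, h1 => by
    show pf (2 * m + 2) T = _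
    rw [pf, Finset.sum_eq_single (Fin.last (2 * m))]
    · rw [h1 (Fin.last (2 * m + 1)) (Fin.castSucc (Fin.last (2 * m))) (by simp), Fin.succAbove_last,
        pf_tridiag c m (T.submatrix (Fin.castSucc ∘ Fin.castSucc) (Fin.castSucc ∘ Fin.castSucc))
          (fun a b h => h0 _ _ (by simpa using h)) (fun a b h => ?_)]
      · rw [Finset.prod_range_succ]
        simp only [Fin.val_castSucc, Fin.val_last]
        rw [Odd.neg_one_pow ⟨m, by ring⟩]
        ring
      · simpa using h1 (Fin.castSucc (Fin.castSucc a)) (Fin.castSucc (Fin.castSucc b)) (by simpa using h)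
    · intro j _ hj
      have hlt : (j : ℕ) < 2 * m := Fin.val_lt_last hj
      rw [h0 _ _ (by simpa using by omega), mul_zero, zero_mul]
    · simp

theorem pf_isHomogeneous {σ : Type*} : ∀ (n : ℕ) (T : Matrix (Fin n) (Fin n) (MvPolynomial σ R)),
    (∀ a b, (T a b).IsHomogeneous 1) → (pf n T).IsHomogeneous (n / 2)
  | 0, _, _ => by simpa [pf] using isHomogeneous_one σ R
  | 1, _, _ => by simpa [pf] using isHomogeneous_zero σ R 0
  | n + 2, T, hT => by
    rw [pf]
    refine IsHomogeneous.sum _ _ _ fun j _ => ?_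
    have hs : (((-1) ^ ((j : ℕ) + 1) : MvPolynomial σ R)).IsHomogeneous 0 := by
      simpa using ((isHomogeneous_one σ R).neg).pow ((j : ℕ) + 1)
    have := (hs.mul (hT (Fin.last (n + 1)) (Fin.castSucc j))).mul
      (pf_isHomogeneous n (T.submatrix (Fin.castSucc ∘ j.succAbove) (Fin.castSucc ∘ j.succAbove))
        (fun a b => hT _ _))
    rwa [show (0 + 1) + n / 2 = (n + 2) / 2 by omega] at this

/-- exponent vector `X0^s X1^(r-s)` -/
noncomputable def mon (r : ℕ) (s : Fin (r + 1)) : Fin 2 →₀ ℕ :=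
  Finsupp.single 0 (s : ℕ) + Finsupp.single 1 (r - s)

theorem exists_mon {r : ℕ} {d : Fin 2 →₀ ℕ} (hd : d.degree = r) : ∃ s, mon r s = d := by
  have h : d 0 + d 1 = r := by
    rw [← hd, Finsupp.degree_eq_sum]; simp [Fin.sum_univ_two]
  refine ⟨⟨d 0, by omega⟩, ?_⟩
  ext i
  fin_cases i
  · simp [mon]
  · simp [mon]; omega

theorem mon_injective (r : ℕ) : Function.Injective (mon r) := fun s t h => by
  have := congrArg (fun d => d 0) h
  simpa [mon, Fin.ext_iff] using this

theorem span_eq {k : Type u} [Field k] {r : ℕ} {ι : Type*} (g : ι → MvPolynomial (Fin 2) k)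
    (hg : ∀ i, (g i).IsHomogeneous r) (e : Fin (r + 1) → ι)
    (hdet : (Matrix.of fun m s => coeff (mon r s) (g (e m))).det ≠ 0) :
    Submodule.span k (Set.range g) = homogeneousSubmodule (Fin 2) k r := by
  classical
  set M : Matrix (Fin (r + 1)) (Fin (r + 1)) k := Matrix.of fun m s => coeff (mon r s) (g (e m)) with hM
  refine le_antisymm (Submodule.span_le.mpr ?_) fun p hp => ?_
  · rintro _ ⟨i, rfl⟩; exact hg i
  · have hmon : ∀ s, monomial (mon r s) (1 : k) = ∑ m, M⁻¹ s m • g (e m) := fun s => by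
      have hMM : M⁻¹ * M = 1 := Matrix.nonsing_inv_mul _ (Ne.isUnit hdet)
      ext d
      rw [coeff_sum, coeff_monomial]
      by_cases hd : d.degree = r
      · obtain ⟨t, rfl⟩ := exists_mon hd
        have := congrFun (congrFun hMM s) t
        rw [Matrix.mul_apply, Matrix.one_apply] at this
        simp only [hM, Matrix.of_apply] at this ⊢
        simp only [coeff_smul, smul_eq_mul, (mon_injective r).eq_iff]
        exact this.symm
      · rw [if_neg, Finset.sum_eq_zero]
        · intro m _
          rw [coeff_smul, (hg (e m)).coeff_eq_zero hd, smul_zero]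
        · rintro rfl
          apply hd
          simp [mon, Finsupp.degree_eq_sum, Fin.sum_univ_two]
          omega
    rw [p.as_sum]
    refine Submodule.sum_mem _ fun d hd => ?_
    have hdeg : d.degree = r := by
      by_contra h
      exact (mem_support_iff.mp hd) (IsHomogeneous.coeff_eq_zero hp h)
    obtain ⟨s, rfl⟩ := exists_mon hdeg
    rw [show monomial (mon r s) (coeff (mon r s) p) = coeff (mon r s) p • monomial (mon r s) (1 : k) by
      rw [smul_monomial, smul_eq_mul, mul_one], hmon]
    exact Submodule.smul_mem _ _ (Submodule.sum_mem _ fun m _ =>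
      Submodule.smul_mem _ _ (Submodule.subset_span ⟨e m, rfl⟩))

/-- The example coefficient tensor. -/
def cex (k : Type u) [CommRing k] (n : ℕ) (a b : Fin n) (l : Fin 2) : k :=
  (if (a : ℕ) + 1 = b ∧ (a : ℕ) % 2 = l then 1 else 0) - (if (b : ℕ) + 1 = a ∧ (b : ℕ) % 2 = l then 1 else 0)

theorem cex_skew (k : Type u) [CommRing k] (n : ℕ) (a b : Fin n) (l : Fin 2) :
    cex k n b a l = -cex k n a b l := by
  rw [cex, cex, neg_sub]

/-- the linear matrix -/
noncomputable def lin {k : Type u} [CommSemiring k] {n : ℕ} (c : Fin n → Fin n → Fin 2 → k) :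
    Matrix (Fin n) (Fin n) (MvPolynomial (Fin 2) k) :=
  Matrix.of fun a b => ∑ l : Fin 2, C (c a b l) * X l

theorem lin_map {k k' : Type u} [CommRing k] [CommRing k'] (f : k →+* k') {n : ℕ}
    (c : Fin n → Fin n → Fin 2 → k) : (lin c).map (map f) = lin (fun a b l => f (c a b l)) := by
  ext a b : 1
  simp [lin, map_sum]

theorem lin_cex {k : Type u} [CommRing k] (n : ℕ) (a b : Fin n) :
    ((b : ℕ) + 1 < a → lin (cex k n) a b = 0) ∧
    ((b : ℕ) + 1 = a → lin (cex k n) a b = -(if (b : ℕ) % 2 = 0 then X 0 else X 1)) := by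
  refine ⟨fun h => ?_, fun h => ?_⟩
  · simp only [lin, Matrix.of_apply, Fin.sum_univ_two, cex]
    rw [if_neg (by omega), if_neg (by omega), if_neg (by omega), if_neg (by omega)]
    simp
  · rcases Nat.mod_two_eq_zero_or_one (b : ℕ) with hb | hb <;>
      (have h' : ¬ ((a : ℕ) + 1 = (b : ℕ)) := by omega
       simp [lin, Fin.sum_univ_two, cex, h, h', hb])

theorem pf_cex {k : Type u} [CommRing k] (r : ℕ) (m : Fin (r + 1)) (i : Fin (2 * r + 1))
    (hi : (i : ℕ) = 2 * m) :
    pf (2 * r) ((lin (cex k (2 * r + 1))).submatrix i.succAbove i.succAbove) =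
      monomial (mon r m) 1 := by
  have hval : ∀ a : Fin (2 * r), (i.succAbove a : ℕ) = if (a : ℕ) < 2 * m then (a : ℕ) else a + 1 := fun a => by
    rw [Fin.succAbove]
    simp only [Fin.lt_def, Fin.val_castSucc, hi]
    split_ifs <;> simp
  rw [pf_tridiag (fun b => if b < 2 * (m : ℕ) then (if b + 1 = 2 * m then 0 else
      (if b % 2 = 0 then X 0 else X 1)) else (if (b + 1) % 2 = 0 then X 0 else X 1)) r]
  · have hm : (m : ℕ) ≤ r := Nat.le_of_lt_succ m.2
    have key : ∀ l ∈ Finset.range r,
        (if 2 * l < 2 * (m : ℕ) then (if 2 * l + 1 = 2 * m then 0 else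
          (if 2 * l % 2 = 0 then (X 0 : MvPolynomial (Fin 2) k) else X 1))
          else (if (2 * l + 1) % 2 = 0 then X 0 else X 1)) = if l < (m : ℕ) then X 0 else X 1 := by
      intro l _
      by_cases hl : l < (m : ℕ)
      · rw [if_pos (by omega), if_neg (by omega), if_pos (by omega), if_pos hl]
      · rw [if_neg (by omega), if_neg (by omega), if_neg hl]
    rw [Finset.prod_congr rfl key, Finset.prod_ite, Finset.prod_const, Finset.prod_const]
    have h1 : ((Finset.range r).filter fun l => l < (m : ℕ)) = Finset.range m := by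
      ext l; simp only [Finset.mem_filter, Finset.mem_range]; omega
    have h2 : ((Finset.range r).filter fun l => ¬ l < (m : ℕ)) = Finset.Ico (m : ℕ) r := by
      ext l; simp only [Finset.mem_filter, Finset.mem_range, Finset.mem_Ico]; omega
    rw [h1, h2, Finset.card_range, Nat.card_Ico, X_pow_eq_monomial, X_pow_eq_monomial, monomial_mul,
      mul_one]
    rfl
  · intro a b h
    rw [Matrix.submatrix_apply]
    refine (lin_cex (k := k) _ (i.succAbove a) (i.succAbove b)).1 ?_
    rw [hval, hval]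
    split_ifs <;> omega
  · intro a b h
    rw [Matrix.submatrix_apply]
    by_cases hb : (b : ℕ) < 2 * m
    · by_cases hb' : (b : ℕ) + 1 = 2 * m
      · rw [if_pos hb, if_pos hb', neg_zero]
        refine (lin_cex (k := k) _ (i.succAbove a) (i.succAbove b)).1 ?_
        rw [hval, hval, if_pos hb, if_neg (by omega)]; omega
      · rw [if_pos hb, if_neg hb', (lin_cex (k := k) _ (i.succAbove a) (i.succAbove b)).2 (by rw [hval, hval, if_pos hb, if_pos (by omega)]; omega),
          hval, if_pos hb]
    · rw [if_neg hb, (lin_cex (k := k) _ (i.succAbove a) (i.succAbove b)).2 (by rw [hval, hval, if_neg hb, if_neg (by omega)]; omega),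
        hval, if_neg hb]

theorem main (k : Type u) [Field k] (r : ℕ) :
    ∃ Φ : MvPolynomial (Fin (2 * r + 1) × Fin (2 * r + 1) × Fin 2) k,
      (∃ c : Fin (2 * r + 1) → Fin (2 * r + 1) → Fin 2 → k, (∀ i j l, c j i l = -c i j l) ∧
        eval (fun p => c p.1 p.2.1 p.2.2) Φ ≠ 0) ∧
      ∀ c : Fin (2 * r + 1) → Fin (2 * r + 1) → Fin 2 → k,
        eval (fun p => c p.1 p.2.1 p.2.2) Φ ≠ 0 →
        Submodule.span k (Set.range fun i : Fin (2 * r + 1) =>
            pf (2 * r) ((lin c).submatrix i.succAbove i.succAbove)) =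
          homogeneousSubmodule (Fin 2) k r := by
  classical
  let e : Fin (r + 1) → Fin (2 * r + 1) := fun m => ⟨2 * m, by omega⟩
  let cg : Fin (2 * r + 1) → Fin (2 * r + 1) → Fin 2 →
      MvPolynomial (Fin (2 * r + 1) × Fin (2 * r + 1) × Fin 2) k := fun a b l => X (a, b, l)
  let Φ := (Matrix.of fun (m s : Fin (r + 1)) => coeff (mon r s)
    (pf (2 * r) ((lin cg).submatrix (e m).succAbove (e m).succAbove))).det
  have hΦ : ∀ c : Fin (2 * r + 1) → Fin (2 * r + 1) → Fin 2 → k,
      eval (fun p : Fin (2 * r + 1) × Fin (2 * r + 1) × Fin 2 => c p.1 p.2.1 p.2.2) Φ =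
      (Matrix.of fun (m s : Fin (r + 1)) => coeff (mon r s)
        (pf (2 * r) ((lin c).submatrix (e m).succAbove (e m).succAbove))).det := by
    intro c
    show eval (fun p : Fin (2 * r + 1) × Fin (2 * r + 1) × Fin 2 => c p.1 p.2.1 p.2.2) (Matrix.det _) = _
    rw [RingHom.map_det]
    congr 1
    ext m s
    have hc : c = fun a b l => eval (fun p : Fin (2 * r + 1) × Fin (2 * r + 1) × Fin 2 => c p.1 p.2.1 p.2.2) (cg a b l) := by
      funext a b l; simp [cg]
    simp only [RingHom.mapMatrix_apply, Matrix.map_apply, Matrix.of_apply]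
    rw [← coeff_map, ← pf_map, ← Matrix.submatrix_map, lin_map, ← hc]
  refine ⟨Φ, ⟨cex k _, fun i j l => cex_skew k _ i j l, ?_⟩, fun c hc => ?_⟩
  · rw [hΦ]
    suffices h : (Matrix.of fun (m s : Fin (r + 1)) => coeff (mon r s)
        (pf (2 * r) ((lin (cex k (2 * r + 1))).submatrix (e m).succAbove (e m).succAbove))) = 1 by
      simp [h]
    ext m s
    rw [Matrix.of_apply, pf_cex r m (e m) rfl, coeff_monomial, Matrix.one_apply]
    simp [(mon_injective r).eq_iff]
  · rw [hΦ] at hc
    refine span_eq _ (fun i => ?_) e hc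
    have := pf_isHomogeneous (2 * r) ((lin c).submatrix i.succAbove i.succAbove) (fun a b => ?_)
    · rwa [Nat.mul_div_cancel_left r (by norm_num)] at this
    · simp only [lin, Matrix.submatrix_apply, Matrix.of_apply]
      exact IsHomogeneous.sum _ _ _ fun l _ => by
        simpa using (isHomogeneous_C (Fin 2) _).mul (isHomogeneous_X k l)

end Groth.Agent.H1CAlg.TridiagPf
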