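import Groth.Prelude.Def_PBC
import Groth.Agent.H9Hens.PairOps
import Mathlib.RingTheory.LocalIso
import Mathlib.RingTheory.RingHom.Etale
import Mathlib.RingTheory.Etale.StandardEtale
import Mathlib.RingTheory.Flat.EquationalCriterion
import Mathlib.RingTheory.Smooth.Flat
import Mathlib.RingTheory.Unramified.Finite
import Mathlib.Algebra.Category.Ring.FilteredColimits
import Mathlib.Algebra.Category.Ring.Under.Basic
import Mathlib.CategoryTheory.Limits.Filtered
import Mathlib.CategoryTheory.Limits.ConcreteCategory.Basic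

/-!
Colimits of pointed local isomorphisms (the Zariski analogue of `Groth.Agent.H9Hens.PtColim`).
-/

namespace Groth.Agent.H1CAlg.Zar

open Groth.Agent.H9Hens (algHom_eq_of_sub_mem)

universe u

theorem etale_of_isLocalIso {R S : Type u} [CommRing R] [CommRing S] [Algebra R S]
    [Algebra.IsLocalIso R S] : Algebra.Etale R S := by
  rw [← RingHom.etale_algebraMap]
  refine RingHom.Etale.ofLocalizationSpanTarget (algebraMap R S) _
    (Algebra.IsLocalIso.span_isStandardOpenImmersion_eq_top R S) fun ⟨g, hg⟩ => ?_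
  obtain ⟨r, hr⟩ := (hg : Algebra.IsStandardOpenImmersion R (Localization.Away g)).exists_away
  rw [← IsScalarTower.algebraMap_eq R S (Localization.Away g), RingHom.etale_algebraMap]
  exact Algebra.Etale.of_isLocalizationAway r

attribute [local instance] etale_of_isLocalIso

theorem isLocalIso_of_away {R S : Type*} [CommRing R] [CommRing S] [Algebra R S] (r : R)
    [IsLocalization.Away r S] : Algebra.IsLocalIso R S :=
  have : Algebra.IsStandardOpenImmersion R S := ⟨r, inferInstance⟩
  inferInstance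


open scoped TensorProduct
open Polynomial

variable {A : Type u} [CommRing A] {k : Type u} [CommRing k] [Algebra A k]

/-- Two maps of pointed local-isomorphism algebras are equalised by a further one. -/
theorem exists_pt_equalizer {S₁ : Type u} [CommRing S₁] [Algebra A S₁] [Algebra.IsLocalIso A S₁]
    {S₂ : Type u} [CommRing S₂] [Algebra A S₂] [Algebra.IsLocalIso A S₂]
    (σ : S₂ →ₐ[A] k) (f g : S₁ →ₐ[A] S₂) (h : σ.comp f = σ.comp g) :
    ∃ (T : Type u) (_ : CommRing T) (_ : Algebra A T) (_ : Algebra.IsLocalIso A T) (σT : T →ₐ[A] k)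
      (χ : S₂ →ₐ[A] T), σT.comp χ = σ ∧ χ.comp f = χ.comp g := by
  obtain ⟨t, ht, ht1⟩ := Algebra.FormallyUnramified.iff_exists_tensorProduct.mp
    (inferInstance : Algebra.FormallyUnramified A S₁)
  let L : S₁ ⊗[A] S₁ →ₐ[A] S₂ := Algebra.TensorProduct.lift f g fun _ _ => Commute.all _ _
  have hL : σ.comp L = (σ.comp f).comp (Algebra.TensorProduct.lmul' A) := by
    refine Algebra.TensorProduct.ext' fun a b => ?_
    have hb : σ (f b) = σ (g b) := DFunLike.congr_fun h b
    simp [L, hb]
  have hu : IsUnit (σ (L t)) := by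
    have := DFunLike.congr_fun hL t
    simp only [AlgHom.comp_apply, ht1, map_one] at this
    rw [this]; exact isUnit_one
  let T := Localization.Away (L t)
  have : Algebra.IsLocalIso S₂ T := isLocalIso_of_away (L t)
  refine ⟨T, inferInstance, inferInstance, Algebra.IsLocalIso.trans A S₂ T,
    IsLocalization.Away.liftAlgHom (L t) (f := σ) hu, IsScalarTower.toAlgHom A S₂ T,
    AlgHom.ext fun x => ?_, AlgHom.ext fun s => ?_⟩
  · show IsLocalization.Away.liftAlgHom (L t) (f := σ) hu (algebraMap S₂ T x) = σ x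
    simp
  · have h := congrArg ((IsScalarTower.toAlgHom A S₂ T).comp L) (ht s)
    simp only [map_mul, map_sub, map_zero, L, AlgHom.comp_apply, Algebra.TensorProduct.lift_tmul,
      map_one, one_mul, mul_one] at h
    exact (sub_eq_zero.mp
      ((IsLocalization.Away.algebraMap_isUnit (S := T) (L t)).mul_left_eq_zero.mp h)).symm

/-- `π : H →ₐ[A] k` is the colimit of the pointed local-isomorphism algebras `(S, σ : S →ₐ[A] k)`. -/
structure IsZarColim {H : Type u} [CommRing H] [Algebra A H] (π : H →ₐ[A] k) : Prop where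
  exists_rep : ∀ x : H, ∃ (S : Type u) (_ : CommRing S) (_ : Algebra A S) (_ : Algebra.IsLocalIso A S)
    (φ : S →ₐ[A] H) (s : S), φ s = x
  exists_map : ∀ (S : Type u) [CommRing S] [Algebra A S] [Algebra.IsLocalIso A S] (σ : S →ₐ[A] k),
    ∃ φ : S →ₐ[A] H, π.comp φ = σ
  jac : RingHom.ker π ≤ Ideal.jacobson ⊥
  exists_eq_zero : ∀ (S : Type u) [CommRing S] [Algebra A S] [Algebra.IsLocalIso A S] (φ : S →ₐ[A] H)
    (s : S), φ s = 0 → ∃ (T : Type u) (_ : CommRing T) (_ : Algebra A T) (_ : Algebra.IsLocalIso A T)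
      (ψ : S →ₐ[A] T) (φT : T →ₐ[A] H), φT.comp ψ = φ ∧ ψ s = 0

namespace IsZarColim

variable {H : Type u} [CommRing H] [Algebra A H] {π : H →ₐ[A] k} (hH : IsZarColim π)
include hH

/-- Maps from local isomorphisms are determined by their composite with the point. -/
theorem hom_ext {S : Type u} [CommRing S] [Algebra A S] [Algebra.IsLocalIso A S] {φ φ' : S →ₐ[A] H}
    (h : π.comp φ = π.comp φ') : φ = φ' :=
  algHom_eq_of_sub_mem hH.jac fun x => by
    rw [RingHom.mem_ker, map_sub, sub_eq_zero]
    exact DFunLike.congr_fun h x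

theorem existsUnique_map (S : Type u) [CommRing S] [Algebra A S] [Algebra.IsLocalIso A S]
    (σ : S →ₐ[A] k) : ∃! φ : S →ₐ[A] H, π.comp φ = σ := by
  obtain ⟨φ, hφ⟩ := hH.exists_map S σ
  exact ⟨φ, hφ, fun φ' h => hH.hom_ext (h.trans hφ.symm)⟩

/-- Finitely many elements come from a common local isomorphism. -/
theorem exists_rep_finset {ι : Type*} (s : Finset ι) (x : ι → H) :
    ∃ (S : Type u) (_ : CommRing S) (_ : Algebra A S) (_ : Algebra.IsLocalIso A S)
      (φ : S →ₐ[A] H) (y : ι → S), ∀ i ∈ s, φ (y i) = x i := by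
  classical
  induction s using Finset.induction with
  | empty => exact ⟨A, inferInstance, inferInstance, inferInstance, Algebra.ofId A H, 0,
      fun i hi => absurd hi (Finset.notMem_empty i)⟩
  | insert i s his ih =>
    obtain ⟨S₁, _, _, _, φ₁, y, hy⟩ := ih
    obtain ⟨S₂, _, _, _, φ₂, z, hz⟩ := hH.exists_rep (x i)
    let φ : S₁ ⊗[A] S₂ →ₐ[A] H := Algebra.TensorProduct.lift φ₁ φ₂ fun _ _ => Commute.all _ _
    refine ⟨S₁ ⊗[A] S₂, inferInstance, inferInstance, Algebra.IsLocalIso.trans A S₁ (S₁ ⊗[A] S₂), φ,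
      Function.update (fun j => y j ⊗ₜ 1) i (1 ⊗ₜ z), fun j hj => ?_⟩
    rcases Finset.mem_insert.mp hj with rfl | hj
    · simp [φ, hz]
    · have hne : j ≠ i := fun h => his (h ▸ hj)
      simp [φ, hne, hy j hj]

theorem exists_rep_fin {n : ℕ} (x : Fin n → H) :
    ∃ (S : Type u) (_ : CommRing S) (_ : Algebra A S) (_ : Algebra.IsLocalIso A S)
      (φ : S →ₐ[A] H) (y : Fin n → S), ∀ i, φ (y i) = x i := by
  obtain ⟨S, i₁, i₂, i₃, φ, y, hy⟩ := hH.exists_rep_finset Finset.univ x
  exact ⟨S, i₁, i₂, i₃, φ, y, fun i => hy i (Finset.mem_univ i)⟩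

/-- An element is a unit as soon as its image at the point is. -/
theorem isUnit_of_isUnit {x : H} (hx : IsUnit (π x)) : IsUnit x := by
  obtain ⟨S, _, _, _, φ, s, rfl⟩ := hH.exists_rep x
  let T := Localization.Away s
  have : Algebra.IsLocalIso S T := isLocalIso_of_away s
  have : Algebra.IsLocalIso A T := Algebra.IsLocalIso.trans A S T
  obtain ⟨φT, hφT⟩ := hH.exists_map T
    (IsLocalization.Away.liftAlgHom s (f := π.comp φ) hx)
  have h : φT.comp (IsScalarTower.toAlgHom A S T) = φ := hH.hom_ext (AlgHom.ext fun a =>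
    (DFunLike.congr_fun hφT (algebraMap S T a)).trans (IsLocalization.Away.lift_eq s hx a))
  rw [← h]
  exact (IsLocalization.Away.algebraMap_isUnit (S := T) s).map φT

/-- The colimit of pointed local-isomorphism algebras is flat. -/
theorem flat : Module.Flat A H := by
  refine Module.Flat.iff_forall_isTrivialRelation.mpr fun {l} a x hax => ?_
  obtain ⟨S, _, _, _, φ, y, hy⟩ := hH.exists_rep_fin x
  obtain ⟨T, _, _, _, ψ, φT, hcomp, hz⟩ := hH.exists_eq_zero S φ (∑ i, a i • y i) (by
    simpa [map_sum, hy] using hax)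
  rw [map_sum] at hz
  simp only [map_smul] at hz
  obtain ⟨κ, c, z, hc, hca⟩ :=
    Module.Flat.iff_forall_isTrivialRelation.mp (inferInstance : Module.Flat A T) hz
  refine ⟨κ, c, fun j => φT (z j), fun i => ?_, hca⟩
  rw [← hy i, ← hcomp, AlgHom.comp_apply, show ψ (y i) = _ from hc i, map_sum]
  simp only [map_smul]

/-- Compatible maps on the local isomorphisms glue to a map on the colimit. -/
theorem exists_desc {B : Type u} [CommRing B] [Algebra A B]
    (F : ∀ (S : Type u) [CommRing S] [Algebra A S] [Algebra.IsLocalIso A S] (_φ : S →ₐ[A] H), S →ₐ[A] B)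
    (compat : ∀ (S : Type u) [CommRing S] [Algebra A S] [Algebra.IsLocalIso A S] (φ : S →ₐ[A] H)
      (T : Type u) [CommRing T] [Algebra A T] [Algebra.IsLocalIso A T] (φT : T →ₐ[A] H)
      (ψ : S →ₐ[A] T), φT.comp ψ = φ → (F T φT).comp ψ = F S φ) :
    ∃ g : H →ₐ[A] B, ∀ (S : Type u) [CommRing S] [Algebra A S] [Algebra.IsLocalIso A S]
      (φ : S →ₐ[A] H), g.comp φ = F S φ := by
  choose Sx i₁ i₂ i₃ φx sx hx using hH.exists_rep
  let g : H → B := fun x => F (Sx x) (φx x) (sx x)
  have key : ∀ (S : Type u) [CommRing S] [Algebra A S] [Algebra.IsLocalIso A S] (φ : S →ₐ[A] H)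
      (s : S), g (φ s) = F S φ s := by
    intro S _ _ _ φ s
    let φ₁ := φx (φ s)
    let L : Sx (φ s) ⊗[A] S →ₐ[A] H :=
      Algebra.TensorProduct.lift φ₁ φ fun _ _ => Commute.all _ _
    have : Algebra.IsLocalIso A (Sx (φ s) ⊗[A] S) := Algebra.IsLocalIso.trans A (Sx (φ s)) _
    obtain ⟨T, _, _, _, ψ, φT, hcomp, hz⟩ := hH.exists_eq_zero _ L
      (sx (φ s) ⊗ₜ 1 - 1 ⊗ₜ s) (by simp [L, φ₁, hx])
    rw [map_sub, sub_eq_zero] at hz
    have h1 := compat _ φ₁ T φT (ψ.comp Algebra.TensorProduct.includeLeft) (by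
      rw [← AlgHom.comp_assoc, hcomp]; exact AlgHom.ext fun a => by simp [L])
    have h2 := compat _ φ T φT (ψ.comp Algebra.TensorProduct.includeRight) (by
      rw [← AlgHom.comp_assoc, hcomp]; exact AlgHom.ext fun a => by simp [L])
    show F _ φ₁ (sx (φ s)) = _
    rw [← h1, ← h2]
    exact congrArg (F T φT) hz
  have hom : ∀ x y, g (x + y) = g x + g y ∧ g (x * y) = g x * g y := by
    intro x y
    obtain ⟨S, _, _, _, φ, z, hz⟩ := hH.exists_rep_fin ![x, y]
    have hx' : φ (z 0) = x := hz 0
    have hy' : φ (z 1) = y := hz 1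
    rw [← hx', ← hy', ← map_add, ← map_mul, key, key, key, key, map_add, map_mul]
    exact ⟨rfl, rfl⟩
  have hc : ∀ a, g (algebraMap A H a) = algebraMap A B a := fun a => by
    have := key A (Algebra.ofId A H) a
    rwa [Algebra.ofId_apply, show F A (Algebra.ofId A H) a = algebraMap A B a from
      (F A (Algebra.ofId A H)).commutes a] at this
  exact ⟨{ toFun := g, map_one' := by simpa using hc 1, map_mul' := fun x y => (hom x y).2
           map_zero' := by simpa using hc 0, map_add' := fun x y => (hom x y).1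
           commutes' := hc }, fun S _ _ _ φ => AlgHom.ext fun s => key S φ s⟩

/-- Being the colimit of pointed local-isomorphism algebras is invariant under isomorphisms. -/
theorem of_algEquiv {H' : Type u} [CommRing H'] [Algebra A H'] (e : H ≃ₐ[A] H') :
    IsZarColim (π.comp e.symm.toAlgHom) where
  exists_rep x := by
    obtain ⟨S, i₁, i₂, i₃, φ, s, hs⟩ := hH.exists_rep (e.symm x)
    exact ⟨S, i₁, i₂, i₃, e.toAlgHom.comp φ, s, by
      rw [AlgHom.comp_apply, hs]; exact e.apply_symm_apply x⟩
  exists_map S _ _ _ σ := by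
    obtain ⟨φ, hφ⟩ := hH.exists_map S σ
    refine ⟨e.toAlgHom.comp φ, AlgHom.ext fun s => ?_⟩
    show π (e.symm (e (φ s))) = σ s
    rw [e.symm_apply_apply]
    exact DFunLike.congr_fun hφ s
  jac x hx := by
    rw [Ideal.mem_jacobson_bot]
    intro y
    have h := Ideal.mem_jacobson_bot.mp (hH.jac (x := e.symm x) hx) (e.symm y)
    have h2 := h.map e
    simpa using h2
  exists_eq_zero S _ _ _ φ s hs := by
    obtain ⟨T, i₁, i₂, i₃, ψ, φT, hT, hz⟩ := hH.exists_eq_zero S (e.symm.toAlgHom.comp φ) s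
      (by rw [AlgHom.comp_apply, hs, map_zero])
    refine ⟨T, i₁, i₂, i₃, ψ, e.toAlgHom.comp φT, AlgHom.ext fun a => ?_, hz⟩
    have := DFunLike.congr_fun hT a
    show e (φT (ψ a)) = φ a
    rw [show φT (ψ a) = e.symm (φ a) from this, e.apply_symm_apply]

end IsZarColim


section Construct


open CategoryTheory TensorProduct

variable (A : Type u) [CommRing A] (k : Type u) [CommRing k] [Algebra A k]

/-- Pointed local isomorphisms given by a presentation, forming a small category. -/
structure PtLI : Type u where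
  n : ℕ
  rel : Ideal (MvPolynomial (Fin n) A)
  li : Algebra.IsLocalIso A (MvPolynomial (Fin n) A ⧸ rel)
  pt : (MvPolynomial (Fin n) A ⧸ rel) →ₐ[A] k

namespace PtLI

variable {A k}

/-- The underlying ring of a pointed local-isomorphism algebra. -/
abbrev ring (j : PtLI A k) : Type u := MvPolynomial (Fin j.n) A ⧸ j.rel

instance (j : PtLI A k) : Algebra.IsLocalIso A j.ring := j.li

noncomputable instance : Category.{u} (PtLI A k) where
  Hom i j := {φ : i.ring →ₐ[A] j.ring // j.pt.comp φ = i.pt}
  id i := ⟨AlgHom.id A _, AlgHom.comp_id _⟩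
  comp f g := ⟨g.1.comp f.1, by rw [← AlgHom.comp_assoc, g.2, f.2]⟩

/-- Every pointed local-isomorphism algebra is isomorphic to a presented one. -/
theorem exists_equiv (S : Type u) [CommRing S] [Algebra A S] [Algebra.IsLocalIso A S]
    (σ : S →ₐ[A] k) : ∃ (j : PtLI A k) (e : j.ring ≃ₐ[A] S), j.pt = σ.comp e.toAlgHom := by
  obtain ⟨n, f, hf, -⟩ := Algebra.FinitePresentation.out (R := A) (A := S)
  let e := Ideal.quotientKerAlgEquivOfSurjective hf
  exact ⟨⟨n, _, Algebra.IsLocalIso.of_algEquiv e.symm, σ.comp e.toAlgHom⟩, e, rfl⟩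

/-- The pointed local-isomorphism algebra `A`. -/
theorem nonempty : Nonempty (PtLI A k) := by
  obtain ⟨j, -⟩ := exists_equiv A (Algebra.ofId A k)
  exact ⟨j⟩

theorem isFiltered : IsFiltered (PtLI A k) where
  cocone_objs i j := by
    have : Algebra.IsLocalIso A (i.ring ⊗[A] j.ring) := Algebra.IsLocalIso.trans A i.ring _
    obtain ⟨l, e, hl⟩ := exists_equiv (i.ring ⊗[A] j.ring)
      (Algebra.TensorProduct.lift i.pt j.pt fun _ _ => Commute.all _ _)
    refine ⟨l, ⟨e.symm.toAlgHom.comp Algebra.TensorProduct.includeLeft, AlgHom.ext fun x => ?_⟩,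
      ⟨e.symm.toAlgHom.comp Algebra.TensorProduct.includeRight, AlgHom.ext fun x => ?_⟩, trivial⟩
    · simp [hl]
    · simp [hl]
  cocone_maps i j f g := by
    obtain ⟨T, _, _, _, σT, χ, hχ, heq⟩ := exists_pt_equalizer j.pt f.1 g.1 (f.2.trans g.2.symm)
    obtain ⟨l, e, hl⟩ := exists_equiv T σT
    refine ⟨l, ⟨e.symm.toAlgHom.comp χ, AlgHom.ext fun x => ?_⟩, Subtype.ext (AlgHom.ext fun x => ?_)⟩
    · rw [← hχ]; simp [hl]
    · show e.symm (χ (f.1 x)) = e.symm (χ (g.1 x))
      rw [show χ (f.1 x) = χ (g.1 x) from DFunLike.congr_fun heq x]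
  nonempty := nonempty

attribute [local instance] isFiltered

variable (A k) in
/-- The diagram of pointed local-isomorphism algebras. -/
noncomputable def diagram : PtLI A k ⥤ CommRingCat.{u} where
  obj j := CommRingCat.of j.ring
  map f := CommRingCat.ofHom f.1.toRingHom

end PtLI

attribute [local instance] PtLI.isFiltered

open PtLI Limits in
/-- The colimit of pointed local-isomorphism algebras exists. -/
theorem exists_isZarColim :
    ∃ (H : Type u) (_ : CommRing H) (_ : Algebra A H) (π : H →ₐ[A] k), IsZarColim π := by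
  let H := colimit (diagram A k)
  let of : ∀ j : PtLI A k, j.ring →+* H := fun j => (colimit.ι (diagram A k) j).hom
  have hof : ∀ {i j : PtLI A k} (f : i ⟶ j) (x : i.ring), of j (f.1 x) = of i x := fun f x =>
    ConcreteCategory.congr_hom (colimit.w (diagram A k) f) x
  obtain ⟨j₀⟩ := PtLI.nonempty (A := A) (k := k)
  let : Algebra A H := ((of j₀).comp (algebraMap A j₀.ring)).toAlgebra
  have hcomm : ∀ (j : PtLI A k) (a : A), of j (algebraMap A j.ring a) = algebraMap A H a := by
    intro j a
    show _ = of j₀ (algebraMap A j₀.ring a)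
    rw [← hof (IsFiltered.leftToMax j j₀), ← hof (IsFiltered.rightToMax j j₀)]
    rw [AlgHom.commutes, AlgHom.commutes]
  let φ : ∀ j : PtLI A k, j.ring →ₐ[A] H := fun j => { of j with commutes' := hcomm j }
  let c : Cocone (diagram A k) :=
    { pt := CommRingCat.of k
      ι := { app := fun j => CommRingCat.ofHom j.pt.toRingHom
             naturality := fun i j f => CommRingCat.hom_ext (RingHom.ext fun x =>
               DFunLike.congr_fun f.2 x) } }
  let π₀ : H →+* k := (colimit.desc (diagram A k) c).hom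
  have hπ : ∀ j x, π₀ (of j x) = j.pt x := fun j x =>
    ConcreteCategory.congr_hom (colimit.ι_desc c j) x
  let π : H →ₐ[A] k := { π₀ with commutes' := fun a =>
    (congrArg π₀ (hcomm j₀ a).symm).trans ((hπ _ _).trans (j₀.pt.commutes a)) }
  have hrep : ∀ x : H, ∃ (j : PtLI A k) (y : j.ring), φ j y = x := fun x =>
    Concrete.colimit_exists_rep (diagram A k) x
  have hzero : ∀ (j : PtLI A k) (y : j.ring), φ j y = 0 → ∃ (l : PtLI A k) (f : j ⟶ l),
      f.1 y = 0 := by
    intro j y hy
    have h0 : colimit.ι (diagram A k) j y = colimit.ι (diagram A k) j (0 : j.ring) :=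
      hy.trans (map_zero (of j)).symm
    obtain ⟨l, f, g, hfg⟩ := Concrete.colimit_exists_of_rep_eq.{u} (diagram A k) y 0 h0
    exact ⟨l, f, (show f.1 y = g.1 0 from hfg).trans (map_zero _)⟩
  have hex : ∀ (S : Type u) [CommRing S] [Algebra A S] [Algebra.IsLocalIso A S] (σ : S →ₐ[A] k),
      ∃ ψ : S →ₐ[A] H, π.comp ψ = σ := fun S _ _ _ σ => by
    obtain ⟨j, e, he⟩ := exists_equiv S σ
    refine ⟨(φ j).comp e.symm.toAlgHom, AlgHom.ext fun s => ?_⟩
    show π₀ (of j (e.symm s)) = σ s
    rw [hπ, he]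
    exact congrArg σ (e.apply_symm_apply s)
  have hjac : RingHom.ker π ≤ Ideal.jacobson ⊥ := fun x hx => by
    rw [Ideal.mem_jacobson_bot]
    intro y
    obtain ⟨j, z, hz⟩ := hrep (x * y + 1)
    have hu : IsUnit (j.pt z) := by
      rw [← hπ, show of j z = x * y + 1 from hz, map_add, map_mul,
        show π₀ x = 0 from hx, zero_mul, zero_add, map_one]
      exact isUnit_one
    let T := Localization.Away z
    have : Algebra.IsLocalIso j.ring T := isLocalIso_of_away z
    have : Algebra.IsLocalIso A T := Algebra.IsLocalIso.trans A j.ring T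
    let σT : T →ₐ[A] k := IsLocalization.Away.liftAlgHom z (f := j.pt) hu
    obtain ⟨l, e, hl⟩ := exists_equiv T σT
    let f : j ⟶ l := ⟨e.symm.toAlgHom.comp (IsScalarTower.toAlgHom A j.ring T), AlgHom.ext fun a => by
      show l.pt (e.symm (algebraMap j.ring T a)) = j.pt a
      rw [hl]
      show σT (e (e.symm (algebraMap j.ring T a))) = j.pt a
      rw [e.apply_symm_apply]
      exact IsLocalization.Away.lift_eq z hu a⟩
    rw [← hz]
    show IsUnit (of j z)
    rw [← hof f z]
    exact (((IsLocalization.Away.algebraMap_isUnit (S := T) z).map e.symm.toAlgHom).map (of l))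
  refine ⟨H, inferInstance, inferInstance, π, ⟨fun x => ?_, hex, hjac, ?_⟩⟩
  · obtain ⟨j, y, hy⟩ := hrep x
    exact ⟨j.ring, inferInstance, inferInstance, inferInstance, φ j, y, hy⟩
  · intro S _ _ _ ψ s hs
    obtain ⟨j, e, he⟩ := exists_equiv S (π.comp ψ)
    have hψ : (φ j).comp e.symm.toAlgHom = ψ := algHom_eq_of_sub_mem hjac fun a => by
      rw [RingHom.mem_ker, map_sub, sub_eq_zero]
      show π₀ (of j (e.symm a)) = π (ψ a)
      rw [hπ, he]
      exact congrArg (π.comp ψ) (e.apply_symm_apply a)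
    obtain ⟨l, f, hf⟩ := hzero j (e.symm s) ((DFunLike.congr_fun hψ s).trans hs)
    refine ⟨l.ring, inferInstance, inferInstance, inferInstance, f.1.comp e.symm.toAlgHom, φ l,
      AlgHom.ext fun a => ?_, hf⟩
    rw [← hψ]
    exact hof f (e.symm a)


end Construct

section Ind


open CategoryTheory Limits

variable {A : Type u} [CommRing A] {k : Type u} [CommRing k] [Algebra A k]
variable {H : Type u} [CommRing H] [Algebra A H] {π : H →ₐ[A] k}

theorem IsZarColim.isIndZariski (hH : IsZarColim π) : EtPBC.IsIndZariski A H := by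
  choose φ hφ using fun j : PtLI A k => hH.exists_map j.ring j.pt
  let D : PtLI A k ⥤ Under (CommRingCat.of A) :=
    { obj := fun j => Under.mk (CommRingCat.ofHom (algebraMap A j.ring))
      map := fun f => Under.homMk (CommRingCat.ofHom f.1.toRingHom)
        (CommRingCat.hom_ext (RingHom.ext fun a => f.1.commutes a)) }
  let c : Cocone D :=
    { pt := Under.mk (CommRingCat.ofHom (algebraMap A H))
      ι := { app := fun j => Under.homMk (CommRingCat.ofHom (φ j).toRingHom)
              (CommRingCat.hom_ext (RingHom.ext fun a => (φ j).commutes a))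
             naturality := fun i j f => by
              have h : (φ j).comp f.1 = φ i := hH.hom_ext (by
                rw [← AlgHom.comp_assoc, hφ, hφ, f.2])
              exact Under.UnderMorphism.ext (CommRingCat.hom_ext (RingHom.ext fun x =>
                DFunLike.congr_fun h x)) } }
  have hfac : ∀ (S : Type u) [CommRing S] [Algebra A S] [Algebra.IsLocalIso A S] (ψ : S →ₐ[A] H),
      ∃ (j : PtLI A k) (e : j.ring ≃ₐ[A] S), φ j = ψ.comp e.toAlgHom := fun S _ _ _ ψ => by
    obtain ⟨j, e, he⟩ := PtLI.exists_equiv S (π.comp ψ)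
    exact ⟨j, e, hH.hom_ext (by rw [hφ, he, AlgHom.comp_assoc])⟩
  have hdesc : ∀ s : Cocone D, ∃ g : c.pt ⟶ s.pt, ∀ j, c.ι.app j ≫ g = s.ι.app j := by
    intro s
    let : Algebra A s.pt.right := s.pt.hom.hom.toAlgebra
    let leg : ∀ j : PtLI A k, j.ring →ₐ[A] s.pt.right := fun j =>
      { (s.ι.app j).right.hom with
        commutes' := fun a => ConcreteCategory.congr_hom (Under.w (s.ι.app j)) a }
    have hnat : ∀ {i j : PtLI A k} (f : i ⟶ j), (leg j).comp f.1 = leg i := fun f =>
      AlgHom.ext fun x => ConcreteCategory.congr_hom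
        (congrArg CommaMorphism.right (s.w f)) x
    choose jS eS hjS using hfac
    obtain ⟨g, hg⟩ := hH.exists_desc (fun S _ _ _ ψ => (leg (jS S ψ)).comp (eS S ψ).symm.toAlgHom)
      (fun S _ _ _ ψS T _ _ _ ψT χ h => by
        let f : jS S ψS ⟶ jS T ψT :=
          ⟨(eS T ψT).symm.toAlgHom.comp (χ.comp (eS S ψS).toAlgHom), AlgHom.ext fun x => by
            rw [← hφ, ← hφ, hjS, hjS]
            simp only [AlgHom.comp_apply, AlgEquiv.coe_toAlgHom, AlgEquiv.apply_symm_apply]
            exact congrArg π (DFunLike.congr_fun h _)⟩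
        refine AlgHom.ext fun x => ?_
        have := DFunLike.congr_fun (hnat f) ((eS S ψS).symm x)
        simpa [f] using this)
    refine ⟨Under.homMk (CommRingCat.ofHom g.toRingHom)
      (CommRingCat.hom_ext (RingHom.ext fun a => g.commutes a)), fun j => ?_⟩
    refine Under.UnderMorphism.ext (CommRingCat.hom_ext (RingHom.ext fun x => ?_))
    show g (φ j x) = leg j x
    let f : j ⟶ jS j.ring (φ j) := ⟨(eS j.ring (φ j)).symm.toAlgHom, AlgHom.ext fun y => by
      rw [← hφ, hjS, ← hφ j]
      simp⟩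
    have h1 := DFunLike.congr_fun (hg j.ring (φ j)) x
    have h2 := DFunLike.congr_fun (hnat f) x
    exact h1.trans h2
  choose g hg using hdesc
  refine ⟨PtLI A k, inferInstance, PtLI.isFiltered, D, c,
    { desc := g, fac := hg, uniq := fun s m hm => ?_ }, fun j => ?_, ⟨Iso.refl _⟩⟩
  · refine Under.UnderMorphism.ext (CommRingCat.hom_ext (RingHom.ext fun (x : H) => ?_))
    obtain ⟨S, _, _, _, ψ, y, rfl⟩ := hH.exists_rep x
    obtain ⟨j, e, he⟩ := hfac S ψ
    have h1 := ConcreteCategory.congr_hom (congrArg CommaMorphism.right (hm j)) (e.symm y)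
    have h2 := ConcreteCategory.congr_hom (congrArg CommaMorphism.right (hg s j)) (e.symm y)
    have h3 : φ j (e.symm y) = ψ y := by rw [he]; simp
    rw [← h3]
    exact h1.trans h2.symm
  · exact (Algebra.algebra_ext _ _ fun _ => rfl : (algebraMap A j.ring).toAlgebra =
      (inferInstance : Algebra A j.ring)) ▸ j.li


end Ind

end Groth.Agent.H1CAlg.Zar
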