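import Groth.Agent.H1CAlg.ZarLocal

/-!
A criterion for an algebra to be ind-Zariski.
-/

namespace Groth.Agent.H1CAlg.Zar

universe u

/-- An algebra identifying local rings, every element of which comes from a local isomorphism, is
ind-Zariski. -/
theorem isIndZariski_of_identifiesLocalRings {A B : Type u} [CommRing A] [CommRing B] [Algebra A B]
    (h : EtPBC.IdentifiesLocalRings A B)
    (hgen : ∀ b : B, ∃ (E : Type u) (_ : CommRing E) (_ : Algebra A E) (_ : Algebra.IsLocalIso A E)
      (φ : E →ₐ[A] B) (e : E), φ e = b) : EtPBC.IsIndZariski A B := by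
  obtain ⟨H, _, _, π, hH⟩ := exists_isZarColim (A := A) (k := B)
  have hidH := identifiesLocalRings_of_isIndZariski hH.isIndZariski
  have hsurj : Function.Surjective π := fun b => by
    obtain ⟨E, _, _, _, φ, e, rfl⟩ := hgen b
    obtain ⟨ψ, hψ⟩ := hH.exists_map E φ
    exact ⟨ψ e, DFunLike.congr_fun hψ e⟩
  have hinj : Function.Injective π := by
    refine (injective_iff_map_eq_zero π).2 fun z hz => ?_
    let I : Ideal H := (Ideal.span {z}).annihilator
    by_contra hne
    have hI : I ≠ ⊤ := fun hI => hne (by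
      have h1 : (1 : H) ∈ I := hI ▸ Submodule.mem_top
      simpa [I, Submodule.mem_annihilator_span_singleton] using h1)
    obtain ⟨n, hn, hle⟩ := Ideal.exists_le_maximal I hI
    haveI := hn.isPrime
    have hkn : RingHom.ker π ≤ n := hH.jac.trans (sInf_le ⟨bot_le, hn⟩)
    haveI : (n.map π.toRingHom).IsPrime := Ideal.map_isPrime_of_surjective hsurj hkn
    let Q : PrimeSpectrum B := ⟨n.map π.toRingHom, inferInstance⟩
    have hcm : ∀ x, π x ∈ Q.asIdeal → x ∈ n := fun x hx => by
      have := (Ideal.comap_map_of_surjective π.toRingHom hsurj n).le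
        (show x ∈ (n.map π.toRingHom).comap π.toRingHom from hx)
      exact (sup_le le_rfl hkn) this
    obtain ⟨w, hw⟩ := (hidH ⟨n, hn.isPrime⟩).2 (algebraMap H _ z)
    obtain ⟨a, ⟨s, hs⟩, rfl⟩ := IsLocalization.exists_mk'_eq (n.comap (algebraMap A H)).primeCompl w
    rw [Localization.localRingHom_mk', IsLocalization.mk'_eq_iff_eq_mul, ← map_mul] at hw
    obtain ⟨⟨t, ht⟩, hts⟩ := IsLocalization.exists_of_eq (M := n.primeCompl) hw
    have h0 : π t * algebraMap A B a = 0 := by
      have := congrArg π hts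
      rw [map_mul, map_mul, map_mul, π.commutes] at this
      rw [this, hz]
      ring
    have h1 : Localization.localRingHom (Q.asIdeal.comap (algebraMap A B)) Q.asIdeal
        (algebraMap A B) rfl (algebraMap A _ a) = 0 := by
      rw [Localization.localRingHom_to_map]
      exact (IsLocalization.map_eq_zero_iff Q.asIdeal.primeCompl _ _).2
        ⟨⟨π t, fun hmem => ht (hcm t hmem)⟩, h0⟩
    have h2 := (h Q).1 (h1.trans (map_zero _).symm)
    obtain ⟨⟨u, hu⟩, hua⟩ :=
      (IsLocalization.map_eq_zero_iff (Q.asIdeal.comap (algebraMap A B)).primeCompl _ a).1 h2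
    have hun : algebraMap A H u ∉ n := fun hmem => hu (by
      show algebraMap A B u ∈ Q.asIdeal
      rw [← π.commutes]
      exact Ideal.mem_map_of_mem π.toRingHom hmem)
    have hts' : algebraMap A H u * t * algebraMap A H s ∈ I := by
      rw [Submodule.mem_annihilator_span_singleton, smul_eq_mul]
      have h3 : algebraMap A H u * algebraMap A H a = 0 := by
        rw [← map_mul, show u * a = 0 from hua, map_zero]
      linear_combination t * h3 - algebraMap A H u * hts
    rcases hn.isPrime.mem_or_mem (hle hts') with h3 | h3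
    · exact (hn.isPrime.mem_or_mem h3).elim hun ht
    · exact hs h3
  obtain ⟨Jc, i₁, i₂, D, c, hc, hD, ⟨e⟩⟩ := hH.isIndZariski
  exact ⟨Jc, i₁, i₂, D, c, hc, hD, ⟨e ≪≫ (AlgEquiv.ofBijective π ⟨hinj, hsurj⟩).toUnder
    (R := CommRingCat.of A)⟩⟩

end Groth.Agent.H1CAlg.Zar
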