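import Groth.Agent.H1CAlg.ZarLocal

/-!
Localisations are ind-Zariski.
-/

namespace Groth.Agent.H1CAlg.Zar

universe u

theorem isIndZariski_of_isLocalization {A B : Type u} [CommRing A] [CommRing B] [Algebra A B]
    (S : Submonoid A) [IsLocalization S B] : EtPBC.IsIndZariski A B := by
  obtain ⟨H, _, _, π, hH⟩ := exists_isZarColim (A := A) (k := B)
  have hid := identifiesLocalRings_of_isIndZariski hH.isIndZariski
  have hu : ∀ s : S, IsUnit (algebraMap A H s) := fun s => hH.isUnit_of_isUnit (by
    rw [π.commutes]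
    exact IsLocalization.map_units B s)
  let σ : B →ₐ[A] H := IsLocalization.liftAlgHom (M := S) (f := Algebra.ofId A H) hu
  have hσ : π.comp σ = AlgHom.id A B :=
    IsLocalization.algHom_ext S (Subsingleton.elim _ _)
  have hinj : Function.Injective π := by
    refine (injective_iff_map_eq_zero π).2 fun z hz => ?_
    let I : Ideal H := (Ideal.span {z}).annihilator
    by_contra hne
    have hI : I ≠ ⊤ := fun hI => hne (by
      have h1 : (1 : H) ∈ I := hI ▸ Submodule.mem_top
      simpa [I, Submodule.mem_annihilator_span_singleton] using h1)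
    obtain ⟨n, hn, hle⟩ := Ideal.exists_le_maximal I hI
    haveI := hn.isPrime
    have hkn : RingHom.ker π ≤ n := hH.jac.trans (sInf_le ⟨bot_le, hn⟩)
    obtain ⟨w, hw⟩ := (hid ⟨n, hn.isPrime⟩).2 (algebraMap H _ z)
    obtain ⟨a, ⟨s, hs⟩, rfl⟩ := IsLocalization.exists_mk'_eq (n.comap (algebraMap A H)).primeCompl w
    rw [Localization.localRingHom_mk', IsLocalization.mk'_eq_iff_eq_mul, ← map_mul] at hw
    obtain ⟨⟨t, ht⟩, hts⟩ := IsLocalization.exists_of_eq (M := n.primeCompl) hw
    -- the numerator dies in `B`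
    have h0 : π t * algebraMap A B a = 0 := by
      have := congrArg π hts
      rw [map_mul, map_mul, map_mul, π.commutes] at this
      rw [this, hz]
      ring
    obtain ⟨c, ⟨r, hr⟩, hc⟩ := IsLocalization.exists_mk'_eq S (π t)
    rw [← hc, ← IsLocalization.mk'_one (M := S) B a, ← IsLocalization.mk'_mul,
      IsLocalization.mk'_eq_zero_iff] at h0
    obtain ⟨⟨r', hr'⟩, hr0⟩ := h0
    have hπt : algebraMap A H (r' * c) ∉ n := by
      intro hmem
      rw [map_mul] at hmem
      refine ht ((hn.isPrime.mem_or_mem hmem).elim (fun h => absurd (Ideal.eq_top_of_isUnit_mem _ h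
        (hu ⟨r', hr'⟩)) hn.ne_top) fun h => ?_)
      have h1 : algebraMap A H r * t - algebraMap A H c ∈ n := hkn (by
        rw [RingHom.mem_ker, map_sub, map_mul, π.commutes, π.commutes, ← hc,
          IsLocalization.mk'_spec'_mk, sub_self])
      have h2 : algebraMap A H r * t ∈ n := by simpa using n.add_mem h1 h
      exact (hn.isPrime.mem_or_mem h2).resolve_left fun h3 =>
        hn.ne_top (Ideal.eq_top_of_isUnit_mem _ h3 (hu ⟨r, hr⟩))
    have hta : algebraMap A H (r' * c) * algebraMap A H a = 0 := by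
      rw [← map_mul, show r' * c * a = r' * (c * a) by ring, hr0, map_zero]
    have hts' : algebraMap A H (r' * c) * t * algebraMap A H s ∈ I := by
      rw [Submodule.mem_annihilator_span_singleton, smul_eq_mul]
      linear_combination t * hta - algebraMap A H (r' * c) * hts
    rcases hn.isPrime.mem_or_mem (hle hts') with h | h
    · exact (hn.isPrime.mem_or_mem h).elim hπt ht
    · exact hs h
  obtain ⟨Jc, i₁, i₂, D, c, hc, hD, ⟨e⟩⟩ := hH.isIndZariski
  exact ⟨Jc, i₁, i₂, D, c, hc, hD, ⟨e ≪≫ (AlgEquiv.ofBijective π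
    ⟨hinj, fun b => ⟨σ b, DFunLike.congr_fun hσ b⟩⟩).toUnder (R := CommRingCat.of A)⟩⟩

end Groth.Agent.H1CAlg.Zar
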